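import Groth.Agent.H13.ReducedTensor
import Mathlib.RingTheory.Unramified.Field
import Mathlib.FieldTheory.Perfect

/-!
# Separable algebraic extensions are geometrically reduced; descent from a perfect field (helper13)
-/

set_option autoImplicit false
universe u v w

open TensorProduct

namespace Groth.Agent.H13

/-- A finite separable field extension is geometrically reduced. -/
theorem isGeometricallyReduced_of_finite_of_isSeparable (K : Type u) (F : Type v) [Field K]
    [Field F] [Algebra K F] [FiniteDimensional K F] [Algebra.IsSeparable K F] :
    Algebra.IsGeometricallyReduced K F := by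
  rw [Algebra.isGeometricallyReduced_field_iff]
  haveI : Algebra.FormallyUnramified K F := Algebra.FormallyUnramified.of_isSeparable K F
  haveI : Algebra.FormallyUnramified (AlgebraicClosure K) (AlgebraicClosure K ⊗[K] F) :=
    inferInstance
  haveI : Algebra.EssFiniteType (AlgebraicClosure K) (AlgebraicClosure K ⊗[K] F) :=
    inferInstance
  exact Algebra.FormallyUnramified.isReduced_of_field (AlgebraicClosure K)
    (AlgebraicClosure K ⊗[K] F)

/-- A separable algebraic field extension is geometrically reduced. -/
theorem isGeometricallyReduced_of_isSeparable (K : Type u) (L : Type v) [Field K]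
    [Field L] [Algebra K L] [Algebra.IsSeparable K L] :
    Algebra.IsGeometricallyReduced K L := by
  apply Algebra.IsGeometricallyReduced.of_forall_fg
  intro B hB
  obtain ⟨S, hS⟩ := hB
  let F : IntermediateField K L := IntermediateField.adjoin K (S : Set L)
  haveI : FiniteDimensional K F :=
    IntermediateField.finiteDimensional_adjoin fun x _ => (Algebra.IsSeparable.isIntegral K x)
  haveI : Algebra.IsSeparable K F := inferInstance
  haveI := isGeometricallyReduced_of_finite_of_isSeparable K F
  have hle : B ≤ F.toSubalgebra := by
    rw [← hS]
    exact IntermediateField.algebra_adjoin_le_adjoin K _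
  let ι : B →ₐ[K] F := Subalgebra.inclusion hle
  exact Algebra.IsGeometricallyReduced.of_injective ι (Subalgebra.inclusion_injective hle)

/-- Algebraic extensions of a perfect field are geometrically reduced. -/
theorem isGeometricallyReduced_of_perfectField (K : Type u) (L : Type v) [Field K] [PerfectField K]
    [Field L] [Algebra K L] [Algebra.IsAlgebraic K L] :
    Algebra.IsGeometricallyReduced K L := by
  haveI : Algebra.IsSeparable K L := Algebra.IsAlgebraic.isSeparable_of_perfectField
  exact isGeometricallyReduced_of_isSeparable K L

/-- **Descent of geometric reducedness from a perfect extension field**: if `Ω/k` is a perfect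
extension field and `Ω ⊗[k] A` is reduced, then `A` is geometrically reduced over `k`. -/
theorem isGeometricallyReduced_of_isReduced_tensorProduct_perfectField (k : Type u) [Field k]
    (Ω : Type v) [Field Ω] [PerfectField Ω] [Algebra k Ω] (A : Type w) [CommRing A] [Algebra k A]
    [IsReduced (Ω ⊗[k] A)] : Algebra.IsGeometricallyReduced k A := by
  rw [Algebra.isGeometricallyReduced_field_iff]
  -- `Ω̄ ⊗[Ω] (Ω ⊗[k] A)` is reduced
  haveI := isGeometricallyReduced_of_perfectField Ω (AlgebraicClosure Ω)
  haveI : IsReduced (AlgebraicClosure Ω ⊗[Ω] (Ω ⊗[k] A)) :=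
    isReduced_tensorProduct_of_isReduced_of_isGeometricallyReduced Ω (AlgebraicClosure Ω) _
  -- hence `Ω̄ ⊗[k] A` is reduced
  haveI : IsReduced (AlgebraicClosure Ω ⊗[k] A) :=
    isReduced_of_injective
      (Algebra.TensorProduct.cancelBaseChange k Ω (AlgebraicClosure Ω) (AlgebraicClosure Ω) A).symm
      (Algebra.TensorProduct.cancelBaseChange k Ω (AlgebraicClosure Ω)
        (AlgebraicClosure Ω) A).symm.injective
  -- `k̄` embeds in `Ω̄` over `k`
  let ψ : AlgebraicClosure k →ₐ[k] AlgebraicClosure Ω := IsAlgClosed.lift
  exact isReduced_tensorProduct_of_injective k A (AlgebraicClosure k) (AlgebraicClosure Ω) ψ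

end Groth.Agent.H13
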