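import Mathlib.RingTheory.Jacobson.Ring
import Mathlib.RingTheory.TensorProduct.Free
import Mathlib.RingTheory.Adjoin.FGBaseChange
import Mathlib.RingTheory.Flat.Basic
import Mathlib.FieldTheory.IsAlgClosed.AlgebraicClosure
import Mathlib.RingTheory.Nilpotent.GeometricallyReduced
import Mathlib.LinearAlgebra.Basis.VectorSpace

/-!
# Tensor products over an algebraically closed field

* `isReduced_tensorProduct_of_isAlgClosed`: over an algebraically closed field, the tensor product
  of two reduced algebras is reduced.
* `isDomain_tensorProduct_of_isAlgClosed`: over an algebraically closed field, the tensor product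
  of two domains is a domain.
* `isReduced_tensorProduct_of_isGeometricallyReduced`: if `A` is a geometrically reduced `k`-algebra
  then `K ⊗[k] A` is reduced for every field extension `K` of `k`.
-/

set_option autoImplicit false
set_option linter.style.haveILetI false
set_option linter.unusedSectionVars false
universe u v w

namespace Groth.Agent.H13

open TensorProduct

section Core

variable (k : Type u) [Field k] [IsAlgClosed k]
variable (D : Type v) [CommRing D] [Algebra k D] [Algebra.FiniteType k D]
variable (A : Type w) [CommRing A] [Algebra k A]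

/-- Residue fields of a finite type algebra over an algebraically closed field are trivial. -/
theorem algebraMap_quotient_bijective_of_isMaximal (m : Ideal D) [m.IsMaximal] :
    Function.Bijective (algebraMap k (D ⧸ m)) := by
  letI := Ideal.Quotient.field m
  haveI : Algebra.FiniteType k (D ⧸ m) :=
    Algebra.FiniteType.of_surjective (Ideal.Quotient.mkₐ k m) (Ideal.Quotient.mkₐ_surjective k m)
  haveI : Module.Finite k (D ⧸ m) := finite_of_finite_type_of_isJacobsonRing k (D ⧸ m)
  exact IsAlgClosed.algebraMap_bijective_of_isIntegral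

/-- The reduction map `D ⊗ A → (D/m) ⊗ A`. -/
noncomputable def redMap (m : Ideal D) : D ⊗[k] A →ₐ[k] (D ⧸ m) ⊗[k] A :=
  Algebra.TensorProduct.map (Ideal.Quotient.mkₐ k m) (AlgHom.id k A)

/-- `(D/m) ⊗ A ≃ A` for `m` maximal. -/
noncomputable def redEquiv (m : Ideal D) [m.IsMaximal] : (D ⧸ m) ⊗[k] A ≃ₐ[k] A :=
  (Algebra.TensorProduct.congr
    (AlgEquiv.ofBijective (Algebra.ofId k (D ⧸ m))
      (algebraMap_quotient_bijective_of_isMaximal k D m)).symm AlgEquiv.refl).trans
    (Algebra.TensorProduct.lid k A)

variable {k D A} in
theorem repr_redMap {J : Type*} (b : Module.Basis J k A) (m : Ideal D) (x : D ⊗[k] A) (j : J) :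
    (Algebra.TensorProduct.basis (D ⧸ m) b).repr (redMap k D A m x) j =
      Ideal.Quotient.mk m ((Algebra.TensorProduct.basis D b).repr x j) := by
  induction x using TensorProduct.induction_on with
  | zero => simp
  | tmul d a =>
    simp only [redMap, Algebra.TensorProduct.map_tmul, Algebra.TensorProduct.basis_repr_tmul,
      AlgHom.coe_id, id_eq, Finsupp.smul_apply, Finsupp.mapRange_apply, smul_eq_mul, map_mul,
      Ideal.Quotient.mkₐ_eq_mk]
    congr 1
  | add x y hx hy => simp only [map_add, Finsupp.add_apply, hx, hy]

variable {k D A} in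
theorem repr_mem_of_redMap_eq_zero {J : Type*} (b : Module.Basis J k A) (m : Ideal D)
    (x : D ⊗[k] A) (hx : redMap k D A m x = 0) (j : J) :
    (Algebra.TensorProduct.basis D b).repr x j ∈ m := by
  rw [← Ideal.Quotient.eq_zero_iff_mem, ← repr_redMap, hx]
  simp

/-- In a reduced Jacobson ring, a nonzero element avoids some maximal ideal. -/
theorem exists_isMaximal_notMem {R : Type*} [CommRing R] [IsJacobsonRing R] [IsReduced R]
    {d : R} (hd : d ≠ 0) : ∃ m : Ideal R, m.IsMaximal ∧ d ∉ m := by
  by_contra! h
  apply hd
  have h1 : d ∈ (⊥ : Ideal R).jacobson := by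
    rw [Ideal.jacobson, Ideal.mem_sInf]
    rintro m ⟨-, hm⟩
    exact h m hm
  rw [← Ideal.radical_eq_jacobson] at h1
  have h2 : IsNilpotent d := by
    obtain ⟨n, hn⟩ := h1
    exact ⟨n, by simpa using hn⟩
  exact h2.eq_zero

theorem isReduced_tensorProduct_of_finiteType [IsReduced D] [IsReduced A] :
    IsReduced (D ⊗[k] A) := by
  haveI : IsJacobsonRing D := isJacobsonRing_of_finiteType (A := k)
  let b := Module.Basis.ofVectorSpace k A
  refine ⟨fun x hx => ?_⟩
  by_contra hne
  have : (Algebra.TensorProduct.basis D b).repr x ≠ 0 := by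
    simpa using hne
  obtain ⟨j, hj⟩ : ∃ j, (Algebra.TensorProduct.basis D b).repr x j ≠ 0 := by
    by_contra! h
    exact this (Finsupp.ext h)
  obtain ⟨m, hm, hdm⟩ := exists_isMaximal_notMem hj
  apply hdm
  apply repr_mem_of_redMap_eq_zero b m x
  have h1 : IsNilpotent (redEquiv k D A m (redMap k D A m x)) := (hx.map _).map _
  have h2 := h1.eq_zero
  simpa using h2

theorem noZeroDivisors_tensorProduct_of_finiteType [IsDomain D] [IsDomain A] :
    NoZeroDivisors (D ⊗[k] A) := by
  haveI : IsJacobsonRing D := isJacobsonRing_of_finiteType (A := k)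
  let b := Module.Basis.ofVectorSpace k A
  refine ⟨fun {x y} hxy => ?_⟩
  by_contra! hne
  obtain ⟨hx, hy⟩ := hne
  have hx' : (Algebra.TensorProduct.basis D b).repr x ≠ 0 := by simpa using hx
  have hy' : (Algebra.TensorProduct.basis D b).repr y ≠ 0 := by simpa using hy
  obtain ⟨i, hi⟩ : ∃ j, (Algebra.TensorProduct.basis D b).repr x j ≠ 0 := by
    by_contra! h
    exact hx' (Finsupp.ext h)
  obtain ⟨j, hj⟩ : ∃ j, (Algebra.TensorProduct.basis D b).repr y j ≠ 0 := by
    by_contra! h
    exact hy' (Finsupp.ext h)
  obtain ⟨m, hm, hdm⟩ := exists_isMaximal_notMem (mul_ne_zero hi hj)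
  apply hdm
  have h1 : redEquiv k D A m (redMap k D A m x) * redEquiv k D A m (redMap k D A m y) = 0 := by
    rw [← map_mul, ← map_mul, hxy, map_zero, map_zero]
  rcases mul_eq_zero.mp h1 with h | h
  · apply Ideal.mul_mem_right
    apply repr_mem_of_redMap_eq_zero b m x
    simpa using h
  · apply Ideal.mul_mem_left
    apply repr_mem_of_redMap_eq_zero b m y
    simpa using h

end Core

section Main

theorem baseChange_mono {R A B : Type*} [CommSemiring R] [Semiring A] [CommSemiring B]
    [Algebra R A] [Algebra R B] {C₁ C₂ : Subalgebra R A} (h : C₁ ≤ C₂) :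
    C₁.baseChange B ≤ C₂.baseChange B := by
  rintro x ⟨z, rfl⟩
  refine ⟨Algebra.TensorProduct.map (AlgHom.id B B) (Subalgebra.inclusion h) z, ?_⟩
  induction z using TensorProduct.induction_on with
  | zero => simp
  | tmul b c => simp
  | add x y hx hy =>
    simp only [map_add] at hx hy ⊢
    rw [hx, hy]

variable (k : Type u) [Field k] [IsAlgClosed k]

/-- Over an algebraically closed field, the tensor product of reduced algebras is reduced. -/
theorem isReduced_tensorProduct_of_isAlgClosed (A : Type v) (B : Type w) [CommRing A] [CommRing B]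
    [Algebra k A] [Algebra k B] [IsReduced A] [IsReduced B] : IsReduced (A ⊗[k] B) := by
  apply IsReduced.tensorProduct_of_flat_of_forall_fg
  intro D hD
  haveI : Algebra.FiniteType k D := (Subalgebra.fg_iff_finiteType D).mp hD
  haveI : IsReduced D := isReduced_of_injective D.val Subtype.val_injective
  haveI := isReduced_tensorProduct_of_finiteType k D A
  exact isReduced_of_injective (Algebra.TensorProduct.comm k A D)
    (Algebra.TensorProduct.comm k A D).injective

/-- Over an algebraically closed field, the tensor product of domains is a domain. -/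
theorem isDomain_tensorProduct_of_isAlgClosed (A : Type v) (B : Type w) [CommRing A] [CommRing B]
    [Algebra k A] [Algebra k B] [IsDomain A] [IsDomain B] : IsDomain (A ⊗[k] B) := by
  haveI : Nontrivial (A ⊗[k] B) :=
    (Algebra.TensorProduct.includeLeft_injective (S := k)
      (FaithfulSMul.algebraMap_injective k B)).nontrivial
  haveI : NoZeroDivisors (A ⊗[k] B) := by
    refine ⟨fun {x y} hxy => ?_⟩
    obtain ⟨D₁, hD₁, hx⟩ := exists_fg_and_mem_baseChange x
    obtain ⟨D₂, hD₂, hy⟩ := exists_fg_and_mem_baseChange y
    let D := D₁ ⊔ D₂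
    have hD : D.FG := hD₁.sup hD₂
    haveI : Algebra.FiniteType k D := (Subalgebra.fg_iff_finiteType D).mp hD
    have h_inj : Function.Injective (Algebra.TensorProduct.map (AlgHom.id A A) D.val) :=
      Module.Flat.lTensor_preserves_injective_linearMap _ Subtype.val_injective
    have hx' : x ∈ D.baseChange A := baseChange_mono le_sup_left hx
    have hy' : y ∈ D.baseChange A := baseChange_mono le_sup_right hy
    obtain ⟨x', rfl⟩ := hx'
    obtain ⟨y', rfl⟩ := hy'
    haveI := noZeroDivisors_tensorProduct_of_finiteType k D A
    haveI : NoZeroDivisors (A ⊗[k] D) :=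
      (Algebra.TensorProduct.comm k A D).toMulEquiv.noZeroDivisors
    have h0 : x' * y' = 0 := by
      apply h_inj
      rw [map_mul, map_zero]
      exact hxy
    rcases mul_eq_zero.mp h0 with h | h
    · left; rw [h]; exact map_zero _
    · right; rw [h]; exact map_zero _
  exact NoZeroDivisors.to_isDomain _

end Main

section GeomReduced

theorem isReduced_tensorProduct_of_tower (k : Type u) (k' : Type v) (K' : Type w) (A : Type*)
    [Field k] [Field k'] [Field K'] [IsAlgClosed k'] [Algebra k k'] [Algebra k K'] [Algebra k' K']
    [IsScalarTower k k' K'] [CommRing A] [Algebra k A] [IsReduced (k' ⊗[k] A)] :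
    IsReduced (K' ⊗[k] A) := by
  haveI : IsReduced (K' ⊗[k'] (k' ⊗[k] A)) := isReduced_tensorProduct_of_isAlgClosed k' _ _
  exact isReduced_of_injective (Algebra.TensorProduct.cancelBaseChange k k' K' K' A).symm
    (Algebra.TensorProduct.cancelBaseChange k k' K' K' A).symm.injective

theorem isReduced_tensorProduct_of_isGeometricallyReduced_aux (k : Type u) [Field k]
    (A : Type v) [CommRing A] [Algebra k A] [Algebra.IsGeometricallyReduced k A]
    (L : Type w) [Field L] [IsAlgClosed L] [Algebra k L] : IsReduced (L ⊗[k] A) := by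
  let φ : AlgebraicClosure k →ₐ[k] L := IsAlgClosed.lift
  letI : Algebra (AlgebraicClosure k) L := φ.toRingHom.toAlgebra
  haveI : IsScalarTower k (AlgebraicClosure k) L :=
    IsScalarTower.of_algebraMap_eq fun x => (φ.commutes x).symm
  haveI : IsReduced (AlgebraicClosure k ⊗[k] A) :=
    (Algebra.isGeometricallyReduced_field_iff k A).mp inferInstance
  exact isReduced_tensorProduct_of_tower k (AlgebraicClosure k) L A

theorem isReduced_tensorProduct_of_injective (k : Type u) [Field k]
    (A : Type v) [CommRing A] [Algebra k A]
    (K : Type w) [Field K] [Algebra k K] (L : Type*) [Field L] [Algebra k L] (ψ : K →ₐ[k] L)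
    [IsReduced (L ⊗[k] A)] : IsReduced (K ⊗[k] A) :=
  isReduced_of_injective
    (Algebra.TensorProduct.map ψ (AlgHom.id k A))
    (Module.Flat.rTensor_preserves_injective_linearMap _ ψ.toRingHom.injective)

/-- If `A` is a geometrically reduced algebra over a field `k`, then `K ⊗[k] A` is reduced for
every field extension `K` of `k` (not only the algebraic ones). -/
theorem isReduced_tensorProduct_of_isGeometricallyReduced (k : Type u) [Field k]
    (A : Type v) [CommRing A] [Algebra k A] [Algebra.IsGeometricallyReduced k A]
    (K : Type w) [Field K] [Algebra k K] : IsReduced (K ⊗[k] A) := by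
  haveI := isReduced_tensorProduct_of_isGeometricallyReduced_aux k A (AlgebraicClosure K)
  exact isReduced_tensorProduct_of_injective k A K (AlgebraicClosure K)
    (IsScalarTower.toAlgHom k K (AlgebraicClosure K))

end GeomReduced

end Groth.Agent.H13
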