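import Groth.Agent.H13.AssPush
import Mathlib.Algebra.Category.ModuleCat.Sheaf.Limits
import Mathlib.Algebra.Homology.ShortComplex.ModuleCat

/-!
# Associated points and short exact sequences (helper13)
-/

set_option autoImplicit false
universe u
open CategoryTheory CategoryTheory.Limits AlgebraicGeometry TopologicalSpace Opposite

namespace Groth.Agent.H13

open Groth.Agent.H8 Curv2

/-- Over a Noetherian ring, weakly associated primes are the associated primes. -/
theorem weakAss_eq_associatedPrimes (R : Type u) [CommRing R] [IsNoetherianRing R] (M : Type u)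
    [AddCommGroup M] [Module R M] : FlatCA.weakAss R M = associatedPrimes R M := by
  ext p
  constructor
  · rintro ⟨m, hm⟩
    have h1 : p ∈ associatedPrimes R (Submodule.span R {m}) :=
      Module.associatedPrimes.minimalPrimes_annihilator_subset_associatedPrimes R
        (Submodule.span R {m}) hm
    exact associatedPrimes.subset_of_injective (f := Submodule.subtype _) Subtype.val_injective h1
  · rintro ⟨hp, x, hx⟩
    refine ⟨x, ?_⟩
    have h2 : (Submodule.span R {x}).annihilator = Submodule.colon ⊥ {x} := by
      ext a
      rw [Submodule.mem_annihilator_span_singleton, Submodule.mem_colon_singleton,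
        Submodule.mem_bot]
    rw [h2, ← Ideal.radical_minimalPrimes, ← hx, Ideal.minimalPrimes_eq_subsingleton_self]
    rfl

/-- Left exactness of sections of `𝒪_X`-modules over an open. -/
theorem sections_injective_and_exact {X : Scheme.{u}} (S : ShortComplex X.Modules)
    (hS : S.ShortExact) (V : X.Opens) :
    Function.Injective (S.f.val.app (op V)).hom ∧
      Function.Exact (S.f.val.app (op V)).hom (S.g.val.app (op V)).hom := by
  let F : X.Modules ⥤ ModuleCat.{u} (X.ringCatSheaf.obj.obj (op V)) :=
    SheafOfModules.evaluation.{u} X.ringCatSheaf (op V)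
  have h1 : F.Additive := by
    change (SheafOfModules.forget _ ⋙ PresheafOfModules.evaluation _ (op V)).Additive
    infer_instance
  have h3 : PreservesFiniteLimits F :=
    inferInstanceAs (PreservesFiniteLimits (SheafOfModules.evaluation.{u} X.ringCatSheaf (op V)))
  have hmono : Mono S.f := hS.mono_f
  have h5 : F.PreservesMonomorphisms := preservesMonomorphisms_of_preservesLimitsOfShape _
  have h4 : Mono (F.map S.f) := inferInstance
  have hex : (S.map F).Exact := hS.exact.map_of_mono_of_preservesKernel _ hmono inferInstance
  constructor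
  · exact (ModuleCat.mono_iff_injective _).mp h4
  · exact (ShortComplex.ShortExact.moduleCat_exact_iff_function_exact _).mp hex

set_option backward.isDefEq.respectTransparency false in
/-- On a locally Noetherian scheme, weakly associated points of a quasi-coherent module in an
affine open are given by the associated primes of the module of sections. -/
theorem isWeakAssPoint_iff_mem_associatedPrimes {X : Scheme.{u}} [IsLocallyNoetherian X]
    (F : X.Modules) [F.IsQuasicoherent] {V : X.Opens} (hV : IsAffineOpen V) {x : X}
    (hxV : x ∈ V) :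
    IsWeakAssPoint F x ↔ (hV.primeIdealOf ⟨x, hxV⟩).asIdeal ∈ associatedPrimes Γ(X, V) Γ(F, V) := by
  have : IsNoetherianRing Γ(X, V) := IsLocallyNoetherian.component_noetherian ⟨V, hV⟩
  rw [isWeakAssPoint_iff_mem_weakAss F hV hxV, weakAss_eq_associatedPrimes]

set_option backward.isDefEq.respectTransparency false in
/-- Associated points in a short exact sequence of quasi-coherent modules on a locally Noetherian
scheme. -/
theorem isWeakAssPoint_of_shortExact {X : Scheme.{u}} [IsLocallyNoetherian X]
    (S : ShortComplex X.Modules) (hS : S.ShortExact) [S.X₁.IsQuasicoherent]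
    [S.X₂.IsQuasicoherent] [S.X₃.IsQuasicoherent] (x : X) :
    (IsWeakAssPoint S.X₁ x → IsWeakAssPoint S.X₂ x) ∧
      (IsWeakAssPoint S.X₂ x → IsWeakAssPoint S.X₁ x ∨ IsWeakAssPoint S.X₃ x) := by
  obtain ⟨_, ⟨V, hV, rfl⟩, hxV, -⟩ :=
    X.isBasis_affineOpens.exists_subset_of_mem_open (Set.mem_univ x) isOpen_univ
  have hV : IsAffineOpen V := hV
  have hxV : x ∈ V := hxV
  obtain ⟨hinj, hex⟩ := sections_injective_and_exact S hS V
  rw [isWeakAssPoint_iff_mem_associatedPrimes S.X₁ hV hxV,
    isWeakAssPoint_iff_mem_associatedPrimes S.X₂ hV hxV,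
    isWeakAssPoint_iff_mem_associatedPrimes S.X₃ hV hxV]
  constructor
  · intro h1
    exact associatedPrimes.subset_of_injective (R := Γ(X, V)) (M := Γ(S.X₁, V)) (M' := Γ(S.X₂, V))
      (f := (S.f.val.app (op V)).hom) hinj h1
  · intro h2
    exact associatedPrimes.subset_union_of_exact (R := Γ(X, V)) (M := Γ(S.X₁, V))
      (M' := Γ(S.X₂, V)) (M'' := Γ(S.X₃, V))
      (f := (S.f.val.app (op V)).hom) (g := (S.g.val.app (op V)).hom) hinj hex h2

end Groth.Agent.H13
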