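import Mathlib
import Groth.Prelude.Def_CAlgX
import Groth.Agent.H57.ComplLocMap

/-!
# Adic formal smoothness passes to completions (EGA 0_IV 19.3.6)

If `A → B` maps `I` into `K` and `B` is formally smooth over `A` for the `K`-adic topology, then
`B̂` is formally smooth over `Â` for the `K B̂`-adic topology.
-/

set_option autoImplicit false
set_option linter.style.haveILetI false
universe u

namespace Groth.Agent.H13.AdicFSCompl

open Groth.Agent.H57.CL

variable {A B : Type u} [CommRing A] [CommRing B] [Algebra A B] (I : Ideal A) (K : Ideal B)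
  [Algebra (AdicCompletion I A) (AdicCompletion K B)]

theorem isAdicFormallySmooth_compl (hI : I.FG) (hK : K.FG) (hIK : I.map (algebraMap A B) ≤ K)
    (hcompat : ∀ a : A, algebraMap (AdicCompletion I A) (AdicCompletion K B)
      (algebraMap A (AdicCompletion I A) a) =
      algebraMap B (AdicCompletion K B) (algebraMap A B a))
    (hfs : CAlgX.IsAdicFormallySmooth A B K) :
    CAlgX.IsAdicFormallySmooth (AdicCompletion I A) (AdicCompletion K B)
      (K.map (algebraMap B (AdicCompletion K B))) := by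
  intro C _ _ J hJ ψ ⟨k, hk⟩
  -- `C` as an `A`-algebra
  letI algAC : Algebra A C :=
    ((algebraMap (AdicCompletion I A) C).comp (algebraMap A (AdicCompletion I A))).toAlgebra
  haveI : IsScalarTower A (AdicCompletion I A) C := IsScalarTower.of_algebraMap_eq (fun _ => rfl)
  -- the restriction of `ψ` to `B`
  let ψ₀' : B →+* C ⧸ J := (ψ : AdicCompletion K B →+* C ⧸ J).comp
    (algebraMap B (AdicCompletion K B))
  let ψ₀ : B →ₐ[A] C ⧸ J :=
    { ψ₀' with
      commutes' := by
        intro a
        show ψ (algebraMap B (AdicCompletion K B) (algebraMap A B a)) = _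
        rw [← hcompat, AlgHom.commutes]
        rfl }
  have hψ₀ : ∀ b : B, ψ₀ b = ψ (algebraMap B (AdicCompletion K B) b) := fun _ => rfl
  have hk₀ : ∀ x ∈ K ^ k, ψ₀ x = 0 := by
    intro x hx
    rw [hψ₀]
    apply hk
    rw [← Ideal.map_pow]
    exact Ideal.mem_map_of_mem _ hx
  obtain ⟨χ₀, hχ₀⟩ := hfs C J hJ ψ₀ ⟨k, hk₀⟩
  have hχ₀' : ∀ b : B, Ideal.Quotient.mk J (χ₀ b) = ψ₀ b := fun b => by
    rw [← hχ₀]; rfl
  -- `χ₀` kills `K^(2k)`
  have hχJ : ∀ x ∈ K ^ k, χ₀ x ∈ J := by
    intro x hx
    rw [← Ideal.Quotient.eq_zero_iff_mem, hχ₀', hk₀ x hx]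
  have hχ0 : ∀ x ∈ K ^ (k + k), χ₀ x = 0 := by
    intro x hx
    rw [pow_add] at hx
    refine Submodule.mul_induction_on hx ?_ ?_
    · intro a ha b hb
      have : χ₀ a * χ₀ b ∈ J ^ 2 := by
        rw [pow_two]
        exact Ideal.mul_mem_mul (hχJ a ha) (hχJ b hb)
      rw [hJ] at this
      rw [map_mul]
      exact this
    · intro a b ha hb
      rw [map_add, ha, hb, add_zero]
  -- the extension to the completion
  let χ' : AdicCompletion K B →+* C :=
    (Ideal.Quotient.lift (K ^ (k + k)) (χ₀ : B →+* C) hχ0).comp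
      (AdicCompletion.evalₐ K (k + k) : AdicCompletion K B →+* B ⧸ K ^ (k + k))
  have hχ'of : ∀ b : B, χ' (algebraMap B (AdicCompletion K B) b) = χ₀ b := by
    intro b
    show Ideal.Quotient.lift (K ^ (k + k)) (χ₀ : B →+* C) hχ0
      (AdicCompletion.evalₐ K (k + k) (AdicCompletion.of K B b)) = _
    rw [AdicCompletion.evalₐ_of]
    rfl
  have hχ'ker : ∀ y ∈ (K ^ (k + k)).map (algebraMap B (AdicCompletion K B)), χ' y = 0 := by
    intro y hy
    rw [← Groth.Agent.H20.ker_evalₐ_eq_map K hK (k + k), RingHom.mem_ker] at hy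
    have hy' : AdicCompletion.evalₐ K (k + k) y = 0 := hy
    show Ideal.Quotient.lift (K ^ (k + k)) (χ₀ : B →+* C) hχ0
      (AdicCompletion.evalₐ K (k + k) y) = 0
    rw [hy', map_zero]
  -- `Â`-linearity
  have hlin : ∀ r : AdicCompletion I A,
      χ' (algebraMap (AdicCompletion I A) (AdicCompletion K B) r) =
        algebraMap (AdicCompletion I A) C r := by
    intro r
    obtain ⟨a, ha⟩ := exists_sub_mem_map_pow I hI (k + k) r
    have h1 : ∀ y ∈ (I ^ (k + k)).map (algebraMap A (AdicCompletion I A)),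
        χ' (algebraMap (AdicCompletion I A) (AdicCompletion K B) y) = 0 ∧
          algebraMap (AdicCompletion I A) C y = 0 := by
      intro y hy
      refine Submodule.span_induction ?_ ?_ ?_ ?_ hy
      · rintro _ ⟨a', ha', rfl⟩
        have hmem : algebraMap A B a' ∈ K ^ (k + k) := by
          have := Ideal.mem_map_of_mem (algebraMap A B) ha'
          rw [Ideal.map_pow] at this
          exact Ideal.pow_right_mono hIK _ this
        constructor
        · rw [hcompat, hχ'of, hχ0 _ hmem]
        · have h2 : algebraMap (AdicCompletion I A) C (algebraMap A (AdicCompletion I A) a') =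
              algebraMap A C a' := rfl
          rw [h2, ← χ₀.commutes a', hχ0 _ hmem]
      · simp
      · rintro x y _ _ ⟨hx1, hx2⟩ ⟨hy1, hy2⟩
        simp [hx1, hx2, hy1, hy2]
      · rintro c x _ ⟨hx1, hx2⟩
        simp [hx1, hx2]
    have h3 := h1 _ ha
    rw [map_sub, map_sub, sub_eq_zero] at h3
    rw [map_sub, sub_eq_zero] at h3
    rw [h3.1, h3.2, hcompat, hχ'of, χ₀.commutes]
    rfl
  let χ : AdicCompletion K B →ₐ[AdicCompletion I A] C :=
    { χ' with commutes' := hlin }
  refine ⟨χ, ?_⟩
  -- the lifting property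
  apply AlgHom.ext
  intro s
  show Ideal.Quotient.mk J (χ' s) = ψ s
  obtain ⟨b, hb⟩ := exists_sub_mem_map_pow K hK (k + k) s
  have h4 : χ' (s - algebraMap B (AdicCompletion K B) b) = 0 := hχ'ker _ hb
  have h5 : ψ (s - algebraMap B (AdicCompletion K B) b) = 0 := by
    apply hk
    have : (K ^ (k + k)).map (algebraMap B (AdicCompletion K B)) ≤
        (K.map (algebraMap B (AdicCompletion K B))) ^ k := by
      rw [Ideal.map_pow]
      exact Ideal.pow_le_pow_right (Nat.le_add_right k k)
    exact this hb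
  rw [map_sub, sub_eq_zero] at h4 h5
  rw [h4, h5, hχ'of, hχ₀', hψ₀]

end Groth.Agent.H13.AdicFSCompl
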