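import Groth.Agent.H13.PBasisDeriv
import Groth.Agent.H46.AdicSmoothSmallExt
import Groth.Prelude.Def_CAlgX
import Mathlib.Algebra.TrivSqZeroExt.Ideal

/-!
# The tower criterion for adic formal smoothness of a local algebra (EGA 0_IV 20.7 / 22.2)

For a local `k`-algebra `A` with residue field `κ`:
* if `A` is formally smooth over `k` for the `𝔪`-adic topology then
  `κ ⊗ (A ⊗_k Ω_{k/ℤ}) → κ ⊗ Ω_{A/ℤ}` is injective;
* conversely if `A` is adically formally smooth over some `R₀ → k` and that map is injective,
  then `A` is adically formally smooth over `k`.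
-/

set_option autoImplicit false
set_option linter.style.haveILetI false
set_option linter.unusedSectionVars false
universe u

namespace Groth.Agent.H13.AdicTower

open IsLocalRing TensorProduct KaehlerDifferential TrivSqZeroExt

attribute [local instance] Groth.Agent.H13.PB.opModule
attribute [local instance] Groth.Agent.H13.PB.isCentralScalar_opModule

section Forward

variable {k A : Type u} [CommRing k] [CommRing A] [IsLocalRing A] [Algebra k A]

/-- the universal derivation of `k` into `κ ⊗ (A ⊗ Ω_k)` -/
noncomputable def δ₀ : Derivation ℤ k (ResidueField A ⊗[A] (A ⊗[k] Ω[k⁄ℤ])) :=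
  (((TensorProduct.mk A (ResidueField A) (A ⊗[k] Ω[k⁄ℤ]) 1).restrictScalars k) ∘ₗ
    (TensorProduct.mk k A (Ω[k⁄ℤ]) 1)).compDer (KaehlerDifferential.D ℤ k)

theorem δ₀_apply (c : k) :
    δ₀ (A := A) c = (1 : ResidueField A) ⊗ₜ[A] ((1 : A) ⊗ₜ[k] KaehlerDifferential.D ℤ k c) := rfl

end Forward

section Forward2

variable {k A : Type u} [CommRing k] [CommRing A] [IsLocalRing A] [Algebra k A]

/-- If `A` is adically formally smooth over `k`, every derivation of `k` into a `κ`-vector
space `W` extends to `A` (here for the universal one). -/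
theorem exists_derivation_extend (h : CAlgX.IsAdicFormallySmooth k A (maximalIdeal A)) :
    ∃ D : Derivation ℤ A (ResidueField A ⊗[A] (A ⊗[k] Ω[k⁄ℤ])),
      ∀ c : k, D (algebraMap k A c) = δ₀ (A := A) c := by
  let κ := ResidueField A
  let W := ResidueField A ⊗[A] (A ⊗[k] Ω[k⁄ℤ])
  let C := TrivSqZeroExt κ W
  let tw : k →+* C := Groth.Agent.H13.PB.twist (B := κ) W (δ₀ (A := A))
  letI algC : Algebra k C := tw.toAlgebra
  let J : Ideal C := TrivSqZeroExt.kerIdeal κ W
  have hJ : J ^ 2 = ⊥ := TrivSqZeroExt.kerIdeal_sq κ W
  have hmemJ : ∀ x : C, x ∈ J ↔ x.fst = 0 := fun x => Iff.rfl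
  let ψr : A →+* C ⧸ J :=
    (Ideal.Quotient.mk J).comp ((TrivSqZeroExt.inlHom κ W).comp (residue A))
  let ψ : A →ₐ[k] C ⧸ J :=
    { toRingHom := ψr
      commutes' := fun c => by
        change Ideal.Quotient.mk J (TrivSqZeroExt.inl (residue A (algebraMap k A c))) =
          Ideal.Quotient.mk J (tw c)
        rw [Ideal.Quotient.eq, hmemJ]
        change residue A (algebraMap k A c) - algebraMap k κ c = 0
        exact sub_self _ }
  have hψ : ∃ n : ℕ, ∀ x ∈ maximalIdeal A ^ n, ψ x = 0 := by
    refine ⟨1, fun x hx => ?_⟩
    rw [pow_one] at hx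
    change Ideal.Quotient.mk J (TrivSqZeroExt.inl (residue A x)) = 0
    rw [(residue_eq_zero_iff x).mpr hx, TrivSqZeroExt.inl_zero, map_zero]
  obtain ⟨χ, hχ⟩ := h C J hJ ψ hψ
  have hfst : ∀ a : A, (χ a).fst = residue A a := by
    intro a
    have h1 := AlgHom.congr_fun hχ a
    change Ideal.Quotient.mk J (χ a) = Ideal.Quotient.mk J (TrivSqZeroExt.inl (residue A a)) at h1
    rw [Ideal.Quotient.eq, hmemJ, TrivSqZeroExt.fst_sub, TrivSqZeroExt.fst_inl, sub_eq_zero] at h1
    exact h1
  let D : Derivation ℤ A W :=
    Derivation.mk'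
      (((TrivSqZeroExt.sndHom κ W).toAddMonoidHom.comp
        (χ : A →+* C).toAddMonoidHom).toIntLinearMap)
      (by
        intro a b
        change (χ (a * b)).snd = a • (χ b).snd + b • (χ a).snd
        rw [map_mul, TrivSqZeroExt.snd_mul, hfst, hfst, op_smul_eq_smul,
          ← IsLocalRing.ResidueField.algebraMap_eq, algebraMap_smul, algebraMap_smul])
  refine ⟨D, fun c => ?_⟩
  change (χ (algebraMap k A c)).snd = _
  rw [χ.commutes]
  rfl

end Forward2

section Forward3

variable {k A : Type u} [CommRing k] [CommRing A] [IsLocalRing A] [Algebra k A]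

/-- Tower criterion, forward direction. -/
theorem injective_of_adic (h : CAlgX.IsAdicFormallySmooth k A (maximalIdeal A)) :
    Function.Injective
      ((KaehlerDifferential.mapBaseChange ℤ k A).lTensor (ResidueField A)) := by
  obtain ⟨D, hD⟩ := exists_derivation_extend h
  let ρ : ResidueField A ⊗[A] Ω[A⁄ℤ] →ₗ[ResidueField A]
      (ResidueField A ⊗[A] (A ⊗[k] Ω[k⁄ℤ])) :=
    LinearMap.liftBaseChange (ResidueField A) D.liftKaehlerDifferential
  have hρ : ∀ t, ρ ((KaehlerDifferential.mapBaseChange ℤ k A).lTensor (ResidueField A) t) = t := by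
    intro t
    induction t using TensorProduct.induction_on with
    | zero => simp
    | add a b ha hb => simp only [map_add, ha, hb]
    | tmul x s =>
      induction s using TensorProduct.induction_on with
      | zero => simp
      | add a b ha hb => simp only [tmul_add, map_add, ha, hb]
      | tmul a ω =>
        obtain ⟨l, rfl⟩ := KaehlerDifferential.linearCombination_surjective _ _ ω
        induction l using Finsupp.induction_linear with
        | zero => simp
        | add f g hf hg => simp only [map_add, tmul_add, hf, hg]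
        | single c r =>
          simp only [Finsupp.linearCombination_single, LinearMap.lTensor_tmul,
            KaehlerDifferential.mapBaseChange_tmul, map_smul, KaehlerDifferential.map_D, ρ,
            LinearMap.liftBaseChange_tmul]
          rw [algebra_compatible_smul A r (KaehlerDifferential.D ℤ A (algebraMap k A c)), map_smul,
            Derivation.liftKaehlerDifferential_comp_D, hD, δ₀_apply]
          have e2 : a ⊗ₜ[k] (r • KaehlerDifferential.D ℤ k c) =
              (a * algebraMap k A r) • ((1 : A) ⊗ₜ[k] KaehlerDifferential.D ℤ k c) := by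
            rw [TensorProduct.tmul_smul, TensorProduct.smul_tmul', TensorProduct.smul_tmul',
              Algebra.smul_def, smul_eq_mul, mul_one, mul_comm]
          rw [e2, TensorProduct.tmul_smul]
          simp only [TensorProduct.smul_tmul']
          congr 1
          simp only [Algebra.smul_def, mul_one, map_mul, Algebra.algebraMap_self,
            RingHom.id_apply]
          ring
  exact Function.LeftInverse.injective hρ

end Forward3

section IdealModule

/-- The ideal `J` of `C` as a module over `A` through `φ : A →+* C`. -/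
def IdealMod {A C : Type u} [CommRing A] [CommRing C] (_φ : A →+* C) (J : Ideal C) : Type u := ↥J

namespace IdealMod

variable {A C : Type u} [CommRing A] [CommRing C] (φ : A →+* C) (J : Ideal C)

instance : AddCommGroup (IdealMod φ J) := inferInstanceAs (AddCommGroup ↥J)

noncomputable instance : Module A (IdealMod φ J) := Module.compHom ↥J φ

/-- the underlying element of `C` -/
def val (w : IdealMod φ J) : C := (show ↥J from w).1

/-- constructor -/
def mk (c : C) (hc : c ∈ J) : IdealMod φ J := (⟨c, hc⟩ : ↥J)

theorem val_mem (w : IdealMod φ J) : val φ J w ∈ J := (show ↥J from w).2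

@[simp] theorem val_mk (c : C) (hc : c ∈ J) : val φ J (mk φ J c hc) = c := rfl

@[simp] theorem val_zero : val φ J 0 = 0 := rfl

@[simp] theorem val_add (w w' : IdealMod φ J) : val φ J (w + w') = val φ J w + val φ J w' := rfl

@[simp] theorem val_smul (a : A) (w : IdealMod φ J) : val φ J (a • w) = φ a * val φ J w := rfl

theorem val_injective : Function.Injective (val φ J) := Subtype.val_injective

variable {k : Type u} [CommRing k] [Algebra k A]

noncomputable instance (priority := 50) modK : Module k (IdealMod φ J) :=
  Module.compHom (IdealMod φ J) (algebraMap k A)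

@[simp] theorem val_smul_k (c : k) (w : IdealMod φ J) :
    val φ J (c • w) = φ (algebraMap k A c) * val φ J w := rfl

instance : IsScalarTower k A (IdealMod φ J) := ⟨fun c a w => by
  apply val_injective
  rw [val_smul, val_smul_k, val_smul, Algebra.smul_def, map_mul, mul_assoc]⟩

end IdealMod

end IdealModule

section Defect

variable {k A C : Type u} [CommRing k] [CommRing A] [CommRing C] [Algebra k A] [Algebra k C]
  (φ : A →+* C) (J : Ideal C)

/-- The failure of `φ` to be `k`-linear, as a derivation `k → J`. -/
noncomputable def defect (hJ : J ^ 2 = ⊥)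
    (hφ : ∀ c : k, φ (algebraMap k A c) - algebraMap k C c ∈ J) :
    Derivation ℤ k (IdealMod φ J) :=
  Derivation.mk'
    (AddMonoidHom.toIntLinearMap
      { toFun := fun c => IdealMod.mk φ J _ (hφ c)
        map_zero' := by
          apply IdealMod.val_injective
          simp
        map_add' := fun a b => by
          apply IdealMod.val_injective
          simp only [IdealMod.val_mk, IdealMod.val_add, map_add]
          ring })
    (by
      intro a b
      apply IdealMod.val_injective
      change φ (algebraMap k A (a * b)) - algebraMap k C (a * b) =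
        φ (algebraMap k A a) * (φ (algebraMap k A b) - algebraMap k C b) +
          φ (algebraMap k A b) * (φ (algebraMap k A a) - algebraMap k C a)
      have h0 : (φ (algebraMap k A a) - algebraMap k C a) *
          (φ (algebraMap k A b) - algebraMap k C b) = 0 := by
        have : (φ (algebraMap k A a) - algebraMap k C a) *
            (φ (algebraMap k A b) - algebraMap k C b) ∈ J ^ 2 := by
          rw [pow_two]
          exact Ideal.mul_mem_mul (hφ a) (hφ b)
        rw [hJ] at this
        exact this
      rw [map_mul, map_mul, map_mul]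
      linear_combination (-1 : C) * h0)

theorem val_defect (hJ : J ^ 2 = ⊥)
    (hφ : ∀ c : k, φ (algebraMap k A c) - algebraMap k C c ∈ J) (c : k) :
    IdealMod.val φ J (defect φ J hJ hφ c) = φ (algebraMap k A c) - algebraMap k C c := rfl

end Defect

section Backward

variable {R₀ k A : Type u} [CommRing R₀] [CommRing k] [CommRing A] [IsLocalRing A]
  [Algebra R₀ k] [Algebra k A] [Algebra R₀ A] [IsScalarTower R₀ k A]

/-- Tower criterion, backward direction. -/
theorem adic_of_injective (h₀ : CAlgX.IsAdicFormallySmooth R₀ A (maximalIdeal A))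
    (hinj : Function.Injective
      ((KaehlerDifferential.mapBaseChange ℤ k A).lTensor (ResidueField A))) :
    CAlgX.IsAdicFormallySmooth k A (maximalIdeal A) := by
  apply Groth.Agent.H46.isAdicFormallySmooth_of_gtl
  intro C _ _ J ψ n hJ hn tors
  letI algR₀C : Algebra R₀ C := ((algebraMap k C).comp (algebraMap R₀ k)).toAlgebra
  let ψ₀ : A →ₐ[R₀] C ⧸ J :=
    { toRingHom := ψ.toRingHom
      commutes' := fun r => by
        change ψ (algebraMap R₀ A r) = Ideal.Quotient.mk J (algebraMap k C (algebraMap R₀ k r))
        rw [IsScalarTower.algebraMap_apply R₀ k A, ψ.commutes]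
        rfl }
  obtain ⟨χ₀, hχ₀⟩ := h₀ C J hJ ψ₀ ⟨n, hn⟩
  let φ : A →+* C := χ₀
  have hχ₀' : ∀ a, Ideal.Quotient.mk J (φ a) = ψ a := fun a => AlgHom.congr_fun hχ₀ a
  have hφ : ∀ c : k, φ (algebraMap k A c) - algebraMap k C c ∈ J := by
    intro c
    rw [← Ideal.Quotient.eq, hχ₀' (algebraMap k A c), ψ.commutes]
    rfl
  have htors : Module.IsTorsionBySet A (IdealMod φ J) (maximalIdeal A : Set A) := by
    intro w s
    apply IdealMod.val_injective
    rw [IdealMod.val_smul, IdealMod.val_zero]
    exact tors s.1 s.2 (φ s.1) (hχ₀' s.1) _ (IdealMod.val_mem φ J w)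
  letI modκ : Module (ResidueField A) (IdealMod φ J) := htors.module
  haveI towκ : IsScalarTower A (ResidueField A) (IdealMod φ J) := htors.isScalarTower
  let δ : Derivation ℤ k (IdealMod φ J) := defect φ J hJ hφ
  -- extension of `δ`
  have hinj' : Function.Injective
      ((KaehlerDifferential.mapBaseChange ℤ k A).baseChange (ResidueField A)) := by
    rw [LinearMap.baseChange_eq_ltensor]
    exact hinj
  obtain ⟨g, hg⟩ := LinearMap.exists_leftInverse_of_injective _ (LinearMap.ker_eq_bot.mpr hinj')
  let lam : ResidueField A ⊗[A] (A ⊗[k] Ω[k⁄ℤ]) →ₗ[ResidueField A] IdealMod φ J :=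
    LinearMap.liftBaseChange (ResidueField A)
      (LinearMap.liftBaseChange A δ.liftKaehlerDifferential)
  let Dlin : Ω[A⁄ℤ] →ₗ[A] IdealMod φ J :=
    ((lam ∘ₗ g).restrictScalars A) ∘ₗ (TensorProduct.mk A (ResidueField A) (Ω[A⁄ℤ]) 1)
  let D : Derivation ℤ A (IdealMod φ J) := Dlin.compDer (KaehlerDifferential.D ℤ A)
  have hD : ∀ c : k, D (algebraMap k A c) = δ c := by
    intro c
    change lam (g ((1 : ResidueField A) ⊗ₜ[A] KaehlerDifferential.D ℤ A (algebraMap k A c))) = δ c
    have h1 : (1 : ResidueField A) ⊗ₜ[A] KaehlerDifferential.D ℤ A (algebraMap k A c) =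
        (KaehlerDifferential.mapBaseChange ℤ k A).baseChange (ResidueField A)
          ((1 : ResidueField A) ⊗ₜ[A] ((1 : A) ⊗ₜ[k] KaehlerDifferential.D ℤ k c)) := by
      rw [LinearMap.baseChange_tmul, KaehlerDifferential.mapBaseChange_tmul, one_smul,
        KaehlerDifferential.map_D]
    rw [h1, ← LinearMap.comp_apply g, hg, LinearMap.id_apply]
    simp only [lam, LinearMap.liftBaseChange_tmul, one_smul,
      Derivation.liftKaehlerDifferential_comp_D]
  -- the corrected lift
  have hJJ : ∀ x ∈ J, ∀ y ∈ J, x * y = 0 := by
    intro x hx y hy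
    have : x * y ∈ J ^ 2 := by rw [pow_two]; exact Ideal.mul_mem_mul hx hy
    rw [hJ] at this
    exact this
  let χr : A →+* C :=
    { toFun := fun a => φ a - IdealMod.val φ J (D a)
      map_one' := by
        rw [Derivation.map_one_eq_zero, IdealMod.val_zero, sub_zero, map_one]
      map_mul' := fun a b => by
        have h2 := hJJ _ (IdealMod.val_mem φ J (D a)) _ (IdealMod.val_mem φ J (D b))
        rw [Derivation.leibniz, IdealMod.val_add, IdealMod.val_smul, IdealMod.val_smul, map_mul]
        linear_combination (-1 : C) * h2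
      map_zero' := by
        rw [map_zero, map_zero, IdealMod.val_zero, sub_zero]
      map_add' := fun a b => by
        rw [map_add, map_add, IdealMod.val_add]
        ring }
  let χ : A →ₐ[k] C :=
    { χr with
      commutes' := fun c => by
        change φ (algebraMap k A c) - IdealMod.val φ J (D (algebraMap k A c)) = algebraMap k C c
        rw [hD, val_defect]
        ring }
  refine ⟨χ, ?_⟩
  ext a
  change Ideal.Quotient.mk J (φ a - IdealMod.val φ J (D a)) = ψ a
  rw [map_sub, hχ₀', Ideal.Quotient.eq_zero_iff_mem.mpr (IdealMod.val_mem φ J (D a)), sub_zero]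

end Backward

end Groth.Agent.H13.AdicTower
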