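import Groth.Agent.H13.PBasisAdmissible

/-!
# EGA 0_IV 21.8: extension of the intersection property to `L ⊇ K` (helper13)
-/

set_option autoImplicit false
set_option linter.style.haveILetI false
set_option linter.unusedSectionVars false
universe u

namespace Groth.Agent.H13.PB

open EGA41 KaehlerDifferential TensorProduct

section BaseChangeLI

/-- Base change of a linearly independent family along a field extension. -/
theorem linearIndependent_one_tmul {K L : Type*} [Field K] [Field L] [Algebra K L]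
    {V : Type*} [AddCommGroup V] [Module K V] {n : Type*} (w : n → V)
    (hw : LinearIndependent K w) : LinearIndependent L (fun j => (1 : L) ⊗ₜ[K] w j) := by
  let e := Module.Free.chooseBasis K L
  have h1 := (e.linearIndependent.tmul_of_flat_left hw).comp Prod.swap Prod.swap_injective
  have h2 : LinearIndependent K
      (fun i : n × Module.Free.ChooseBasisIndex K L => e i.2 • ((1 : L) ⊗ₜ[K] w i.1)) := by
    have heq : (fun i : n × Module.Free.ChooseBasisIndex K L => e i.2 • ((1 : L) ⊗ₜ[K] w i.1)) =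
        (fun i : Module.Free.ChooseBasisIndex K L × n => e i.1 ⊗ₜ[K] w i.2) ∘ Prod.swap := by
      funext i
      simp [TensorProduct.smul_tmul']
    rw [heq]
    exact h1
  exact linearIndependent_of_smul (R := K) (S := L) (M := L ⊗[K] V) e e.span_eq _ h2

end BaseChangeLI

section Generic

/-- factor a linear map through a surjection with smaller kernel -/
theorem exists_factor {R M N P : Type*} [CommRing R] [AddCommGroup M] [AddCommGroup N]
    [AddCommGroup P] [Module R M] [Module R N] [Module R P] (f : M →ₗ[R] N)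
    (hf : Function.Surjective f) (g : M →ₗ[R] P) (h : LinearMap.ker f ≤ LinearMap.ker g) :
    ∃ φ : N →ₗ[R] P, φ ∘ₗ f = g := by
  refine ⟨((LinearMap.ker f).liftQ g h) ∘ₗ (f.quotKerEquivOfSurjective hf).symm.toLinearMap, ?_⟩
  ext m
  simp only [LinearMap.coe_comp, LinearEquiv.coe_coe, Function.comp_apply]
  have : (f.quotKerEquivOfSurjective hf).symm (f m) = (LinearMap.ker f).mkQ m := by
    rw [LinearEquiv.symm_apply_eq]
    rfl
  rw [this]
  rfl

theorem baseChange_eq_zero_of_ker_le {R S M N P : Type*} [CommRing R] [CommRing S] [Algebra R S]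
    [AddCommGroup M] [AddCommGroup N]
    [AddCommGroup P] [Module R M] [Module R N] [Module R P] (f : M →ₗ[R] N)
    (hf : Function.Surjective f) (g : M →ₗ[R] P) (h : LinearMap.ker f ≤ LinearMap.ker g)
    (η : S ⊗[R] M) (hη : f.baseChange S η = 0) : g.baseChange S η = 0 := by
  obtain ⟨φ, rfl⟩ := exists_factor f hf g h
  rw [LinearMap.baseChange_comp, LinearMap.comp_apply, hη, map_zero]

/-- the stabilisation lemma -/
theorem mem_of_forall_mem_sup {L V ι : Type*} [Field L] [AddCommGroup V] [Module L V]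
    [Preorder ι] [IsDirected ι (· ≤ ·)]
    (N : ι → Submodule L V) (hN : Antitone N) (Υ : Submodule L V)
    (h1 : ∃ i₀, N i₀ ⊓ Υ = ⊥) (h2 : ∀ η, (∀ i, η ∈ N i) → η = 0) (v : V)
    (hv : ∀ i, v ∈ N i ⊔ Υ) : v ∈ Υ := by
  obtain ⟨i₀, hi₀⟩ := h1
  obtain ⟨n₀, hn₀, υ₀, hυ₀, hsum₀⟩ := Submodule.mem_sup.mp (hv i₀)
  have hall : ∀ i, n₀ ∈ N i := by
    intro i
    obtain ⟨j, hj1, hj2⟩ := exists_ge_ge i₀ i
    obtain ⟨n, hn, υ, hυ, hsum⟩ := Submodule.mem_sup.mp (hv j)
    have hmem : n₀ - n ∈ N i₀ ⊓ Υ := by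
      refine ⟨sub_mem hn₀ (hN hj1 hn), ?_⟩
      have : n₀ - n = υ - υ₀ := by
        rw [sub_eq_sub_iff_add_eq_add, hsum₀, add_comm, hsum]
      rw [this]
      exact sub_mem hυ hυ₀
    rw [hi₀, Submodule.mem_bot, sub_eq_zero] at hmem
    rw [hmem]
    exact hN hj2 hn
  have := h2 n₀ hall
  rw [← hsum₀, this, zero_add]
  exact hυ₀

end Generic

section Ext

variable (p : ℕ) [Fact p.Prime] {k₀ K L : Type u} [Field k₀] [Field K] [Field L]
  [Algebra k₀ K] [Algebra K L] [Algebra k₀ L] [IsScalarTower k₀ K L] [CharP K p]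
  {ι : Type*} [Preorder ι] [IsDirected ι (· ≤ ·)] [Nonempty ι] (k : ι → IntermediateField k₀ K)

/-- If `⋂ k_α(K^p) = k₀(K^p)`, then for every finite part `J` of a `p`-basis, some
`L ⊗ Ω[K⁄k₀] → L ⊗ Ω[K⁄k_α]` is injective on the span of `J`. -/
theorem exists_injOn_span (hk : Antitone k)
    (h : (⨅ i, k i ⊔ IntermediateField.adjoin k₀ (Set.range fun y : K => y ^ p)) =
      IntermediateField.adjoin k₀ (Set.range fun y : K => y ^ p))
    (B : Set K) (hB : IsPBasis p k₀ (Subtype.val : B → K))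
    (β : Module.Basis B K (Ω[K⁄k₀])) (hβ : ∀ b, β b = D k₀ K (b : K)) (J : Finset B) :
    ∃ i, ∀ η ∈ Submodule.span L ((β.baseChange L) '' (J : Set B)),
      ((KaehlerDifferential.map k₀ (k i) K K).baseChange L) η = 0 → η = 0 := by
  classical
  let f : ↥J ↪ B := Function.Embedding.subtype _
  have hxs : IsPIndependent p k₀ ((Subtype.val : B → K) ∘ f) :=
    linearIndependent_mono_comp (R := pPowerSubalgebra p k₀ K) (Subtype.val : B → K) f hB.1
  obtain ⟨i, hi⟩ := exists_isPIndependent_of_iInf_eq p k hk h _ hxs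
  have hli := linearIndependent_D_of_isPIndependent p _ hi
  have hliL := linearIndependent_one_tmul (L := L) _ hli
  refine ⟨i, fun η hη hzero => ?_⟩
  rw [Finsupp.mem_span_image_iff_linearCombination] at hη
  obtain ⟨l, hl, rfl⟩ := hη
  have hl' : l.support ⊆ J := by
    intro b hb
    exact hl hb
  have hsum : ∑ b : ↥J, l b.1 • ((1 : L) ⊗ₜ[K] D (k i) K ((b.1 : B) : K)) = 0 := by
    rw [← hzero, Finsupp.linearCombination_apply,
      Finsupp.sum_of_support_subset l hl' _ (by simp), map_sum]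
    rw [← Finset.sum_coe_sort J]
    refine Finset.sum_congr rfl fun b _ => ?_
    rw [map_smul, Module.Basis.baseChange_apply, LinearMap.baseChange_tmul, hβ,
      KaehlerDifferential.map_D]
    rfl
  have hzero' := (Fintype.linearIndependent_iff.mp hliL) (fun b : ↥J => l b.1) hsum
  have hl0 : l = 0 := by
    ext b
    by_cases hb : b ∈ J
    · exact hzero' ⟨b, hb⟩
    · have : b ∉ l.support := fun hb' => hb (hl' hb')
      simpa using this
  rw [hl0, map_zero]

/-- The kernel of `Ω[L⁄k₀] → Ω[L⁄k_α]` comes from the kernel of `L ⊗ Ω[K⁄k₀] → L ⊗ Ω[K⁄k_α]`. -/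
theorem exists_mem_ker_baseChange (k' : IntermediateField k₀ K) (ω : Ω[L⁄k₀])
    (hω : KaehlerDifferential.map k₀ (k'.map (IsScalarTower.toAlgHom k₀ K L)) L L ω = 0) :
    ∃ η : L ⊗[K] Ω[K⁄k₀], ((KaehlerDifferential.map k₀ k' K K).baseChange L) η = 0 ∧
      KaehlerDifferential.mapBaseChange k₀ K L η = ω := by
  let N : Submodule L (Ω[L⁄k₀]) :=
    (LinearMap.ker ((KaehlerDifferential.map k₀ k' K K).baseChange L)).map
      (KaehlerDifferential.mapBaseChange k₀ K L)
  have hN : ∀ c : k'.map (IsScalarTower.toAlgHom k₀ K L),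
      D k₀ L (algebraMap (k'.map (IsScalarTower.toAlgHom k₀ K L)) L c) ∈ N := by
    rintro ⟨c, hc⟩
    obtain ⟨c₀, hc₀, rfl⟩ := (IntermediateField.mem_map _).mp hc
    refine ⟨(1 : L) ⊗ₜ[K] D k₀ K c₀, ?_, ?_⟩
    · rw [SetLike.mem_coe, LinearMap.mem_ker, LinearMap.baseChange_tmul, KaehlerDifferential.map_D]
      have : D k' K (algebraMap K K c₀) = D k' K (algebraMap k' K ⟨c₀, hc₀⟩) := rfl
      rw [this, Derivation.map_algebraMap, TensorProduct.tmul_zero]
    · rw [KaehlerDifferential.mapBaseChange_tmul, one_smul, KaehlerDifferential.map_D]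
      rfl
  have := ker_map_le N hN (LinearMap.mem_ker.mpr hω)
  obtain ⟨η, hη, rfl⟩ := this
  exact ⟨η, LinearMap.mem_ker.mp hη, rfl⟩

end Ext

section Final

variable (p : ℕ) [Fact p.Prime] {k₀ K L : Type u} [Field k₀] [Field K] [Field L]
  [Algebra k₀ K] [Algebra K L] [Algebra k₀ L] [IsScalarTower k₀ K L] [CharP K p] [CharP L p]
  {ι : Type*} [Preorder ι] [IsDirected ι (· ≤ ·)] [Nonempty ι] (k : ι → IntermediateField k₀ K)

/-- EGA 0_IV 21.8.5 (the statement of S4546). -/
theorem iInf_eq_extend (hk : Antitone k)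
    (h : (⨅ i, k i ⊔ IntermediateField.adjoin k₀ (Set.range fun y : K => y ^ p)) =
      IntermediateField.adjoin k₀ (Set.range fun y : K => y ^ p))
    [Module.Finite L (EGA41.imperfection k₀ K L)] :
    (⨅ i, (k i).map (IsScalarTower.toAlgHom k₀ K L) ⊔
        IntermediateField.adjoin k₀ (Set.range fun y : L => y ^ p)) =
      IntermediateField.adjoin k₀ (Set.range fun y : L => y ^ p) := by
  classical
  apply iInf_eq_of_separating p (fun i => (k i).map (IsScalarTower.toAlgHom k₀ K L))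
  intro ω hω
  obtain ⟨B, -, -, hB⟩ := exists_isPBasis_between (k := k₀) p (Set.univ : Set K) ∅
    (Set.empty_subset _) (isPGenerating_univ p) (isPIndependent_empty p)
  obtain ⟨β, hβ⟩ := exists_basis_kaehler_of_isPBasis p (Subtype.val : B → K) hB
  let βL : Module.Basis B L (L ⊗[K] Ω[K⁄k₀]) := β.baseChange L
  -- finite support of the imperfection module
  have hfg : (EGA41.imperfection k₀ K L).FG := Module.Finite.iff_fg.mp inferInstance
  obtain ⟨S, hS⟩ := hfg
  let J₀ : Finset B := S.biUnion fun ω => (βL.repr ω).support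
  have hsupp : EGA41.imperfection k₀ K L ≤ Submodule.span L (βL '' (J₀ : Set B)) := by
    rw [← hS]
    refine Submodule.span_le.mpr ?_
    intro ω' hω'
    rw [SetLike.mem_coe, Module.Basis.mem_span_image]
    intro b hb
    exact Finset.mem_biUnion.mpr ⟨ω', hω', hb⟩
  let N : ι → Submodule L (L ⊗[K] Ω[K⁄k₀]) := fun i =>
    LinearMap.ker ((KaehlerDifferential.map k₀ (k i) K K).baseChange L)
  have hN : Antitone N := by
    intro i j hij η hη
    refine baseChange_eq_zero_of_ker_le (KaehlerDifferential.map k₀ (k j) K K)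
      (KaehlerDifferential.map_surjective k₀ (k j) K) (KaehlerDifferential.map k₀ (k i) K K)
      ?_ η hη
    apply ker_map_le
    intro c
    rw [LinearMap.mem_ker, KaehlerDifferential.map_D]
    have : D (k i) K (algebraMap K K (algebraMap (k j) K c)) =
        D (k i) K (algebraMap (k i) K ⟨c.1, hk hij c.2⟩) := rfl
    rw [this, Derivation.map_algebraMap]
  have h1 : ∃ i₀, N i₀ ⊓ EGA41.imperfection k₀ K L = ⊥ := by
    obtain ⟨i₀, hi₀⟩ := exists_injOn_span (L := L) p k hk h B hB β hβ J₀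
    refine ⟨i₀, ?_⟩
    rw [eq_bot_iff]
    rintro η ⟨hη1, hη2⟩
    exact hi₀ η (hsupp hη2) hη1
  have h2 : ∀ η, (∀ i, η ∈ N i) → η = 0 := by
    intro η hη
    obtain ⟨i, hi⟩ := exists_injOn_span (L := L) p k hk h B hB β hβ (βL.repr η).support
    refine hi η ?_ (hη i)
    rw [Module.Basis.mem_span_image]
  -- choose preimages
  have hex : ∀ i, ∃ η : L ⊗[K] Ω[K⁄k₀], η ∈ N i ∧
      KaehlerDifferential.mapBaseChange k₀ K L η = ω := fun i =>
    exists_mem_ker_baseChange (k i) ω (hω i)
  obtain ⟨i₁⟩ := (inferInstance : Nonempty ι)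
  obtain ⟨v, -, hvω⟩ := hex i₁
  have hv : ∀ i, v ∈ N i ⊔ EGA41.imperfection k₀ K L := by
    intro i
    obtain ⟨η, hη1, hη2⟩ := hex i
    rw [Submodule.mem_sup]
    refine ⟨η, hη1, v - η, ?_, by abel⟩
    change KaehlerDifferential.mapBaseChange k₀ K L (v - η) = 0
    rw [map_sub, hvω, hη2, sub_self]
  have hvΥ := mem_of_forall_mem_sup N hN _ h1 h2 v hv
  rw [← hvω]
  exact hvΥ

end Final

end Groth.Agent.H13.PB
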