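import Groth.Agent.H13.PBasisTower

/-!
# Absolute differentials from p-bases and the imperfection module (helper13)
-/

set_option autoImplicit false
set_option linter.style.haveILetI false
set_option linter.unusedSectionVars false
universe u

namespace Groth.Agent.H13.PB

open EGA41 TensorProduct

section K

/-- If absolute differentials of the elements coming from `T` vanish, then
`Ω[S⁄ℤ] → Ω[S⁄T]` is bijective. -/
theorem bijective_map_kaehler_int {T S : Type*} [CommRing T] [CommRing S] [Algebra T S]
    (h : ∀ t : T, KaehlerDifferential.D ℤ S (algebraMap T S t) = 0) :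
    Function.Bijective (KaehlerDifferential.map ℤ T S S) := by
  refine ⟨?_, KaehlerDifferential.map_surjective ℤ T S⟩
  rw [injective_iff_map_eq_zero]
  intro ω hω
  obtain ⟨t, rfl⟩ := (KaehlerDifferential.exact_mapBaseChange_map ℤ T S ω).mp hω
  have hzero : ∀ t : S ⊗[T] Ω[T⁄ℤ], KaehlerDifferential.mapBaseChange ℤ T S t = 0 := by
    intro t
    induction t using TensorProduct.induction_on with
    | zero => simp
    | add a b ha hb => rw [map_add, ha, hb, add_zero]
    | tmul c ω' =>
      rw [KaehlerDifferential.mapBaseChange_tmul]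
      obtain ⟨x, rfl⟩ := KaehlerDifferential.linearCombination_surjective _ _ ω'
      induction x using Finsupp.induction_linear with
      | zero => simp
      | add a b ha hb =>
        rw [map_add, map_add, smul_add, ha, hb, add_zero]
      | single a b =>
        simp only [Finsupp.linearCombination_single, map_smul, KaehlerDifferential.map_D]
        rw [h a, smul_zero, smul_zero]
  exact hzero t

/-- Transport of a basis of relative differentials to absolute differentials. -/
theorem exists_basis_kaehler_int (p : ℕ) [Fact p.Prime] {T S : Type u} [CommRing T] [CommRing S]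
    [Algebra T S] [CharP S p] {ι : Type u} (s : ι → S) (hs : IsPBasis p T s)
    (h : ∀ t : T, KaehlerDifferential.D ℤ S (algebraMap T S t) = 0) :
    ∃ b : Module.Basis ι S (Ω[S⁄ℤ]), ∀ i, b i = KaehlerDifferential.D ℤ S (s i) := by
  obtain ⟨b, hb⟩ := exists_basis_kaehler_of_isPBasis p s hs
  let e : Ω[S⁄ℤ] ≃ₗ[S] Ω[S⁄T] :=
    LinearEquiv.ofBijective (KaehlerDifferential.map ℤ T S S) (bijective_map_kaehler_int h)
  refine ⟨b.map e.symm, fun i => ?_⟩
  rw [Module.Basis.map_apply, hb, LinearEquiv.symm_apply_eq]
  simp [e]

end K

section BR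

variable (p : ℕ)

/-- The `p`-power subalgebra only depends on the image of the base ring. -/
theorem coe_pPowerSubalgebra_eq {T T' S : Type u} [CommRing T] [CommRing T'] [CommRing S]
    [Algebra T S] [Algebra T' S]
    (h : Set.range (algebraMap T S) = Set.range (algebraMap T' S)) :
    (pPowerSubalgebra p T S : Set S) = (pPowerSubalgebra p T' S : Set S) := by
  have h1 : (pPowerSubalgebra p T S).toSubring = (pPowerSubalgebra p T' S).toSubring := by
    unfold pPowerSubalgebra
    rw [Algebra.adjoin_eq_ring_closure, Algebra.adjoin_eq_ring_closure, h]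
  exact congrArg (fun K : Subring S => (K : Set S)) h1

variable {p}

/-- the identification of the two coefficient rings -/
def iBR {T T' S : Type u} [CommRing T] [CommRing T'] [CommRing S]
    [Algebra T S] [Algebra T' S]
    (h : Set.range (algebraMap T S) = Set.range (algebraMap T' S)) :
    pPowerSubalgebra p T S → pPowerSubalgebra p T' S := fun r =>
  ⟨r.1, by
    have := coe_pPowerSubalgebra_eq p h
    exact (Set.ext_iff.mp this r.1).mp r.2⟩

theorem iBR_bijective {T T' S : Type u} [CommRing T] [CommRing T'] [CommRing S]
    [Algebra T S] [Algebra T' S]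
    (h : Set.range (algebraMap T S) = Set.range (algebraMap T' S)) :
    Function.Bijective (iBR (p := p) h) := by
  constructor
  · intro r r' hr
    have h2 : (iBR (p := p) h r).1 = (iBR (p := p) h r').1 := congrArg Subtype.val hr
    exact Subtype.ext h2
  · rintro ⟨r, hr⟩
    have := coe_pPowerSubalgebra_eq p h
    exact ⟨⟨r, (Set.ext_iff.mp this r).mpr hr⟩, rfl⟩

theorem isPBasis_iff_of_range_eq {T T' S : Type u} [CommRing T] [CommRing T'] [CommRing S]
    [Algebra T S] [Algebra T' S]
    (h : Set.range (algebraMap T S) = Set.range (algebraMap T' S)) {ι : Type u} (s : ι → S) :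
    IsPBasis p T s ↔ IsPBasis p T' s := by
  have hsm : ∀ (r : pPowerSubalgebra p T S) (m : S), iBR (p := p) h r • m = r • m := by
    intro r m
    rfl
  have h1 : IsPIndependent p T s ↔ IsPIndependent p T' s :=
    linearIndependent_iff_of_bijective (iBR (p := p) h) (iBR_bijective h)
      (by apply Subtype.ext; rfl) hsm _
  have h2 : IsPGenerating p T s ↔ IsPGenerating p T' s :=
    span_eq_top_iff_of_surjective (iBR (p := p) h) (iBR_bijective h).2 hsm _
  unfold IsPBasis
  rw [h1, h2]

end BR

section absolute

variable (p : ℕ) [Fact p.Prime]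

/-- Absolute differentials of the top of a tower of `p`-bases. -/
theorem exists_basis_kaehler_int_tower {T C S : Type u} [CommRing T] [CommRing C] [CommRing S]
    [Algebra T C] [Algebra C S] [Algebra T S] [IsScalarTower T C S] [CharP S p]
    (hinj : Function.Injective (algebraMap C S))
    (hpow : ∀ s : S, s ^ p ∈ Set.range (algebraMap T S))
    (hT : ∀ t : T, ∃ s : S, algebraMap T S t = s ^ p)
    {ι κ : Type u} (x : ι → C) (y : κ → S) (hx : IsPBasis p T x) (hy : IsPBasis p C y) :
    ∃ b : Module.Basis (ι ⊕ κ) S (Ω[S⁄ℤ]),
      (∀ i, b (Sum.inl i) = KaehlerDifferential.D ℤ S (algebraMap C S (x i))) ∧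
        ∀ j, b (Sum.inr j) = KaehlerDifferential.D ℤ S (y j) := by
  have hb := isPBasis_sumElim p hinj hpow x y hx hy
  obtain ⟨b, hb'⟩ := exists_basis_kaehler_int p _ hb (fun t => by
    obtain ⟨s, hs⟩ := hT t
    rw [hs, Derivation.leibniz_pow, ← Nat.cast_smul_eq_nsmul S, cast_p_eq_zero, zero_smul])
  exact ⟨b, fun i => hb' (Sum.inl i), fun j => hb' (Sum.inr j)⟩

/-- A copy of `A`, used as the source of the Frobenius. -/
def FrobBase (A : Type u) := A

instance (A : Type u) [CommRing A] : CommRing (FrobBase A) := inferInstanceAs (CommRing A)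

variable {R A B : Type u} [CommRing R] [CommRing A] [CommRing B] [IsReduced B] [Algebra R A]
    [Algebra A B] [Algebra R B] [IsScalarTower R A B] [CharP B p]

/-- The "Frobenius into `A`": `b ↦ b ^ p`, viewed in `A`. -/
noncomputable def frobInto (hinj : Function.Injective (algebraMap A B))
    (hpow : ∀ b : B, b ^ p ∈ Set.range (algebraMap A B)) : B →+* A where
  toFun b := (hpow b).choose
  map_one' := hinj (by rw [(hpow 1).choose_spec, one_pow, map_one])
  map_mul' a b := hinj (by
    rw [map_mul, (hpow a).choose_spec, (hpow b).choose_spec, (hpow (a * b)).choose_spec, mul_pow])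
  map_zero' := hinj (by
    rw [(hpow 0).choose_spec, map_zero, zero_pow (Fact.out : p.Prime).ne_zero])
  map_add' a b := hinj (by
    rw [map_add, (hpow a).choose_spec, (hpow b).choose_spec, (hpow (a + b)).choose_spec,
      add_pow_char])

theorem algebraMap_frobInto (hinj : Function.Injective (algebraMap A B))
    (hpow : ∀ b : B, b ^ p ∈ Set.range (algebraMap A B)) (b : B) :
    algebraMap A B (frobInto p hinj hpow b) = b ^ p := (hpow b).choose_spec

theorem frobInto_injective (hinj : Function.Injective (algebraMap A B))
    (hpow : ∀ b : B, b ^ p ∈ Set.range (algebraMap A B)) :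
    Function.Injective (frobInto p hinj hpow) := by
  rw [injective_iff_map_eq_zero]
  intro b hb
  have h1 : b ^ p = 0 := by rw [← algebraMap_frobInto p hinj hpow, hb, map_zero]
  exact IsReduced.eq_zero b ⟨p, h1⟩

end absolute

end Groth.Agent.H13.PB
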