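import Groth.Agent.H13.AdicTower
import Groth.Agent.H13.PBasisExtend
import Groth.Agent.H13.PBasisImperf

/-!
# The tower criterion relative to a filtered family of subfields (EGA 0_IV 22.2.6)
-/

set_option autoImplicit false
set_option linter.style.haveILetI false
set_option linter.unusedSectionVars false
universe u

namespace Groth.Agent.H13.AdicTowerFamily

open IsLocalRing TensorProduct KaehlerDifferential

section Square

variable {k A : Type u} [Field k] [CommRing A] [Algebra k A] (F : Subfield k)

/-- the basic commutative square, before tensoring with the residue field -/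
theorem map_comp_mapBaseChange :
    (KaehlerDifferential.map ℤ F A A).restrictScalars A ∘ₗ KaehlerDifferential.mapBaseChange ℤ k A =
      KaehlerDifferential.mapBaseChange F k A ∘ₗ
        (KaehlerDifferential.map ℤ F k k).baseChange A := by
  ext t
  simp

end Square

section Down

variable {k A : Type u} [Field k] [CommRing A] [IsLocalRing A] [Algebra k A] (F : Subfield k)

/-- elements of the kernel of `κ ⊗ Ω[A⁄ℤ] → κ ⊗ Ω[A⁄F]` come from the kernel of
`κ ⊗ (A ⊗ Ω[k⁄ℤ]) → κ ⊗ (A ⊗ Ω[k⁄F])`. -/
theorem exists_preimage (s : ResidueField A ⊗[A] (A ⊗[F] Ω[F⁄ℤ])) :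
    ∃ n : ResidueField A ⊗[A] (A ⊗[k] Ω[k⁄ℤ]),
      (KaehlerDifferential.mapBaseChange ℤ k A).lTensor (ResidueField A) n =
        (KaehlerDifferential.mapBaseChange ℤ F A).lTensor (ResidueField A) s ∧
      ((KaehlerDifferential.map ℤ F k k).baseChange A).lTensor (ResidueField A) n = 0 := by
  induction s using TensorProduct.induction_on with
  | zero => exact ⟨0, by simp, by simp⟩
  | add a b ha hb =>
    obtain ⟨n₁, h1, h1'⟩ := ha
    obtain ⟨n₂, h2, h2'⟩ := hb
    exact ⟨n₁ + n₂, by rw [map_add, map_add, h1, h2], by rw [map_add, h1', h2', add_zero]⟩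
  | tmul x s =>
    induction s using TensorProduct.induction_on with
    | zero => exact ⟨0, by simp, by simp⟩
    | add a b ha hb =>
      obtain ⟨n₁, h1, h1'⟩ := ha
      obtain ⟨n₂, h2, h2'⟩ := hb
      exact ⟨n₁ + n₂, by rw [map_add, tmul_add, map_add, h1, h2],
        by rw [map_add, h1', h2', add_zero]⟩
    | tmul a ω =>
      obtain ⟨l, rfl⟩ := KaehlerDifferential.linearCombination_surjective _ _ ω
      induction l using Finsupp.induction_linear with
      | zero => exact ⟨0, by simp, by simp⟩
      | add f g hf hg =>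
        obtain ⟨n₁, h1, h1'⟩ := hf
        obtain ⟨n₂, h2, h2'⟩ := hg
        exact ⟨n₁ + n₂, by rw [map_add, map_add, tmul_add, tmul_add, map_add, h1, h2],
          by rw [map_add, h1', h2', add_zero]⟩
      | single c r =>
        refine ⟨x ⊗ₜ[A] (a ⊗ₜ[k] ((r : k) • KaehlerDifferential.D ℤ k (c : k))), ?_, ?_⟩
        · simp only [Finsupp.linearCombination_single, LinearMap.lTensor_tmul,
            KaehlerDifferential.mapBaseChange_tmul, map_smul, KaehlerDifferential.map_D]
          rfl
        · simp only [LinearMap.lTensor_tmul, LinearMap.baseChange_tmul, map_smul,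
            KaehlerDifferential.map_D]
          have : KaehlerDifferential.D F k (algebraMap k k (c : k)) =
              KaehlerDifferential.D F k (algebraMap F k c) := rfl
          rw [this, Derivation.map_algebraMap, smul_zero, tmul_zero, tmul_zero]

/-- If `u` is injective then so is every `u_F`. -/
theorem injective_of_injective_int
    (hinj : Function.Injective
      ((KaehlerDifferential.mapBaseChange ℤ k A).lTensor (ResidueField A))) :
    Function.Injective ((KaehlerDifferential.mapBaseChange F k A).lTensor (ResidueField A)) := by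
  rw [injective_iff_map_eq_zero]
  intro t' ht'
  have hsurj : Function.Surjective
      (((KaehlerDifferential.map ℤ F k k).baseChange A).lTensor (ResidueField A)) := by
    apply LinearMap.lTensor_surjective
    rw [LinearMap.baseChange_eq_ltensor]
    exact LinearMap.lTensor_surjective _ (KaehlerDifferential.map_surjective ℤ F k)
  obtain ⟨t, rfl⟩ := hsurj t'
  have hcomm : (KaehlerDifferential.map ℤ F A A).lTensor (ResidueField A)
      ((KaehlerDifferential.mapBaseChange ℤ k A).lTensor (ResidueField A) t) = 0 := by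
    rw [← ht', ← LinearMap.comp_apply, ← LinearMap.comp_apply, ← LinearMap.lTensor_comp,
      ← LinearMap.lTensor_comp]
    congr 2
    exact map_comp_mapBaseChange F
  have hex := lTensor_exact (ResidueField A)
    (KaehlerDifferential.exact_mapBaseChange_map ℤ F A) (KaehlerDifferential.map_surjective ℤ F A)
  obtain ⟨s, hs⟩ := (hex _).mp hcomm
  obtain ⟨n, hn1, hn2⟩ := exists_preimage F s
  have : t = n := hinj (hs ▸ hn1).symm
  rw [this, hn2]

end Down

section Up

open EGA41 Groth.Agent.H13.PB

variable {k : Type u} [Field k] (p : ℕ) [Fact p.Prime] [CharP k p]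

/-- the absolute differential kills the prime subfield -/
theorem D_int_bot (t : (⊥ : Subfield k)) :
    KaehlerDifferential.D ℤ k (algebraMap (⊥ : Subfield k) k t) = 0 := by
  let S : Subfield k :=
    { carrier := {x | KaehlerDifferential.D ℤ k x = 0}
      mul_mem' := fun {a b} ha hb => by
        change KaehlerDifferential.D ℤ k (a * b) = 0
        rw [Derivation.leibniz, ha, hb, smul_zero, smul_zero, add_zero]
      one_mem' := Derivation.map_one_eq_zero _
      add_mem' := fun {a b} ha hb => by
        change KaehlerDifferential.D ℤ k (a + b) = 0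
        rw [map_add, ha, hb, add_zero]
      zero_mem' := map_zero _
      neg_mem' := fun {a} ha => by
        change KaehlerDifferential.D ℤ k (-a) = 0
        rw [map_neg, ha, neg_zero]
      inv_mem' := fun a ha => by
        change KaehlerDifferential.D ℤ k a⁻¹ = 0
        rw [Derivation.leibniz_inv, ha, smul_zero] }
  exact (bot_le : (⊥ : Subfield k) ≤ S) t.2

/-- `F[k^p] ⊆ F ⊔ k^p`. -/
theorem pPower_le_sup (F : Subfield k) (z : k) (hz : z ∈ pPowerSubalgebra p F k) :
    z ∈ F ⊔ (frobenius k p).fieldRange := by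
  unfold pPowerSubalgebra at hz
  induction hz using Algebra.adjoin_induction with
  | mem y hy =>
    obtain ⟨b, rfl⟩ := hy
    exact (le_sup_right : (frobenius k p).fieldRange ≤ F ⊔ (frobenius k p).fieldRange)
      ⟨b, rfl⟩
  | algebraMap c => exact (le_sup_left : F ≤ F ⊔ (frobenius k p).fieldRange) c.2
  | add a b _ _ ha hb => exact add_mem ha hb
  | mul a b _ _ ha hb => exact mul_mem ha hb

theorem pSubfield_mono {F F' : Subfield k} (h : F' ≤ F) :
    pSubfield p F' (K := k) ≤ pSubfield p F (K := k) := by
  have key : ∀ z : k, z ∈ pPowerSubalgebra p F' k → z ∈ pPowerSubalgebra p F k := by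
    intro z hz'
    unfold pPowerSubalgebra at hz' ⊢
    induction hz' using Algebra.adjoin_induction with
    | mem y hy => exact Algebra.subset_adjoin hy
    | algebraMap c => exact Subalgebra.algebraMap_mem _ (⟨c.1, h c.2⟩ : F)
    | add a b _ _ ha hb => exact add_mem ha hb
    | mul a b _ _ ha hb => exact mul_mem ha hb
  exact fun z hz => key z hz

variable {ι : Type*} [Preorder ι] [IsDirected ι (· ≤ ·)] [Nonempty ι] (kα : ι → Subfield k)

/-- a finite `p`-independent family over the prime field is `p`-independent over `kα α`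
for all large `α`. -/
theorem exists_isPIndependent_ge (hanti : Antitone kα)
    (hint : ⨅ α, (kα α ⊔ (frobenius k p).fieldRange) = (frobenius k p).fieldRange)
    {n : Type u} [Finite n] (x : n → k) (hx : IsPIndependent p (⊥ : Subfield k) x) (α₀ : ι) :
    ∃ α, α₀ ≤ α ∧ IsPIndependent p (kα α) x := by
  have hfin := finite_red p n
  have hE : Antitone fun α => pSubfield p (kα α) (K := k) := fun α β hαβ =>
    pSubfield_mono p (hanti hαβ)
  have hinter : ∀ z : k, (∀ α, z ∈ pSubfield p (kα α) (K := k)) →
      z ∈ pSubfield p (⊥ : Subfield k) (K := k) := by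
    intro z hz
    have h1 : z ∈ ⨅ α, (kα α ⊔ (frobenius k p).fieldRange) := by
      rw [Subfield.mem_iInf]
      intro α
      exact pPower_le_sup p (kα α) z (hz α)
    rw [hint] at h1
    obtain ⟨y, rfl⟩ := h1
    exact pow_mem_pPower p y
  have hx' : LinearIndependent (pSubfield p (⊥ : Subfield k) (K := k)) (mono p x) :=
    (linearIndependent_pSubfield_iff p (⊥ : Subfield k) _).mp hx
  obtain ⟨i, hi⟩ := SubfieldInter.exists_linearIndependent _ hE _ hinter (mono p x) hx'
  obtain ⟨α, h1, h2⟩ := exists_ge_ge α₀ i
  refine ⟨α, h1, (linearIndependent_pSubfield_iff p (kα α) _).mpr ?_⟩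
  exact SubfieldInter.linearIndependent_of_le (hE h2) _ hi

end Up

section UpMain

open EGA41 Groth.Agent.H13.PB

variable {k A : Type u} [Field k] (p : ℕ) [Fact p.Prime] [CharP k p] [CommRing A] [IsLocalRing A]
  [Algebra k A]
  {ι : Type*} [Preorder ι] [IsDirected ι (· ≤ ·)] [Nonempty ι] (kα : ι → Subfield k)

/-- If `u_α` is injective for all large `α` and `⋂ k_α(k^p) = k^p`, then `u` is injective. -/
theorem injective_int_of_family (hanti : Antitone kα)
    (hint : ⨅ α, (kα α ⊔ (frobenius k p).fieldRange) = (frobenius k p).fieldRange)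
    (α₀ : ι) (hα₀ : ∀ α, α₀ ≤ α → Function.Injective
      ((KaehlerDifferential.mapBaseChange (kα α) k A).lTensor (ResidueField A))) :
    Function.Injective
      ((KaehlerDifferential.mapBaseChange ℤ k A).lTensor (ResidueField A)) := by
  classical
  obtain ⟨B, -, -, hB⟩ := exists_isPBasis_between (k := (⊥ : Subfield k)) p (Set.univ : Set k) ∅
    (Set.empty_subset _) (isPGenerating_univ p) (isPIndependent_empty p)
  obtain ⟨β, hβ⟩ := exists_basis_kaehler_int p (Subtype.val : B → k) hB D_int_bot
  let βκ : Module.Basis B (ResidueField A) (ResidueField A ⊗[A] (A ⊗[k] Ω[k⁄ℤ])) :=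
    (β.baseChange A).baseChange (ResidueField A)
  have hβκ : ∀ b, βκ b = (1 : ResidueField A) ⊗ₜ[A] ((1 : A) ⊗ₜ[k]
      KaehlerDifferential.D ℤ k (b : k)) := by
    intro b
    simp only [βκ, Module.Basis.baseChange_apply, hβ]
  rw [injective_iff_map_eq_zero]
  intro t ht
  by_contra ht0
  have hrepr : βκ.repr t ≠ 0 := fun h0 => ht0 ((LinearEquiv.map_eq_zero_iff _).mp h0)
  obtain ⟨b₀, hb₀⟩ := Finsupp.support_nonempty_iff.mpr hrepr
  let J : Finset B := (βκ.repr t).support
  let f : ↥J ↪ B := Function.Embedding.subtype _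
  have hxs : IsPIndependent p (⊥ : Subfield k) ((Subtype.val : B → k) ∘ f) :=
    linearIndependent_mono_comp (R := pPowerSubalgebra p (⊥ : Subfield k) k)
      (Subtype.val : B → k) f hB.1
  obtain ⟨α, hα, hi⟩ := exists_isPIndependent_ge p kα hanti hint _ hxs α₀
  have hli := linearIndependent_D_of_isPIndependent p _ hi
  have hliκ := linearIndependent_one_tmul (L := ResidueField A) _ hli
  have hliκ' := hliκ.map' (TensorProduct.AlgebraTensorModule.cancelBaseChange k A
    (ResidueField A) (ResidueField A) (Ω[k⁄kα α])).symm.toLinearMap (LinearEquiv.ker _)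
  -- `p_α t = 0`
  have hpt : ((KaehlerDifferential.map ℤ (kα α) k k).baseChange A).lTensor (ResidueField A) t = 0 := by
    apply hα₀ α hα
    rw [map_zero, ← LinearMap.comp_apply, ← LinearMap.lTensor_comp, ← map_comp_mapBaseChange,
      LinearMap.lTensor_comp, LinearMap.comp_apply, ht, map_zero]
  have hsum : ∑ b : ↥J, (βκ.repr t b.1) • ((1 : ResidueField A) ⊗ₜ[A] ((1 : A) ⊗ₜ[k]
      KaehlerDifferential.D (kα α) k ((b.1 : B) : k))) = 0 := by
    rw [← hpt]
    conv_rhs => rw [← βκ.linearCombination_repr t]
    rw [Finsupp.linearCombination_apply, Finsupp.sum, map_sum,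
      ← Finset.sum_coe_sort (βκ.repr t).support]
    refine Finset.sum_congr rfl fun b _ => ?_
    rw [hβκ, TensorProduct.smul_tmul', TensorProduct.smul_tmul', LinearMap.lTensor_tmul,
      LinearMap.baseChange_tmul, KaehlerDifferential.map_D]
    rfl
  have hliκ'' : LinearIndependent (ResidueField A) fun b : ↥J =>
      ((1 : ResidueField A) ⊗ₜ[A] ((1 : A) ⊗ₜ[k]
        KaehlerDifferential.D (kα α) k ((b.1 : B) : k)) :
        ResidueField A ⊗[A] (A ⊗[k] Ω[k⁄kα α])) := by
    have hfun : (fun b : ↥J => ((1 : ResidueField A) ⊗ₜ[A] ((1 : A) ⊗ₜ[k]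
        KaehlerDifferential.D (kα α) k ((b.1 : B) : k)) :
        ResidueField A ⊗[A] (A ⊗[k] Ω[k⁄kα α]))) =
        (⇑(TensorProduct.AlgebraTensorModule.cancelBaseChange k A (ResidueField A)
          (ResidueField A) (Ω[k⁄kα α])).symm.toLinearMap ∘ fun j : ↥J =>
          (1 : ResidueField A) ⊗ₜ[k] KaehlerDifferential.D (kα α) k
            (((Subtype.val : B → k) ∘ f) j)) := by
      funext b
      simp [TensorProduct.AlgebraTensorModule.cancelBaseChange_symm_tmul, f]
    rw [hfun]
    exact hliκ'
  have h0 := Fintype.linearIndependent_iff.mp hliκ'' (fun b => βκ.repr t b.1) hsum ⟨b₀, hb₀⟩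
  exact (Finsupp.mem_support_iff.mp hb₀) h0

end UpMain

end Groth.Agent.H13.AdicTowerFamily
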