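import Groth.Agent.H13.AlgClosedTensor
import Mathlib.AlgebraicGeometry.Geometrically.Irreducible
import Mathlib.AlgebraicGeometry.Geometrically.Connected

/-!
# Schemes over an algebraically closed field

* `geometricallyIrreducible_specMap_of_isAlgClosed`: for `k` algebraically closed and any field
  extension `K`, `Spec K ⟶ Spec k` is geometrically irreducible.
-/

set_option autoImplicit false
set_option linter.style.haveILetI false
universe u

namespace Groth.Agent.H13

open CategoryTheory AlgebraicGeometry Limits TensorProduct

theorem geometricallyIrreducible_specMap_of_isAlgClosed (k K : Type u) [Field k] [IsAlgClosed k]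
    [Field K] [Algebra k K] :
    GeometricallyIrreducible (Spec.map (CommRingCat.ofHom (algebraMap k K))) := by
  refine ⟨geometrically_iff_of_commRing_of_isClosedUnderIsomorphisms.mpr fun L _ _ => ?_⟩
  haveI : IsDomain (K ⊗[k] L) := isDomain_tensorProduct_of_isAlgClosed k K L
  exact (pullbackSpecIso k K L).hom.homeomorph.irreducibleSpace_iff.mpr inferInstance

theorem geometricallyConnected_specMap_of_isAlgClosed (k K : Type u) [Field k] [IsAlgClosed k]
    [Field K] [Algebra k K] :
    GeometricallyConnected (Spec.map (CommRingCat.ofHom (algebraMap k K))) := by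
  refine ⟨geometrically_iff_of_commRing_of_isClosedUnderIsomorphisms.mpr fun L _ _ => ?_⟩
  haveI : IsDomain (K ⊗[k] L) := isDomain_tensorProduct_of_isAlgClosed k K L
  haveI : IrreducibleSpace ↥(Spec (CommRingCat.of (K ⊗[k] L))) := inferInstance
  exact (pullbackSpecIso k K L).hom.homeomorph.connectedSpace_iff.mpr inferInstance

/-- The projection `X ×_k K ⟶ X` is an open map. -/
theorem isOpenMap_pullback_fst_specMap {k K : Type u} [Field k] [Field K] [Algebra k K]
    {X : Scheme.{u}} (f : X ⟶ Spec (CommRingCat.of k)) :
    IsOpenMap (pullback.fst f (Spec.map (CommRingCat.ofHom (algebraMap k K)))).base :=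
  (pullback.fst f (Spec.map (CommRingCat.ofHom (algebraMap k K)))).isOpenMap

/-- For an open continuous surjection with connected fibres, the preimage of any connected
set is connected. -/
theorem isConnected_preimage_of_isOpenMap {α β : Type*} [TopologicalSpace α] [TopologicalSpace β]
    {f : α → β} (hf : IsOpenMap f) (hc : Continuous f) (hs : Function.Surjective f)
    (hfib : ∀ y, IsConnected (f ⁻¹' {y})) {Z : Set β} (hZ : IsConnected Z) :
    IsConnected (f ⁻¹' Z) := by
  let g := Z.restrictPreimage f
  have hg : IsOpenMap g := hf.restrictPreimage Z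
  have hgc : Continuous g := hc.restrictPreimage
  have hgs : Function.Surjective g := (Set.restrictPreimage_surjective Z hs)
  have hgq : Topology.IsQuotientMap g := hg.isQuotientMap hgc hgs
  haveI : ConnectedSpace Z := isConnected_iff_connectedSpace.mp hZ
  have hgfib : ∀ z : Z, IsConnected (g ⁻¹' {z}) := by
    intro z
    have h1 : (Subtype.val : f ⁻¹' Z → α) '' (g ⁻¹' {z}) = f ⁻¹' {z.1} := by
      ext a
      simp only [Set.mem_image, Set.mem_preimage, Set.mem_singleton_iff, Subtype.exists,
        exists_and_right, exists_eq_right]
      constructor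
      · rintro ⟨ha, h⟩
        exact congrArg Subtype.val h
      · intro h
        refine ⟨by rw [h]; exact z.2, ?_⟩
        exact Subtype.ext h
    have h2 := hfib z.1
    rw [← h1] at h2
    refine ⟨?_, ?_⟩
    · obtain ⟨a, ha⟩ := h2.nonempty
      obtain ⟨b, hb, -⟩ := ha
      exact ⟨b, hb⟩
    · exact (Topology.IsInducing.subtypeVal.isPreconnected_image).mp h2.isPreconnected
  have h3 : IsConnected (g ⁻¹' Set.univ) :=
    hgq.isCoinducing.isConnected_preimage_of_isClosed hgfib isClosed_univ isConnected_univ
  rw [Set.preimage_univ] at h3
  exact isConnected_iff_connectedSpace.mpr (connectedSpace_iff_univ.mpr h3)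

end Groth.Agent.H13
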