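import Mathlib
import Groth.Agent.H15.AssFlat
import Groth.Agent.H10.AnUnramDVR

/-!
# A criterion for reducedness along a flat map (Stacks 0330, relative form)

`R → S` flat, both Noetherian, `R` a domain, `x ≠ 0` in `R` mapping into the Jacobson radical of
`S`.  If for every `p ∈ Ass_R(R/xR)` the ring `R_p` is a DVR and `S/pS` is reduced, then `S` is
reduced.
-/

set_option autoImplicit false
set_option linter.style.haveILetI false
set_option linter.unusedSectionVars false
universe u

open TensorProduct

namespace Groth.Agent.H13.AnUnramLemma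

variable {R S : Type u} [CommRing R] [IsNoetherianRing R] [CommRing S]
  [Algebra R S] [Module.Flat R S]

/-- `Ass_S(S/xS) ⊆ ⋃_{p ∈ Ass_R(R/xR)} Ass_S(S/pS)` for flat `R → S`. -/
theorem exists_of_mem_associatedPrimes (x : R) (q : Ideal S)
    (hq : q ∈ associatedPrimes S (S ⧸ Ideal.span {algebraMap R S x})) :
    ∃ p ∈ associatedPrimes R (R ⧸ Ideal.span {x}),
      q ∈ associatedPrimes S (S ⧸ p.map (algebraMap R S)) := by
  have hmap : (Ideal.span {x}).map (algebraMap R S) = Ideal.span {algebraMap R S x} := by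
    rw [Ideal.map_span, Set.image_singleton]
  have e1 : (S ⧸ Ideal.span {algebraMap R S x}) ≃ₗ[S] S ⊗[R] (R ⧸ Ideal.span {x}) :=
    (Submodule.quotEquivOfEq _ _ hmap.symm).trans
      (Algebra.TensorProduct.quotIdealMapEquivTensorQuot S (Ideal.span {x})).toLinearEquiv
  rw [LinearEquiv.AssociatedPrimes.eq e1, Groth.Agent.H15.AssFlat.ass_tensor_eq] at hq
  simp only [Set.mem_iUnion] at hq
  obtain ⟨p, hp, hqp⟩ := hq
  refine ⟨p, hp, ?_⟩
  have hEq : p.map (algebraMap R S) • (⊤ : Submodule S S) = p.map (algebraMap R S) := by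
    rw [smul_eq_mul, Ideal.mul_top]
  rwa [LinearEquiv.AssociatedPrimes.eq (Submodule.quotEquivOfEq _ _ hEq)] at hqp

variable [IsDomain R] [IsNoetherianRing S]

/-- the key step: a square-zero element of `S` is divisible by `x` -/
theorem mem_span_of_sq_eq_zero (x : R)
    (h : ∀ p ∈ associatedPrimes R (R ⧸ Ideal.span {x}), ∀ [p.IsPrime],
      IsDiscreteValuationRing (Localization.AtPrime p) ∧
        IsReduced (S ⧸ p.map (algebraMap R S)))
    (y : S) (hy : y * y = 0) : y ∈ Ideal.span {algebraMap R S x} := by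
  by_contra hmem
  have hne : (Ideal.Quotient.mk (Ideal.span {algebraMap R S x}) y) ≠ 0 := by
    rwa [Ne, Ideal.Quotient.eq_zero_iff_mem]
  obtain ⟨q, hqass, hqle⟩ := exists_le_isAssociatedPrime_of_isNoetherianRing (R := S) _ hne
  haveI hqp : q.IsPrime := hqass.isPrime
  obtain ⟨p, hp, hqp'⟩ := exists_of_mem_associatedPrimes x q hqass
  haveI : p.IsPrime := IsAssociatedPrime.isPrime hp
  obtain ⟨hdvr, hred⟩ := h p hp
  haveI := hdvr
  obtain ⟨hdom, -⟩ := Groth.Agent.H10.AnUnram.main R S p hred q hqp'
  haveI := hdom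
  have h0 : algebraMap S (Localization.AtPrime q) y = 0 := by
    have : algebraMap S (Localization.AtPrime q) y * algebraMap S (Localization.AtPrime q) y = 0 := by
      rw [← map_mul, hy, map_zero]
    exact mul_self_eq_zero.mp this
  obtain ⟨s, hs⟩ := (IsLocalization.map_eq_zero_iff q.primeCompl (Localization.AtPrime q) y).mp h0
  have hsq : (s : S) ∈ q := by
    apply hqle
    rw [Submodule.mem_colon_singleton, Submodule.mem_bot]
    change (s : S) • (Ideal.Quotient.mk (Ideal.span {algebraMap R S x}) y) = 0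
    rw [← Ideal.Quotient.mk_eq_mk, ← Submodule.Quotient.mk_smul, smul_eq_mul, hs]
    rfl
  exact s.2 hsq

/-- **Stacks 0330, relative form.** -/
theorem isReduced_of_flat (x : R) (hx : x ≠ 0)
    (hjac : algebraMap R S x ∈ (⊥ : Ideal S).jacobson)
    (h : ∀ p ∈ associatedPrimes R (R ⧸ Ideal.span {x}), ∀ [p.IsPrime],
      IsDiscreteValuationRing (Localization.AtPrime p) ∧
        IsReduced (S ⧸ p.map (algebraMap R S))) : IsReduced S := by
  set x' : S := algebraMap R S x with hx'
  have hreg : IsSMulRegular S x' :=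
    IsSMulRegular.of_flat (IsRegular.of_ne_zero hx).left.isSMulRegular
  have key : ∀ n : ℕ, ∀ y : S, y * y = 0 → y ∈ Ideal.span {x'} ^ n := by
    intro n
    induction n with
    | zero => intro y _; simp
    | succ n ih =>
      intro y hy
      obtain ⟨z, rfl⟩ := Ideal.mem_span_singleton'.mp (mem_span_of_sq_eq_zero x h y hy)
      have hz : z * z = 0 := by
        apply hreg
        apply hreg
        simp only [smul_eq_mul, mul_zero]
        rw [← hy]
        ring
      rw [pow_succ]
      exact Ideal.mul_mem_mul (ih z hz) (Ideal.mem_span_singleton_self x')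
  have hle : Ideal.span {x'} ≤ (⊥ : Ideal S).jacobson := by
    rw [Ideal.span_singleton_le_iff_mem]
    exact hjac
  have hinf := Ideal.iInf_pow_smul_eq_bot_of_le_jacobson (M := S) (Ideal.span {x'}) hle
  rw [isReduced_iff_pow_one_lt 2 (by norm_num)]
  intro y hy
  have hy' : y * y = 0 := by rw [← sq]; exact hy
  have : y ∈ (⨅ i : ℕ, Ideal.span {x'} ^ i • ⊤ : Submodule S S) := by
    rw [Submodule.mem_iInf]
    intro i
    rw [smul_eq_mul, Ideal.mul_top]
    exact key i y hy'
  rw [hinf] at this
  exact this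

end Groth.Agent.H13.AnUnramLemma
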