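import Mathlib
import Groth.Prelude.Def_Found
import Groth.Agent.H44.AdicLemmas
import Groth.Agent.H38.N2FracExt

/-!
# Tate's lemma on N-2 rings: abstract core

`R` a Noetherian domain, `x ∈ R` with `xR` prime, `R` `x`-adically complete and `R/xR` N-2.
`S ⊇ R` a domain with `S^Q ⊆ R`, containing `y` with `y^Q = x`, "closed under division by `y`",
and of bounded rank over `R`.  Then `S` is a finite `R`-module.
-/

set_option autoImplicit false
set_option linter.style.haveILetI false
universe u

namespace Groth.Agent.H13.TateCore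

variable {R S : Type u} [CommRing R] [IsDomain R] [CommRing S] [IsDomain S] [Algebra R S]

section Basic

variable (hinj : Function.Injective (algebraMap R S)) (x : R)
  [hxp : (Ideal.span ({x} : Set R)).IsPrime]
  (Q : ℕ) (y : S) (hy : y ^ Q = algebraMap R S x)
  (ha : ∀ s : S, ∃ r : R, s ^ Q = algebraMap R S r)
  (hb : ∀ (a : S) (r : R), a ^ Q = algebraMap R S (x * r) → ∃ b : S, a = y * b)

include hinj hy ha in
theorem mem_span_of_algebraMap_mem (r : R) (hr : algebraMap R S r ∈ Ideal.span ({y} : Set S)) :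
    r ∈ Ideal.span ({x} : Set R) := by
  obtain ⟨b, hb'⟩ := Ideal.mem_span_singleton'.1 hr
  obtain ⟨r', hr'⟩ := ha b
  have h1 : algebraMap R S (r ^ Q) = algebraMap R S (r' * x) := by
    rw [map_pow, ← hb', mul_pow, hr', hy, map_mul]
  have h2 : r ^ Q = r' * x := hinj h1
  have h3 : r ^ Q ∈ Ideal.span ({x} : Set R) := by
    rw [h2]; exact Ideal.mem_span_singleton'.2 ⟨r', rfl⟩
  exact hxp.mem_of_pow_mem Q h3

include hinj hy ha hb in
theorem isPrime_span : (Ideal.span ({y} : Set S)).IsPrime := by
  rw [Ideal.isPrime_iff]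
  constructor
  · intro htop
    have h1 : algebraMap R S 1 ∈ Ideal.span ({y} : Set S) := by rw [htop]; trivial
    have := mem_span_of_algebraMap_mem hinj x Q y hy ha 1 h1
    exact hxp.ne_top ((Ideal.eq_top_iff_one _).2 this)
  · intro a b hab
    obtain ⟨c, hc⟩ := Ideal.mem_span_singleton'.1 hab
    obtain ⟨ra, hra⟩ := ha a
    obtain ⟨rb, hrb⟩ := ha b
    obtain ⟨rc, hrc⟩ := ha c
    have h1 : algebraMap R S (ra * rb) = algebraMap R S (rc * x) := by
      rw [map_mul, ← hra, ← hrb, ← mul_pow, ← hc, mul_pow, hrc, hy, map_mul]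
    have h2 : ra * rb = rc * x := hinj h1
    have h3 : ra * rb ∈ Ideal.span ({x} : Set R) := by
      rw [h2]; exact Ideal.mem_span_singleton'.2 ⟨rc, rfl⟩
    rcases hxp.mem_or_mem h3 with h | h
    · left
      obtain ⟨t, ht⟩ := Ideal.mem_span_singleton'.1 h
      obtain ⟨b', hb'⟩ := hb a t (by rw [hra, ← ht, mul_comm])
      exact Ideal.mem_span_singleton'.2 ⟨b', by rw [hb', mul_comm]⟩
    · right
      obtain ⟨t, ht⟩ := Ideal.mem_span_singleton'.1 h
      obtain ⟨b', hb'⟩ := hb b t (by rw [hrb, ← ht, mul_comm])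
      exact Ideal.mem_span_singleton'.2 ⟨b', by rw [hb', mul_comm]⟩

include hinj in
theorem linearIndependent_of_mod (hx0 : x ≠ 0) [IsHausdorff (Ideal.span ({x} : Set R)) R]
    {n : ℕ} (v : Fin n → S)
    (hv : ∀ g : Fin n → R, ∑ i, g i • v i ∈ Ideal.span ({y} : Set S) →
      ∀ i, g i ∈ Ideal.span ({x} : Set R)) :
    LinearIndependent R v := by
  have key : ∀ N : ℕ, ∀ g : Fin n → R, ∑ i, g i • v i = 0 →
      ∀ i, g i ∈ Ideal.span ({x} : Set R) ^ N := by
    intro N
    induction N with
    | zero => intro g _ i; simp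
    | succ N ih =>
      intro g hg
      have h1 := ih g hg
      have h2 : ∀ i, ∃ t : R, t * x ^ N = g i := fun i => by
        have := h1 i
        rw [Ideal.span_singleton_pow] at this
        exact Ideal.mem_span_singleton'.1 this
      choose g' hg' using h2
      have h3 : ∑ i, g' i • v i = 0 := by
        have h4 : (x ^ N) • ∑ i, g' i • v i = 0 := by
          rw [Finset.smul_sum, ← hg]
          refine Finset.sum_congr rfl fun i _ => ?_
          rw [smul_smul, mul_comm, hg' i]
        rw [Algebra.smul_def] at h4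
        rcases mul_eq_zero.1 h4 with h | h
        · rw [← map_zero (algebraMap R S)] at h
          exact absurd (hinj h) (pow_ne_zero N hx0)
        · exact h
      have h5 := hv g' (by rw [h3]; exact zero_mem _)
      intro i
      rw [← hg' i, pow_succ']
      exact Ideal.mul_mem_mul (h5 i) (by
        rw [Ideal.span_singleton_pow]; exact Ideal.mem_span_singleton_self _)
  rw [Fintype.linearIndependent_iff]
  intro g hg i
  apply IsHausdorff.haus (I := Ideal.span ({x} : Set R)) inferInstance
  intro N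
  rw [SModEq.zero, smul_eq_mul, Ideal.mul_top]
  exact key N g hg i

end Basic

section PowQuot

variable {A B : Type*} [CommRing A] [CommRing B] [Algebra A B]

/-- if `B/yB` is a finite `A`-module then so is `B/y^nB`. -/
theorem finite_quotient_span_pow (y : B) (h : Module.Finite A (B ⧸ Ideal.span ({y} : Set B)))
    (n : ℕ) : Module.Finite A (B ⧸ Ideal.span ({y ^ n} : Set B)) := by
  induction n with
  | zero =>
    have : Subsingleton (B ⧸ Ideal.span ({y ^ 0} : Set B)) := by
      rw [pow_zero, Ideal.span_singleton_one]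
      exact Ideal.Quotient.subsingleton_iff.2 rfl
    infer_instance
  | succ n ih =>
    -- `μ : B/y → B/y^(n+1)`, multiplication by `y^n`
    let μS : (B ⧸ Ideal.span ({y} : Set B)) →ₗ[B] (B ⧸ Ideal.span ({y ^ (n + 1)} : Set B)) :=
      Submodule.liftQ _ ((Submodule.mkQ (Ideal.span ({y ^ (n + 1)} : Set B))).comp
        (LinearMap.mulLeft B (y ^ n))) (by
        intro b hb
        obtain ⟨c, rfl⟩ := Ideal.mem_span_singleton'.1 hb
        rw [LinearMap.mem_ker, LinearMap.comp_apply, LinearMap.mulLeft_apply,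
          Submodule.mkQ_apply, Submodule.Quotient.mk_eq_zero]
        exact Ideal.mem_span_singleton'.2 ⟨c, by ring⟩)
    let μ : (B ⧸ Ideal.span ({y} : Set B)) →ₗ[A] (B ⧸ Ideal.span ({y ^ (n + 1)} : Set B)) :=
      μS.restrictScalars A
    let N : Submodule A (B ⧸ Ideal.span ({y ^ (n + 1)} : Set B)) :=
      (LinearMap.range μS).restrictScalars A
    haveI hN : Module.Finite A N :=
      Module.Finite.of_surjective (μ.codRestrict N (fun z => ⟨z, rfl⟩))
        (fun z => by
          obtain ⟨m, hm⟩ := z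
          obtain ⟨w, hw⟩ := hm
          exact ⟨w, Subtype.ext hw⟩)
    -- `B/y^n → (B/y^(n+1))/N`
    let νS : (B ⧸ Ideal.span ({y ^ n} : Set B)) →ₗ[B]
        ((B ⧸ Ideal.span ({y ^ (n + 1)} : Set B)) ⧸ (LinearMap.range μS)) :=
      Submodule.liftQ _ ((Submodule.mkQ (LinearMap.range μS)).comp
        (Submodule.mkQ (Ideal.span ({y ^ (n + 1)} : Set B)))) (by
        intro b hb
        obtain ⟨c, rfl⟩ := Ideal.mem_span_singleton'.1 hb
        rw [LinearMap.mem_ker, LinearMap.comp_apply, Submodule.mkQ_apply, Submodule.mkQ_apply,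
          Submodule.Quotient.mk_eq_zero]
        refine ⟨Submodule.Quotient.mk c, ?_⟩
        show Submodule.Quotient.mk (y ^ n * c) = _
        rw [mul_comm])
    have hνsurj : Function.Surjective νS := by
      intro z
      obtain ⟨w, rfl⟩ := Submodule.Quotient.mk_surjective _ z
      obtain ⟨b, rfl⟩ := Submodule.Quotient.mk_surjective _ w
      exact ⟨Submodule.Quotient.mk b, rfl⟩
    haveI hQ : Module.Finite A ((B ⧸ Ideal.span ({y ^ (n + 1)} : Set B)) ⧸ N) := by
      haveI : Module.Finite A
          ((B ⧸ Ideal.span ({y ^ (n + 1)} : Set B)) ⧸ (LinearMap.range μS)) :=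
        Module.Finite.of_surjective (νS.restrictScalars A) hνsurj
      exact Module.Finite.equiv
        (Submodule.Quotient.restrictScalarsEquiv A (LinearMap.range μS)).symm
    exact Module.Finite.of_submodule_quotient N

end PowQuot

section Core

open scoped nonZeroDivisors

attribute [local instance] FractionRing.liftAlgebra in
/-- **Tate's lemma, abstract core.** -/
theorem core [IsNoetherianRing R] (hinj : Function.Injective (algebraMap R S)) (x : R) (hx0 : x ≠ 0)
    [hxp : (Ideal.span ({x} : Set R)).IsPrime] [IsAdicComplete (Ideal.span ({x} : Set R)) R]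
    (h2 : CAlg.IsN2 (R ⧸ Ideal.span ({x} : Set R)))
    (Q : ℕ) (hQ : 0 < Q) (y : S) (hy : y ^ Q = algebraMap R S x)
    (ha : ∀ s : S, ∃ r : R, s ^ Q = algebraMap R S r)
    (hb : ∀ (a : S) (r : R), a ^ Q = algebraMap R S (x * r) → ∃ b : S, a = y * b)
    (d : ℕ) (hd : ∀ (n : ℕ) (v : Fin n → S), LinearIndependent R v → n ≤ d) :
    Module.Finite R S := by
  classical
  have hP : (Ideal.span ({y} : Set S)).IsPrime := isPrime_span hinj x Q y hy ha hb
  have hle : Ideal.span ({x} : Set R) ≤ (Ideal.span ({y} : Set S)).comap (algebraMap R S) := by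
    rw [Ideal.span_le, Set.singleton_subset_iff]
    show algebraMap R S x ∈ Ideal.span ({y} : Set S)
    rw [← hy]
    exact Ideal.pow_mem_of_mem _ (Ideal.mem_span_singleton_self y) Q hQ
  let φ : (R ⧸ Ideal.span ({x} : Set R)) →+* (S ⧸ Ideal.span ({y} : Set S)) :=
    Ideal.quotientMap _ (algebraMap R S) hle
  have hφinj : Function.Injective φ := by
    apply Ideal.quotientMap_injective'
    intro r hr
    exact mem_span_of_algebraMap_mem hinj x Q y hy ha r hr
  letI : Algebra (R ⧸ Ideal.span ({x} : Set R)) (S ⧸ Ideal.span ({y} : Set S)) := φ.toAlgebra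
  haveI : IsScalarTower R (R ⧸ Ideal.span ({x} : Set R)) (S ⧸ Ideal.span ({y} : Set S)) :=
    IsScalarTower.of_algebraMap_eq (fun r => rfl)
  haveI : FaithfulSMul (R ⧸ Ideal.span ({x} : Set R)) (S ⧸ Ideal.span ({y} : Set S)) :=
    (faithfulSMul_iff_algebraMap_injective _ _).2 hφinj
  haveI : Algebra.IsIntegral (R ⧸ Ideal.span ({x} : Set R)) (S ⧸ Ideal.span ({y} : Set S)) := by
    refine ⟨fun z => ?_⟩
    obtain ⟨s, rfl⟩ := Ideal.Quotient.mk_surjective z
    obtain ⟨r, hr⟩ := ha s
    refine IsIntegral.of_pow hQ ?_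
    have : (Ideal.Quotient.mk (Ideal.span ({y} : Set S)) s) ^ Q =
        algebraMap (R ⧸ Ideal.span ({x} : Set R)) (S ⧸ Ideal.span ({y} : Set S))
          (Ideal.Quotient.mk _ r) := by
      rw [← map_pow, hr]; rfl
    rw [this]
    exact isIntegral_algebraMap
  -- rank bound
  have hrank : Module.rank (R ⧸ Ideal.span ({x} : Set R)) (S ⧸ Ideal.span ({y} : Set S)) ≤ d := by
    apply rank_le
    intro s hs
    let e : Fin s.card ≃ s := s.equivFin.symm
    have hli : LinearIndependent (R ⧸ Ideal.span ({x} : Set R))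
        (fun i : Fin s.card => ((e i : s) : S ⧸ Ideal.span ({y} : Set S))) :=
      hs.comp e e.injective
    have hlift : ∀ i : Fin s.card, ∃ t : S,
        Ideal.Quotient.mk (Ideal.span ({y} : Set S)) t = ((e i : s) : S ⧸ Ideal.span ({y} : Set S)) :=
      fun i => Ideal.Quotient.mk_surjective _
    choose v hv using hlift
    apply hd s.card v
    apply linearIndependent_of_mod hinj x y hx0 v
    intro g hg i
    rw [Fintype.linearIndependent_iff] at hli
    have h1 : ∑ j, (Ideal.Quotient.mk (Ideal.span ({x} : Set R)) (g j)) •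
        ((e j : s) : S ⧸ Ideal.span ({y} : Set S)) = 0 := by
      have h3 : Ideal.Quotient.mk (Ideal.span ({y} : Set S)) (∑ j, g j • v j) = 0 :=
        Ideal.Quotient.eq_zero_iff_mem.2 hg
      rw [map_sum] at h3
      rw [← h3]
      refine Finset.sum_congr rfl fun j _ => ?_
      rw [← hv j, Algebra.smul_def, Algebra.smul_def, map_mul]
      rfl
    exact Ideal.Quotient.eq_zero_iff_mem.1 (hli _ h1 i)
  -- the fraction field of `S/y` is finite over that of `R/x`
  have hrank' : Module.rank (FractionRing (R ⧸ Ideal.span ({x} : Set R)))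
      (FractionRing (S ⧸ Ideal.span ({y} : Set S))) ≤ d := by
    rw [Algebra.IsAlgebraic.rank_fractionRing]
    exact hrank
  haveI : FiniteDimensional (FractionRing (R ⧸ Ideal.span ({x} : Set R)))
      (FractionRing (S ⧸ Ideal.span ({y} : Set S))) :=
    Module.rank_lt_aleph0_iff.1 (lt_of_le_of_lt hrank' (Cardinal.natCast_lt_aleph0))
  -- `S/y` is finite over `R/x`
  have hfinIC : Module.Finite (R ⧸ Ideal.span ({x} : Set R))
      (integralClosure (R ⧸ Ideal.span ({x} : Set R))
        (FractionRing (S ⧸ Ideal.span ({y} : Set S)))) :=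
    Groth.Agent.H38.finite_integralClosure_of_isN2_of_finite
      (R ⧸ Ideal.span ({x} : Set R)) (FractionRing (R ⧸ Ideal.span ({x} : Set R)))
      (FractionRing (S ⧸ Ideal.span ({y} : Set S))) h2
  haveI : IsNoetherian (R ⧸ Ideal.span ({x} : Set R))
      (integralClosure (R ⧸ Ideal.span ({x} : Set R))
        (FractionRing (S ⧸ Ideal.span ({y} : Set S)))) := isNoetherian_of_isNoetherianRing_of_finite _ _
  have hfinSbar : Module.Finite (R ⧸ Ideal.span ({x} : Set R)) (S ⧸ Ideal.span ({y} : Set S)) := by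
    let ι : (S ⧸ Ideal.span ({y} : Set S)) →ₗ[R ⧸ Ideal.span ({x} : Set R)]
        (integralClosure (R ⧸ Ideal.span ({x} : Set R))
          (FractionRing (S ⧸ Ideal.span ({y} : Set S)))) :=
      ((IsScalarTower.toAlgHom (R ⧸ Ideal.span ({x} : Set R)) (S ⧸ Ideal.span ({y} : Set S))
        (FractionRing (S ⧸ Ideal.span ({y} : Set S)))).codRestrict _ (fun z =>
          (Algebra.IsIntegral.isIntegral (R := R ⧸ Ideal.span ({x} : Set R)) z).map
            (IsScalarTower.toAlgHom (R ⧸ Ideal.span ({x} : Set R)) (S ⧸ Ideal.span ({y} : Set S))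
              (FractionRing (S ⧸ Ideal.span ({y} : Set S)))))).toLinearMap
    have hι : Function.Injective ι := by
      intro a b hab
      have := congrArg Subtype.val hab
      exact IsFractionRing.injective (S ⧸ Ideal.span ({y} : Set S))
        (FractionRing (S ⧸ Ideal.span ({y} : Set S))) this
    exact Module.Finite.of_injective ι hι
  have hfinSbarR : Module.Finite R (S ⧸ Ideal.span ({y} : Set S)) :=
    Module.Finite.trans (R ⧸ Ideal.span ({x} : Set R)) _
  have hfinQ : Module.Finite R (S ⧸ Ideal.span ({y ^ Q} : Set S)) :=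
    finite_quotient_span_pow y hfinSbarR Q
  -- `(x) • ⊤ = (y^Q)`
  have hsmul : ∀ n : ℕ, ((Ideal.span ({x} : Set R)) ^ n • ⊤ : Submodule R S) =
      (Ideal.span ({(y ^ Q) ^ n} : Set S)).restrictScalars R := by
    intro n
    rw [Ideal.smul_top_eq_map, Ideal.map_pow, Ideal.map_span, Set.image_singleton, ← hy,
      Ideal.span_singleton_pow]
  -- Hausdorff
  haveI : IsHausdorff (Ideal.span ({x} : Set R)) S := by
    refine ⟨fun s hs => ?_⟩
    obtain ⟨r, hr⟩ := ha s
    have hr0 : r = 0 := by
      apply IsHausdorff.haus (I := Ideal.span ({x} : Set R)) inferInstance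
      intro n
      rw [SModEq.zero, smul_eq_mul, Ideal.mul_top]
      have h1 := hs n
      rw [SModEq.zero, hsmul n] at h1
      obtain ⟨t, ht⟩ := Ideal.mem_span_singleton'.1 h1
      obtain ⟨rt, hrt⟩ := ha t
      have h3 : algebraMap R S r = algebraMap R S (rt * (x ^ n) ^ Q) := by
        rw [← hr, ← ht, mul_pow, hrt, map_mul, map_pow, map_pow, hy]
      rw [hinj h3, Ideal.span_singleton_pow]
      refine Ideal.mem_span_singleton'.2 ⟨rt * (x ^ n) ^ (Q - 1), ?_⟩
      rw [mul_assoc, ← pow_succ, Nat.sub_add_cancel hQ]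
    rw [hr0, map_zero] at hr
    exact pow_eq_zero_iff (Nat.pos_iff_ne_zero.1 hQ) |>.1 hr
  apply Groth.Agent.H44.finite_of_finite_quotient (Ideal.span ({x} : Set R)) S
  have h1 : (Ideal.span ({x} : Set R) • ⊤ : Submodule R S) =
      (Ideal.span ({y ^ Q} : Set S)).restrictScalars R := by
    have := hsmul 1
    rwa [pow_one, pow_one] at this
  haveI : Module.Finite R (S ⧸ (Ideal.span ({y ^ Q} : Set S)).restrictScalars R) :=
    Module.Finite.equiv (Submodule.Quotient.restrictScalarsEquiv R (Ideal.span ({y ^ Q} : Set S))).symm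
  exact Module.Finite.equiv (Submodule.quotEquivOfEq _ _ h1.symm)

end Core

end Groth.Agent.H13.TateCore
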