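import Mathlib
import Groth.Prelude.Def_Found
import Groth.Agent.H13.TateCore
import Groth.Agent.S4562
import Groth.Agent.H47.N2Equiv

/-!
# Tate's lemma: a normal Noetherian domain `R`, `x`-adically complete with `R/xR` an N-2 domain,
is N-2.
-/

set_option autoImplicit false
set_option linter.style.haveILetI false
set_option linter.unusedSectionVars false
universe u

open IntermediateField

namespace Groth.Agent.H13.TateN2

section Field

variable {K Ω : Type u} [Field K] [Field Ω] [Algebra K Ω] (q e : ℕ) [ExpChar K q]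

/-- the intermediate field of elements whose `q^e`-th power lies in `K`. -/
noncomputable def rootField : IntermediateField K Ω :=
  haveI : ExpChar Ω q := expChar_of_injective_algebraMap (algebraMap K Ω).injective q
  { carrier := {z | z ^ q ^ e ∈ (algebraMap K Ω).range}
    mul_mem' := by
      rintro a b ⟨a', ha⟩ ⟨b', hb⟩
      exact ⟨a' * b', by rw [map_mul, ha, hb, mul_pow]⟩
    add_mem' := by
      rintro a b ⟨a', ha⟩ ⟨b', hb⟩
      exact ⟨a' + b', by rw [map_add, ha, hb, add_pow_expChar_pow]⟩
    algebraMap_mem' := fun r => ⟨r ^ q ^ e, by rw [map_pow]⟩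
    inv_mem' := by
      rintro a ⟨a', ha⟩
      exact ⟨a'⁻¹, by rw [map_inv₀, ha, inv_pow]⟩ }

theorem mem_rootField {z : Ω} :
    z ∈ rootField (K := K) (Ω := Ω) q e ↔ z ^ q ^ e ∈ (algebraMap K Ω).range := Iff.rfl

end Field

section Main

variable (R : Type u) [CommRing R] [IsDomain R] [IsNoetherianRing R] [IsIntegrallyClosed R]
  (x : R) [hxp : (Ideal.span ({x} : Set R)).IsPrime]
  [IsAdicComplete (Ideal.span ({x} : Set R)) R]

theorem finite_integralClosure_of_purelyInseparable (hx0 : x ≠ 0)
    (h2 : CAlg.IsN2 (R ⧸ Ideal.span ({x} : Set R)))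
    (K' : Type u) [Field K'] [Algebra R K'] [Algebra (FractionRing R) K']
    [IsScalarTower R (FractionRing R) K'] [FiniteDimensional (FractionRing R) K']
    [IsPurelyInseparable (FractionRing R) K'] :
    Module.Finite R (integralClosure R K') := by
  classical
  let K := FractionRing R
  let q := ringExpChar K
  haveI : ExpChar K q := ringExpChar.expChar K
  let e := IsPurelyInseparable.exponent K K'
  have hexp : ∀ a : K', a ^ q ^ e ∈ (algebraMap K K').range :=
    IsPurelyInseparable.exponent_def' K q
  have hQ : 0 < q ^ e := pow_pos (expChar_pos K q) e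
  let Ω := AlgebraicClosure K'
  haveI : IsScalarTower K K' Ω := inferInstance
  haveI : IsScalarTower R K' Ω := inferInstance
  haveI : IsScalarTower R K Ω := .of_algebraMap_eq (fun r => by
    rw [IsScalarTower.algebraMap_apply R K' Ω, IsScalarTower.algebraMap_apply K K' Ω,
      ← IsScalarTower.algebraMap_apply R K K'])
  have hRΩ : Function.Injective (algebraMap R Ω) := by
    rw [IsScalarTower.algebraMap_eq R K Ω]
    exact (algebraMap K Ω).injective.comp (IsFractionRing.injective R K)
  obtain ⟨y, hy⟩ := IsAlgClosed.exists_pow_nat_eq (algebraMap R Ω x) hQ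
  let f : K' →ₐ[K] Ω := IsScalarTower.toAlgHom K K' Ω
  let L : IntermediateField K Ω := f.fieldRange ⊔ K⟮y⟯
  have hyK : y ^ q ^ e = algebraMap K Ω (algebraMap R K x) := by
    rw [hy, ← IsScalarTower.algebraMap_apply R K Ω]
  have hyint : IsIntegral K y := by
    refine IsIntegral.of_pow hQ ?_
    rw [hyK]
    exact isIntegral_algebraMap
  haveI : FiniteDimensional K f.fieldRange := by
    let g : K' →ₗ[K] f.fieldRange :=
      { toFun := fun z => ⟨f z, ⟨z, rfl⟩⟩
        map_add' := fun a b => Subtype.ext (map_add f a b)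
        map_smul' := fun c a => Subtype.ext (map_smul f c a) }
    refine Module.Finite.of_surjective g ?_
    rintro ⟨_, ⟨z, rfl⟩⟩
    exact ⟨z, rfl⟩
  haveI : FiniteDimensional K K⟮y⟯ := adjoin.finiteDimensional hyint
  haveI : FiniteDimensional K L := finiteDimensional_sup _ _
  -- `L ≤ rootField`
  have hLT : L ≤ rootField (K := K) (Ω := Ω) q e := by
    apply sup_le
    · rintro _ ⟨z, rfl⟩
      obtain ⟨k, hk⟩ := hexp z
      rw [mem_rootField]
      refine ⟨k, ?_⟩
      show algebraMap K Ω k = (f z) ^ q ^ e
      rw [← map_pow, ← hk]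
      rfl
    · rw [adjoin_simple_le_iff, mem_rootField]
      exact ⟨_, hyK.symm⟩
  have hfL : ∀ z : K', f z ∈ L := fun z =>
    (le_sup_left : f.fieldRange ≤ L) ⟨z, rfl⟩
  have hyL : y ∈ L := (le_sup_right : K⟮y⟯ ≤ L) (mem_adjoin_simple_self K y)
  -- the integral closure
  let S := integralClosure R L
  have hRL : Function.Injective (algebraMap R L) := by
    intro a b hab
    apply hRΩ
    exact congrArg Subtype.val hab
  have hinj : Function.Injective (algebraMap R S) := by
    intro a b hab
    apply hRL
    exact congrArg Subtype.val hab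
  let yL : L := ⟨y, hyL⟩
  have hyLpow : yL ^ q ^ e = algebraMap R L x := Subtype.ext hy
  have hyLint : IsIntegral R yL := by
    refine IsIntegral.of_pow hQ ?_
    rw [hyLpow]
    exact isIntegral_algebraMap
  let yS : S := ⟨yL, hyLint⟩
  have hyS : yS ^ q ^ e = algebraMap R S x := Subtype.ext hyLpow
  have hxL : algebraMap R L x ≠ 0 := by
    rw [← map_zero (algebraMap R L)]
    exact fun h => hx0 (hRL h)
  have hyL0 : yL ≠ 0 := by
    intro h
    rw [h, zero_pow (Nat.pos_iff_ne_zero.1 hQ)] at hyLpow
    exact hxL hyLpow.symm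
  have ha : ∀ s : S, ∃ r : R, s ^ q ^ e = algebraMap R S r := by
    intro s
    obtain ⟨k, hk⟩ := (mem_rootField q e).1 (hLT s.1.2)
    have hk' : algebraMap K L k = s.1 ^ q ^ e := Subtype.ext hk
    have h1 : IsIntegral R (algebraMap K L k) := by
      rw [hk']
      exact s.2.pow _
    rw [isIntegral_algebraMap_iff (algebraMap K L).injective] at h1
    obtain ⟨r, hr⟩ := IsIntegrallyClosed.isIntegral_iff.1 h1
    refine ⟨r, Subtype.ext ?_⟩
    show s.1 ^ q ^ e = algebraMap R L r
    rw [← hk', ← hr, ← IsScalarTower.algebraMap_apply R K L]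
  have hb : ∀ (a : S) (r : R), a ^ q ^ e = algebraMap R S (x * r) → ∃ b : S, a = yS * b := by
    intro a r har
    have har' : a.1 ^ q ^ e = algebraMap R L (x * r) := congrArg Subtype.val har
    have hbpow : (a.1 / yL) ^ q ^ e = algebraMap R L r := by
      rw [div_pow, har', hyLpow, map_mul, mul_div_cancel_left₀ _ hxL]
    have hbint : IsIntegral R (a.1 / yL) := by
      refine IsIntegral.of_pow hQ ?_
      rw [hbpow]
      exact isIntegral_algebraMap
    refine ⟨⟨a.1 / yL, hbint⟩, Subtype.ext ?_⟩
    show a.1 = yL * (a.1 / yL)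
    rw [mul_div_cancel₀ _ hyL0]
  have hd : ∀ (n : ℕ) (v : Fin n → S), LinearIndependent R v → n ≤ Module.finrank K L := by
    intro n v hv
    have h1 : LinearIndependent R (fun i => (v i : L)) :=
      hv.map' S.val.toLinearMap (LinearMap.ker_eq_bot.2 Subtype.val_injective)
    rw [LinearIndependent.iff_fractionRing R K] at h1
    simpa using h1.fintype_card_le_finrank
  have hfin : Module.Finite R S :=
    Groth.Agent.H13.TateCore.core hinj x hx0 h2 (q ^ e) hQ yS hyS ha hb _ hd
  -- transfer to `K'`
  let gR : K' →ₐ[R] L :=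
    { toFun := fun z => ⟨f z, hfL z⟩
      map_one' := Subtype.ext (map_one f)
      map_mul' := fun a b => Subtype.ext (map_mul f a b)
      map_zero' := Subtype.ext (map_zero f)
      map_add' := fun a b => Subtype.ext (map_add f a b)
      commutes' := fun r => Subtype.ext (by
        show f (algebraMap R K' r) = algebraMap R Ω r
        rw [IsScalarTower.algebraMap_apply R K' Ω]
        rfl) }
  let ι : integralClosure R K' →ₐ[R] S :=
    (gR.comp (integralClosure R K').val).codRestrict S (fun z => z.2.map gR)
  have hι : Function.Injective ι := by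
    intro a b hab
    have h1 : gR a.1 = gR b.1 := congrArg Subtype.val hab
    exact Subtype.ext (gR.toRingHom.injective h1)
  haveI : IsNoetherian R S := isNoetherian_of_isNoetherianRing_of_finite R S
  exact Module.Finite.of_injective ι.toLinearMap hι

/-- **Tate's lemma**. -/
theorem isN2_of_complete (h2 : CAlg.IsN2 (R ⧸ Ideal.span ({x} : Set R))) : CAlg.IsN2 R := by
  by_cases hx0 : x = 0
  · subst hx0
    have hbot : Ideal.span ({(0 : R)} : Set R) = ⊥ := by simp
    exact Groth.Agent.H47.isN2_of_ringEquiv
      ((Ideal.quotEquivOfEq hbot).trans (RingEquiv.quotientBot R)) h2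
  · refine Groth.Agent.S4562.result R ?_
    intro K' _ _ _ _ hfd hpi
    haveI := hfd
    haveI := hpi
    exact finite_integralClosure_of_purelyInseparable R x hx0 h2 K'

end Main

end Groth.Agent.H13.TateN2
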