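import Groth.Agent.H13.PBasisGen
import Mathlib.FieldTheory.KummerPolynomial
import Mathlib.RingTheory.PowerBasis
import Mathlib.RingTheory.AlgebraTower

/-!
# p-bases of field extensions (EGA 0_IV 21.4)
-/

set_option autoImplicit false
set_option linter.style.haveILetI false
set_option linter.unusedSectionVars false
universe u

namespace Groth.Agent.H13.PB

open EGA41 Polynomial

section Pow

variable (p : ℕ) [Fact p.Prime] {K : Type*} [Field K] [CharP K p]

/-- If `F` is a subfield of `K ⊇ F ⊇ K^p` and `s ∉ F` then `1, s, …, s^(p-1)` are linearly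
independent over `F`. -/
theorem linearIndependent_pow_subfield (F : Subfield K) (hF : ∀ b : K, b ^ p ∈ F) (s : K)
    (hs : s ∉ F) : LinearIndependent F (fun n : Fin p => s ^ (n : ℕ)) := by
  have hp : p.Prime := Fact.out
  let a : F := ⟨s ^ p, hF s⟩
  have ha : ∀ b : F, b ^ p ≠ a := by
    intro b hb
    have h1 : (b : K) ^ p = s ^ p := congrArg Subtype.val hb
    have h2 : (s - b) ^ p = 0 := by rw [sub_pow_char, h1, sub_self]
    have h3 : s = b := sub_eq_zero.mp (pow_eq_zero_iff hp.ne_zero |>.mp h2)
    exact hs (h3 ▸ b.2)
  have hirr : Irreducible (X ^ p - C a : F[X]) := X_pow_sub_C_irreducible_of_prime hp ha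
  have hroot : aeval s (X ^ p - C a : F[X]) = 0 := by
    simp only [map_sub, map_pow, aeval_X, aeval_C, a]
    exact sub_self _
  have hmin : (X ^ p - C a : F[X]) = minpoly F s :=
    minpoly.eq_of_irreducible_of_monic hirr hroot (monic_X_pow_sub_C a hp.ne_zero)
  have hdeg : (minpoly F s).natDegree = p := by
    rw [← hmin, natDegree_X_pow_sub_C]
  have h := linearIndependent_pow (K := F) s
  have h' := h.comp (Fin.cast hdeg.symm) (Fin.cast_injective _)
  exact h'

theorem inv_mem_of_pow_mem {R : Type*} [CommRing R] [Algebra R K] (T : Subalgebra R K)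
    (hT : ∀ b : K, b ^ p ∈ T) (c : K) (hc : c ∈ T) : c⁻¹ ∈ T := by
  have hp : p.Prime := Fact.out
  rcases eq_or_ne c 0 with rfl | hc0
  · rw [inv_zero]; exact T.zero_mem
  have : c⁻¹ = c ^ (p - 1) * (c⁻¹) ^ p := by
    have h1 : c ^ p = c ^ (p - 1) * c := by
      rw [← pow_succ, Nat.sub_add_cancel hp.pos]
    rw [inv_pow, h1, mul_inv, ← mul_assoc, mul_inv_cancel₀ (pow_ne_zero _ hc0), one_mul]
  rw [this]
  exact T.mul_mem (T.pow_mem hc _) (hT _)

theorem linearIndependent_pow_subalgebra {R : Type*} [CommRing R] [Algebra R K]
    (T : Subalgebra R K) (hT : ∀ b : K, b ^ p ∈ T) (s : K) (hs : s ∉ T) :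
    LinearIndependent T (fun n : Fin p => s ^ (n : ℕ)) := by
  let F : Subfield K :=
    { T.toSubring with inv_mem' := fun c hc => inv_mem_of_pow_mem p T hT c hc }
  have hF := linearIndependent_pow_subfield p F hT s hs
  rw [linearIndependent_iff'] at hF ⊢
  intro t g hg i hi
  have := hF t (fun i => ⟨(g i).1, (g i).2⟩) hg i hi
  exact Subtype.ext (congrArg Subtype.val this)

end Pow

section Reindex

variable {p : ℕ} [Fact p.Prime] {R : Type*} {B : Type*} [CommRing R] [CommRing B] [Algebra R B]
  {ι ι' : Type*}

/-- Push a reduced exponent vector along an embedding. -/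
noncomputable def Red.emb (f : ι' ↪ ι) (e : Red ι' p) : Red ι p :=
  ⟨e.1.embDomain f, fun i => by
    classical
    rw [Finsupp.embDomain_apply]
    split_ifs with h
    · exact e.2 _
    · exact (Fact.out : p.Prime).pos⟩

theorem Red.emb_injective (f : ι' ↪ ι) : Function.Injective (Red.emb (p := p) f) := by
  intro e e' h
  apply Subtype.ext
  exact Finsupp.embDomain_injective f (congrArg Subtype.val h)

theorem mono_emb (x : ι → B) (f : ι' ↪ ι) (e : Red ι' p) :
    mono p x (Red.emb f e) = mono p (x ∘ f) e := by
  unfold mono Red.emb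
  simp only [Finsupp.prod_embDomain, Function.comp_apply]

/-- A subfamily of a `p`-independent family is `p`-independent. -/
theorem linearIndependent_mono_comp (x : ι → B) (f : ι' ↪ ι)
    (hx : LinearIndependent R (mono p x)) : LinearIndependent R (mono p (x ∘ f)) := by
  have := hx.comp (Red.emb f) (Red.emb_injective f)
  convert this using 1
  funext e
  exact (mono_emb x f e).symm

end Reindex

section SetForm

variable {p : ℕ} [Fact p.Prime] {R : Type*} {B : Type*} [CommRing R] [CommRing B] [Algebra R B]

/-- Reduced exponent vectors on `B` supported in `T`. -/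
def expSet (p : ℕ) (T : Set B) : Set (Red B p) := {e | (e.1.support : Set B) ⊆ T}

theorem expSet_mono {T T' : Set B} (h : T ⊆ T') : expSet p T ⊆ expSet p T' :=
  fun _ he => he.trans h

/-- The bijection between reduced exponent vectors on the subtype `T` and those on `B`
supported in `T`. -/
noncomputable def toExpSet (T : Set B) (e : Red T p) : expSet p T :=
  ⟨Red.emb (Function.Embedding.subtype _) e, by
    intro b hb
    simp only [Red.emb, Finsupp.support_embDomain, Finset.coe_map, Function.Embedding.subtype_apply,
      Set.mem_image] at hb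
    obtain ⟨a, -, rfl⟩ := hb
    exact a.2⟩

theorem toExpSet_bijective (T : Set B) : Function.Bijective (toExpSet (p := p) T) := by
  constructor
  · intro e e' h
    exact Red.emb_injective _ (congrArg Subtype.val h)
  · rintro ⟨e, he⟩
    have hinj : Set.InjOn (Subtype.val : T → B) (Subtype.val ⁻¹' ↑e.1.support) :=
      Subtype.val_injective.injOn
    refine ⟨⟨e.1.comapDomain Subtype.val hinj, fun i => ?_⟩, ?_⟩
    · rw [Finsupp.comapDomain_apply]; exact e.2 _
    · apply Subtype.ext
      apply Subtype.ext
      change Finsupp.embDomain (Function.Embedding.subtype _) (e.1.comapDomain Subtype.val hinj) = e.1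
      exact Finsupp.embDomain_comapDomain (f := Function.Embedding.subtype _)
        (by
          have he' : (e.1.support : Set B) ⊆ T := he
          simpa using he')

theorem mono_toExpSet (T : Set B) (e : Red T p) :
    mono p (id : B → B) (toExpSet T e).1 = mono p (Subtype.val : T → B) e :=
  mono_emb id (Function.Embedding.subtype _) e

/-- Set form of `p`-independence. -/
theorem linearIndependent_mono_val_iff (T : Set B) :
    LinearIndependent R (mono p (Subtype.val : T → B)) ↔
      LinearIndepOn R (mono p (id : B → B)) (expSet p T) := by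
  let φ := Equiv.ofBijective _ (toExpSet_bijective (p := p) T)
  rw [LinearIndepOn, ← linearIndependent_equiv φ]
  have : (fun e : expSet p T => mono p (id : B → B) e.1) ∘ φ = mono p (Subtype.val : T → B) := by
    funext e
    exact mono_toExpSet T e
  rw [this]

theorem linearIndependent_mono_val_mono {T T' : Set B} (h : T ⊆ T')
    (hT' : LinearIndependent R (mono p (Subtype.val : T' → B))) :
    LinearIndependent R (mono p (Subtype.val : T → B)) := by
  rw [linearIndependent_mono_val_iff] at hT' ⊢
  exact hT'.mono (expSet_mono h)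

/-- Union of a chain of `p`-independent sets is `p`-independent. -/
theorem linearIndependent_mono_val_sUnion (c : Set (Set B)) (hc : IsChain (· ⊆ ·) c)
    (hne : c.Nonempty) (h : ∀ T ∈ c, LinearIndependent R (mono p (Subtype.val : T → B))) :
    LinearIndependent R (mono p (Subtype.val : (⋃₀ c : Set B) → B)) := by
  rw [linearIndependent_mono_val_iff]
  refine linearIndepOn_of_finite _ fun t ht hfin => ?_
  classical
  have hW : (⋃ e ∈ t, (e.1.support : Set B)).Finite :=
    hfin.biUnion fun e _ => Finset.finite_toSet _
  have hWc : (⋃ e ∈ t, (e.1.support : Set B)) ⊆ ⋃₀ c :=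
    Set.iUnion₂_subset fun e he => ht he
  obtain ⟨T, hT, hWT⟩ := hc.directedOn.exists_mem_subset_of_finite_of_subset_sUnion hne hW hWc
  have := (linearIndependent_mono_val_iff T).mp (h T hT)
  refine this.mono fun e he => ?_
  exact (Set.subset_biUnion_of_mem (u := fun e : Red B p => (e.1.support : Set B)) he).trans hWT

end SetForm

section Ext

variable {p : ℕ} [Fact p.Prime] {R : Type*} {K : Type*} [CommRing R] [Field K] [Algebra R K]
  [CharP K p] {ι : Type*}

theorem mono_mem_adjoin (x : ι → K) (e : Red ι p) :
    mono p x e ∈ Algebra.adjoin R (Set.range x) := by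
  unfold mono Finsupp.prod
  exact Subalgebra.prod_mem _ fun i _ =>
    Subalgebra.pow_mem _ (Algebra.subset_adjoin (Set.mem_range_self i)) _

/-- Extension lemma: adjoining to a `p`-independent family an element outside the algebra it
generates gives a `p`-independent family. -/
theorem linearIndependent_mono_option (x : ι → K)
    (hT : ∀ b : K, b ^ p ∈ Algebra.adjoin R (Set.range x))
    (hx : LinearIndependent R (mono p x)) (s : K) (hs : s ∉ Algebra.adjoin R (Set.range x)) :
    LinearIndependent R (mono p (fun o : Option ι => o.elim s x)) := by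
  set T := Algebra.adjoin R (Set.range x) with hTdef
  let b : Red ι p → T := fun e => ⟨mono p x e, mono_mem_adjoin x e⟩
  have hb : LinearIndependent R b := by
    apply LinearIndependent.of_comp T.val.toLinearMap
    exact hx
  have hc : LinearIndependent T (fun n : Fin p => s ^ (n : ℕ)) :=
    linearIndependent_pow_subalgebra p T hT s hs
  have h := linearIndependent_smul hb hc
  let ψ : Red (Option ι) p → Red ι p × Fin p := fun e =>
    (⟨e.1.some, fun i => by rw [Finsupp.some_apply]; exact e.2 _⟩, ⟨e.1 none, e.2 none⟩)
  have hψ : Function.Injective ψ := by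
    intro e e' hee
    apply Subtype.ext
    apply Finsupp.optionEquiv.injective
    simp only [Finsupp.optionEquiv_apply]
    have h1 := congrArg (fun q => (q.1.1 : ι →₀ ℕ)) hee
    have h2 := congrArg (fun q => (q.2.1 : ℕ)) hee
    simp only [ψ] at h1 h2
    rw [h1, h2]
  have := h.comp ψ hψ
  convert this using 1
  funext e
  simp only [Function.comp_apply, ψ, b]
  unfold mono
  rw [Finsupp.prod_option_index _ _ (fun _ => pow_zero _) (fun _ _ _ => pow_add _ _ _),
    Subalgebra.smul_def, mul_comm]
  rfl

end Ext

section Zorn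

variable (p : ℕ) [Fact p.Prime] {k K : Type u} [Field k] [Field K] [Algebra k K] [CharP K p]

theorem pow_mem_adjoin_pPower (T : Set K) (b : K) :
    b ^ p ∈ Algebra.adjoin (pPowerSubalgebra p k K) T :=
  Subalgebra.algebraMap_mem _ (⟨b ^ p, pow_mem_pPower p b⟩ : pPowerSubalgebra p k K)

/-- Adding an element outside `C[T]` to a `p`-independent set `T` keeps it `p`-independent. -/
theorem isPIndependent_insert (T : Set K) (hT : IsPIndependent p k (Subtype.val : T → K))
    (s : K) (hs : s ∉ Algebra.adjoin (pPowerSubalgebra p k K) T) :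
    IsPIndependent p k (Subtype.val : ↥(insert s T) → K) := by
  classical
  have hsT : s ∉ T := fun h => hs (Algebra.subset_adjoin h)
  have hrange : Set.range (Subtype.val : T → K) = T := Subtype.range_coe
  have hext := linearIndependent_mono_option (R := pPowerSubalgebra p k K) (p := p)
    (Subtype.val : T → K) (by rw [hrange]; exact pow_mem_adjoin_pPower p T)
    hT s (by rw [hrange]; exact hs)
  let f : ↥(insert s T) ↪ Option T :=
    ⟨fun a => if h : a.1 = s then none else some ⟨a.1, Set.mem_of_mem_insert_of_ne a.2 h⟩, by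
      intro a a' h
      apply Subtype.ext
      by_cases ha : a.1 = s <;> by_cases ha' : a'.1 = s
      · rw [ha, ha']
      · simp [ha, ha'] at h
      · simp [ha, ha'] at h
      · simp only [ha, ha', dite_false, Option.some.injEq, Subtype.mk.injEq] at h
        exact h⟩
  have := linearIndependent_mono_comp (R := pPowerSubalgebra p k K)
    (fun o : Option T => o.elim s Subtype.val) f hext
  have heq : (Subtype.val : ↥(insert s T) → K) =
      (fun o : Option T => o.elim s Subtype.val) ∘ f := by
    funext a
    simp only [Function.comp_apply, f, Function.Embedding.coeFn_mk]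
    by_cases ha : a.1 = s
    · simp [ha]
    · simp [ha]
  rw [isPIndependent_iff, heq]
  exact this

/-- EGA 0_IV 21.4.2, general form: between a `p`-independent `L` and any `S ⊇ L` there is a
`p`-independent `B` with `S ⊆ C[B]`. -/
theorem exists_isPIndependent_between (S L : Set K) (hLS : L ⊆ S)
    (hL : IsPIndependent p k (Subtype.val : L → K)) :
    ∃ B : Set K, L ⊆ B ∧ B ⊆ S ∧ IsPIndependent p k (Subtype.val : B → K) ∧
      S ⊆ Algebra.adjoin (pPowerSubalgebra p k K) B := by
  obtain ⟨m, hLm, hmax⟩ := zorn_subset_nonempty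
    {T : Set K | T ⊆ S ∧ IsPIndependent p k (Subtype.val : T → K)}
    (fun c hc hchain hne => ⟨⋃₀ c, ⟨Set.sUnion_subset fun T hT => (hc hT).1,
      linearIndependent_mono_val_sUnion c hchain hne fun T hT => (hc hT).2⟩,
      fun T hT => Set.subset_sUnion_of_mem hT⟩) L ⟨hLS, hL⟩
  refine ⟨m, hLm, hmax.prop.1, hmax.prop.2, fun s hsS => ?_⟩
  by_contra hs
  have hins : insert s m ∈ {T : Set K | T ⊆ S ∧ IsPIndependent p k (Subtype.val : T → K)} :=
    ⟨Set.insert_subset hsS hmax.prop.1, isPIndependent_insert p m hmax.prop.2 s hs⟩
  have := hmax.le_of_ge hins (Set.subset_insert s m)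
  exact hs (Algebra.subset_adjoin (this (Set.mem_insert s m)))

/-- EGA 0_IV 21.4.2 (the statement of S2467). -/
theorem exists_isPBasis_between (S L : Set K) (hLS : L ⊆ S)
    (hS : IsPGenerating p k (Subtype.val : S → K))
    (hL : IsPIndependent p k (Subtype.val : L → K)) :
    ∃ B : Set K, L ⊆ B ∧ B ⊆ S ∧ IsPBasis p k (Subtype.val : B → K) := by
  obtain ⟨B, hLB, hBS, hB, hSB⟩ := exists_isPIndependent_between p S L hLS hL
  refine ⟨B, hLB, hBS, hB, ?_⟩
  rw [← adjoin_eq_top_iff_isPGenerating, Subtype.range_coe] at hS ⊢
  rw [eq_top_iff, ← hS]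
  exact Algebra.adjoin_le hSB

end Zorn

end Groth.Agent.H13.PB
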