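import Groth.Agent.H13.PBasisSurj
import Mathlib.FieldTheory.Perfect
import Mathlib.Algebra.CharP.Reduced
import Mathlib.RingTheory.Ideal.Quotient.Nilpotent
import Mathlib.RingTheory.Smooth.Basic

/-!
# p-bases over a perfect ring: unique liftings (EGA 0_IV 21.2.7 / S4541)
-/

set_option autoImplicit false
set_option linter.style.haveILetI false
set_option linter.unusedSectionVars false
universe u

namespace Groth.Agent.H13.PB

open EGA41 MvPolynomial

theorem charP_of_nontrivial_of_cast_eq_zero (p : ℕ) [Fact p.Prime] (E : Type*) [CommRing E]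
    [Nontrivial E] (h : ((p : ℕ) : E) = 0) : CharP E p := by
  have hdvd : ringChar E ∣ p := ringChar.dvd h
  rcases (Nat.dvd_prime (Fact.out : p.Prime)).mp hdvd with h1 | h1
  · exact absurd h1 (CharP.ringChar_ne_one)
  · exact ringChar.of_eq h1

section RingHomExt

variable {p : ℕ} [Fact p.Prime] {A B : Type u} [CommRing A] [CommRing B] [Algebra A B] [CharP B p]
  {ι : Type u}

/-- Two ring homs out of `B` agreeing on `A[B^p]` and on a system of `p`-generators are equal. -/
theorem ringHom_ext_of_isPGenerating (x : ι → B) (hx : IsPGenerating p A x) {S : Type*}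
    [Semiring S] (f g : B →+* S) (hC : ∀ c : pPowerSubalgebra p A B, f c = g c)
    (hxi : ∀ i, f (x i) = g (x i)) : f = g := by
  ext b
  obtain ⟨P, rfl⟩ := aeval_surjective x ((isPGenerating_iff p x).mp hx) b
  induction P using MvPolynomial.induction_on with
  | C c => simpa using hC c
  | add P Q hP hQ => simp only [map_add, hP, hQ]
  | mul_X P i hP => simp only [map_mul, aeval_X, hP, hxi]

end RingHomExt

section OneStep

variable (p : ℕ) [Fact p.Prime] {A B : Type u} [CommRing A] [CharP A p] [PerfectRing A p]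
  [CommRing B] [Algebra A B] [CharP B p] [IsReduced B] {ι : Type u}

/-- Over a perfect ring `A`, every element of `A[B^p]` is a `p`-th power. -/
theorem exists_pow_eq_of_mem_pPower (c : B) (hc : c ∈ pPowerSubalgebra p A B) :
    ∃ b : B, b ^ p = c := by
  let T : Subalgebra A B :=
    { carrier := {c | ∃ b : B, b ^ p = c}
      mul_mem' := by
        rintro _ _ ⟨b, rfl⟩ ⟨b', rfl⟩
        exact ⟨b * b', mul_pow _ _ _⟩
      add_mem' := by
        rintro _ _ ⟨b, rfl⟩ ⟨b', rfl⟩
        exact ⟨b + b', add_pow_char _ _ _⟩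
      algebraMap_mem' := fun a => by
        obtain ⟨α, rfl⟩ := surjective_frobenius A p a
        exact ⟨algebraMap A B α, by rw [frobenius_def, map_pow]⟩ }
  have hle : pPowerSubalgebra p A B ≤ T := by
    unfold pPowerSubalgebra
    rw [Algebra.adjoin_le_iff]
    rintro _ ⟨b, rfl⟩
    exact ⟨b, rfl⟩
  exact hle hc

/-- Frobenius as a ring isomorphism `B ≃ A[B^p]` (`A` perfect, `B` reduced). -/
noncomputable def frobEquiv : B ≃+* pPowerSubalgebra p A B :=
  RingEquiv.ofBijective
    ((frobenius B p).codRestrict (pPowerSubalgebra p A B) fun b => pow_mem_pPower p b)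
    ⟨fun b b' h => frobenius_inj B p (congrArg Subtype.val h), fun c => by
      obtain ⟨b, hb⟩ := exists_pow_eq_of_mem_pPower (A := A) p c.1 c.2
      exact ⟨b, Subtype.ext hb⟩⟩

theorem frobEquiv_apply (b : B) :
    ((frobEquiv (A := A) p b : pPowerSubalgebra p A B) : B) = b ^ p := rfl

theorem frobEquiv_symm_pow (c : pPowerSubalgebra p A B) :
    ((frobEquiv (A := A) (B := B) p).symm c) ^ p = (c : B) := by
  have := frobEquiv_apply (A := A) p ((frobEquiv (A := A) (B := B) p).symm c)
  rw [RingEquiv.apply_symm_apply] at this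
  exact this.symm

/-- One step of the lifting: kernel killed by Frobenius. -/
theorem existsUnique_lift_of_pow_eq_zero {E : Type u} [CommRing E] [Algebra A E] (R : Ideal E)
    (hR : ∀ r ∈ R, r ^ p = 0) (x : ι → B) (hx : IsPBasis p A x) (v : B →ₐ[A] E ⧸ R)
    (z : ι → E) (hz : ∀ i, Ideal.Quotient.mk R (z i) = v (x i)) :
    ∃! w : B →ₐ[A] E, (Ideal.Quotient.mkₐ A R).comp w = v ∧ ∀ i, w (x i) = z i := by
  have hpos : 0 < p := (Fact.out : p.Prime).pos
  rcases subsingleton_or_nontrivial E with hE | hE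
  · let w : B →ₐ[A] E :=
      { toFun := fun _ => 0
        map_one' := Subsingleton.elim _ _
        map_mul' := fun _ _ => Subsingleton.elim _ _
        map_zero' := rfl
        map_add' := fun _ _ => Subsingleton.elim _ _
        commutes' := fun _ => Subsingleton.elim _ _ }
    haveI : Subsingleton (E ⧸ R) := (Ideal.Quotient.mk_surjective (I := R)).subsingleton
    refine ⟨w, ⟨AlgHom.ext fun b => Subsingleton.elim _ _, fun i => Subsingleton.elim _ _⟩, ?_⟩
    intro w' _
    exact AlgHom.ext fun b => Subsingleton.elim _ _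
  have hpE : ((p : ℕ) : E) = 0 := by
    have : ((p : ℕ) : A) = 0 := CharP.cast_eq_zero A p
    rw [← map_natCast (algebraMap A E), this, map_zero]
  haveI : CharP E p := charP_of_nontrivial_of_cast_eq_zero p E hpE
  let Φ : E ⧸ R →+* E := Ideal.Quotient.lift R (frobenius E p) (fun r hr => hR r hr)
  have hΦ : ∀ y : E, Φ (Ideal.Quotient.mk R y) = y ^ p := fun y => by
    simp only [Φ, Ideal.Quotient.lift_mk, frobenius_def]
  have hΦ' : ∀ y : E ⧸ R, Ideal.Quotient.mk R (Φ y) = y ^ p := fun y => by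
    obtain ⟨y, rfl⟩ := Ideal.Quotient.mk_surjective y
    rw [hΦ, map_pow]
  let e := frobEquiv (A := A) (B := B) p
  let wC : pPowerSubalgebra p A B →+* E := Φ.comp (v.toRingHom.comp e.symm.toRingHom)
  have hwC : ∀ c, wC c = Φ (v (e.symm c)) := fun c => rfl
  have hwC' : ∀ b : B, wC ⟨b ^ p, pow_mem_pPower p b⟩ = Φ (v b) := fun b => by
    rw [hwC]
    have : (⟨b ^ p, pow_mem_pPower p b⟩ : pPowerSubalgebra p A B) = e b := rfl
    rw [this, RingEquiv.symm_apply_apply]
  have hAC : ∀ a : A, wC (algebraMap A (pPowerSubalgebra p A B) a) = algebraMap A E a := by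
    intro a
    obtain ⟨α, rfl⟩ := surjective_frobenius A p a
    have h1 : algebraMap A (pPowerSubalgebra p A B) (frobenius A p α) =
        ⟨(algebraMap A B α) ^ p, pow_mem_pPower p _⟩ := by
      apply Subtype.ext
      change algebraMap A B (frobenius A p α) = _
      rw [frobenius_def, map_pow]
    have h2 : algebraMap A (E ⧸ R) α = Ideal.Quotient.mk R (algebraMap A E α) := rfl
    rw [h1, hwC', AlgHom.commutes, h2, hΦ, frobenius_def, map_pow]
  letI : Algebra (pPowerSubalgebra p A B) E := wC.toAlgebra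
  have halgC : ∀ c, algebraMap (pPowerSubalgebra p A B) E c = wC c := fun _ => rfl
  haveI : IsScalarTower A (pPowerSubalgebra p A B) E :=
    IsScalarTower.of_algebraMap_eq fun a => (hAC a).symm
  have hzr : ∀ i, algebraMap (pPowerSubalgebra p A B) E (rC (A := A) p x i) = z i ^ p := by
    intro i
    rw [halgC]
    change wC ⟨x i ^ p, pow_mem_pPower p (x i)⟩ = _
    rw [hwC', ← hz i, hΦ]
  obtain ⟨w₀, hw₀⟩ := exists_algHom hpos x (rC (A := A) p x) (algebraMap_rC p x) hx.1 hx.2 z hzr
  have hw₀C : ∀ c : pPowerSubalgebra p A B, w₀ (c : B) = wC c := fun c => w₀.commutes c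
  -- compatibility of `v` with `wC`
  have hvC : ∀ c : pPowerSubalgebra p A B, v (c : B) = Ideal.Quotient.mk R (wC c) := by
    intro c
    rw [hwC, hΦ', ← map_pow, frobEquiv_symm_pow]
  refine ⟨w₀.restrictScalars A, ⟨?_, hw₀⟩, ?_⟩
  · have : (Ideal.Quotient.mk R).comp w₀.toRingHom = v.toRingHom := by
      apply ringHom_ext_of_isPGenerating x hx.2
      · intro c
        change Ideal.Quotient.mk R (w₀ (c : B)) = v (c : B)
        rw [hw₀C, hvC]
      · intro i
        change Ideal.Quotient.mk R (w₀ (x i)) = v (x i)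
        rw [hw₀ i, hz i]
    exact AlgHom.ext fun b => DFunLike.congr_fun this b
  · rintro w' ⟨hw'1, hw'2⟩
    have hmk : ∀ b, Ideal.Quotient.mk R (w' b) = v b := fun b => DFunLike.congr_fun hw'1 b
    have : w'.toRingHom = w₀.toRingHom := by
      apply ringHom_ext_of_isPGenerating x hx.2
      · intro c
        change w' (c : B) = w₀ (c : B)
        rw [hw₀C, hwC, ← hmk, hΦ, ← map_pow, frobEquiv_symm_pow]
      · intro i
        change w' (x i) = w₀ (x i)
        rw [hw'2 i, hw₀ i]
    exact AlgHom.ext fun b => DFunLike.congr_fun this b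

/-- EGA 0_IV 21.2.7-like: unique lifting along nilpotent ideals, with prescribed values on the
`p`-basis. -/
theorem existsUnique_lift_of_isNilpotent (x : ι → B) (hx : IsPBasis p A x)
    {E : Type u} [CommRing E] [Algebra A E] (R : Ideal E) (hR : IsNilpotent R)
    (v : B →ₐ[A] E ⧸ R) (z : ι → E) (hz : ∀ i, Ideal.Quotient.mk R (z i) = v (x i)) :
    ∃! w : B →ₐ[A] E, (Ideal.Quotient.mkₐ A R).comp w = v ∧ ∀ i, w (x i) = z i := by
  revert v z
  revert ‹Algebra A E›
  apply Ideal.IsNilpotent.induction_on (S := E) R hR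
  · intro S _ I hI _ v z hz
    refine existsUnique_lift_of_pow_eq_zero p I (fun r hr => ?_) x hx v z hz
    have h2 : r ^ 2 = 0 := by
      have := Ideal.pow_mem_pow hr 2
      rwa [hI] at this
    exact pow_eq_zero_of_le (Fact.out : p.Prime).two_le h2
  · intro S _ I J hIJ h₁ h₂ _ v z hz
    let φ : ((S ⧸ I) ⧸ J.map (Ideal.Quotient.mk I)) ≃ₐ[A] S ⧸ J :=
      { (DoubleQuot.quotQuotEquivQuotSup I J).trans
          (Ideal.quotEquivOfEq (sup_eq_right.mpr hIJ)) with
        commutes' := fun x => rfl }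
    have hφ : ∀ s : S, φ (Ideal.Quotient.mk _ (Ideal.Quotient.mk I s)) = Ideal.Quotient.mk J s :=
      fun s => rfl
    have hφ' : ∀ s : S, φ.symm (Ideal.Quotient.mk J s) =
        Ideal.Quotient.mk _ (Ideal.Quotient.mk I s) := fun s => by
      rw [AlgEquiv.symm_apply_eq, hφ]
    obtain ⟨w', ⟨hw'1, hw'2⟩, hw'u⟩ := h₂ (φ.symm.toAlgHom.comp v)
      (fun i => Ideal.Quotient.mk I (z i)) (fun i => by
        change _ = φ.symm (v (x i))
        rw [← hz i, hφ'])
    obtain ⟨w, ⟨hw1, hw2⟩, hwu⟩ := h₁ w' z (fun i => (hw'2 i).symm)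
    refine ⟨w, ⟨?_, hw2⟩, ?_⟩
    · ext b
      have e1 : Ideal.Quotient.mk I (w b) = w' b := DFunLike.congr_fun hw1 b
      have e2 : Ideal.Quotient.mk _ (w' b) = φ.symm (v b) := DFunLike.congr_fun hw'1 b
      change Ideal.Quotient.mk J (w b) = v b
      rw [← hφ, e1, e2, AlgEquiv.apply_symm_apply]
    · rintro w₂ ⟨h1, h2⟩
      apply hwu
      refine ⟨?_, h2⟩
      apply hw'u
      refine ⟨?_, fun i => by simp [h2 i]⟩
      ext b
      have e1 : Ideal.Quotient.mk J (w₂ b) = v b := DFunLike.congr_fun h1 b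
      change Ideal.Quotient.mk _ (Ideal.Quotient.mk I (w₂ b)) = φ.symm (v b)
      rw [← e1, hφ']

/-- The statement of S4541. -/
theorem formallySmooth_of_isPBasis_of_perfect (x : ι → B) (hx : IsPBasis p A x) :
    Algebra.FormallySmooth A B ∧
    ∀ (E : Type u) [CommRing E] [Algebra A E] (R : Ideal E), IsNilpotent R →
      ∀ (v : B →ₐ[A] E ⧸ R) (z : ι → E), (∀ i, Ideal.Quotient.mk R (z i) = v (x i)) →
        ∃! w : B →ₐ[A] E, (Ideal.Quotient.mkₐ A R).comp w = v ∧ ∀ i, w (x i) = z i := by
  refine ⟨?_, fun E _ _ R hR v z hz => existsUnique_lift_of_isNilpotent p x hx R hR v z hz⟩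
  apply Algebra.FormallySmooth.of_comp_surjective
  intro E _ _ I hI v
  choose z hz using fun i => Ideal.Quotient.mk_surjective (v (x i))
  obtain ⟨w, ⟨hw, -⟩, -⟩ := existsUnique_lift_of_isNilpotent p x hx I ⟨2, hI⟩ v z hz
  exact ⟨w, hw⟩

end OneStep

end Groth.Agent.H13.PB
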