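import Mathlib
import Groth.Prelude.Def_Found
import Groth.Agent.H13.TateN2
import Groth.Agent.Lead.RegularLocal
import Groth.Agent.H14.RegularNormal
import Groth.Agent.H19.ComplSmaller
import Groth.Agent.H26.ComplQuot
import Groth.Agent.H10.NagataDesc
import Groth.Agent.H11.N2QuasiFinite
import Groth.Agent.H47.PSReg
import Groth.Agent.H61.PSComplete
import Groth.Agent.S0581

/-!
# Complete Noetherian local rings are Nagata

* a complete regular local ring is N-2 (induction on the dimension via Tate's lemma);
* a complete Noetherian local domain is finite over a power series ring over a field or a Cohen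
  ring (Cohen structure theorem, `S0581`), hence N-2;
* hence complete Noetherian local rings are Nagata.
-/

set_option autoImplicit false
set_option linter.style.haveILetI false
set_option linter.unusedSectionVars false
universe u

open IsLocalRing

namespace Groth.Agent.H13.CompleteNagata

theorem isN2_of_complete_regular_aux : ∀ (n : ℕ) (A : Type u) [CommRing A] [IsRegularLocalRing A]
    [IsAdicComplete (maximalIdeal A) A] [IsDomain A],
    (maximalIdeal A).spanFinrank = n → CAlg.IsN2 A := by
  intro n
  induction n with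
  | zero =>
    intro A _ _ _ _ h
    have hm : maximalIdeal A = ⊥ :=
      (Submodule.spanFinrank_eq_zero_iff_eq_bot (maximalIdeal A).fg_of_isNoetherianRing).mp h
    exact Groth.Agent.H10.NagataDesc.isN2_of_isField A (IsLocalRing.isField_iff_maximalIdeal_eq.mpr hm)
  | succ n ih =>
    intro A _ _ _ _ h
    classical
    obtain ⟨s, hscard, hsspan⟩ := Submodule.FG.exists_span_finset_card_eq_spanFinrank
      (p := maximalIdeal A) (maximalIdeal A).fg_of_isNoetherianRing
    have hsne : s.Nonempty := by
      rw [← Finset.card_pos, hscard, h]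
      omega
    obtain ⟨x, hx⟩ := hsne
    have htcard : (s.erase x).card = n := by
      rw [Finset.card_erase_of_mem hx, hscard, h]
      rfl
    have hins : insert x ((s.erase x : Finset A) : Set A) = (s : Set A) := by
      rw [← Finset.coe_insert, Finset.insert_erase hx]
    have hspan : Ideal.span (insert x ((s.erase x : Finset A) : Set A)) = maximalIdeal A := by
      rw [hins]; exact hsspan
    obtain ⟨hreg, hdim, -⟩ := Groth.Agent.Lead.RLR.quotient_regular A x (s.erase x) hspan
      (by rw [htcard, h])
    have hdimA : ringKrullDim A = ((n + 1 : ℕ) : WithBot ℕ∞) := by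
      rw [Groth.Agent.Lead.RLR.ringKrullDim_eq_spanFinrank A, h]
    have hsf' : (maximalIdeal (A ⧸ Ideal.span {x})).spanFinrank = n := by
      have h1 := Groth.Agent.Lead.RLR.ringKrullDim_eq_spanFinrank (A ⧸ Ideal.span {x})
      rw [h1, hdimA] at hdim
      have : (maximalIdeal (A ⧸ Ideal.span {x})).spanFinrank + 1 = n + 1 := by
        exact_mod_cast hdim
      omega
    haveI : IsDomain (A ⧸ Ideal.span {x}) := Groth.Agent.Lead.RLR.isDomain _
    haveI hprime : (Ideal.span {x}).IsPrime := (Ideal.Quotient.isDomain_iff_prime _).mp inferInstance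
    haveI : IsAdicComplete (maximalIdeal (A ⧸ Ideal.span {x})) (A ⧸ Ideal.span {x}) :=
      Groth.Agent.H26.ComplQuot.isAdicComplete_quotient _
    have h2 : CAlg.IsN2 (A ⧸ Ideal.span {x}) := ih (A ⧸ Ideal.span {x}) hsf'
    have hxm : x ∈ maximalIdeal A := by
      rw [← hsspan]; exact Ideal.subset_span hx
    haveI : IsAdicComplete (Ideal.span {x}) A :=
      Groth.Agent.H19.ComplSmaller.main (Ideal.span {x}) (maximalIdeal A)
        ((Ideal.span_singleton_le_iff_mem _).2 hxm) ⟨{x}, by simp⟩
    haveI : IsIntegrallyClosed A := Groth.Agent.H14.isIntegrallyClosed_of_isRegularLocalRing A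
    exact Groth.Agent.H13.TateN2.isN2_of_complete A x h2

/-- A complete regular local ring is N-2. -/
theorem isN2_of_complete_regular (A : Type u) [CommRing A] [IsRegularLocalRing A]
    [IsAdicComplete (maximalIdeal A) A] [IsDomain A] : CAlg.IsN2 A :=
  isN2_of_complete_regular_aux _ A rfl

/-- power series over a field or a Cohen ring are N-2 -/
theorem isN2_ps (Λ : Type u) [CommRing Λ] (hΛ : IsField Λ ∨ CAlg.IsCohenRing Λ) (n : ℕ)
    [IsDomain (MvPowerSeries (Fin n) Λ)] : CAlg.IsN2 (MvPowerSeries (Fin n) Λ) := by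
  rcases hΛ with hΛ | hΛ
  · letI : Field Λ := hΛ.toField
    have hm : maximalIdeal Λ = Ideal.span {(0 : Λ)} := by
      rw [IsLocalRing.maximalIdeal_eq_bot]; simp
    obtain ⟨hreg, -⟩ := Groth.Agent.H47.PSReg.regular_ps (Λ := Λ) 0 hm 0
      (by simpa using ringKrullDim_eq_zero_of_field Λ) (fun _ => rfl) n
    haveI : IsAdicComplete (maximalIdeal Λ) Λ := by
      rw [IsLocalRing.maximalIdeal_eq_bot]
      infer_instance
    haveI := Groth.Agent.H61.ps_isAdicComplete (Λ := Λ) n
    exact isN2_of_complete_regular _
  · obtain ⟨hdom, hdvr, hcomp, p, hp, hm⟩ := hΛ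
    have hdim : ringKrullDim Λ = ((1 : ℕ) : WithBot ℕ∞) := by
      have := IsDiscreteValuationRing.ringKrullDim_eq_one Λ
      simpa using this
    obtain ⟨hreg, -⟩ := Groth.Agent.H47.PSReg.regular_ps (Λ := Λ) (p : Λ) hm 1 hdim
      (fun h => absurd h one_ne_zero) n
    haveI := Groth.Agent.H61.ps_isAdicComplete (Λ := Λ) n
    exact isN2_of_complete_regular _

/-- a complete Noetherian local domain is N-2 -/
theorem isN2_of_complete_local_domain (B : Type u) [CommRing B] [IsDomain B] [IsLocalRing B]
    [IsNoetherianRing B] [IsAdicComplete (maximalIdeal B) B] : CAlg.IsN2 B := by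
  obtain ⟨Λ, _, n, f, hΛ, hinj, hfin, -⟩ := Groth.Agent.S0581.result B
  haveI : IsDomain (MvPowerSeries (Fin n) Λ) :=
    hinj.isDomain f
  have hP : CAlg.IsN2 (MvPowerSeries (Fin n) Λ) := isN2_ps Λ hΛ n
  letI : Algebra (MvPowerSeries (Fin n) Λ) B := f.toAlgebra
  haveI : Module.Finite (MvPowerSeries (Fin n) Λ) B := hfin
  haveI : IsNoetherianRing (MvPowerSeries (Fin n) Λ) := by
    rcases hΛ with hΛ | hΛ
    · letI : Field Λ := hΛ.toField
      infer_instance
    · obtain ⟨hdom, hdvr, -⟩ := hΛ
      infer_instance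
  exact Groth.Agent.H11.N2QuasiFinite.main (R := MvPowerSeries (Fin n) Λ) (S := B) hinj hP

/-- **A complete Noetherian local ring is Nagata.** -/
theorem isNagata_of_complete_local (R : Type u) [CommRing R] [IsLocalRing R] [IsNoetherianRing R]
    [IsAdicComplete (maximalIdeal R) R] : CAlg.IsNagata R := by
  refine ⟨inferInstance, fun p hp => ?_⟩
  haveI : IsLocalRing (R ⧸ p) := Groth.Agent.Lead.RLR.isLocalRing_quotient R p hp.ne_top
  haveI : IsAdicComplete (maximalIdeal (R ⧸ p)) (R ⧸ p) :=
    Groth.Agent.H26.ComplQuot.isAdicComplete_quotient _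
  exact isN2_of_complete_local_domain (R ⧸ p)

end Groth.Agent.H13.CompleteNagata
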