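import Mathlib
import Groth.Prelude.Def_Found
import Groth.Agent.H38.NagataIC
import Groth.Agent.H48.GeomRedPI

/-!
# N-1 by descent from a faithfully flat Nagata cover

Let `A` be a Noetherian ring, `C` a faithfully flat `A`-algebra which is a Nagata ring, and `B` a
finite `A`-algebra which is a domain, with fraction field `K`.  If `C ⊗_A K` is reduced then `B` is
N-1.  (Typical use: `A` a local G-ring, `C` its completion.)
-/

set_option autoImplicit false
set_option linter.style.haveILetI false
set_option linter.unusedSectionVars false
universe u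

open TensorProduct

namespace Groth.Agent.H13.NagataDescent

section Field

variable (C : Type u) [CommRing C] (hC : CAlg.IsNagata C)

include hC in
/-- the integral closure of a Nagata ring in a field essentially of finite type over it is
finite -/
theorem finite_integralClosure_of_essFiniteType (L : Type u) [Field L] [Algebra C L]
    [Algebra.EssFiniteType C L] : Module.Finite C (integralClosure C L) := by
  haveI := hC.1
  let φ : C →+* L := algebraMap C L
  let q : Ideal C := RingHom.ker φ
  haveI hq : q.IsPrime := RingHom.ker_isPrime φ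
  have hN2 : CAlg.IsN2 (C ⧸ q) := hC.2 q
  letI : Algebra (C ⧸ q) L := φ.kerLift.toAlgebra
  haveI : IsScalarTower C (C ⧸ q) L := IsScalarTower.of_algebraMap_eq (fun c => rfl)
  haveI : FaithfulSMul (C ⧸ q) L :=
    (faithfulSMul_iff_algebraMap_injective _ _).2 (RingHom.kerLift_injective φ)
  letI : Algebra (FractionRing (C ⧸ q)) L := FractionRing.liftAlgebra (C ⧸ q) L
  haveI : IsScalarTower (C ⧸ q) (FractionRing (C ⧸ q)) L :=
    FractionRing.isScalarTower_liftAlgebra (C ⧸ q) L
  haveI : IsScalarTower C (FractionRing (C ⧸ q)) L := IsScalarTower.of_algebraMap_eq (fun c => by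
    rw [IsScalarTower.algebraMap_apply C (C ⧸ q) L,
      IsScalarTower.algebraMap_apply (C ⧸ q) (FractionRing (C ⧸ q)) L,
      ← IsScalarTower.algebraMap_apply C (C ⧸ q) (FractionRing (C ⧸ q))])
  haveI : Algebra.EssFiniteType (FractionRing (C ⧸ q)) L :=
    Algebra.EssFiniteType.of_comp C (FractionRing (C ⧸ q)) L
  have h1 : Module.Finite (C ⧸ q) (integralClosure (C ⧸ q) L) :=
    Groth.Agent.H38.NagataIC.finite_integralClosure_of_isN2_of_essFiniteType (C ⧸ q)
      (FractionRing (C ⧸ q)) L hN2
  exact Groth.Agent.H38.NagataIC.finite_integralClosure_of_surjective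
    (A := C) (A' := C ⧸ q) (L := L) Ideal.Quotient.mk_surjective h1

include hC in
/-- the integral closure of a Nagata ring in a reduced algebra essentially of finite type is
finite -/
theorem finite_integralClosure_of_reduced (E : Type u) [CommRing E] [Algebra C E]
    [Algebra.EssFiniteType C E] [IsReduced E] : Module.Finite C (integralClosure C E) := by
  haveI := hC.1
  haveI : IsNoetherianRing E := Groth.Agent.H48.GeomRedPI.isNoetherianRing_of_essFiniteType C E
  refine Groth.Agent.H38.NagataIC.finite_integralClosure_of_minimalPrimes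
    (minimalPrimes.finite_of_isNoetherianRing E) ?_
  intro Q hQ
  haveI : Q.IsPrime := hQ.1.1
  refine ⟨FractionRing (E ⧸ Q), inferInstance, algebraMap E (FractionRing (E ⧸ Q)), ?_, ?_⟩
  · intro e he
    rw [RingHom.mem_ker, IsScalarTower.algebraMap_apply E (E ⧸ Q) (FractionRing (E ⧸ Q))] at he
    have h0 : algebraMap E (E ⧸ Q) e = 0 :=
      IsFractionRing.injective (E ⧸ Q) (FractionRing (E ⧸ Q)) (he.trans (map_zero _).symm)
    exact Ideal.Quotient.eq_zero_iff_mem.1 h0
  · have heq : ((algebraMap E (FractionRing (E ⧸ Q))).comp (algebraMap C E)).toAlgebra =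
        (inferInstance : Algebra C (FractionRing (E ⧸ Q))) := by
      rw [← IsScalarTower.algebraMap_eq C E (FractionRing (E ⧸ Q))]
      exact toAlgebra_algebraMap
    show @Module.Finite C (@integralClosure C (FractionRing (E ⧸ Q)) _ _
      ((algebraMap E (FractionRing (E ⧸ Q))).comp (algebraMap C E)).toAlgebra) _ _ _
    rw [heq]
    haveI : Algebra.EssFiniteType E (FractionRing (E ⧸ Q)) :=
      Algebra.EssFiniteType.comp E (E ⧸ Q) (FractionRing (E ⧸ Q))
    haveI : Algebra.EssFiniteType C (FractionRing (E ⧸ Q)) :=
      Algebra.EssFiniteType.comp C E (FractionRing (E ⧸ Q))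
    exact finite_integralClosure_of_essFiniteType C hC (FractionRing (E ⧸ Q))

end Field

section Descent

/-- **N-1 by descent from a faithfully flat Nagata cover.** -/
theorem isN1_of_faithfullyFlat_nagata (A C B : Type u) [CommRing A] [CommRing C] [Algebra A C]
    [Module.FaithfullyFlat A C] (hC : CAlg.IsNagata C)
    [CommRing B] [IsDomain B] [Algebra A B] [Module.Finite A B]
    (hred : IsReduced (C ⊗[A] FractionRing B)) : CAlg.IsN1 B := by
  haveI := hC.1
  let K := FractionRing B
  let B' := integralClosure B K
  haveI : Algebra.IsIntegral A B := Algebra.IsIntegral.of_finite A B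
  haveI : Algebra.IsIntegral B B' := inferInstance
  haveI : Algebra.IsIntegral A B' := Algebra.IsIntegral.trans B
  let ι : B' →ₐ[A] K := B'.val.restrictScalars A
  have hι : Function.Injective ι := Subtype.val_injective
  let j : C ⊗[A] B' →ₐ[C] C ⊗[A] K := Algebra.TensorProduct.map (AlgHom.id C C) ι
  have hj : Function.Injective j := by
    have h1 : Function.Injective (LinearMap.lTensor C ι.toLinearMap) :=
      Module.Flat.lTensor_preserves_injective_linearMap (M := C) ι.toLinearMap hι
    have h2 : (⇑j : _ → _) = ⇑(LinearMap.lTensor C ι.toLinearMap) := by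
      ext x
      induction x using TensorProduct.induction_on with
      | zero => simp
      | tmul c b => simp [j]
      | add x y hx hy => simp only [map_add, hx, hy]
    rw [h2]; exact h1
  haveI : Algebra.EssFiniteType A K := Algebra.EssFiniteType.comp A B K
  haveI : IsReduced (C ⊗[A] K) := hred
  haveI hfinE : Module.Finite C (integralClosure C (C ⊗[A] K)) :=
    finite_integralClosure_of_reduced C hC (C ⊗[A] K)
  haveI : IsNoetherian C (integralClosure C (C ⊗[A] K)) :=
    isNoetherian_of_isNoetherianRing_of_finite C (integralClosure C (C ⊗[A] K))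
  let j' : C ⊗[A] B' →ₐ[C] integralClosure C (C ⊗[A] K) :=
    j.codRestrict _ (fun z => (Algebra.IsIntegral.isIntegral (R := C) z).map j)
  have hj' : Function.Injective j' := by
    intro a b hab
    exact hj (congrArg Subtype.val hab)
  haveI : Module.Finite C (C ⊗[A] B') := Module.Finite.of_injective j'.toLinearMap hj'
  haveI : Module.Finite A B' := Module.Finite.of_finite_tensorProduct_of_faithfullyFlat C
  exact Module.Finite.of_restrictScalars_finite A B B'

end Descent

end Groth.Agent.H13.NagataDescent
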