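import Mathlib
import Groth.Prelude.Def_Found
import Groth.Prelude.Def_EGA4b
import Groth.Agent.H13.NagataDescent
import Groth.Agent.H13.CompleteNagata
import Groth.Agent.H26.FormalFibreFinite
import Groth.Agent.H72.FormalEquidim
import Groth.Agent.Lead.RegularLocal

/-!
# Quasi-excellent rings are Nagata
-/

set_option autoImplicit false
set_option linter.style.haveILetI false
set_option linter.unusedSectionVars false
universe u

open TensorProduct IsLocalRing

namespace Groth.Agent.H13.GRingNagata

/-- a regular ring is reduced -/
theorem isReduced_of_isRegularRing (X : Type u) [CommRing X] [IsRegularRing X] : IsReduced X := by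
  apply isReduced_ofLocalizationMaximal
  intro m hm
  haveI : m.IsPrime := hm.isPrime
  haveI : IsRegularLocalRing (Localization.AtPrime m) :=
    IsRegularRing.isRegularLocalRing_localization m
  haveI : IsDomain (Localization.AtPrime m) := Groth.Agent.Lead.RLR.isDomain _
  infer_instance

set_option backward.isDefEq.respectTransparency false in
/-- for a regular homomorphism `A → C` and a finite `A`-algebra domain `B`, the ring
`C ⊗_A Frac B` is reduced. -/
theorem isReduced_tensor_fractionRing (A C : Type u) [CommRing A] [CommRing C] [Algebra A C]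
    (h : CAlg.IsRegularHom A C)
    (B : Type u) [CommRing B] [IsDomain B] [Algebra A B] [Module.Finite A B] :
    IsReduced (C ⊗[A] FractionRing B) := by
  obtain ⟨p, hp, alg, tower⟩ :=
    Groth.Agent.H26.RegHomBaseChange.exists_residueField_algebra' (R := A) (FractionRing B)
  haveI hfin : Module.Finite p.ResidueField (FractionRing B) :=
    Groth.Agent.H26.FormalFibreFinite.finite_residueField_of_finite A B (FractionRing B) p
  have hreg : IsRegularRing ((FractionRing B) ⊗[p.ResidueField] (p.Fiber C)) :=
    (h.2 p).2 (FractionRing B) hfin
  have hreg' : IsRegularRing ((FractionRing B) ⊗[A] C) :=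
    @IsRegularRing.of_ringEquiv _ _ _ _
      (Groth.Agent.H26.RegHomDescent.tensorFiberEquiv A C (FractionRing B) p).symm hreg
  haveI := hreg'
  have hred : IsReduced ((FractionRing B) ⊗[A] C) := isReduced_of_isRegularRing _
  exact isReduced_of_injective (Algebra.TensorProduct.comm A C (FractionRing B)).toRingHom
    (Algebra.TensorProduct.comm A C (FractionRing B)).injective

/-- finite domains over a Noetherian local ring with regular completion map are N-1 -/
theorem isN1_of_finite_of_local (A₁ : Type u) [CommRing A₁] [IsLocalRing A₁] [IsNoetherianRing A₁]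
    (hreg : CAlg.IsRegularHom A₁ (AdicCompletion (maximalIdeal A₁) A₁))
    (B : Type u) [CommRing B] [IsDomain B] [Algebra A₁ B] [Module.Finite A₁ B] : CAlg.IsN1 B := by
  haveI := Groth.Agent.H72.FormalEquidim.isLocalRing_compl A₁
  haveI := Groth.Agent.H72.FormalEquidim.isNoetherianRing_compl A₁
  haveI := Groth.Agent.H72.FormalEquidim.isLocalHom_compl A₁
  haveI : IsAdicComplete (maximalIdeal (AdicCompletion (maximalIdeal A₁) A₁))
      (AdicCompletion (maximalIdeal A₁) A₁) :=
    AdicCompletion.isAdicComplete_of_fg (maximalIdeal A₁).fg_of_isNoetherianRing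
  haveI : Module.Flat A₁ (AdicCompletion (maximalIdeal A₁) A₁) := hreg.1
  haveI : Module.FaithfullyFlat A₁ (AdicCompletion (maximalIdeal A₁) A₁) :=
    Module.FaithfullyFlat.of_flat_of_isLocalHom
  have hC : CAlg.IsNagata (AdicCompletion (maximalIdeal A₁) A₁) :=
    Groth.Agent.H13.CompleteNagata.isNagata_of_complete_local _
  exact Groth.Agent.H13.NagataDescent.isN1_of_faithfullyFlat_nagata A₁
    (AdicCompletion (maximalIdeal A₁) A₁) B hC
    (isReduced_tensor_fractionRing A₁ _ hreg B)

end Groth.Agent.H13.GRingNagata
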