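import Mathlib
import Groth.Prelude.Def_Found
import Groth.Prelude.Def_EGA4b
import Groth.Agent.H13.GRingNagata
import Groth.Agent.H47.N2ofN1

/-!
# Local rings with geometrically reduced formal fibres are Nagata (EGA IV 7.6.4 / 7.7.?)
-/

set_option autoImplicit false
set_option linter.style.haveILetI false
set_option linter.unusedSectionVars false
universe u

open TensorProduct IsLocalRing

namespace Groth.Agent.H13.LocalNagata

variable (A : Type u) [CommRing A] [IsLocalRing A] [IsNoetherianRing A]

/-- a Noetherian local ring such that `Â ⊗_A Frac B` is reduced for all finite domains `B` over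
it is Nagata -/
theorem isNagata_of_local
    (hred : ∀ (B : Type u) [CommRing B] [IsDomain B] [Algebra A B] [Module.Finite A B],
      IsReduced (AdicCompletion (maximalIdeal A) A ⊗[A] FractionRing B)) :
    CAlg.IsNagata A := by
  haveI := Groth.Agent.H72.FormalEquidim.isLocalRing_compl A
  haveI := Groth.Agent.H72.FormalEquidim.isNoetherianRing_compl A
  haveI := Groth.Agent.H72.FormalEquidim.isLocalHom_compl A
  haveI : IsAdicComplete (maximalIdeal (AdicCompletion (maximalIdeal A) A))
      (AdicCompletion (maximalIdeal A) A) :=
    AdicCompletion.isAdicComplete_of_fg (maximalIdeal A).fg_of_isNoetherianRing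
  haveI : Module.FaithfullyFlat A (AdicCompletion (maximalIdeal A) A) :=
    Module.FaithfullyFlat.of_flat_of_isLocalHom
  have hC : CAlg.IsNagata (AdicCompletion (maximalIdeal A) A) :=
    Groth.Agent.H13.CompleteNagata.isNagata_of_complete_local _
  refine ⟨inferInstance, fun p hp => ?_⟩
  intro L _ _ _ _ hfd
  haveI := hfd
  obtain ⟨S', -, hfin, hfrac⟩ :=
    Groth.Agent.H47.exists_finite_subalgebra_isFractionRing (A ⧸ p) (FractionRing (A ⧸ p)) L
  haveI := hfin
  haveI := hfrac
  letI : Algebra A L := ((algebraMap (A ⧸ p) L).comp (algebraMap A (A ⧸ p))).toAlgebra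
  haveI : IsScalarTower A (A ⧸ p) L := IsScalarTower.of_algebraMap_eq (fun _ => rfl)
  haveI : IsScalarTower A (A ⧸ p) S' := inferInstance
  haveI : Module.Finite A S' := Module.Finite.trans (A ⧸ p) S'
  have hN1 : CAlg.IsN1 S' :=
    Groth.Agent.H13.NagataDescent.isN1_of_faithfullyFlat_nagata A
      (AdicCompletion (maximalIdeal A) A) S' hC (hred S')
  exact Groth.Agent.H47.finite_integralClosure_of_subalgebra S' hN1

set_option backward.isDefEq.respectTransparency false in
/-- **A Noetherian local ring with geometrically reduced formal fibres is Nagata.** -/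
theorem isNagata_of_hasGeomReducedFormalFibres (hA : EGA4.HasGeomReducedFormalFibres A) :
    CAlg.IsNagata A := by
  apply isNagata_of_local
  intro B _ _ _ _
  obtain ⟨p, hp, alg, tower⟩ :=
    Groth.Agent.H26.RegHomBaseChange.exists_residueField_algebra' (R := A) (FractionRing B)
  haveI hfin : Module.Finite p.ResidueField (FractionRing B) :=
    Groth.Agent.H26.FormalFibreFinite.finite_residueField_of_finite A B (FractionRing B) p
  haveI hgr : Algebra.IsGeometricallyReduced p.ResidueField
      (p.Fiber (AdicCompletion (maximalIdeal A) A)) := hA p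
  have hred : IsReduced ((FractionRing B) ⊗[p.ResidueField]
      (p.Fiber (AdicCompletion (maximalIdeal A) A))) :=
    Algebra.instIsReducedTensorProductOfIsAlgebraicOfIsGeometricallyReduced
      p.ResidueField _ (FractionRing B)
  have hred' : IsReduced ((FractionRing B) ⊗[A] (AdicCompletion (maximalIdeal A) A)) :=
    Groth.Agent.H26.FormalFibreFinite.isReduced_of_ringEquiv'
      (X := (FractionRing B) ⊗[p.ResidueField] (p.Fiber (AdicCompletion (maximalIdeal A) A)))
      (Y := (FractionRing B) ⊗[A] (AdicCompletion (maximalIdeal A) A))
      (Groth.Agent.H26.RegHomDescent.tensorFiberEquiv A (AdicCompletion (maximalIdeal A) A)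
        (FractionRing B) p).symm hred
  exact isReduced_of_injective
    (Algebra.TensorProduct.comm A (AdicCompletion (maximalIdeal A) A) (FractionRing B)).toRingHom
    (Algebra.TensorProduct.comm A (AdicCompletion (maximalIdeal A) A) (FractionRing B)).injective

end Groth.Agent.H13.LocalNagata
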