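import Mathlib
import Groth.Prelude.Def_Found
import Groth.Agent.H13.LocalNagata

/-!
# Analytically unramified local domains are N-1 (Stacks 0331)
-/

set_option autoImplicit false
set_option linter.style.haveILetI false
set_option linter.unusedSectionVars false
universe u

open TensorProduct IsLocalRing nonZeroDivisors

namespace Groth.Agent.H13.AnUnramN1

theorem isN1_of_isReduced_completion (R : Type u) [CommRing R] [IsDomain R] [IsLocalRing R]
    [IsNoetherianRing R] [IsReduced (AdicCompletion (maximalIdeal R) R)] : CAlg.IsN1 R := by
  haveI := Groth.Agent.H72.FormalEquidim.isLocalRing_compl R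
  haveI := Groth.Agent.H72.FormalEquidim.isNoetherianRing_compl R
  haveI := Groth.Agent.H72.FormalEquidim.isLocalHom_compl R
  haveI : IsAdicComplete (maximalIdeal (AdicCompletion (maximalIdeal R) R))
      (AdicCompletion (maximalIdeal R) R) :=
    AdicCompletion.isAdicComplete_of_fg (maximalIdeal R).fg_of_isNoetherianRing
  haveI : Module.FaithfullyFlat R (AdicCompletion (maximalIdeal R) R) :=
    Module.FaithfullyFlat.of_flat_of_isLocalHom
  have hC : CAlg.IsNagata (AdicCompletion (maximalIdeal R) R) :=
    Groth.Agent.H13.CompleteNagata.isNagata_of_complete_local _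
  refine Groth.Agent.H13.NagataDescent.isN1_of_faithfullyFlat_nagata R
    (AdicCompletion (maximalIdeal R) R) R hC ?_
  haveI : IsLocalization (Algebra.algebraMapSubmonoid (AdicCompletion (maximalIdeal R) R) R⁰)
      (AdicCompletion (maximalIdeal R) R ⊗[R] FractionRing R) :=
    IsLocalization.tensor (FractionRing R) R⁰
  exact isReduced_localizationPreserves
    (Algebra.algebraMapSubmonoid (AdicCompletion (maximalIdeal R) R) R⁰) _ inferInstance

end Groth.Agent.H13.AnUnramN1
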