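import Groth.Agent.H8.Localizing
import Groth.Agent.H8.PushQC
import Groth.Agent.H8.QcqsPush
import Groth.Prelude.Def_FDesc
import Mathlib.AlgebraicGeometry.Morphisms.Integral

/-!
# Associated points: pushforwards, sections with support (helper13)
-/

set_option autoImplicit false
universe u
open CategoryTheory CategoryTheory.Limits AlgebraicGeometry TopologicalSpace Opposite

namespace Groth.Agent.H13

/-- For a point `x` of an affine open `U` and a generization `y` of `x` in `U`, the prime of `y`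
is contained in the prime of `x`. -/
theorem primeIdealOf_le_of_specializes {X : Scheme.{u}} {U : X.Opens} (hU : IsAffineOpen U)
    {x y : X} (hxU : x ∈ U) (hyU : y ∈ U) (h : y ⤳ x) :
    (hU.primeIdealOf ⟨y, hyU⟩).asIdeal ≤ (hU.primeIdealOf ⟨x, hxU⟩).asIdeal := by
  change hU.primeIdealOf ⟨y, hyU⟩ ≤ hU.primeIdealOf ⟨x, hxU⟩
  rw [PrimeSpectrum.le_iff_specializes]
  have hemb := hU.fromSpec.isOpenEmbedding.isInducing
  refine hemb.specializes_iff.mp ?_
  rw [hU.fromSpec_primeIdealOf, hU.fromSpec_primeIdealOf]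
  exact h

/-- Incomparability for integral morphisms of schemes: there are no proper specializations within
a fibre. -/
theorem eq_of_specializes_of_isIntegralHom {X Y : Scheme.{u}} (f : X ⟶ Y) [IsIntegralHom f]
    {x y : X} (h : y ⤳ x) (hf : f x = f y) : x = y := by
  obtain ⟨_, ⟨V, hV, rfl⟩, hsV, -⟩ :=
    Y.isBasis_affineOpens.exists_subset_of_mem_open (Set.mem_univ (f x)) isOpen_univ
  have hV : IsAffineOpen V := hV
  have hsV : f x ∈ V := hsV
  have hU : IsAffineOpen (f ⁻¹ᵁ V) := hV.preimage f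
  have hxU : x ∈ f ⁻¹ᵁ V := hsV
  have hyU : y ∈ f ⁻¹ᵁ V := h.mem_open (f ⁻¹ᵁ V).2 hxU
  have hle := primeIdealOf_le_of_specializes hU hxU hyU h
  have hcx := IsAffineOpen.comap_primeIdealOf_appLE (f := f) (x := x) V hV (f ⁻¹ᵁ V) hU le_rfl hxU
  have hcy := IsAffineOpen.comap_primeIdealOf_appLE (f := f) (x := y) V hV (f ⁻¹ᵁ V) hU le_rfl hyU
  have hcomap : (hU.primeIdealOf ⟨x, hxU⟩).comap (f.appLE V (f ⁻¹ᵁ V) le_rfl).hom =
      (hU.primeIdealOf ⟨y, hyU⟩).comap (f.appLE V (f ⁻¹ᵁ V) le_rfl).hom := by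
    rw [hcx, hcy]
    congr 1
    exact Subtype.ext hf
  have hint : (f.appLE V (f ⁻¹ᵁ V) le_rfl).hom.IsIntegral := by
    rw [← Scheme.Hom.app_eq_appLE]
    exact IsIntegralHom.isIntegral_app f V hV
  have heq : (hU.primeIdealOf ⟨y, hyU⟩).asIdeal = (hU.primeIdealOf ⟨x, hxU⟩).asIdeal := by
    by_contra hne
    have hlt : (hU.primeIdealOf ⟨y, hyU⟩).asIdeal < (hU.primeIdealOf ⟨x, hxU⟩).asIdeal :=
      lt_of_le_of_ne hle hne
    letI : Algebra Γ(Y, V) Γ(X, f ⁻¹ᵁ V) := (f.appLE V (f ⁻¹ᵁ V) le_rfl).hom.toAlgebra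
    haveI : Algebra.IsIntegral Γ(Y, V) Γ(X, f ⁻¹ᵁ V) := ⟨hint⟩
    have := Ideal.IsIntegral.comap_lt_comap (R := Γ(Y, V)) hlt
    have h2 := congrArg PrimeSpectrum.asIdeal hcomap
    exact this.ne h2.symm
  have h3 : hU.primeIdealOf ⟨y, hyU⟩ = hU.primeIdealOf ⟨x, hxU⟩ := PrimeSpectrum.ext heq
  have h4 := congrArg hU.fromSpec h3
  rw [hU.fromSpec_primeIdealOf, hU.fromSpec_primeIdealOf] at h4
  exact h4.symm

noncomputable section annOver

open Groth.Agent.H8 Curv2

variable {X Y : Scheme.{u}} (f : X ⟶ Y) (M : X.Modules)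

/-- The annihilator in `Γ(Y, V)` of a section `m` of `M` over `W ≤ f ⁻¹ V`. -/
def annOver (V : Y.Opens) (W : X.Opens) (h : W ≤ f ⁻¹ᵁ V) (m : Γ(M, W)) : Ideal Γ(Y, V) :=
  (Submodule.span Γ(X, W) {m}).annihilator.comap (f.appLE V W h).hom

lemma mem_annOver {V : Y.Opens} {W : X.Opens} (h : W ≤ f ⁻¹ᵁ V) (m : Γ(M, W)) (a : Γ(Y, V)) :
    a ∈ annOver f M V W h m ↔ (f.appLE V W h).hom a • m = 0 := by
  rw [annOver, Ideal.mem_comap, Submodule.mem_annihilator_span_singleton]

lemma res_appLE {V : Y.Opens} {W W' : X.Opens} (h : W ≤ f ⁻¹ᵁ V) (h' : W' ≤ W) (a : Γ(Y, V)) :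
    X.presheaf.map (homOfLE h').op ((f.appLE V W h).hom a) = (f.appLE V W' (h'.trans h)).hom a := by
  have := f.appLE_map h (homOfLE h').op
  exact congrArg (fun φ => φ.hom a) this

lemma annOver_sup {V : Y.Opens} {S U : X.Opens} (h : S ⊔ U ≤ f ⁻¹ᵁ V) (m : Γ(M, S ⊔ U)) :
    annOver f M V (S ⊔ U) h m =
      annOver f M V S (le_sup_left.trans h) (M.presheaf.map (homOfLE le_sup_left).op m) ⊓
      annOver f M V U (le_sup_right.trans h) (M.presheaf.map (homOfLE le_sup_right).op m) := by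
  ext a
  rw [Ideal.mem_inf, mem_annOver, mem_annOver, mem_annOver]
  constructor
  · intro ha
    constructor
    · rw [← res_appLE f h le_sup_left, ← res_smul, ha, map_zero]
    · rw [← res_appLE f h le_sup_right, ← res_smul, ha, map_zero]
  · rintro ⟨h1, h2⟩
    apply eq_of_res₂ M
    · rw [map_zero, res_smul, res_appLE, h1]
    · rw [map_zero, res_smul, res_appLE, h2]

set_option backward.isDefEq.respectTransparency false in
/-- Affine case: a minimal prime over the annihilator (in `Γ(Y, V)`) of a section over an affine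
open `U` comes from a weakly associated point in `U`. -/
theorem exists_isWeakAssPoint_of_mem_minimalPrimes_annOver_affine [M.IsQuasicoherent]
    {V : Y.Opens} (hV : IsAffineOpen V) {U : X.Opens} (hU : IsAffineOpen U) (h : U ≤ f ⁻¹ᵁ V)
    (m : Γ(M, U)) {p : Ideal Γ(Y, V)} (hp : p ∈ (annOver f M V U h m).minimalPrimes) :
    ∃ (x : X) (hx : x ∈ U), IsWeakAssPoint M x ∧
      (hV.primeIdealOf ⟨f x, h hx⟩).asIdeal = p := by
  obtain ⟨q, hq, hqp⟩ := Ideal.exists_minimalPrimes_comap_eq (f.appLE V U h).hom p hp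
  have hqprime : q.IsPrime := hq.1.1
  let q' : PrimeSpectrum Γ(X, U) := ⟨q, hqprime⟩
  refine ⟨hU.fromSpec q', fromSpec_mem hU q', ?_, ?_⟩
  · rw [isWeakAssPoint_iff_mem_weakAss M hU (fromSpec_mem hU q'), primeIdealOf_fromSpec]
    exact ⟨m, hq⟩
  · have h2 := IsAffineOpen.comap_primeIdealOf_appLE (f := f) (x := hU.fromSpec q') V hV U hU h
      (fromSpec_mem hU q')
    rw [primeIdealOf_fromSpec] at h2
    rw [← h2]
    exact hqp

/-- Quasi-compact case, by induction on a finite affine cover. -/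
theorem exists_isWeakAssPoint_of_mem_minimalPrimes_annOver [M.IsQuasicoherent]
    {V : Y.Opens} (hV : IsAffineOpen V) (W : X.Opens) (hW : IsCompact (W : Set X)) :
    ∀ (h : W ≤ f ⁻¹ᵁ V) (m : Γ(M, W)) {p : Ideal Γ(Y, V)},
      p ∈ (annOver f M V W h m).minimalPrimes →
      ∃ (x : X) (hx : x ∈ W), IsWeakAssPoint M x ∧
        (hV.primeIdealOf ⟨f x, h hx⟩).asIdeal = p := by
  refine compact_open_induction_on (P := fun W : X.Opens => ∀ (h : W ≤ f ⁻¹ᵁ V) (m : Γ(M, W))
      {p : Ideal Γ(Y, V)}, p ∈ (annOver f M V W h m).minimalPrimes →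
      ∃ (x : X) (hx : x ∈ W), IsWeakAssPoint M x ∧
        (hV.primeIdealOf ⟨f x, h hx⟩).asIdeal = p) W hW ?_ ?_
  · intro h m p hp
    exfalso
    have hm : m = 0 := sections_bot_eq M rfl _ _
    have htop : annOver f M V ⊥ h m = ⊤ := by
      rw [Ideal.eq_top_iff_one, mem_annOver, hm, smul_zero]
    rw [htop, Ideal.minimalPrimes_top] at hp
    exact hp
  · intro S _ U IH h m p hp
    rw [annOver_sup] at hp
    have hpprime : p.IsPrime := hp.1.1
    have hle := hp.1.2
    rcases (Ideal.IsPrime.inf_le hpprime).mp hle with h1 | h1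
    · have hp1 : p ∈ (annOver f M V S (le_sup_left.trans h)
          (M.presheaf.map (homOfLE le_sup_left).op m)).minimalPrimes := by
        refine ⟨⟨hpprime, h1⟩, fun q hq hqp => hp.2 ⟨hq.1, inf_le_left.trans hq.2⟩ hqp⟩
      obtain ⟨x, hx, hxw, hxp⟩ := IH (le_sup_left.trans h) _ hp1
      exact ⟨x, le_sup_left (a := S) (b := U.1) hx, hxw, hxp⟩
    · have hp2 : p ∈ (annOver f M V U.1 (le_sup_right.trans h)
          (M.presheaf.map (homOfLE le_sup_right).op m)).minimalPrimes := by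
        refine ⟨⟨hpprime, h1⟩, fun q hq hqp => hp.2 ⟨hq.1, inf_le_right.trans hq.2⟩ hqp⟩
      obtain ⟨x, hx, hxw, hxp⟩ := exists_isWeakAssPoint_of_mem_minimalPrimes_annOver_affine f M hV
        U.2 (le_sup_right.trans h) _ hp2
      exact ⟨x, le_sup_right (a := S) (b := U.1) hx, hxw, hxp⟩

set_option backward.isDefEq.respectTransparency false in
/-- **Weakly associated points of a pushforward along a quasi-compact quasi-separated morphism**
come from weakly associated points. -/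
theorem exists_isWeakAssPoint_of_pushforward_qcqs [QuasiCompact f] [QuasiSeparated f]
    [M.IsQuasicoherent] (y : Y)
    (hy : IsWeakAssPoint ((Scheme.Modules.pushforward f).obj M) y) :
    ∃ x : X, f x = y ∧ IsWeakAssPoint M x := by
  have : ((Scheme.Modules.pushforward f).obj M).IsQuasicoherent :=
    isQuasicoherent_pushforward_of_qcqs f M
  obtain ⟨_, ⟨V, hV, rfl⟩, hyV, -⟩ :=
    Y.isBasis_affineOpens.exists_subset_of_mem_open (Set.mem_univ y) isOpen_univ
  have hV : IsAffineOpen V := hV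
  have hyV : y ∈ V := hyV
  rw [isWeakAssPoint_iff_mem_weakAss _ hV hyV] at hy
  obtain ⟨m, hm⟩ := hy
  have hann : (Submodule.span Γ(Y, V) {m}).annihilator =
      annOver f M V (f ⁻¹ᵁ V) le_rfl (show Γ(M, f ⁻¹ᵁ V) from m) := by
    ext a
    rw [Submodule.mem_annihilator_span_singleton, mem_annOver, ← Scheme.Hom.app_eq_appLE]
    rfl
  rw [hann] at hm
  obtain ⟨x, hx, hxw, hxp⟩ := exists_isWeakAssPoint_of_mem_minimalPrimes_annOver f M hV (f ⁻¹ᵁ V)
    (f.isCompact_preimage hV.isCompact) le_rfl _ hm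
  refine ⟨x, ?_, hxw⟩
  have h3 : hV.primeIdealOf ⟨f x, hx⟩ = hV.primeIdealOf ⟨y, hyV⟩ := PrimeSpectrum.ext hxp
  have h4 := congrArg hV.fromSpec h3
  rw [hV.fromSpec_primeIdealOf, hV.fromSpec_primeIdealOf] at h4
  exact h4

set_option backward.isDefEq.respectTransparency false in
/-- Variant of `H8.isWeakAssPoint_pushforward_of_isWeakAssPoint` where only one affine open `V`
containing `f x` with affine preimage is required. -/
theorem isWeakAssPoint_pushforward_of_isAffineOpen_preimage [IsLocallyNoetherian X]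
    [M.IsQuasicoherent] (x : X) {V : Y.Opens} (hV : IsAffineOpen V) (hsV : f x ∈ V)
    (hU : IsAffineOpen (f ⁻¹ᵁ V)) (hx : IsWeakAssPoint M x) :
    IsWeakAssPoint ((Scheme.Modules.pushforward f).obj M) (f x) := by
  have hxU : x ∈ f ⁻¹ᵁ V := hsV
  have hloc := isLocalizingOn_pushforward f M V hU
  rw [hloc.isWeakAssPoint_iff_mem_weakAss hV hsV]
  rw [isWeakAssPoint_iff_mem_weakAss M hU hxU] at hx
  have : IsNoetherianRing Γ(X, f ⁻¹ᵁ V) := IsLocallyNoetherian.component_noetherian ⟨_, hU⟩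
  let _ : Algebra Γ(Y, V) Γ(X, f ⁻¹ᵁ V) := (f.app V).hom.toAlgebra
  let _ : Module Γ(Y, V) Γ(M, f ⁻¹ᵁ V) :=
    inferInstanceAs (Module Γ(Y, V) Γ((Scheme.Modules.pushforward f).obj M, V))
  have : IsScalarTower Γ(Y, V) Γ(X, f ⁻¹ᵁ V) Γ(M, f ⁻¹ᵁ V) :=
    .of_algebraMap_smul fun r m => rfl
  have h1 := comap_mem_weakAss_of_isNoetherianRing (A := Γ(Y, V)) (B := Γ(X, f ⁻¹ᵁ V))
    (M := Γ(M, f ⁻¹ᵁ V)) hx
  have h2 := IsAffineOpen.comap_primeIdealOf_appLE (f := f) (x := x) V hV (f ⁻¹ᵁ V) hU le_rfl hxU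
  have h3 : (hV.primeIdealOf ⟨f x, hsV⟩).asIdeal =
      Ideal.comap (algebraMap Γ(Y, V) Γ(X, f ⁻¹ᵁ V)) (hU.primeIdealOf ⟨x, hxU⟩).asIdeal := by
    rw [← h2]
    change Ideal.comap (f.appLE V (f ⁻¹ᵁ V) le_rfl).hom _ = Ideal.comap (f.app V).hom _
    rw [Scheme.Hom.app_eq_appLE]
  rw [h3]
  exact h1

/-- Weakly associated points of the pushforward of a quasi-coherent module along an open immersion
into a locally Noetherian scheme are exactly the images of the weakly associated points. -/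
theorem isWeakAssPoint_pushforward_openImmersion_iff [IsLocallyNoetherian Y] [IsOpenImmersion f]
    [M.IsQuasicoherent] (y : Y) :
    IsWeakAssPoint ((Scheme.Modules.pushforward f).obj M) y ↔
      ∃ x : X, f x = y ∧ IsWeakAssPoint M x := by
  have : IsLocallyNoetherian X := isLocallyNoetherian_of_isOpenImmersion f
  constructor
  · exact exists_isWeakAssPoint_of_pushforward_qcqs f M y
  · rintro ⟨x, rfl, hx⟩
    obtain ⟨_, ⟨V, hV, rfl⟩, hsV, hVU⟩ :=
      Y.isBasis_affineOpens.exists_subset_of_mem_open (show f x ∈ f.opensRange from ⟨x, rfl⟩)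
        f.opensRange.2
    have hV : IsAffineOpen V := hV
    exact isWeakAssPoint_pushforward_of_isAffineOpen_preimage f M x hV hsV
      (hV.preimage_of_isOpenImmersion f hVU) hx

end annOver

section sections

open Groth.Agent.H8 Curv2

set_option backward.isDefEq.respectTransparency false in
/-- On a locally Noetherian scheme, a weakly associated point `x` of a quasi-coherent module lying
outside an open `U` gives, on any affine open `V ∋ x`, a nonzero section over `V` vanishing on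
`V ⊓ U`. -/
theorem exists_section_ne_zero_res_eq_zero {X : Scheme.{u}} [IsLocallyNoetherian X]
    (M : X.Modules) [M.IsQuasicoherent] (U : X.Opens) {x : X} (hx : IsWeakAssPoint M x)
    (hxU : x ∉ U) {V : X.Opens} (hV : IsAffineOpen V) (hxV : x ∈ V) :
    ∃ s : Γ(M, V), s ≠ 0 ∧ M.presheaf.map (homOfLE (inf_le_left : V ⊓ U ≤ V)).op s = 0 := by
  have : IsNoetherianRing Γ(X, V) := IsLocallyNoetherian.component_noetherian ⟨V, hV⟩
  rw [isWeakAssPoint_iff_mem_weakAss M hV hxV] at hx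
  obtain ⟨m, hm⟩ := hx
  rw [← Submodule.bot_colon'] at hm
  obtain ⟨m', hm'⟩ := Submodule.exists_eq_colon_of_mem_minimalPrimes hm
  have hann : ∀ a : Γ(X, V), a ∈ (hV.primeIdealOf ⟨x, hxV⟩).asIdeal ↔ a • m' = 0 := by
    intro a
    rw [hm', Submodule.mem_colon_singleton, Submodule.mem_bot]
  refine ⟨m', ?_, ?_⟩
  · intro h0
    have : (1 : Γ(X, V)) ∈ (hV.primeIdealOf ⟨x, hxV⟩).asIdeal := by
      rw [hann, h0, smul_zero]
    exact (hV.primeIdealOf ⟨x, hxV⟩).isPrime.ne_top ((Ideal.eq_top_iff_one _).mpr this)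
  · apply TopCat.Presheaf.section_ext (abSheaf M)
    intro y hy
    have hyV : y ∈ V := hy.1
    have hyU : y ∈ U := hy.2
    rw [map_zero]
    change M.presheaf.germ (V ⊓ U) y hy (M.presheaf.map (homOfLE inf_le_left).op m') = 0
    rw [TopCat.Presheaf.germ_res_apply M.presheaf (homOfLE inf_le_left) y hy m']
    -- the prime of `x` is not contained in the prime of `y`
    have hnle : ¬ (hV.primeIdealOf ⟨x, hxV⟩).asIdeal ≤ (hV.primeIdealOf ⟨y, hyV⟩).asIdeal := by
      intro hle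
      have hsp : hV.fromSpec (hV.primeIdealOf ⟨x, hxV⟩) ⤳ hV.fromSpec (hV.primeIdealOf ⟨y, hyV⟩) :=
        fromSpec_specializes hV hle
      rw [hV.fromSpec_primeIdealOf, hV.fromSpec_primeIdealOf] at hsp
      exact hxU (hsp.mem_open U.2 hyU)
    obtain ⟨a, hax, hay⟩ := Set.not_subset.mp hnle
    let _ := stalkModule M hyV
    have := isLocalizedModule_germₗ M hV hyV
    have h1 : germₗ M hyV m' = 0 := by
      rw [IsLocalizedModule.eq_zero_iff (hV.primeIdealOf ⟨y, hyV⟩).asIdeal.primeCompl]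
      exact ⟨⟨a, hay⟩, (hann a).mp hax⟩
    exact h1

end sections

end Groth.Agent.H13
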