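import Mathlib
import Groth.Agent.H20.AdicQuot

/-!
# Tensoring a residue-field-like algebra with the completion (helper13)

For a Noetherian local ring `A` and an `A`-algebra `K` killed by the maximal ideal,
`K → K ⊗_A Â` is bijective.
-/

set_option autoImplicit false
set_option linter.unusedSectionVars false
universe u

namespace Groth.Agent.H13.ComplFibre

open IsLocalRing TensorProduct

variable (A : Type u) [CommRing A] [IsLocalRing A] [IsNoetherianRing A]
  (K : Type u) [CommRing K] [Algebra A K]

/-- the retraction `K ⊗_A Â → K`. -/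
noncomputable def retr (hK : ∀ a ∈ maximalIdeal A, algebraMap A K a = 0) :
    K ⊗[A] AdicCompletion (maximalIdeal A) A →ₐ[A] K :=
  Algebra.TensorProduct.lift (AlgHom.id A K)
    ((Ideal.Quotient.liftₐ (maximalIdeal A ^ 1) (Algebra.ofId A K) (fun a ha => by
      rw [pow_one] at ha
      exact hK a ha)).comp (AdicCompletion.evalₐ (maximalIdeal A) 1))
    (fun _ _ => Commute.all _ _)

theorem retr_includeLeft (hK : ∀ a ∈ maximalIdeal A, algebraMap A K a = 0) (k : K) :
    retr A K hK (k ⊗ₜ 1) = k := by
  rw [retr, Algebra.TensorProduct.lift_tmul, map_one, mul_one]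
  rfl

theorem tmul_eq_zero_of_mem (hK : ∀ a ∈ maximalIdeal A, algebraMap A K a = 0)
    (c : AdicCompletion (maximalIdeal A) A)
    (hc : c ∈ (maximalIdeal A ^ 1).map (algebraMap A (AdicCompletion (maximalIdeal A) A))) :
    ∀ k : K, k ⊗ₜ[A] c = 0 := by
  rw [Ideal.map] at hc
  induction hc using Submodule.span_induction with
  | mem c hc =>
    obtain ⟨μ, hμ, rfl⟩ := hc
    intro k
    rw [pow_one] at hμ
    rw [Algebra.algebraMap_eq_smul_one, ← TensorProduct.smul_tmul, Algebra.smul_def, hK μ hμ,
      zero_mul, TensorProduct.zero_tmul]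
  | zero => intro k; exact TensorProduct.tmul_zero _ k
  | add c d _ _ hc hd => intro k; rw [TensorProduct.tmul_add, hc k, hd k, add_zero]
  | smul d c _ hc =>
    intro k
    have h1 : k ⊗ₜ[A] (d • c) = (k ⊗ₜ[A] c) * ((1 : K) ⊗ₜ[A] d) := by
      rw [Algebra.TensorProduct.tmul_mul_tmul, mul_one, smul_eq_mul, mul_comm]
    rw [h1, hc k, zero_mul]

theorem includeLeft_bijective (hK : ∀ a ∈ maximalIdeal A, algebraMap A K a = 0) :
    Function.Bijective (Algebra.TensorProduct.includeLeft :
      K →ₐ[A] K ⊗[A] AdicCompletion (maximalIdeal A) A) := by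
  constructor
  · intro k k' h
    have := congrArg (retr A K hK) h
    rwa [Algebra.TensorProduct.includeLeft_apply, Algebra.TensorProduct.includeLeft_apply,
      retr_includeLeft, retr_includeLeft] at this
  · intro z
    induction z using TensorProduct.induction_on with
    | zero => exact ⟨0, map_zero _⟩
    | add z w hz hw =>
      obtain ⟨a, rfl⟩ := hz
      obtain ⟨b, rfl⟩ := hw
      exact ⟨a + b, map_add _ a b⟩
    | tmul k c =>
      obtain ⟨a, ha⟩ := Ideal.Quotient.mk_surjective (AdicCompletion.evalₐ (maximalIdeal A) 1 c)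
      have hmem : c - algebraMap A _ a ∈
          (maximalIdeal A ^ 1).map (algebraMap A (AdicCompletion (maximalIdeal A) A)) := by
        rw [← Groth.Agent.H20.ker_evalₐ_eq_map _ (IsNoetherian.noetherian _), RingHom.mem_ker,
          map_sub, sub_eq_zero]
        exact ha.symm.trans ((AdicCompletion.evalₐ (maximalIdeal A) 1).commutes a).symm
      refine ⟨a • k, ?_⟩
      rw [Algebra.TensorProduct.includeLeft_apply]
      have h2 := tmul_eq_zero_of_mem A K hK _ hmem k
      rw [TensorProduct.tmul_sub, sub_eq_zero] at h2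
      rw [h2, Algebra.algebraMap_eq_smul_one, TensorProduct.smul_tmul]

end Groth.Agent.H13.ComplFibre
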