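import Groth.Agent.H13.ComplFibreAlg
import Groth.Agent.H49.FibreStalk
import Groth.Agent.H20.EtaleRegular
import Groth.Prelude.Def_Curv2

/-!
# The fibre of the base change to the completion over a point above the closed point (helper13)
-/

set_option autoImplicit false
universe u

noncomputable section

namespace Groth.Agent.H13.ComplFibre

open CategoryTheory CategoryTheory.Limits AlgebraicGeometry IsLocalRing TensorProduct

/-- a scheme isomorphic to the spectrum of a field has fields as local rings. -/
theorem isField_stalk_of_iso {F : Scheme.{u}} (K : Type u) [Field K]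
    (e : F ≅ Spec (CommRingCat.of K)) (z : F) : IsField (F.presheaf.stalk z) := by
  have h1 : IsField ((Spec (CommRingCat.of K)).presheaf.stalk (e.hom z)) := by
    rw [IsLocalRing.isField_iff_maximalIdeal_eq]
    exact Groth.Agent.H49.FibreStalk.maximalIdeal_stalk_spec_field K (e.hom z)
  exact MulEquiv.isField h1
    (asIso (e.hom.stalkMap z)).commRingCatIsoToRingEquiv.symm.toMulEquiv

variable (A : Type u) [CommRing A] [IsLocalRing A] [IsNoetherianRing A]
  {X : Scheme.{u}} (f : X ⟶ Spec (CommRingCat.of A))

theorem map_closedPoint (y : ↥(Curv2.bcCpl A f))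
    (hy : (Curv2.bcCplSnd A f).base y = closedPoint (Curv2.cpl A)) :
    f ((Curv2.bcCplFst A f) y) = closedPoint A := by
  have h1 : f ((Curv2.bcCplFst A f) y) =
      (Spec.map (CommRingCat.ofHom (algebraMap A (Curv2.cpl A)))) ((Curv2.bcCplSnd A f) y) := by
    rw [← Scheme.Hom.comp_apply, ← Scheme.Hom.comp_apply]
    exact congrArg (fun k : Curv2.bcCpl A f ⟶ Spec (CommRingCat.of A) => k y) pullback.condition
  rw [h1]
  have h2 : (Curv2.bcCplSnd A f) y = closedPoint (Curv2.cpl A) := hy
  rw [h2]
  exact IsLocalRing.comap_closedPoint (algebraMap A (Curv2.cpl A))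

/-- For a point `y` of `X ×_A Â` above the closed point, `𝔪_x 𝒪_{Y,y} = 𝔪_y`. -/
theorem fibreIdeal_eq_maximalIdeal (y : ↥(Curv2.bcCpl A f))
    (hy : (Curv2.bcCplSnd A f).base y = closedPoint (Curv2.cpl A)) :
    Groth.Agent.H49.FibreStalk.fibreIdeal (Curv2.bcCplFst A f) y =
      maximalIdeal ((Curv2.bcCpl A f).presheaf.stalk y) := by
  set x := (Curv2.bcCplFst A f) y with hx
  have hfx : f x = closedPoint A := map_closedPoint A f y hy
  let φ : CommRingCat.of A ⟶ X.residueField x := Spec.preimage (X.fromSpecResidueField x ≫ f)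
  have hφ : Spec.map φ = X.fromSpecResidueField x ≫ f := Spec.map_preimage _
  let _ : Algebra A (X.residueField x) := φ.hom.toAlgebra
  have halg : Spec.map (CommRingCat.ofHom (algebraMap A (X.residueField x))) =
      X.fromSpecResidueField x ≫ f := hφ
  have hK : ∀ a ∈ maximalIdeal A, algebraMap A (X.residueField x) a = 0 := by
    intro a ha
    let p₀ : Spec (X.residueField x) := closedPoint (X.residueField x)
    have h1 : (Spec.map φ) p₀ = closedPoint A := by
      rw [hφ, Scheme.Hom.comp_apply]
      have h2 : (X.fromSpecResidueField x) p₀ = x := Scheme.fromSpecResidueField_apply x p₀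
      rw [h2, hfx]
    have h3 : a ∈ ((Spec.map φ) p₀).asIdeal := by
      rw [h1]
      exact ha
    have h4 : φ.hom a ∈ p₀.asIdeal := h3
    have h5 : p₀.asIdeal = ⊥ := by
      change maximalIdeal (X.residueField x) = ⊥
      exact IsLocalRing.maximalIdeal_eq_bot
    rw [h5] at h4
    exact h4
  let eK : X.residueField x ≃+* (X.residueField x) ⊗[A] Curv2.cpl A :=
    RingEquiv.ofBijective (Algebra.TensorProduct.includeLeft :
      X.residueField x →ₐ[A] (X.residueField x) ⊗[A] Curv2.cpl A)
      (includeLeft_bijective A (X.residueField x) hK)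
  have hfld : IsField ((X.residueField x) ⊗[A] Curv2.cpl A) :=
    MulEquiv.isField (Field.toIsField (X.residueField x)) eK.symm.toMulEquiv
  let _ : Field ((X.residueField x) ⊗[A] Curv2.cpl A) := hfld.toField
  let E : (Curv2.bcCplFst A f).fiber x ≅
      Spec (CommRingCat.of ((X.residueField x) ⊗[A] Curv2.cpl A)) :=
    pullbackSymmetry _ _ ≪≫
      pullbackRightPullbackFstIso f (Spec.map (CommRingCat.ofHom (algebraMap A (Curv2.cpl A))))
        (X.fromSpecResidueField x) ≪≫
      pullback.congrHom halg.symm rfl ≪≫ pullbackSpecIso A (X.residueField x) (Curv2.cpl A)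
  have h6 : IsField (((Curv2.bcCplFst A f).fiber x).presheaf.stalk
      ((Curv2.bcCplFst A f).asFiber y)) :=
    isField_stalk_of_iso _ E _
  have h7 : IsField ((Curv2.bcCpl A f).presheaf.stalk y ⧸
      Groth.Agent.H49.FibreStalk.fibreIdeal (Curv2.bcCplFst A f) y) :=
    MulEquiv.isField h6
      (Groth.Agent.H49.FibreStalk.quotientEquivStalkAsFiber (Curv2.bcCplFst A f) y).toMulEquiv
  have h8 : (Groth.Agent.H49.FibreStalk.fibreIdeal (Curv2.bcCplFst A f) y).IsMaximal :=
    Ideal.Quotient.maximal_of_isField _ h7
  exact IsLocalRing.eq_maximalIdeal h8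

end Groth.Agent.H13.ComplFibre
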