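import Mathlib
import Groth.Prelude.Def_FSch3
import Groth.Agent.H20.ComplMap
import Groth.Agent.H20.ComplBij
import Groth.Agent.H23.FlatDescent

/-!
# Local homomorphisms inducing isomorphisms on completions

* `quotientMap_pow_bijective_of_flat`: a flat local homomorphism `R → R'` with `m_R R' = m_R'` and
  trivial residue field extension induces bijections `R/m^n → R'/m'^n`.
* `bijective_of_sub_mem_sq`: an endomorphism of a `J`-adically complete ring congruent to the
  identity modulo `J²` is bijective.
* `flat_of_complMap_bijective`: a local homomorphism of Noetherian local rings inducing an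
  isomorphism on completions is flat, with `m_B R' = m_R'` and trivial residue field extension.
-/

set_option autoImplicit false
set_option linter.style.haveILetI false
set_option linter.unusedSectionVars false
set_option linter.unusedVariables false
universe u

namespace Groth.Agent.H13.ComplIsoEtale

open IsLocalRing

section R1

variable {R R' : Type u} [CommRing R] [CommRing R'] [IsLocalRing R] [IsLocalRing R']
  (ε : R →+* R')

theorem isLocalHom_of_map_le (hm : (maximalIdeal R).map ε ≤ maximalIdeal R') : IsLocalHom ε :=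
  ((IsLocalRing.local_hom_TFAE ε).out 0 2).mpr hm

/-- surjectivity modulo powers. -/
theorem exists_sub_mem_pow (hm : (maximalIdeal R).map ε = maximalIdeal R')
    (hres : ∀ r' : R', ∃ r : R, r' - ε r ∈ maximalIdeal R') (n : ℕ) (r' : R') :
    ∃ r : R, r' - ε r ∈ maximalIdeal R' ^ n := by
  induction n with
  | zero => exact ⟨0, by rw [pow_zero, Ideal.one_eq_top]; trivial⟩
  | succ n ih =>
    obtain ⟨r₀, hr₀⟩ := ih
    -- every element of `m'^n` is `ε r + element of m'^(n+1)` with `r ∈ m^n`
    have key : ∀ x ∈ (maximalIdeal R ^ n).map ε,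
        ∃ r ∈ maximalIdeal R ^ n, x - ε r ∈ maximalIdeal R' ^ (n + 1) := by
      intro x hx
      refine Submodule.span_induction (p := fun x _ => ∃ r ∈ maximalIdeal R ^ n,
        x - ε r ∈ maximalIdeal R' ^ (n + 1)) ?_ ?_ ?_ ?_ hx
      · rintro _ ⟨r, hr, rfl⟩
        exact ⟨r, hr, by rw [sub_self]; exact Ideal.zero_mem _⟩
      · exact ⟨0, Ideal.zero_mem _, by simp⟩
      · rintro x y _ _ ⟨r, hr, hx⟩ ⟨s, hs, hy⟩
        refine ⟨r + s, Ideal.add_mem _ hr hs, ?_⟩
        have : x + y - ε (r + s) = (x - ε r) + (y - ε s) := by rw [map_add]; ring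
        rw [this]
        exact Ideal.add_mem _ hx hy
      · rintro a x _ ⟨r, hr, hx⟩
        obtain ⟨t, ht⟩ := hres a
        refine ⟨t * r, Ideal.mul_mem_left _ _ hr, ?_⟩
        have h1 : a • x - ε (t * r) = a * (x - ε r) + (a - ε t) * ε r := by
          rw [smul_eq_mul, map_mul]; ring
        rw [h1]
        refine Ideal.add_mem _ (Ideal.mul_mem_left _ _ hx) ?_
        have h2 : ε r ∈ maximalIdeal R' ^ n := by
          rw [← hm, ← Ideal.map_pow]
          exact Ideal.mem_map_of_mem _ hr
        rw [pow_succ']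
        exact Ideal.mul_mem_mul ht h2
    have hmem : r' - ε r₀ ∈ (maximalIdeal R ^ n).map ε := by
      rw [Ideal.map_pow, hm]; exact hr₀
    obtain ⟨r, -, hr⟩ := key _ hmem
    refine ⟨r₀ + r, ?_⟩
    have : r' - ε (r₀ + r) = r' - ε r₀ - ε r := by rw [map_add]; ring
    rw [this]
    exact hr

theorem mem_pow_of_map_mem_pow (hfl : ε.Flat) (hm : (maximalIdeal R).map ε = maximalIdeal R')
    (n : ℕ) (r : R) (hr : ε r ∈ maximalIdeal R' ^ n) : r ∈ maximalIdeal R ^ n := by
  letI : Algebra R R' := ε.toAlgebra
  haveI : Module.Flat R R' := hfl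
  haveI : IsLocalHom (algebraMap R R') := isLocalHom_of_map_le ε hm.le
  haveI : Module.FaithfullyFlat R R' := Module.FaithfullyFlat.of_flat_of_isLocalHom
  have h1 : algebraMap R R' r ∈ (maximalIdeal R ^ n).map (algebraMap R R') := by
    rw [Ideal.map_pow]
    change ε r ∈ ((maximalIdeal R).map ε) ^ n
    rw [hm]; exact hr
  have h2 := Ideal.comap_map_eq_self_of_faithfullyFlat (B := R') (maximalIdeal R ^ n)
  rw [← h2]
  exact h1

/-- **R1**: bijections on truncations. -/
theorem quotientMap_pow_bijective_of_flat (hfl : ε.Flat)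
    (hm : (maximalIdeal R).map ε = maximalIdeal R')
    (hres : ∀ r' : R', ∃ r : R, r' - ε r ∈ maximalIdeal R') (n : ℕ) :
    Function.Bijective (Ideal.quotientMap (maximalIdeal R' ^ n) ε
      (FSch.pow_le_comap_pow_of_map_le (maximalIdeal R) (maximalIdeal R') ε hm.le n)) := by
  constructor
  · rw [injective_iff_map_eq_zero]
    intro x hx
    obtain ⟨r, rfl⟩ := Ideal.Quotient.mk_surjective x
    rw [Ideal.quotientMap_mk, Ideal.Quotient.eq_zero_iff_mem] at hx
    exact Ideal.Quotient.eq_zero_iff_mem.mpr (mem_pow_of_map_mem_pow ε hfl hm n r hx)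
  · intro y
    obtain ⟨r', rfl⟩ := Ideal.Quotient.mk_surjective y
    obtain ⟨r, hr⟩ := exists_sub_mem_pow ε hm hres n r'
    refine ⟨Ideal.Quotient.mk _ r, ?_⟩
    rw [Ideal.quotientMap_mk]
    exact (Ideal.Quotient.eq.mpr hr).symm

/-- **R2**: the map on completions is bijective. -/
theorem complMap_bijective_of_flat (hfl : ε.Flat)
    (hm : (maximalIdeal R).map ε = maximalIdeal R')
    (hres : ∀ r' : R', ∃ r : R, r' - ε r ∈ maximalIdeal R') :
    Function.Bijective (FSch.complMap (maximalIdeal R) (maximalIdeal R') ε hm.le) :=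
  Groth.Agent.H20.complMap_bijective _ _ _ hm.le
    (fun n => quotientMap_pow_bijective_of_flat ε hfl hm hres n)

end R1

section R4

variable {C : Type*} [CommRing C] (J : Ideal C)

theorem sub_mem_pow_succ (θ : C →+* C) (h : ∀ c, θ c - c ∈ J ^ 2) (k : ℕ) :
    ∀ c ∈ J ^ k, θ c - c ∈ J ^ (k + 1) := by
  induction k with
  | zero =>
    intro c _
    rw [zero_add, pow_one]
    exact Ideal.pow_le_self (by norm_num) (h c)
  | succ k ih =>
    intro c hc
    rw [pow_succ] at hc
    refine Submodule.mul_induction_on hc ?_ ?_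
    · intro a ha b hb
      have h1 : θ (a * b) - a * b = (θ a - a) * θ b + a * (θ b - b) := by
        rw [map_mul]; ring
      rw [h1]
      have hθb : θ b ∈ J := by
        have : θ b = b + (θ b - b) := by ring
        rw [this]
        exact Ideal.add_mem _ hb (Ideal.pow_le_self (by norm_num) (h b))
      refine Ideal.add_mem _ ?_ ?_
      · have := Ideal.mul_mem_mul (ih a ha) hθb
        rwa [← pow_succ] at this
      · have := Ideal.mul_mem_mul ha (h b)
        rwa [← pow_add] at this
    · intro x y hx hy
      have : θ (x + y) - (x + y) = (θ x - x) + (θ y - y) := by rw [map_add]; ring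
      rw [this]
      exact Ideal.add_mem _ hx hy

theorem map_mem_pow (θ : C →+* C) (h : ∀ c, θ c - c ∈ J ^ 2) (k : ℕ) (c : C) (hc : c ∈ J ^ k) :
    θ c ∈ J ^ k := by
  have : θ c = c + (θ c - c) := by ring
  rw [this]
  exact Ideal.add_mem _ hc (Ideal.pow_le_pow_right (Nat.le_succ k) (sub_mem_pow_succ J θ h k c hc))

/-- **R4**: an endomorphism congruent to the identity modulo `J²` of a `J`-adically complete ring
is bijective. -/
theorem bijective_of_sub_mem_sq [IsAdicComplete J C] (θ : C →+* C) (h : ∀ c, θ c - c ∈ J ^ 2) :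
    Function.Bijective θ := by
  have hH : ∀ x : C, (∀ n, x ∈ J ^ n) → x = 0 := by
    intro x hx
    apply IsHausdorff.haus (inferInstance : IsHausdorff J C)
    intro n
    rw [SModEq.zero, smul_eq_mul, Ideal.mul_top]
    exact hx n
  constructor
  · rw [injective_iff_map_eq_zero]
    intro c hc
    apply hH
    intro n
    induction n with
    | zero => rw [pow_zero, Ideal.one_eq_top]; trivial
    | succ n ih =>
      have := sub_mem_pow_succ J θ h n c ih
      rw [hc, zero_sub] at this
      exact (Ideal.neg_mem_iff _).mp this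
  · intro d
    -- the sequence `d_j`
    let dseq : ℕ → C := fun j => Nat.rec d (fun _ x => x - θ x) j
    have hd0 : dseq 0 = d := rfl
    have hds : ∀ j, dseq (j + 1) = dseq j - θ (dseq j) := fun j => rfl
    have hdmem : ∀ j, dseq j ∈ J ^ j := by
      intro j
      induction j with
      | zero => rw [pow_zero, Ideal.one_eq_top]; trivial
      | succ j ih =>
        rw [hds]
        have := sub_mem_pow_succ J θ h j _ ih
        rw [← neg_sub]
        exact neg_mem this
    let s : ℕ → C := fun n => ∑ j ∈ Finset.range n, dseq j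
    have hs : ∀ n, θ (s n) = d - dseq n := by
      intro n
      induction n with
      | zero => simp [s, hd0]
      | succ n ih =>
        have : s (n + 1) = s n + dseq n := Finset.sum_range_succ _ _
        rw [this, map_add, ih, hds]
        ring
    have hcauchy : ∀ {m n}, m ≤ n → s m ≡ s n [SMOD (J ^ m • ⊤ : Submodule C C)] := by
      intro m n hmn
      rw [SModEq.sub_mem, smul_eq_mul, Ideal.mul_top]
      have : s m - s n = - ∑ j ∈ Finset.Ico m n, dseq j := by
        have h1 : s n = s m + ∑ j ∈ Finset.Ico m n, dseq j :=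
          (Finset.sum_range_add_sum_Ico _ hmn).symm
        rw [h1]; ring
      rw [this]
      apply neg_mem
      apply Ideal.sum_mem
      intro j hj
      exact Ideal.pow_le_pow_right (Finset.mem_Ico.mp hj).1 (hdmem j)
    obtain ⟨L, hL⟩ := IsPrecomplete.prec (inferInstance : IsPrecomplete J C) hcauchy
    refine ⟨L, ?_⟩
    have : θ L - d = 0 := by
      apply hH
      intro n
      have h1 : s n - L ∈ J ^ n := by
        have := hL n
        rwa [SModEq.sub_mem, smul_eq_mul, Ideal.mul_top] at this
      have h2 : θ L - d = - θ (s n - L) - dseq n := by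
        rw [map_sub, hs]; ring
      rw [h2]
      exact Ideal.sub_mem _ (neg_mem (map_mem_pow J θ h n _ h1)) (hdmem n)
    exact sub_eq_zero.mp this

/-- **R5**. -/
theorem bijective_of_sub_equiv_mem_sq {D : Type*} [CommRing D] (K : Ideal D) [IsAdicComplete J C]
    (ψ : C ≃+* D) (hψ : K.comap (ψ : C →+* D) = J) (a : C →+* D)
    (h : ∀ c, a c - ψ c ∈ K ^ 2) : Function.Bijective a := by
  let θ : C →+* C := (ψ.symm : D →+* C).comp a
  have hθ : ∀ c, θ c - c ∈ J ^ 2 := by
    intro c
    have h1 : θ c - c = ψ.symm (a c - ψ c) := by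
      simp [θ]
    have hJ : J = K.map (ψ.symm : D →+* C) := by
      rw [← hψ]; exact (Ideal.map_symm ψ).symm
    rw [h1, hJ, ← Ideal.map_pow]
    exact Ideal.mem_map_of_mem _ (h c)
  have hb := bijective_of_sub_mem_sq J θ hθ
  have : (a : C → D) = ψ ∘ θ := by
    ext c; simp [θ]
  rw [this]
  exact ψ.bijective.comp hb

end R4

end Groth.Agent.H13.ComplIsoEtale
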