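import Mathlib
import Groth.Agent.H13.ComplIsoEtale
import Groth.Agent.H20.AdicQuot

/-!
# A local homomorphism inducing an isomorphism on completions is flat and unramified
-/

set_option autoImplicit false
set_option linter.style.haveILetI false
set_option linter.unusedSectionVars false
set_option linter.unusedVariables false
universe u

namespace Groth.Agent.H13.ComplIsoEtale

open IsLocalRing

section R3

variable {B R' : Type u} [CommRing B] [CommRing R'] [IsLocalRing B] [IsLocalRing R']
  [IsNoetherianRing B] [IsNoetherianRing R'] (α : B →+* R')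
  (h : (maximalIdeal B).map α ≤ maximalIdeal R')

theorem residue_of_complMap_surjective
    (hs : Function.Surjective (FSch.complMap (maximalIdeal B) (maximalIdeal R') α h)) (n : ℕ)
    (r' : R') : ∃ b : B, r' - α b ∈ maximalIdeal R' ^ n := by
  obtain ⟨c, hc⟩ := hs (AdicCompletion.of _ _ r')
  obtain ⟨b, hb⟩ := Ideal.Quotient.mk_surjective (AdicCompletion.evalₐ (maximalIdeal B) n c)
  refine ⟨b, ?_⟩
  have h1 := congrArg (AdicCompletion.evalₐ (maximalIdeal R') n) hc
  rw [Groth.Agent.H20.evalₐ_complMap, ← hb, Ideal.quotientMap_mk, AdicCompletion.evalₐ_of] at h1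
  exact Ideal.Quotient.eq.mp h1.symm

theorem map_maximalIdeal_eq_of_complMap_surjective
    (hs : Function.Surjective (FSch.complMap (maximalIdeal B) (maximalIdeal R') α h)) :
    (maximalIdeal B).map α = maximalIdeal R' := by
  haveI : IsLocalHom α := isLocalHom_of_map_le α h
  refine le_antisymm h ?_
  apply Submodule.le_of_le_smul_of_le_jacobson_bot (I := maximalIdeal R')
    (IsNoetherian.noetherian _) (IsLocalRing.maximalIdeal_le_jacobson _)
  intro r' hr'
  obtain ⟨b, hb⟩ := residue_of_complMap_surjective α h hs 2 r'
  have hαb : α b ∈ maximalIdeal R' := by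
    have : α b = r' - (r' - α b) := by ring
    rw [this]
    exact Ideal.sub_mem _ hr' (Ideal.pow_le_self (by norm_num) hb)
  have hbm : b ∈ maximalIdeal B := by
    rw [IsLocalRing.mem_maximalIdeal, mem_nonunits_iff]
    intro hu
    exact (IsLocalRing.mem_maximalIdeal _).mp hαb (hu.map α)
  have : r' = α b + (r' - α b) := by ring
  rw [this]
  refine Submodule.add_mem_sup (Ideal.mem_map_of_mem _ hbm) ?_
  rw [smul_eq_mul, ← pow_two]
  exact hb

theorem flat_of_complMap_bijective
    (hb : Function.Bijective (FSch.complMap (maximalIdeal B) (maximalIdeal R') α h)) :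
    α.Flat := by
  letI : Algebra B R' := α.toAlgebra
  set Bh := AdicCompletion (maximalIdeal B) B with hBh
  set Rh := AdicCompletion (maximalIdeal R') R' with hRh
  haveI : Module.Flat R' Rh := AdicCompletion.flat_of_isNoetherian _
  haveI : Module.FaithfullyFlat R' Rh := Module.FaithfullyFlat.of_flat_of_isLocalHom
  haveI : Module.Flat B Bh := AdicCompletion.flat_of_isNoetherian _
  haveI : IsScalarTower B R' Rh := IsScalarTower.of_algebraMap_eq fun b => by
    rw [AdicCompletion.algebraMap_apply]
    rfl
  -- the `B`-linear equivalence `Bh ≃ Rh`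
  let a := FSch.complMap (maximalIdeal B) (maximalIdeal R') α h
  let e : Bh ≃ₗ[B] Rh :=
    { toFun := a
      map_add' := map_add a
      map_smul' := fun b c => by
        simp only [RingHom.id_apply]
        rw [Algebra.smul_def, Algebra.smul_def, map_mul]
        have : a (algebraMap B Bh b) = algebraMap B Rh b := by
          rw [IsScalarTower.algebraMap_apply B R' Rh]
          change a (AdicCompletion.of _ _ b) = AdicCompletion.of _ _ (α b)
          exact Groth.Agent.H20.complMap_of _ _ _ h b
        rw [this]
      invFun := (Equiv.ofBijective a hb).symm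
      left_inv := (Equiv.ofBijective a hb).left_inv
      right_inv := (Equiv.ofBijective a hb).right_inv }
  haveI : Module.Flat B Rh := Module.Flat.of_linearEquiv e.symm
  exact Groth.Agent.H23.flat_of_faithfullyFlat_of_flat B R' Rh

end R3

end Groth.Agent.H13.ComplIsoEtale
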