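import Mathlib
import Groth.Agent.H13.ComplIsoEtale2
import Groth.Agent.H20.AdicUnit

/-!
# Approximating an isomorphism of completions: the ring-level core of S7203
-/

set_option autoImplicit false
set_option linter.style.haveILetI false
set_option linter.unusedSectionVars false
set_option linter.unusedVariables false
universe u

namespace Groth.Agent.H13.ComplIsoEtale

open IsLocalRing

section Ker

variable (A : Type u) [CommRing A] [IsLocalRing A] [IsNoetherianRing A]

theorem ker_evalₐ_eq_pow (n : ℕ) :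
    RingHom.ker (AdicCompletion.evalₐ (maximalIdeal A) n :
      AdicCompletion (maximalIdeal A) A →+* A ⧸ maximalIdeal A ^ n) =
      maximalIdeal (AdicCompletion (maximalIdeal A) A) ^ n := by
  rw [Groth.Agent.H20.ker_evalₐ_eq_map _ (IsNoetherian.noetherian _), Ideal.map_pow,
    ← AdicCompletion.maximalIdeal_eq_map]

theorem evalₐ_eq_zero_iff (n : ℕ) (c : AdicCompletion (maximalIdeal A) A) :
    AdicCompletion.evalₐ (maximalIdeal A) n c = 0 ↔
      c ∈ maximalIdeal (AdicCompletion (maximalIdeal A) A) ^ n := by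
  rw [← ker_evalₐ_eq_pow, RingHom.mem_ker]
  rfl

end Ker

theorem equiv_mem_pow {C D : Type*} [CommRing C] [CommRing D] [IsLocalRing C] [IsLocalRing D]
    (ψ : C ≃+* D) (n : ℕ) (c : C) (hc : c ∈ maximalIdeal C ^ n) : ψ c ∈ maximalIdeal D ^ n := by
  have h1 : (maximalIdeal C).map (ψ : C →+* D) ≤ maximalIdeal D :=
    IsLocalRing.map_maximalIdeal_le (ψ : C →+* D)
  have h2 : (ψ : C →+* D) c ∈ (maximalIdeal C ^ n).map (ψ : C →+* D) := Ideal.mem_map_of_mem _ hc
  rw [Ideal.map_pow] at h2
  exact Ideal.pow_right_mono h1 n h2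

section R6

variable {B R R' : Type u} [CommRing B] [CommRing R] [CommRing R'] [IsLocalRing B] [IsLocalRing R]
  [IsLocalRing R'] [IsNoetherianRing B] [IsNoetherianRing R] [IsNoetherianRing R']
  (α : B →+* R') (ε : R →+* R')
  (φ : AdicCompletion (maximalIdeal B) B ≃+* AdicCompletion (maximalIdeal R) R)

/-- **R6**: the ring-level core. -/
theorem main (hα : (maximalIdeal B).map α ≤ maximalIdeal R') (hεfl : ε.Flat)
    (hεm : (maximalIdeal R).map ε = maximalIdeal R')
    (hεres : ∀ r' : R', ∃ r : R, r' - ε r ∈ maximalIdeal R') (M : ℕ) (hM : 2 ≤ M)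
    (H : ∀ (b : B) (r : R),
      AdicCompletion.evalₐ (maximalIdeal R) M
          (φ (algebraMap B (AdicCompletion (maximalIdeal B) B) b)) =
        Ideal.Quotient.mk (maximalIdeal R ^ M) r →
      Ideal.Quotient.mk (maximalIdeal R' ^ M) (α b) =
        Ideal.Quotient.mk (maximalIdeal R' ^ M) (ε r)) :
    α.Flat ∧ (maximalIdeal B).map α = maximalIdeal R' ∧
      ∀ r' : R', ∃ b : B, r' - α b ∈ maximalIdeal R' := by
  set Bh := AdicCompletion (maximalIdeal B) B with hBh
  set Rh := AdicCompletion (maximalIdeal R) R with hRh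
  set Rh' := AdicCompletion (maximalIdeal R') R' with hRh'
  let a : Bh →+* Rh' := FSch.complMap (maximalIdeal B) (maximalIdeal R') α hα
  let eh : Rh →+* Rh' := FSch.complMap (maximalIdeal R) (maximalIdeal R') ε hεm.le
  have heb : Function.Bijective eh := complMap_bijective_of_flat ε hεfl hεm hεres
  let ψ : Bh ≃+* Rh' := φ.trans (RingEquiv.ofBijective eh heb)
  have hψ : ∀ c, ψ c = eh (φ c) := fun c => rfl
  -- agreement modulo `M`
  have hM' : ∀ c : Bh, AdicCompletion.evalₐ (maximalIdeal R') M (a c) =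
      AdicCompletion.evalₐ (maximalIdeal R') M (ψ c) := by
    intro c
    obtain ⟨b, hb⟩ := Ideal.Quotient.mk_surjective (AdicCompletion.evalₐ (maximalIdeal B) M c)
    have h1 : AdicCompletion.evalₐ (maximalIdeal R') M (a c) =
        Ideal.Quotient.mk _ (α b) := by
      rw [Groth.Agent.H20.evalₐ_complMap, ← hb, Ideal.quotientMap_mk]
    -- `c - of b` lies in the `M`-th power of the maximal ideal
    have h2 : c - algebraMap B Bh b ∈ maximalIdeal Bh ^ M := by
      rw [← evalₐ_eq_zero_iff, map_sub, ← hb]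
      have : AdicCompletion.evalₐ (maximalIdeal B) M (algebraMap B Bh b) =
          Ideal.Quotient.mk _ b := AdicCompletion.evalₐ_of _ _ _
      rw [this, sub_self]
    have h3 : φ c - φ (algebraMap B Bh b) ∈ maximalIdeal Rh ^ M := by
      rw [← map_sub]
      exact equiv_mem_pow φ M _ h2
    have h4 : AdicCompletion.evalₐ (maximalIdeal R) M (φ c) =
        AdicCompletion.evalₐ (maximalIdeal R) M (φ (algebraMap B Bh b)) := by
      rw [← sub_eq_zero, ← map_sub, evalₐ_eq_zero_iff]
      exact h3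
    obtain ⟨r, hr⟩ := Ideal.Quotient.mk_surjective
      (AdicCompletion.evalₐ (maximalIdeal R) M (φ (algebraMap B Bh b)))
    have h5 : AdicCompletion.evalₐ (maximalIdeal R') M (ψ c) = Ideal.Quotient.mk _ (ε r) := by
      rw [hψ, Groth.Agent.H20.evalₐ_complMap, h4, ← hr, Ideal.quotientMap_mk]
    rw [h1, h5]
    exact H b r hr.symm
  -- agreement modulo the square of the maximal ideal
  have hsq : ∀ c : Bh, a c - ψ c ∈ maximalIdeal Rh' ^ 2 := by
    intro c
    have h1 : a c - ψ c ∈ maximalIdeal Rh' ^ M := by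
      rw [← evalₐ_eq_zero_iff, map_sub, hM' c, sub_self]
    exact Ideal.pow_le_pow_right hM h1
  have hcomap : (maximalIdeal Rh').comap (ψ : Bh →+* Rh') = maximalIdeal Bh :=
    IsLocalRing.maximalIdeal_comap (ψ : Bh →+* Rh')
  have hab : Function.Bijective a :=
    bijective_of_sub_equiv_mem_sq (maximalIdeal Bh) (maximalIdeal Rh') ψ hcomap a hsq
  refine ⟨flat_of_complMap_bijective α hα hab,
    map_maximalIdeal_eq_of_complMap_surjective α hα hab.2, fun r' => ?_⟩
  obtain ⟨b, hb⟩ := residue_of_complMap_surjective α hα hab.2 1 r'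
  exact ⟨b, by simpa using hb⟩

/-- **R7**: agreement modulo `m^N` from agreement modulo `m^(N+1)` on the uncompleted ring. -/
theorem agree (hα : (maximalIdeal B).map α ≤ maximalIdeal R')
    (hε : (maximalIdeal R).map ε ≤ maximalIdeal R') (N : ℕ)
    (H : ∀ (b : B) (r : R),
      AdicCompletion.evalₐ (maximalIdeal R) (N + 1)
          (φ (algebraMap B (AdicCompletion (maximalIdeal B) B) b)) =
        Ideal.Quotient.mk (maximalIdeal R ^ (N + 1)) r →
      Ideal.Quotient.mk (maximalIdeal R' ^ (N + 1)) (α b) =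
        Ideal.Quotient.mk (maximalIdeal R' ^ (N + 1)) (ε r))
    (b : AdicCompletion (maximalIdeal B) B) (cY : B) (cX : R)
    (h1 : AdicCompletion.evalₐ (maximalIdeal B) N b = Ideal.Quotient.mk (maximalIdeal B ^ N) cY)
    (h2 : AdicCompletion.evalₐ (maximalIdeal R) N (φ b) =
      Ideal.Quotient.mk (maximalIdeal R ^ N) cX) :
    α cY - ε cX ∈ maximalIdeal R' ^ N := by
  obtain ⟨c', hc'⟩ := Ideal.Quotient.mk_surjective
    (AdicCompletion.evalₐ (maximalIdeal R) (N + 1) (φ (algebraMap B (AdicCompletion (maximalIdeal B) B) cY)))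
  have e1 : α cY - ε c' ∈ maximalIdeal R' ^ N :=
    Ideal.pow_le_pow_right (Nat.le_succ N) (Ideal.Quotient.eq.mp (H cY c' hc'.symm))
  have e2 : b - algebraMap B (AdicCompletion (maximalIdeal B) B) cY ∈ maximalIdeal (AdicCompletion (maximalIdeal B) B) ^ N := by
    rw [← evalₐ_eq_zero_iff, map_sub, h1]
    have : AdicCompletion.evalₐ (maximalIdeal B) N (algebraMap B (AdicCompletion (maximalIdeal B) B) cY) =
        Ideal.Quotient.mk _ cY := AdicCompletion.evalₐ_of _ _ _
    rw [this, sub_self]
  have e3 : AdicCompletion.evalₐ (maximalIdeal R) N (φ (algebraMap B (AdicCompletion (maximalIdeal B) B) cY)) =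
      Ideal.Quotient.mk _ cX := by
    rw [← h2, eq_comm, ← sub_eq_zero, ← map_sub, ← map_sub, evalₐ_eq_zero_iff]
    exact equiv_mem_pow φ N _ e2
  have e4 : AdicCompletion.evalₐ (maximalIdeal R) N (φ (algebraMap B (AdicCompletion (maximalIdeal B) B) cY)) =
      Ideal.Quotient.mk _ c' := by
    rw [← Groth.Agent.H20.factorPow_evalₐ (maximalIdeal R) (Nat.le_succ N), ← hc',
      Ideal.Quotient.factorPow, Ideal.Quotient.factor_mk]
  have e5 : c' - cX ∈ maximalIdeal R ^ N := Ideal.Quotient.eq.mp (e4.symm.trans e3)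
  have e6 : ε (c' - cX) ∈ maximalIdeal R' ^ N := by
    have : ε (c' - cX) ∈ (maximalIdeal R ^ N).map ε := Ideal.mem_map_of_mem _ e5
    rw [Ideal.map_pow] at this
    exact Ideal.pow_right_mono hε N this
  have : α cY - ε cX = (α cY - ε c') + ε (c' - cX) := by rw [map_sub]; ring
  rw [this]
  exact Ideal.add_mem _ e1 e6

end R6

end Groth.Agent.H13.ComplIsoEtale
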