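import Mathlib

/-!
# The Jacobson radical of a finite algebra over a local ring

For a finite algebra `C` over a local ring `(R, m)`, the ideals `m C` and `Jac C` define the same
adic topology: `m C ≤ Jac C` and `(Jac C)^(e+1) ≤ m C` for some `e`.
-/

set_option autoImplicit false
set_option linter.style.haveILetI false
set_option linter.unusedSectionVars false
universe u

open IsLocalRing

namespace Groth.Agent.H13.JacobsonFinite

variable (R : Type u) [CommRing R] [IsLocalRing R] (C : Type u) [CommRing C] [Algebra R C]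

theorem map_maximalIdeal_le_of_isMaximal [Algebra.IsIntegral R C] (M : Ideal C) [M.IsMaximal] :
    (maximalIdeal R).map (algebraMap R C) ≤ M := by
  have hmax : (M.comap (algebraMap R C)).IsMaximal :=
    Ideal.isMaximal_comap_of_isIntegral_of_isMaximal (R := R) M
  rw [Ideal.map_le_iff_le_comap, eq_maximalIdeal hmax]

theorem map_maximalIdeal_le_jacobson [Algebra.IsIntegral R C] :
    (maximalIdeal R).map (algebraMap R C) ≤ (⊥ : Ideal C).jacobson := by
  rw [Ideal.jacobson]
  refine le_sInf ?_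
  rintro M ⟨-, hM⟩
  haveI := hM
  exact map_maximalIdeal_le_of_isMaximal R C M

theorem exists_jacobson_pow_le [Module.Finite R C] :
    ∃ e : ℕ, (⊥ : Ideal C).jacobson ^ (e + 1) ≤ (maximalIdeal R).map (algebraMap R C) := by
  set I : Ideal C := (maximalIdeal R).map (algebraMap R C) with hI
  letI : Field (R ⧸ maximalIdeal R) := Ideal.Quotient.field (maximalIdeal R)
  haveI : Module.Finite (R ⧸ maximalIdeal R) (C ⧸ I) :=
    Module.Finite.of_restrictScalars_finite R (R ⧸ maximalIdeal R) (C ⧸ I)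
  haveI : IsArtinianRing (C ⧸ I) := IsArtinianRing.of_finite (R ⧸ maximalIdeal R) (C ⧸ I)
  obtain ⟨k, hk⟩ := IsArtinianRing.isNilpotent_jacobson_bot (R := C ⧸ I)
  have hJ : ((⊥ : Ideal C).jacobson).map (Ideal.Quotient.mk I) ≤ (⊥ : Ideal (C ⧸ I)).jacobson := by
    rw [Ideal.map_le_iff_le_comap]
    intro c hc
    rw [Ideal.mem_comap, Ideal.jacobson, Ideal.mem_sInf]
    rintro M ⟨-, hM⟩
    haveI := hM
    have hmax : (M.comap (Ideal.Quotient.mk I)).IsMaximal :=
      Ideal.comap_isMaximal_of_surjective _ Ideal.Quotient.mk_surjective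
    rw [Ideal.jacobson, Ideal.mem_sInf] at hc
    exact hc ⟨bot_le, hmax⟩
  refine ⟨k, ?_⟩
  have h1 : ((⊥ : Ideal C).jacobson ^ k).map (Ideal.Quotient.mk I) = ⊥ := by
    rw [Ideal.map_pow, eq_bot_iff]
    have hk' : (⊥ : Ideal (C ⧸ I)).jacobson ^ k = ⊥ := hk
    rw [← hk']
    exact Ideal.pow_right_mono hJ k
  have h2 : (⊥ : Ideal C).jacobson ^ k ≤ I := by
    rw [← Ideal.mk_ker (I := I)]
    intro c hc
    rw [RingHom.mem_ker]
    have : Ideal.Quotient.mk I c ∈ ((⊥ : Ideal C).jacobson ^ k).map (Ideal.Quotient.mk I) :=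
      Ideal.mem_map_of_mem _ hc
    rw [h1] at this
    exact this
  exact (Ideal.pow_le_pow_right (Nat.le_succ k)).trans h2

end Groth.Agent.H13.JacobsonFinite
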