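import Mathlib
import Groth.Prelude.Def_EGA4b
import Groth.Agent.H14.SerreNormal
import Groth.Agent.H14.SerreLoc
import Groth.Agent.H14.NormalFlatAscent
import Groth.Agent.H13.NormalDescent
import Groth.Agent.H1.FlatDescSub
import Groth.Agent.H72.FinRedCpl
import Groth.Agent.H47.NormalLoc
import Groth.Agent.H47.SmoothNormal

/-!
# Normality of the completion of a subalgebra of a finite algebra (Stacks 0BGB)

Core statement: `B` a Noetherian normal ring, `B'` a flat Noetherian `B`-algebra, `C` a normal
integral `B`-algebra with `B → C` injective.  If `B' ⊗[B] C` is a normal ring, so is `B'`.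
-/

set_option autoImplicit false
set_option linter.style.haveILetI false
set_option linter.unusedSectionVars false
universe u

open TensorProduct IsLocalRing

namespace Groth.Agent.H13.ComplNormalSub

section FlatLoc

variable (B B' C : Type u) [CommRing B] [CommRing B'] [CommRing C] [Algebra B B'] [Algebra B C]

/-- If `C_P` is flat over `B` where `P` is the contraction of the prime `Q` of `B' ⊗[B] C`, then
`(B' ⊗[B] C)_Q` is flat over `B'`. -/
theorem flat_atPrime_tensor (Q : Ideal (B' ⊗[B] C)) [Q.IsPrime] (P : Ideal C) [P.IsPrime]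
    (hP : Q.comap (Algebra.TensorProduct.includeRight : C →ₐ[B] B' ⊗[B] C).toRingHom = P)
    [Module.Flat B (Localization.AtPrime P)] :
    Module.Flat B' (Localization.AtPrime Q) := by
  let C₁ := Localization.AtPrime P
  let C' := B' ⊗[B] C
  let T := B' ⊗[B] C₁
  let φ : C' →ₐ[B'] T :=
    Algebra.TensorProduct.map (AlgHom.id B' B') (IsScalarTower.toAlgHom B C C₁)
  letI : Algebra C' T := φ.toRingHom.toAlgebra
  haveI : IsScalarTower B' C' T := IsScalarTower.of_algebraMap_eq fun x => (φ.commutes x).symm
  have H : (algebraMap C' T).comp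
      (Algebra.TensorProduct.includeRight : C →ₐ[B] B' ⊗[B] C).toRingHom =
      (Algebra.TensorProduct.includeRight : C₁ →ₐ[B] B' ⊗[B] C₁).toRingHom.comp
        (algebraMap C C₁) := by
    ext c
    show φ ((1 : B') ⊗ₜ[B] c) = (1 : B') ⊗ₜ[B] (algebraMap C C₁ c)
    rw [Algebra.TensorProduct.map_tmul]
    simp
  haveI hloc : IsLocalization (P.primeCompl.map
      (Algebra.TensorProduct.includeRight : C →ₐ[B] B' ⊗[B] C)) T :=
    IsLocalization.tensorProduct_tensorProduct_right B B' P.primeCompl C₁ H
  have hunit : ∀ y : (P.primeCompl.map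
      (Algebra.TensorProduct.includeRight : C →ₐ[B] B' ⊗[B] C)),
      IsUnit (algebraMap C' (Localization.AtPrime Q) y) := by
    rintro ⟨_, ⟨c, hc, rfl⟩⟩
    apply IsLocalization.map_units (Localization.AtPrime Q) (⟨_, ?_⟩ : Q.primeCompl)
    intro hmem
    apply hc
    rw [← hP]
    exact hmem
  let ψ : T →+* Localization.AtPrime Q := IsLocalization.lift (M := P.primeCompl.map
      (Algebra.TensorProduct.includeRight : C →ₐ[B] B' ⊗[B] C)) hunit
  letI : Algebra T (Localization.AtPrime Q) := ψ.toAlgebra
  haveI : IsScalarTower C' T (Localization.AtPrime Q) :=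
    IsScalarTower.of_algebraMap_eq fun x => (IsLocalization.lift_eq hunit x).symm
  have hle : (P.primeCompl.map
      (Algebra.TensorProduct.includeRight : C →ₐ[B] B' ⊗[B] C)) ≤ Q.primeCompl := by
    rintro _ ⟨c, hc, rfl⟩ hmem
    apply hc
    rw [← hP]
    exact hmem
  haveI : IsLocalization (Q.primeCompl.map (algebraMap C' T)) (Localization.AtPrime Q) :=
    IsLocalization.isLocalization_of_submonoid_le T (Localization.AtPrime Q) _ Q.primeCompl hle
  haveI : Module.Flat T (Localization.AtPrime Q) :=
    IsLocalization.flat _ (Q.primeCompl.map (algebraMap C' T))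
  haveI : Module.Flat B' T := inferInstance
  haveI : IsScalarTower B' T (Localization.AtPrime Q) := by
    refine IsScalarTower.of_algebraMap_eq (R := B') (S := T) (A := Localization.AtPrime Q)
      fun x => ?_
    rw [IsScalarTower.algebraMap_apply B' C' (Localization.AtPrime Q),
      IsScalarTower.algebraMap_apply C' T (Localization.AtPrime Q),
      ← IsScalarTower.algebraMap_apply B' C' T]
  exact Module.Flat.trans B' T (Localization.AtPrime Q)

end FlatLoc

section Core

variable (B B' C : Type u) [CommRing B] [CommRing B'] [CommRing C] [Algebra B B'] [Algebra B C]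
  [IsNoetherianRing B] [Module.Flat B B'] [Algebra.IsIntegral B C]

/-- Elements of a minimal prime `p₀ ≤ p` die in `B_p` when `B_p` is a domain. -/
theorem algebraMap_eq_zero_of_mem_minimalPrimes (p : Ideal B) [p.IsPrime]
    [IsDomain (Localization.AtPrime p)] (p₀ : Ideal B) (hp₀ : p₀ ∈ (⊥ : Ideal B).minimalPrimes)
    (hle : p₀ ≤ p) (b : B) (hb : b ∈ p₀) : algebraMap B (Localization.AtPrime p) b = 0 := by
  haveI : p₀.IsPrime := hp₀.1.1
  have hk : (RingHom.ker (algebraMap B (Localization.AtPrime p))).IsPrime := RingHom.ker_isPrime _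
  have hkle : RingHom.ker (algebraMap B (Localization.AtPrime p)) ≤ p₀ := by
    intro b' hb'
    rw [RingHom.mem_ker, IsLocalization.map_eq_zero_iff p.primeCompl] at hb'
    obtain ⟨m, hm⟩ := hb'
    have h1 : (m : B) * b' ∈ p₀ := by rw [hm]; exact Ideal.zero_mem _
    rcases Ideal.IsPrime.mem_or_mem inferInstance h1 with h | h
    · exact absurd (hle h) m.2
    · exact h
  exact hp₀.2 ⟨hk, bot_le⟩ hkle hb

theorem normal_at_of_height_le_one (hinj : Function.Injective (algebraMap B C))
    (hB : EGA4.IsNormalRing B) (hC : EGA4.IsNormalRing C) (hC' : EGA4.IsNormalRing (B' ⊗[B] C))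
    (q : Ideal B') [q.IsPrime] (hq : (q.comap (algebraMap B B')).height ≤ 1) :
    IsDomain (Localization.AtPrime q) ∧ IsIntegrallyClosed (Localization.AtPrime q) := by
  set p := q.comap (algebraMap B B') with hp
  haveI : p.IsPrime := Ideal.comap_isPrime _ _
  obtain ⟨p₀, hp₀min, hp₀le⟩ := Ideal.exists_minimalPrimes_le (bot_le : (⊥ : Ideal B) ≤ p)
  haveI : p₀.IsPrime := hp₀min.1.1
  have hker : (⊥ : Ideal C).comap (algebraMap B C) = ⊥ := by
    rw [← RingHom.ker_eq_comap_bot]
    exact (RingHom.injective_iff_ker_eq_bot _).mp hinj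
  obtain ⟨P₀, hP₀min, hP₀⟩ := Ideal.exists_minimalPrimes_comap_eq (I := (⊥ : Ideal C))
    (algebraMap B C) p₀ (by rw [hker]; exact hp₀min)
  haveI : P₀.IsPrime := hP₀min.1.1
  obtain ⟨P₁, hP₁ge, hP₁prime, hP₁⟩ :=
    Ideal.exists_ideal_over_prime_of_isIntegral_of_isPrime p P₀ (by rw [hP₀]; exact hp₀le)
  haveI := hP₁prime
  obtain ⟨Q, hQ1, hQ2⟩ := Groth.Agent.H1.FlatDescSub.exists_prime_tensorProduct B B' C
    ⟨q, inferInstance⟩ ⟨P₁, inferInstance⟩ (by
      apply PrimeSpectrum.ext
      show q.comap (algebraMap B B') = P₁.comap (algebraMap B C)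
      rw [hP₁])
  have hQ1' : Q.asIdeal.comap (algebraMap B' (B' ⊗[B] C)) = q := congrArg PrimeSpectrum.asIdeal hQ1
  have hQ2' : Q.asIdeal.comap
      (Algebra.TensorProduct.includeRight : C →ₐ[B] B' ⊗[B] C).toRingHom = P₁ :=
    congrArg PrimeSpectrum.asIdeal hQ2
  -- local rings
  obtain ⟨hBd, hBic⟩ := hB p
  obtain ⟨hCd, hCic⟩ := hC P₁
  obtain ⟨hC'd, hC'ic⟩ := hC' Q.asIdeal
  letI : Algebra (Localization.AtPrime p) (Localization.AtPrime P₁) :=
    (Localization.localRingHom p P₁ (algebraMap B C) hP₁.symm).toAlgebra
  haveI : IsScalarTower B (Localization.AtPrime p) (Localization.AtPrime P₁) := by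
    refine IsScalarTower.of_algebraMap_eq (R := B) (S := Localization.AtPrime p)
      (A := Localization.AtPrime P₁) fun x => ?_
    rw [RingHom.algebraMap_toAlgebra, Localization.localRingHom_to_map,
      ← IsScalarTower.algebraMap_apply]
  -- `B_p` is a Dedekind domain
  have hdim : ringKrullDim (Localization.AtPrime p) ≤ 1 := by
    rw [IsLocalization.AtPrime.ringKrullDim_eq_height p]
    exact_mod_cast hq
  haveI : Ring.KrullDimLE 1 (Localization.AtPrime p) := Ring.krullDimLE_iff.mpr hdim
  haveI : Ring.DimensionLEOne (Localization.AtPrime p) :=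
    ⟨fun h hp' => (Ring.krullDimLE_one_iff_of_noZeroDivisors.mp inferInstance) _ h hp'⟩
  haveI : IsDedekindDomain (Localization.AtPrime p) := { }
  -- torsion-freeness
  have hinj₁ : Function.Injective (algebraMap (Localization.AtPrime p) (Localization.AtPrime P₁)) := by
    rw [injective_iff_map_eq_zero]
    intro x hx
    obtain ⟨⟨b, s⟩, hbs⟩ := IsLocalization.surj p.primeCompl x
    simp only at hbs
    have h1 : algebraMap B (Localization.AtPrime P₁) b = 0 := by
      rw [IsScalarTower.algebraMap_apply B (Localization.AtPrime p) (Localization.AtPrime P₁), ← hbs,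
        map_mul, hx, zero_mul]
    rw [IsScalarTower.algebraMap_apply B C (Localization.AtPrime P₁),
      IsLocalization.map_eq_zero_iff P₁.primeCompl] at h1
    obtain ⟨m, hm⟩ := h1
    have h2 : (m : C) * algebraMap B C b ∈ P₀ := by rw [hm]; exact Ideal.zero_mem _
    have h3 : algebraMap B C b ∈ P₀ := by
      rcases Ideal.IsPrime.mem_or_mem inferInstance h2 with h | h
      · exact absurd (hP₁ge h) m.2
      · exact h
    have h4 : b ∈ p₀ := by rw [← hP₀]; exact h3
    have h5 := algebraMap_eq_zero_of_mem_minimalPrimes B p p₀ hp₀min hp₀le b h4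
    rw [h5] at hbs
    have hu : IsUnit (algebraMap B (Localization.AtPrime p) s) := IsLocalization.map_units _ s
    exact (hu.mul_left_eq_zero).mp hbs
  haveI : Module.IsTorsionFree (Localization.AtPrime p) (Localization.AtPrime P₁) :=
    Module.isTorsionFree_iff_algebraMap_injective.mpr hinj₁
  haveI : Module.Flat (Localization.AtPrime p) (Localization.AtPrime P₁) := inferInstance
  haveI : Module.Flat B (Localization.AtPrime P₁) :=
    Module.Flat.trans B (Localization.AtPrime p) (Localization.AtPrime P₁)
  haveI hflat : Module.Flat B' (Localization.AtPrime Q.asIdeal) :=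
    flat_atPrime_tensor B B' C Q.asIdeal P₁ hQ2'
  letI : Algebra (Localization.AtPrime q) (Localization.AtPrime Q.asIdeal) :=
    (Localization.localRingHom q Q.asIdeal (algebraMap B' (B' ⊗[B] C)) hQ1'.symm).toAlgebra
  haveI : IsScalarTower B' (Localization.AtPrime q) (Localization.AtPrime Q.asIdeal) := by
    refine IsScalarTower.of_algebraMap_eq (R := B') (S := Localization.AtPrime q)
      (A := Localization.AtPrime Q.asIdeal) fun x => ?_
    rw [RingHom.algebraMap_toAlgebra, Localization.localRingHom_to_map,
      ← IsScalarTower.algebraMap_apply]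
  haveI : Module.Flat (Localization.AtPrime q) (Localization.AtPrime Q.asIdeal) :=
    (Module.flat_iff_of_isLocalization (Localization.AtPrime q) q.primeCompl _).mpr hflat
  haveI : IsLocalHom (algebraMap (Localization.AtPrime q) (Localization.AtPrime Q.asIdeal)) := by
    rw [RingHom.algebraMap_toAlgebra]
    exact Localization.isLocalHom_localRingHom q Q.asIdeal _ hQ1'.symm
  haveI : Module.FaithfullyFlat (Localization.AtPrime q) (Localization.AtPrime Q.asIdeal) :=
    Module.FaithfullyFlat.of_flat_of_isLocalHom
  exact Groth.Agent.H13.isDomain_and_isIntegrallyClosed_of_faithfullyFlat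
    (Localization.AtPrime q) (Localization.AtPrime Q.asIdeal)

theorem height_maximalIdeal_atPrime {R : Type u} [CommRing R] (p : Ideal R) [p.IsPrime] :
    (maximalIdeal (Localization.AtPrime p)).height = p.height := by
  have h := IsLocalization.height_under p.primeCompl (maximalIdeal (Localization.AtPrime p))
  rw [← h]
  congr 1
  exact Localization.AtPrime.under_maximalIdeal (I := p)

/-- Height and depth go up along the flat map `B_p → B'_q`. -/
theorem height_le_and_depth_le [IsNoetherianRing B'] (q : Ideal B') [q.IsPrime] :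
    (q.comap (algebraMap B B')).height ≤ q.height ∧
      LocCoh.idealDepth (maximalIdeal (Localization.AtPrime (q.comap (algebraMap B B'))))
        (Localization.AtPrime (q.comap (algebraMap B B'))) ≤
      LocCoh.idealDepth (maximalIdeal (Localization.AtPrime q)) (Localization.AtPrime q) := by
  letI : Algebra (Localization.AtPrime (q.comap (algebraMap B B'))) (Localization.AtPrime q) :=
    (Localization.localRingHom (q.comap (algebraMap B B')) q (algebraMap B B') rfl).toAlgebra
  haveI : IsLocalHom (algebraMap (Localization.AtPrime (q.comap (algebraMap B B')))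
      (Localization.AtPrime q)) := by
    rw [RingHom.algebraMap_toAlgebra]
    exact Localization.isLocalHom_localRingHom _ q _ rfl
  haveI : Module.Flat (Localization.AtPrime (q.comap (algebraMap B B'))) (Localization.AtPrime q) := by
    have hf : (algebraMap B B').Flat := RingHom.flat_algebraMap_iff.2 inferInstance
    exact RingHom.Flat.localRingHom hf q (q.comap (algebraMap B B')) rfl
  constructor
  · have h := Groth.Agent.H14.height_maximalIdeal_eq_add_of_flat
      (Localization.AtPrime (q.comap (algebraMap B B'))) (Localization.AtPrime q)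
    rw [height_maximalIdeal_atPrime, height_maximalIdeal_atPrime] at h
    rw [h]
    exact le_self_add
  · have h := Groth.Agent.H72.FlatCM.depth_eq_add_of_flat
      (A := Localization.AtPrime (q.comap (algebraMap B B'))) (B := Localization.AtPrime q)
    unfold LocCoh.depth at h
    rw [h]
    exact le_self_add

/-- **Core.**  `B` Noetherian normal, `B'` flat Noetherian over `B`, `C` normal and integral over
`B` with `B → C` injective.  If `B' ⊗[B] C` is normal then so is `B'`. -/
theorem isNormalRing_of_tensor [IsNoetherianRing B'] (hinj : Function.Injective (algebraMap B C))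
    (hB : EGA4.IsNormalRing B) (hC : EGA4.IsNormalRing C) (hC' : EGA4.IsNormalRing (B' ⊗[B] C)) :
    EGA4.IsNormalRing B' := by
  have hBS := (Groth.Agent.H14.serre_criterion_normal B).mp hB
  have hS2B := (Groth.Agent.H14.hasSk_self_iff 2 B).mp hBS.2
  apply (Groth.Agent.H14.serre_criterion_normal B').mpr
  constructor
  · intro q hq hq1
    have h1 : (q.comap (algebraMap B B')).height ≤ 1 :=
      (height_le_and_depth_le B B' q).1.trans hq1
    obtain ⟨hd, hic⟩ := normal_at_of_height_le_one B B' C hinj hB hC hC' q h1
    apply Groth.Agent.H14.isRegularLocalRing_of_isIntegrallyClosed_of_dim_le_one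
    rw [height_maximalIdeal_atPrime]
    exact hq1
  · rw [Groth.Agent.H14.hasSk_self_iff]
    intro q hq
    by_cases h1 : (q.comap (algebraMap B B')).height ≤ 1
    · obtain ⟨hd, hic⟩ := normal_at_of_height_le_one B B' C hinj hB hC hC' q h1
      have h2 := Groth.Agent.H14.min_two_height_le_idealDepth_of_isIntegrallyClosed
        (Localization.AtPrime q)
      rw [height_maximalIdeal_atPrime] at h2
      exact_mod_cast h2
    · have h2 := hS2B (q.comap (algebraMap B B'))
      have h3 : (2 : ℕ∞) ≤ (q.comap (algebraMap B B')).height := by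
        rw [not_le] at h1
        exact Order.add_one_le_of_lt h1
      have h4 : min ((2 : ℕ) : ℕ∞) (q.comap (algebraMap B B')).height = 2 := by
        rw [min_eq_left]
        · rfl
        · exact_mod_cast h3
      rw [h4] at h2
      exact (min_le_left _ _).trans (le_trans (by exact_mod_cast h2)
        (height_le_and_depth_le B B' q).2)

end Core

end Groth.Agent.H13.ComplNormalSub
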