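import Mathlib
import Groth.Prelude.Def_Found
import Groth.Agent.H14.NormalLocus.Crit

/-!
# A criterion for N-1 (Stacks 0333 / Matsumura 31.G)

A Noetherian domain `R` is N-1 iff some `R_f` (`f ≠ 0`) is integrally closed and all localizations
at maximal ideals are N-1.  The proof of the converse uses the denominator ideals and the finite set
`Ass(R/fR)`.
-/

set_option autoImplicit false
set_option linter.style.haveILetI false
set_option linter.unusedSectionVars false
universe u

namespace Groth.Agent.H13.N1Crit

open nonZeroDivisors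

section Denominator

variable {R : Type u} [CommRing R] [IsDomain R] [IsNoetherianRing R] (f : R) (hf : f ≠ 0)

local notation "K" => FractionRing R

include hf in
/-- If `f y ∈ R` but `y ∉ R`, the denominator ideal of `y` lies in an associated prime of `R/fR`. -/
theorem exists_ass_of_not_mem (y : K) (r₀ : R)
    (hr₀ : algebraMap R K f * y = algebraMap R K r₀) (hy : ¬ ∃ r : R, y = algebraMap R K r) :
    ∃ Q ∈ associatedPrimes R (R ⧸ Ideal.span {f}),
      ∀ s r : R, algebraMap R K s * y = algebraMap R K r → s ∈ Q := by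
  have hf' : algebraMap R K f ≠ 0 := by simpa using hf
  have hinj := IsFractionRing.injective R K
  -- the denominator ideal
  let J : Ideal R :=
    { carrier := {s | ∃ r : R, algebraMap R K s * y = algebraMap R K r}
      add_mem' := by
        rintro a b ⟨ra, ha⟩ ⟨rb, hb⟩
        exact ⟨ra + rb, by rw [map_add, add_mul, ha, hb, map_add]⟩
      zero_mem' := ⟨0, by simp⟩
      smul_mem' := by
        rintro c a ⟨ra, ha⟩
        exact ⟨c * ra, by rw [smul_eq_mul, map_mul, mul_assoc, ha, map_mul]⟩ }
  have hJne : J ≠ ⊤ := by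
    intro htop
    have h1 : (1 : R) ∈ J := htop ▸ Submodule.mem_top
    obtain ⟨r, hr⟩ := h1
    exact hy ⟨r, by simpa using hr⟩
  obtain ⟨M, hM, hJM⟩ := Ideal.exists_le_maximal J hJne
  haveI : M.IsPrime := hM.isPrime
  have hJ : ∀ s : R, s ∈ J ↔ f ∣ s * r₀ := by
    intro s
    constructor
    · rintro ⟨r, hr⟩
      refine ⟨r, hinj ?_⟩
      rw [map_mul, map_mul, ← hr₀, ← hr]
      ring
    · rintro ⟨r, hr⟩
      refine ⟨r, mul_left_cancel₀ hf' ?_⟩
      rw [← map_mul, ← hr, map_mul, ← hr₀]
      ring
  obtain ⟨Q, hQmin, hQp⟩ := Ideal.exists_minimalPrimes_le hJM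
  haveI hQprime : Q.IsPrime := hQmin.1.1
  have hQass : Q ∈ associatedPrimes R (R ⧸ J) := by
    apply Module.associatedPrimes.minimalPrimes_annihilator_subset_associatedPrimes R (R ⧸ J)
    rwa [Ideal.annihilator_quotient]
  obtain ⟨-, x, hx⟩ := isAssociatedPrime_iff.mp hQass
  obtain ⟨x, rfl⟩ := Ideal.Quotient.mk_surjective x
  have hQmem : ∀ s : R, s ∈ Q ↔ s * x ∈ J := by
    intro s
    rw [hx, Submodule.mem_colon_singleton, Submodule.mem_bot, Algebra.smul_def,
      Ideal.Quotient.algebraMap_eq, ← map_mul, Ideal.Quotient.eq_zero_iff_mem]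
  have hQass' : Q ∈ associatedPrimes R (R ⧸ Ideal.span {f}) := by
    refine isAssociatedPrime_iff.mpr ⟨hQprime, Ideal.Quotient.mk _ (x * r₀), ?_⟩
    ext s
    rw [hQmem, hJ, Submodule.mem_colon_singleton, Submodule.mem_bot, Algebra.smul_def,
      Ideal.Quotient.algebraMap_eq, ← map_mul, Ideal.Quotient.eq_zero_iff_mem,
      Ideal.mem_span_singleton, mul_assoc]
  exact ⟨Q, hQass', fun s r hsr => hQmin.1.2 ⟨r, hsr⟩⟩

include hf in
/-- If `f ^ n * y ∈ R` and the denominator ideal of `y` is contained in no associated prime of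
`R/fR`, then `y ∈ R`. -/
theorem mem_of_forall_ass : ∀ (n : ℕ) (y : K) (r₀ : R),
    algebraMap R K (f ^ n) * y = algebraMap R K r₀ →
    (∀ Q ∈ associatedPrimes R (R ⧸ Ideal.span {f}),
      ∃ s ∉ Q, ∃ r : R, algebraMap R K s * y = algebraMap R K r) →
    ∃ r : R, y = algebraMap R K r := by
  intro n
  induction n with
  | zero =>
    intro y r₀ h₀ _
    exact ⟨r₀, by simpa using h₀⟩
  | succ n ih =>
    intro y r₀ h₀ h
    have hstep : ∃ r' : R, algebraMap R K (f ^ n) * y = algebraMap R K r' := by
      by_contra hcon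
      obtain ⟨Q, hQ, hQall⟩ := exists_ass_of_not_mem f hf (algebraMap R K (f ^ n) * y) r₀
        (by rw [← mul_assoc, ← map_mul, ← pow_succ']; exact h₀) hcon
      obtain ⟨s, hsQ, r, hr⟩ := h Q hQ
      refine hsQ (hQall s (f ^ n * r) ?_)
      rw [map_mul, ← hr]
      ring
    obtain ⟨r', hr'⟩ := hstep
    exact ih y r' hr' h

end Denominator

theorem fg_iff_finite {R A : Type*} [CommRing R] [CommRing A] [Algebra R A] (S : Subalgebra R A) :
    S.toSubmodule.FG ↔ Module.Finite R S :=
  (Module.Finite.iff_fg (N := S.toSubmodule)).symm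

section Basic

variable (R : Type u) [CommRing R] [IsDomain R]

/-- N-1 can be tested in any fraction field. -/
theorem isN1_iff (K : Type u) [Field K] [Algebra R K] [IsFractionRing R K] :
    CAlg.IsN1 R ↔ Module.Finite R (integralClosure R K) := by
  let e : FractionRing R ≃ₐ[R] K := FractionRing.algEquiv R K
  have h1 : (integralClosure R (FractionRing R)).map (e : FractionRing R →ₐ[R] K) =
      integralClosure R K := integralClosure_map_algEquiv e
  have h2 : (integralClosure R K).map (e.symm : K →ₐ[R] FractionRing R) =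
      integralClosure R (FractionRing R) := integralClosure_map_algEquiv e.symm
  unfold CAlg.IsN1
  rw [← fg_iff_finite, ← fg_iff_finite]
  constructor
  · intro h
    rw [← h1, Subalgebra.map_toSubmodule]
    exact h.map _
  · intro h
    rw [← h2, Subalgebra.map_toSubmodule]
    exact h.map _

end Basic

section Loc

variable {R : Type u} [CommRing R] [IsDomain R] (M : Submonoid R)
  (Rm : Type u) [CommRing Rm] [Algebra R Rm] [IsLocalization M Rm]
  (K : Type u) [Field K] [Algebra R K] [Algebra Rm K] [IsScalarTower R Rm K]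

include M in
/-- the integral closure of a localization is spanned by the integral closure -/
theorem span_integralClosure :
    Submodule.span Rm ((integralClosure R K : Subalgebra R K) : Set K) =
      (integralClosure Rm K).toSubmodule := by
  apply le_antisymm
  · rw [Submodule.span_le]
    intro x hx
    exact IsIntegral.tower_top (A := Rm) hx
  · intro y hy
    obtain ⟨t, ht⟩ := IsIntegral.exists_multiple_integral_of_isLocalization M y hy
    have hunit : IsUnit (algebraMap R Rm t) := IsLocalization.map_units Rm t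
    obtain ⟨u, hu⟩ := hunit
    have hy' : y = (↑u⁻¹ : Rm) • ((t : R) • y) := by
      rw [← IsScalarTower.algebraMap_smul Rm (t : R) y, ← hu, smul_smul, Units.inv_mul, one_smul]
    rw [hy']
    exact Submodule.smul_mem _ _ (Submodule.subset_span ht)

include M in
/-- finiteness of the integral closure localizes -/
theorem finite_integralClosure_localization (h : Module.Finite R (integralClosure R K)) :
    Module.Finite Rm (integralClosure Rm K) := by
  rw [← fg_iff_finite] at h ⊢
  obtain ⟨T, hT⟩ := h
  refine ⟨T, ?_⟩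
  rw [← span_integralClosure M Rm K]
  have : ((integralClosure R K : Subalgebra R K) : Set K) =
      ((Submodule.span R (T : Set K) : Submodule R K) : Set K) := by
    rw [hT]
    rfl
  rw [this, Submodule.span_span_of_tower]

variable [IsFractionRing R K]

/-- uniform bound on the `f`-denominators of integral elements, locally. -/
theorem exists_pow_denominator (h : Module.Finite Rm (integralClosure Rm K)) (f : R)
    (hf1 : ∀ y : K, IsIntegral R y → ∃ (n : ℕ) (r : R),
      algebraMap R K (f ^ n) * y = algebraMap R K r) :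
    ∃ N : ℕ, ∀ y : K, IsIntegral R y → ∃ s ∈ M, ∃ r : R,
      algebraMap R K s * (algebraMap R K (f ^ N) * y) = algebraMap R K r := by
  classical
  rw [← fg_iff_finite] at h
  obtain ⟨T, hT⟩ := h
  -- each generator has bounded denominator
  have hgen : ∀ w ∈ T, ∃ (n : ℕ) (c : Rm), algebraMap R K (f ^ n) * w = algebraMap Rm K c := by
    intro w hw
    have hwint : IsIntegral Rm w := by
      have : w ∈ (integralClosure Rm K).toSubmodule := hT ▸ Submodule.subset_span hw
      exact this
    obtain ⟨t, ht⟩ := IsIntegral.exists_multiple_integral_of_isLocalization M w hwint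
    obtain ⟨n, r, hr⟩ := hf1 _ ht
    have hunit : IsUnit (algebraMap R Rm t) := IsLocalization.map_units Rm t
    obtain ⟨u, hu⟩ := hunit
    refine ⟨n, ↑u⁻¹ * algebraMap R Rm r, ?_⟩
    have h1 : algebraMap Rm K (↑u : Rm) * (algebraMap R K (f ^ n) * w) = algebraMap R K r := by
      rw [hu, ← IsScalarTower.algebraMap_apply R Rm K, ← hr, Submonoid.smul_def, Algebra.smul_def]
      ring
    rw [map_mul, ← IsScalarTower.algebraMap_apply R Rm K, ← h1, ← mul_assoc, ← map_mul,
      Units.inv_mul, map_one, one_mul]
  choose! nf cf hcf using hgen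
  let N : ℕ := T.sup nf
  refine ⟨N, fun y hy => ?_⟩
  -- the submodule of elements with `f^N`-bounded denominators
  have hyW : y ∈ Submodule.span Rm (T : Set K) := by
    rw [hT]
    exact IsIntegral.tower_top (A := Rm) hy
  have hmain : ∃ c : Rm, algebraMap R K (f ^ N) * y = algebraMap Rm K c := by
    refine Submodule.span_induction (p := fun z _ => ∃ c : Rm,
      algebraMap R K (f ^ N) * z = algebraMap Rm K c) ?_ ?_ ?_ ?_ hyW
    · intro w hw
      have hle : nf w ≤ N := Finset.le_sup (f := nf) hw
      refine ⟨algebraMap R Rm (f ^ (N - nf w)) * cf w, ?_⟩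
      rw [map_mul, ← hcf w hw, ← IsScalarTower.algebraMap_apply R Rm K, ← mul_assoc, ← map_mul,
        ← pow_add, Nat.sub_add_cancel hle]
    · exact ⟨0, by simp⟩
    · rintro a b _ _ ⟨ca, ha⟩ ⟨cb, hb⟩
      exact ⟨ca + cb, by rw [mul_add, ha, hb, map_add]⟩
    · rintro c a _ ⟨ca, ha⟩
      refine ⟨c * ca, ?_⟩
      rw [Algebra.smul_def, mul_left_comm, ha, map_mul]
  obtain ⟨c, hc⟩ := hmain
  obtain ⟨r, s, rfl⟩ := IsLocalization.exists_mk'_eq M c
  refine ⟨s, s.2, r, ?_⟩
  rw [hc, IsScalarTower.algebraMap_apply R Rm K, ← map_mul, mul_comm, IsLocalization.mk'_spec,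
    ← IsScalarTower.algebraMap_apply R Rm K]

end Loc

section Main

variable (R : Type u) [CommRing R] [IsDomain R] [IsNoetherianRing R]

local notation "K" => FractionRing R

/-- (⟹), first half: an N-1 domain has a normal basic open. -/
theorem exists_away_isIntegrallyClosed (h : CAlg.IsN1 R) :
    ∃ f : R, f ≠ 0 ∧ IsIntegrallyClosed (Localization.Away f) := by
  have h' : Module.Finite R (integralClosure R K) := h
  rw [← fg_iff_finite] at h'
  obtain ⟨T, hT⟩ := h'
  obtain ⟨b, hb⟩ := IsLocalization.exist_integer_multiples_of_finset (nonZeroDivisors R) T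
  have hb0 : (b : R) ≠ 0 := nonZeroDivisors.ne_zero b.2
  refine ⟨b, hb0, ?_⟩
  have hpowers : Submonoid.powers (b : R) ≤ R⁰ :=
    Submonoid.powers_le.mpr (mem_nonZeroDivisors_of_ne_zero hb0)
  rw [Groth.Agent.H14.NormalLocus.isIntegrallyClosed_localization_iff (Localization.Away (b : R))
    (Submonoid.powers (b : R)) hpowers]
  intro y hy
  refine ⟨b, Submonoid.mem_powers _, ?_⟩
  have hyT : y ∈ Submodule.span R (T : Set K) := by
    rw [hT]
    exact hy
  refine Submodule.span_induction (p := fun z _ => ∃ r : R,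
    algebraMap R K (b : R) * z = algebraMap R K r) ?_ ?_ ?_ ?_ hyT
  · intro w hw
    obtain ⟨r, hr⟩ := hb w hw
    exact ⟨r, by rw [← Algebra.smul_def]; exact hr.symm⟩
  · exact ⟨0, by simp⟩
  · rintro a c _ _ ⟨ra, ha⟩ ⟨rc, hc⟩
    exact ⟨ra + rc, by rw [mul_add, ha, hc, map_add]⟩
  · rintro c a _ ⟨ra, ha⟩
    refine ⟨c * ra, ?_⟩
    rw [Algebra.smul_def, mul_left_comm, ha, map_mul]

/-- `K = Frac R` as an algebra over a localization of `R` inside it. -/
@[reducible] noncomputable def algLoc (p : Ideal R) [p.IsPrime] :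
    Algebra (Localization.AtPrime p) K :=
  (IsLocalization.map K (T := R⁰) (RingHom.id R) p.primeCompl_le_nonZeroDivisors :
    Localization.AtPrime p →+* K).toAlgebra

theorem isScalarTower_algLoc (p : Ideal R) [p.IsPrime] :
    letI := algLoc R p
    IsScalarTower R (Localization.AtPrime p) K := by
  letI := algLoc R p
  refine IsScalarTower.of_algebraMap_eq' ?_
  change algebraMap R K = (IsLocalization.map K (T := R⁰) (RingHom.id R)
    p.primeCompl_le_nonZeroDivisors : Localization.AtPrime p →+* K).comp _
  rw [IsLocalization.map_comp, RingHomCompTriple.comp_eq]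

/-- (⟹), second half: N-1 localizes. -/
theorem isN1_localization (h : CAlg.IsN1 R) (p : Ideal R) [p.IsPrime] :
    CAlg.IsN1 (Localization.AtPrime p) := by
  letI := algLoc R p
  haveI := isScalarTower_algLoc R p
  haveI : IsFractionRing (Localization.AtPrime p) K :=
    IsFractionRing.isFractionRing_of_isDomain_of_isLocalization p.primeCompl
      (Localization.AtPrime p) K
  rw [isN1_iff (Localization.AtPrime p) K]
  exact finite_integralClosure_localization p.primeCompl (Localization.AtPrime p) K h

/-- (⟸). -/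
theorem isN1_of_local (f : R) (hf : f ≠ 0) (hn : IsIntegrallyClosed (Localization.Away f))
    (hloc : ∀ (m : Ideal R) [m.IsMaximal], CAlg.IsN1 (Localization.AtPrime m)) :
    CAlg.IsN1 R := by
  classical
  have hpowers : Submonoid.powers f ≤ R⁰ :=
    Submonoid.powers_le.mpr (mem_nonZeroDivisors_of_ne_zero hf)
  have hf1 : ∀ y : K, IsIntegral R y → ∃ (n : ℕ) (r : R),
      algebraMap R K (f ^ n) * y = algebraMap R K r := by
    intro y hy
    obtain ⟨s, ⟨n, rfl⟩, r, hr⟩ :=
      (Groth.Agent.H14.NormalLocus.isIntegrallyClosed_localization_iff (Localization.Away f)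
        (Submonoid.powers f) hpowers).mp hn y hy
    exact ⟨n, r, hr⟩
  -- local bounds at the associated primes of `R/fR`
  have hex : ∀ Q : Ideal R, ∃ N : ℕ, Q ∈ associatedPrimes R (R ⧸ Ideal.span {f}) →
      ∀ y : K, IsIntegral R y → ∃ s ∉ Q, ∃ r : R,
        algebraMap R K s * (algebraMap R K (f ^ N) * y) = algebraMap R K r := by
    intro Q
    by_cases hQ : Q ∈ associatedPrimes R (R ⧸ Ideal.span {f})
    · haveI hQp : Q.IsPrime := hQ.isPrime
      obtain ⟨m, hm, hQm⟩ := Ideal.exists_le_maximal Q hQp.ne_top
      haveI := hm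
      letI := algLoc R m
      haveI := isScalarTower_algLoc R m
      haveI : IsFractionRing (Localization.AtPrime m) K :=
        IsFractionRing.isFractionRing_of_isDomain_of_isLocalization m.primeCompl
          (Localization.AtPrime m) K
      have hfin : Module.Finite (Localization.AtPrime m)
          (integralClosure (Localization.AtPrime m) K) :=
        (isN1_iff (Localization.AtPrime m) K).mp (hloc m)
      obtain ⟨N, hN⟩ := exists_pow_denominator m.primeCompl (Localization.AtPrime m) K hfin f hf1
      refine ⟨N, fun _ y hy => ?_⟩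
      obtain ⟨s, hs, r, hr⟩ := hN y hy
      exact ⟨s, fun hsQ => hs (hQm hsQ), r, hr⟩
    · exact ⟨0, fun h => absurd h hQ⟩
  choose Nf hNf using hex
  let N : ℕ := (associatedPrimes.finite R (R ⧸ Ideal.span {f})).toFinset.sup Nf
  have hbound : ∀ y : K, IsIntegral R y → ∃ r : R, algebraMap R K (f ^ N) * y = algebraMap R K r := by
    intro y hy
    obtain ⟨n, r₀, hr₀⟩ := hf1 y hy
    refine mem_of_forall_ass f hf n _ (f ^ N * r₀) ?_ ?_
    · rw [map_mul, ← hr₀]
      ring
    · intro Q hQ
      obtain ⟨s, hsQ, r, hr⟩ := hNf Q hQ y hy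
      have hle : Nf Q ≤ N := Finset.le_sup (f := Nf)
        ((associatedPrimes.finite R (R ⧸ Ideal.span {f})).mem_toFinset.mpr hQ)
      refine ⟨s, hsQ, f ^ (N - Nf Q) * r, ?_⟩
      rw [map_mul, ← hr, ← Nat.sub_add_cancel hle, pow_add, map_mul, Nat.sub_add_cancel hle]
      ring
  -- conclude finiteness
  have hfN : algebraMap R K (f ^ N) ≠ 0 := by
    simpa using pow_ne_zero N hf
  change Module.Finite R (integralClosure R K)
  rw [← fg_iff_finite]
  have hle : (integralClosure R K).toSubmodule ≤
      Submodule.span R {(algebraMap R K (f ^ N))⁻¹} := by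
    intro y hy
    obtain ⟨r, hr⟩ := hbound y hy
    rw [Submodule.mem_span_singleton]
    refine ⟨r, ?_⟩
    rw [Algebra.smul_def, ← hr]
    field_simp
  haveI : IsNoetherian R (Submodule.span R ({(algebraMap R K (f ^ N))⁻¹} : Set K)) :=
    isNoetherian_span_of_finite R (Set.finite_singleton _)
  haveI : IsNoetherian R (integralClosure R K).toSubmodule := isNoetherian_of_le hle
  exact (Module.Finite.iff_fg (N := (integralClosure R K).toSubmodule)).mp inferInstance

/-- Stacks 0333 / S0571. -/
theorem isN1_iff_exists_normal_localization :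
    CAlg.IsN1 R ↔ ((∃ f : R, f ≠ 0 ∧ IsIntegrallyClosed (Localization.Away f)) ∧
      ∀ (m : Ideal R) [m.IsMaximal], CAlg.IsN1 (Localization.AtPrime m)) := by
  constructor
  · intro h
    exact ⟨exists_away_isIntegrallyClosed R h, fun m _ => isN1_localization R h m⟩
  · rintro ⟨⟨f, hf, hn⟩, hloc⟩
    exact isN1_of_local R f hf hn hloc

end Main

end Groth.Agent.H13.N1Crit
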