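import Mathlib
import Groth.Agent.H72.HensFormalFibres

/-!
# Fibres over a union of étale images

If `A → S` is a union of étale images and `C` is an `S`-algebra, then for every field `k'` finite
over a residue field of `S` the ring `k' ⊗_S C` is a localization of `k'' ⊗_A C` for a finite
extension `k''` of a residue field of `A`.  Hence localization-stable properties of the geometric
fibres of `A → C` pass to the geometric fibres of `S → C`.  (Generalization of helper72's
`HensFormalFibres`, where `C = Ŝ = Â`.)
-/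

set_option autoImplicit false
set_option linter.style.haveILetI false
set_option linter.unusedSectionVars false
set_option linter.unnecessarySimpa false
universe u

open TensorProduct IsLocalRing Groth.Agent.H14.HensProp Groth.Agent.H72.HensFormalFibres

namespace Groth.Agent.H13.EtFibreDescent

attribute [local instance] RingHom.ker_isPrime

variable (Q : ∀ (X : Type u) [CommRing X], Prop)
  (hQe : ∀ (X Y : Type u) [CommRing X] [CommRing Y], (X ≃+* Y) → Q X → Q Y)
  (hQl : ∀ (X Y : Type u) [CommRing X] [CommRing Y] [Algebra X Y] (M : Submonoid X)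
    [IsLocalization M Y], Q X → Q Y)

variable {A S : Type u} [CommRing A] [CommRing S] [Algebra A S]
  (C : Type u) [CommRing C] [Algebra S C] [Algebra A C] [IsScalarTower A S C]

set_option backward.isDefEq.respectTransparency false in
include hQe hQl in
theorem core_of_surjective
    (hU : ∀ x : S, InEtImage A S {x})
    (k' : Type u) [Field k'] [Algebra S k'] [Algebra A k'] [IsScalarTower A S k']
    (K : Type u) [Field K] [Algebra A K] [Algebra K k'] [IsScalarTower A K k']
    (hsurj : Function.Surjective (Algebra.TensorProduct.lift (Algebra.ofId K k')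
      (IsScalarTower.toAlgHom A S k') (fun _ _ => Commute.all _ _) : K ⊗[A] S →ₐ[K] k'))
    (hQ0 : Q (K ⊗[A] C)) :
    Q (k' ⊗[S] C) := by
  let c : S ⊗[A] K ≃ₐ[A] K ⊗[A] S := Algebra.TensorProduct.comm A S K
  let π' : S ⊗[A] K →ₐ[S] k' :=
    Algebra.TensorProduct.lift (Algebra.ofId S k') (IsScalarTower.toAlgHom A K k')
      (fun _ _ => Commute.all _ _)
  have hπ' : ∀ g, π' g = (Algebra.TensorProduct.lift (Algebra.ofId K k')
      (IsScalarTower.toAlgHom A S k') (fun _ _ => Commute.all _ _) : K ⊗[A] S →ₐ[K] k') (c g) := by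
    intro g
    induction g using TensorProduct.induction_on with
    | zero => simp
    | tmul s x =>
      simp [π', c, mul_comm]
    | add x y hx hy =>
      rw [map_add π' x y, map_add c x y, map_add _ (c x) (c y), hx, hy]
  have hπ'surj : Function.Surjective π' := by
    intro z
    obtain ⟨g, hg⟩ := hsurj z
    exact ⟨c.symm g, by rw [hπ', c.apply_symm_apply, hg]⟩
  have hvnr : ∀ g : S ⊗[A] K, ∃ y, g * g * y = g := by
    intro g
    obtain ⟨y, hy⟩ := exists_mul_mul_eq_of_inEtImage
      (inEtImage_baseChange A S hU K) (c g)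
    refine ⟨c.symm y, c.injective ?_⟩
    rw [map_mul c, map_mul c, c.apply_symm_apply, hy]
  letI algG : Algebra (S ⊗[A] K) k' := π'.toRingHom.toAlgebra
  haveI : IsScalarTower S (S ⊗[A] K) k' :=
    IsScalarTower.of_algebraMap_eq (fun s => (π'.commutes s).symm)
  haveI hloc : IsLocalization (RingHom.ker (algebraMap (S ⊗[A] K) k')).primeCompl k' :=
    isLocalization_of_vnr hvnr hπ'surj
  let e_c := (Algebra.TensorProduct.comm A K C).toRingEquiv
  let e_d := (Algebra.TensorProduct.cancelBaseChange A S S C K).symm.toRingEquiv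
  let e_e := (Algebra.TensorProduct.comm S C (S ⊗[A] K)).toRingEquiv
  have hQT : Q ((S ⊗[A] K) ⊗[S] C) :=
    hQe _ _ ((e_c.trans e_d).trans e_e) hQ0
  haveI hlocT : IsLocalization
      (Algebra.algebraMapSubmonoid ((S ⊗[A] K) ⊗[S] C)
        (RingHom.ker (algebraMap (S ⊗[A] K) k')).primeCompl)
      (((S ⊗[A] K) ⊗[S] C) ⊗[S ⊗[A] K] k') :=
    IsLocalization.tensor k' (RingHom.ker (algebraMap (S ⊗[A] K) k')).primeCompl
  have hQ1 : Q (((S ⊗[A] K) ⊗[S] C) ⊗[S ⊗[A] K] k') :=
    hQl _ _ (Algebra.algebraMapSubmonoid ((S ⊗[A] K) ⊗[S] C)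
        (RingHom.ker (algebraMap (S ⊗[A] K) k')).primeCompl) hQT
  let e_f := (Algebra.TensorProduct.comm (S ⊗[A] K) ((S ⊗[A] K) ⊗[S] C) k').toRingEquiv
  let e_g := (Algebra.TensorProduct.cancelBaseChange S (S ⊗[A] K) (S ⊗[A] K) k' C).toRingEquiv
  exact hQe _ _ (e_f.trans e_g) hQ1

set_option backward.isDefEq.respectTransparency false in
include hQe hQl in
/-- Properties stable under localization pass from the geometric fibres of `A → C` to those of
`S → C`, when `S` is a union of étale images over `A`. -/
theorem fibre_of_inEtImage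
    (hU : ∀ x : S, InEtImage A S {x})
    (hA : ∀ (p : Ideal A) [p.IsPrime] (k'' : Type u) [Field k''] [Algebra p.ResidueField k''],
      Module.Finite p.ResidueField k'' → Q (k'' ⊗[p.ResidueField] (p.Fiber C)))
    (q : Ideal S) [q.IsPrime] (k' : Type u) [Field k'] [Algebra q.ResidueField k']
    [Module.Finite q.ResidueField k'] :
    Q (k' ⊗[q.ResidueField] (q.Fiber C)) := by
  letI algS : Algebra S k' :=
    ((algebraMap q.ResidueField k').comp (algebraMap S q.ResidueField)).toAlgebra
  haveI : IsScalarTower S q.ResidueField k' := IsScalarTower.of_algebraMap_eq (fun x => rfl)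
  letI algA : Algebra A k' := ((algebraMap S k').comp (algebraMap A S)).toAlgebra
  haveI : IsScalarTower A S k' := IsScalarTower.of_algebraMap_eq (fun x => rfl)
  obtain ⟨P₀, hP₀, algP, towerP⟩ :=
    Groth.Agent.H26.RegHomBaseChange.exists_residueField_algebra' (R := A) k'
  obtain ⟨k'', hfd, hsurj⟩ := exists_finite_subfield_surjective (A := A) q k' P₀ hU
  have hQ0 : Q (k'' ⊗[P₀.ResidueField] (P₀.Fiber C)) := hA P₀ k'' hfd
  let e_a := (Groth.Agent.H26.RegHomDescent.tensorFiberEquiv A C k'' P₀).symm
  have hQ0' : Q (k'' ⊗[A] C) := hQe _ _ e_a hQ0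
  have hQ1 : Q (k' ⊗[S] C) :=
    core_of_surjective Q hQe hQl C hU k' k'' hsurj hQ0'
  let e_h := Groth.Agent.H26.RegHomDescent.tensorFiberEquiv S C k' q
  exact hQe _ _ e_h hQ1

end Groth.Agent.H13.EtFibreDescent
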