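import Mathlib
import Groth.Prelude.Def_EGA4b
import Groth.Agent.H39.RegularCrit
import Groth.Agent.Lead.RegularLocalization

/-!
# Nagata's criterion for the openness of the regular locus
-/

set_option autoImplicit false
set_option linter.style.haveILetI false
set_option linter.unusedSectionVars false
universe u

namespace Groth.Agent.H13.NagataCrit

open TopologicalSpace

section Topology

variable {X : Type*} [TopologicalSpace X] [NoetherianSpace X] [QuasiSober X]

/-- Noetherian induction: a set stable under specialization whose complement contains, for each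
of its points `x`, a nonempty open subset of `closure {x}`, meets every closed set in a closed
set. -/
theorem isClosed_inter_of_stableUnderSpecialization (Z : Set X)
    (hspec : StableUnderSpecialization Z)
    (h : ∀ x ∉ Z, ∃ U : Set X, IsOpen U ∧ (U ∩ closure {x}).Nonempty ∧ U ∩ closure {x} ⊆ Zᶜ)
    (s : Closeds X) : IsClosed (Z ∩ (s : Set X)) := by
  apply wellFounded_lt.induction s; clear s
  intro s H
  by_cases h₁ : IsPreirreducible (s : Set X)
  · rcases eq_or_ne s ⊥ with rfl | h₀
    · simp
    · have hirr : IsIrreducible (s : Set X) := ⟨Closeds.coe_nonempty.2 h₀, h₁⟩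
      obtain ⟨η, hη⟩ := QuasiSober.sober hirr s.isClosed
      have hηs : closure {η} = (s : Set X) := hη
      by_cases hηZ : η ∈ Z
      · have : (s : Set X) ⊆ Z := by
          intro y hy
          rw [← hηs] at hy
          exact hspec (specializes_iff_mem_closure.mpr hy) hηZ
        rw [Set.inter_eq_right.mpr this]
        exact s.isClosed
      · obtain ⟨U, hU, ⟨y, hyU, hy⟩, hsub⟩ := h η hηZ
        have hηU : η ∈ U := (specializes_iff_mem_closure.mpr hy).mem_open hU hyU
        let s' : Closeds X := s ⊓ ⟨Uᶜ, hU.isClosed_compl⟩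
        have hlt : s' < s := by
          refine lt_of_le_of_ne inf_le_left ?_
          intro heq
          have hηs' : η ∈ (s' : Set X) := by
            rw [heq, ← hηs]
            exact subset_closure rfl
          exact hηs'.2 hηU
        have := H s' hlt
        have heq : Z ∩ (s : Set X) = Z ∩ (s' : Set X) := by
          ext y
          constructor
          · rintro ⟨hyZ, hys⟩
            refine ⟨hyZ, hys, ?_⟩
            intro hyU
            exact hsub ⟨hyU, hηs ▸ hys⟩ hyZ
          · rintro ⟨hyZ, hys, -⟩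
            exact ⟨hyZ, hys⟩
        rw [heq]
        exact this
  · simp only [isPreirreducible_iff_isClosed_union_isClosed, not_forall, not_or] at h₁
    obtain ⟨z₁, z₂, hz₁, hz₂, h', hz₁', hz₂'⟩ := h₁
    lift z₁ to Closeds X using hz₁
    lift z₂ to Closeds X using hz₂
    have h1 := H (s ⊓ z₁) (inf_lt_left.2 hz₁')
    have h2 := H (s ⊓ z₂) (inf_lt_left.2 hz₂')
    have heq : Z ∩ (s : Set X) = (Z ∩ ((s ⊓ z₁ : Closeds X) : Set X)) ∪
        (Z ∩ ((s ⊓ z₂ : Closeds X) : Set X)) := by
      ext y
      constructor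
      · rintro ⟨hyZ, hys⟩
        rcases h' hys with hy1 | hy2
        · exact Or.inl ⟨hyZ, hys, hy1⟩
        · exact Or.inr ⟨hyZ, hys, hy2⟩
      · rintro (⟨hyZ, hys, -⟩ | ⟨hyZ, hys, -⟩) <;> exact ⟨hyZ, hys⟩
    rw [heq]
    exact h1.union h2

/-- A set stable under generization which contains, for each of its points `x`, a nonempty open
subset of `closure {x}`, is open (in a Noetherian quasi-sober space). -/
theorem isOpen_of_stableUnderGeneralization (E : Set X)
    (hgen : StableUnderGeneralization E)
    (h : ∀ x ∈ E, ∃ U : Set X, IsOpen U ∧ (U ∩ closure {x}).Nonempty ∧ U ∩ closure {x} ⊆ E) :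
    IsOpen E := by
  rw [← isClosed_compl_iff]
  have := isClosed_inter_of_stableUnderSpecialization Eᶜ hgen.compl
    (fun x hx => by simpa using h x (by simpa using hx)) ⊤
  simpa using this

end Topology

section Algebra

variable {A : Type u} [CommRing A]

/-- The regular locus is stable under generization. -/
theorem isRegularLocalRing_of_le (p q : Ideal A) [hp : p.IsPrime] [q.IsPrime] (hpq : p ≤ q)
    [IsRegularLocalRing (Localization.AtPrime q)] :
    IsRegularLocalRing (Localization.AtPrime p) := by
  let Aq := Localization.AtPrime q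
  let P := p.map (algebraMap A Aq)
  have disj : Disjoint (q.primeCompl : Set A) (p : Set A) := by
    rw [Set.disjoint_left]
    intro x hx hxP
    exact hx (hpq hxP)
  have hP : P.IsPrime := IsLocalization.isPrime_of_isPrime_disjoint q.primeCompl _ _ hp disj
  have hloc : IsLocalization.AtPrime (Localization.AtPrime P) p := by
    convert IsLocalization.isLocalization_isLocalization_atPrime_isLocalization q.primeCompl
      (Localization.AtPrime P) P
    exact (IsLocalization.under_map_of_isPrime_disjoint q.primeCompl _ hp disj).symm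
  have hreg2 : IsRegularLocalRing (Localization.AtPrime P) :=
    Groth.Agent.Lead.RLR.isRegularLocalRing_localization Aq P
  exact IsRegularLocalRing.of_ringEquiv (IsLocalization.algEquiv p.primeCompl
    (Localization.AtPrime P) (Localization.AtPrime p)).toRingEquiv

variable [IsNoetherianRing A]

/-- If `A_p` is regular, then `p` is generated, on a principal open neighbourhood of `p`, by
`ht p` elements. -/
theorem exists_span_of_regular (p : Ideal A) [p.IsPrime]
    [IsRegularLocalRing (Localization.AtPrime p)] :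
    ∃ (s : Finset A) (f : A), (s : Set A) ⊆ p ∧ (s.card : ℕ∞) ≤ p.height ∧ f ∉ p ∧
      ∀ x ∈ p, f * x ∈ Ideal.span (s : Set A) := by
  classical
  let Ap := Localization.AtPrime p
  obtain ⟨t, ht, htp⟩ := Submodule.FG.exists_span_finset_card_eq_spanFinrank
    (IsNoetherian.noetherian (IsLocalRing.maximalIdeal Ap))
  have hdim : (t.card : WithBot ℕ∞) = ringKrullDim Ap := by
    rw [ht]
    exact IsRegularLocalRing.spanFinrank_maximalIdeal
  have hheight : ringKrullDim Ap = p.height :=
    IsLocalization.AtPrime.ringKrullDim_eq_height p Ap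
  have hnum : ∀ y : Ap, ∃ (a : A) (u : p.primeCompl), y * algebraMap A Ap u = algebraMap A Ap a :=
    fun y => by
      obtain ⟨⟨a, u⟩, h⟩ := IsLocalization.surj p.primeCompl y
      exact ⟨a, u, h⟩
  choose num den hnd using hnum
  let s : Finset A := t.image num
  have hsp : (s : Set A) ⊆ p := by
    intro a ha
    obtain ⟨y, hy, rfl⟩ := Finset.mem_image.mp (Finset.mem_coe.mp ha)
    have hy' : y ∈ IsLocalRing.maximalIdeal Ap := by
      rw [← htp]
      exact Submodule.subset_span hy
    have : algebraMap A Ap (num y) ∈ IsLocalRing.maximalIdeal Ap := by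
      rw [← hnd]
      exact Ideal.mul_mem_right _ _ hy'
    exact (IsLocalization.AtPrime.to_map_mem_maximal_iff Ap p (num y)).mp this
  have hcard : (s.card : ℕ∞) ≤ p.height := by
    have h1 : (t.card : WithBot ℕ∞) = (p.height : WithBot ℕ∞) := hdim.trans hheight
    have h2 : ((t.card : ℕ∞) : WithBot ℕ∞) = (p.height : WithBot ℕ∞) := by exact_mod_cast h1
    have h3 : (t.card : ℕ∞) = p.height := WithBot.coe_inj.mp h2
    rw [← h3]
    exact_mod_cast Finset.card_image_le
  -- the maximal ideal of `A_p` is the extension of `span s`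
  have hmax : IsLocalRing.maximalIdeal Ap ≤ (Ideal.span (s : Set A)).map (algebraMap A Ap) := by
    rw [← htp]
    change Ideal.span (t : Set Ap) ≤ _
    rw [Ideal.span_le]
    intro y hy
    have hy1 : y = IsLocalization.mk' Ap (num y) (den y) := by
      rw [IsLocalization.eq_mk'_iff_mul_eq]
      exact hnd y
    rw [SetLike.mem_coe, hy1, IsLocalization.mk'_mem_map_algebraMap_iff p.primeCompl]
    exact ⟨1, one_mem _, by
      rw [one_mul]
      exact Ideal.subset_span (Finset.mem_coe.mpr (Finset.mem_image_of_mem num hy))⟩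
  have hx : ∀ x ∈ p, ∃ m ∈ p.primeCompl, m * x ∈ Ideal.span (s : Set A) := by
    intro x hx
    have : algebraMap A Ap x ∈ IsLocalRing.maximalIdeal Ap :=
      (IsLocalization.AtPrime.to_map_mem_maximal_iff Ap p x).mpr hx
    exact (IsLocalization.algebraMap_mem_map_algebraMap_iff p.primeCompl Ap _ x).mp (hmax this)
  obtain ⟨G, hG⟩ := (IsNoetherian.noetherian p : p.FG)
  have hGp : ∀ g ∈ G, g ∈ p := fun g hg => hG ▸ Submodule.subset_span hg
  choose! m hm hmg using hx
  refine ⟨s, ∏ g ∈ G, m g, hsp, hcard, ?_, ?_⟩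
  · change ∏ g ∈ G, m g ∈ p.primeCompl
    exact Submonoid.prod_mem _ fun g hg => hm g (hGp g hg)
  · intro x hx
    rw [← hG] at hx
    induction hx using Submodule.span_induction with
    | mem g hg =>
      rw [← Finset.mul_prod_erase G m hg, mul_assoc, mul_comm _ g, ← mul_assoc]
      exact Ideal.mul_mem_right _ _ (hmg g (hGp g hg))
    | zero => simp
    | add a b _ _ ha hb =>
      rw [mul_add]
      exact add_mem ha hb
    | smul a b _ hb =>
      rw [smul_eq_mul, mul_left_comm]
      exact Ideal.mul_mem_left _ _ hb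

/-- The image of the complement of a prime `q ⊇ p` in `A ⧸ p` is the complement of `q / p`. -/
theorem algebraMapSubmonoid_primeCompl (p q : Ideal A) [q.IsPrime] (hpq : p ≤ q)
    [hq' : (q.map (Ideal.Quotient.mk p)).IsPrime] :
    Algebra.algebraMapSubmonoid (A ⧸ p) q.primeCompl = (q.map (Ideal.Quotient.mk p)).primeCompl := by
  ext x
  constructor
  · rintro ⟨a, ha, rfl⟩
    intro hmem
    rw [Ideal.Quotient.algebraMap_eq, SetLike.mem_coe,
      Ideal.mem_map_iff_of_surjective _ Ideal.Quotient.mk_surjective] at hmem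
    obtain ⟨b, hb, hba⟩ := hmem
    have : a - b ∈ p := by
      rw [← Ideal.Quotient.eq_zero_iff_mem, map_sub, hba, sub_self]
    apply ha
    have h2 : a = (a - b) + b := by ring
    change a ∈ q
    rw [h2]
    exact add_mem (hpq this) hb
  · intro hx
    obtain ⟨a, rfl⟩ := Ideal.Quotient.mk_surjective x
    refine ⟨a, ?_, rfl⟩
    intro ha
    exact hx (Ideal.mem_map_of_mem _ ha)

/-- Key step in Nagata's criterion: if `p` is generated by `ht p` elements near `q ⊇ p` and
`(A/p)_{q/p}` is regular, then `A_q` is regular. -/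
theorem isRegularLocalRing_of_quotient (p q : Ideal A) [hp : p.IsPrime] [q.IsPrime] (hpq : p ≤ q)
    (s : Finset A) (f : A) (hs : (s : Set A) ⊆ p) (hcard : (s.card : ℕ∞) ≤ p.height)
    (hf : f ∉ q) (hfs : ∀ x ∈ p, f * x ∈ Ideal.span (s : Set A))
    [hq' : (q.map (Ideal.Quotient.mk p)).IsPrime]
    (hreg : IsRegularLocalRing (Localization.AtPrime (q.map (Ideal.Quotient.mk p)))) :
    IsRegularLocalRing (Localization.AtPrime q) := by
  classical
  let Aq := Localization.AtPrime q
  let P := p.map (algebraMap A Aq)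
  have disj : Disjoint (q.primeCompl : Set A) (p : Set A) := by
    rw [Set.disjoint_left]
    intro x hx hxP
    exact hx (hpq hxP)
  have hP : P.IsPrime := IsLocalization.isPrime_of_isPrime_disjoint q.primeCompl _ _ hp disj
  -- the quotient is regular
  have hloc : IsLocalization (q.map (Ideal.Quotient.mk p)).primeCompl (Aq ⧸ P) := by
    rw [← algebraMapSubmonoid_primeCompl p q hpq]
    infer_instance
  have hregq : IsRegularLocalRing (Aq ⧸ P) :=
    IsRegularLocalRing.of_ringEquiv (IsLocalization.algEquiv
      (q.map (Ideal.Quotient.mk p)).primeCompl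
      (Localization.AtPrime (q.map (Ideal.Quotient.mk p))) (Aq ⧸ P)).toRingEquiv
  -- the number of generators
  have hheight : P.height = p.height := IsLocalization.height_map_of_disjoint q.primeCompl p disj
  have hPspan : P = Ideal.span ((algebraMap A Aq) '' (s : Set A)) := by
    apply le_antisymm
    · change Ideal.map _ _ ≤ _
      rw [Ideal.map_le_iff_le_comap]
      intro x hx
      rw [Ideal.mem_comap, ← Ideal.map_span]
      have hunit : IsUnit (algebraMap A Aq f) :=
        IsLocalization.map_units Aq (⟨f, hf⟩ : q.primeCompl)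
      rw [← Ideal.unit_mul_mem_iff_mem _ hunit, ← map_mul]
      exact Ideal.mem_map_of_mem _ (hfs x hx)
    · rw [Ideal.span_le]
      rintro _ ⟨a, ha, rfl⟩
      exact Ideal.mem_map_of_mem _ (hs ha)
  have hle : (P.spanFinrank : ℕ∞) ≤ p.height := by
    refine le_trans ?_ hcard
    rw [hPspan]
    have h1 := Submodule.spanFinrank_span_le_ncard_of_finite
      (R := Aq) (((s : Set A).toFinite).image (algebraMap A Aq))
    have h2 : ((algebraMap A Aq) '' (s : Set A)).ncard ≤ s.card := by
      have := Set.ncard_image_le (f := algebraMap A Aq) (s : Set A).toFinite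
      rwa [Set.ncard_coe_finset] at this
    exact_mod_cast h1.trans h2
  have hgen : (Submodule.spanFinrank P : ℕ∞) = P.height := by
    apply le_antisymm
    · rw [hheight]
      exact hle
    · exact Ideal.height_le_spanFinrank P hP.ne_top
  exact Groth.Agent.H39.isRegularLocalRing_of_quotient_of_spanFinrank_eq_height P hgen

theorem isRegularLocalRing_congr {R : Type*} [CommRing R] (I J : Ideal R) [I.IsPrime]
    [J.IsPrime] (h : I = J) (hI : IsRegularLocalRing (Localization.AtPrime I)) :
    IsRegularLocalRing (Localization.AtPrime J) := by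
  subst h
  exact hI

/-- variant of `isRegularLocalRing_of_quotient` in terms of a prime of the quotient. -/
theorem isRegularLocalRing_of_quotient' (p : Ideal A) [hp : p.IsPrime]
    (Q : Ideal (A ⧸ p)) [hQ : Q.IsPrime]
    (s : Finset A) (f : A) (hs : (s : Set A) ⊆ p) (hcard : (s.card : ℕ∞) ≤ p.height)
    (hf : f ∉ Q.comap (Ideal.Quotient.mk p)) (hfs : ∀ x ∈ p, f * x ∈ Ideal.span (s : Set A))
    (hreg : IsRegularLocalRing (Localization.AtPrime Q)) :
    IsRegularLocalRing (Localization.AtPrime (Q.comap (Ideal.Quotient.mk p))) := by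
  have e : (Q.comap (Ideal.Quotient.mk p)).map (Ideal.Quotient.mk p) = Q :=
    Ideal.map_comap_of_surjective _ Ideal.Quotient.mk_surjective Q
  have hpq : p ≤ Q.comap (Ideal.Quotient.mk p) := by
    intro x hx
    rw [Ideal.mem_comap, Ideal.Quotient.eq_zero_iff_mem.mpr hx]
    exact zero_mem _
  have hq' : ((Q.comap (Ideal.Quotient.mk p)).map (Ideal.Quotient.mk p)).IsPrime := e.symm ▸ hQ
  exact isRegularLocalRing_of_quotient p (Q.comap (Ideal.Quotient.mk p)) hpq s f hs hcard hf hfs
    (isRegularLocalRing_congr _ _ e.symm hreg)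

open PrimeSpectrum

theorem stableUnderGeneralization_regLocus :
    StableUnderGeneralization (EGA4.regLocus A) := by
  intro x y hyx hx
  have hle : y.asIdeal ≤ x.asIdeal := (PrimeSpectrum.le_iff_specializes y x).mpr hyx
  have : IsRegularLocalRing (Localization.AtPrime x.asIdeal) := hx
  exact isRegularLocalRing_of_le y.asIdeal x.asIdeal hle

/-- Nagata's criterion, topological form (EGA IV 6.12.2 / Matsumura 24.2). -/
theorem isOpen_regLocus_iff :
    IsOpen (EGA4.regLocus A) ↔
      ∀ p ∈ EGA4.regLocus A, ∃ U : Set (PrimeSpectrum A), IsOpen U ∧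
        (U ∩ PrimeSpectrum.zeroLocus (p.asIdeal : Set A)).Nonempty ∧
        U ∩ PrimeSpectrum.zeroLocus (p.asIdeal : Set A) ⊆ EGA4.regLocus A := by
  constructor
  · intro h p hp
    exact ⟨EGA4.regLocus A, h, ⟨p, hp, by simp⟩, Set.inter_subset_left⟩
  · intro h
    apply isOpen_of_stableUnderGeneralization _ stableUnderGeneralization_regLocus
    intro x hx
    rw [PrimeSpectrum.closure_singleton]
    exact h x hx

/-- Nagata's criterion (EGA IV 6.12.2): if for every `p` in the regular locus, the regular locus
of `A ⧸ p` contains a nonempty open set, then the regular locus of `A` is open. -/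
theorem isOpen_regLocus_of_quotient
    (h : ∀ p : PrimeSpectrum A, p ∈ EGA4.regLocus A →
      ∃ U : Set (PrimeSpectrum (A ⧸ p.asIdeal)), IsOpen U ∧ U.Nonempty ∧
        U ⊆ EGA4.regLocus (A ⧸ p.asIdeal)) :
    IsOpen (EGA4.regLocus A) := by
  rw [isOpen_regLocus_iff]
  intro p hp
  obtain ⟨U₀, hU₀, hne, hsub⟩ := h p hp
  have hp' : IsRegularLocalRing (Localization.AtPrime p.asIdeal) := hp
  obtain ⟨s, f, hs, hcard, hf, hfs⟩ := exists_span_of_regular p.asIdeal
  have hemb := PrimeSpectrum.isClosedEmbedding_comap_of_surjective (A ⧸ p.asIdeal)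
    (Ideal.Quotient.mk p.asIdeal) Ideal.Quotient.mk_surjective
  obtain ⟨W, hW, hWU⟩ := hemb.isInducing.isOpen_iff.mp hU₀
  refine ⟨W ∩ (PrimeSpectrum.basicOpen f : Set (PrimeSpectrum A)), hW.inter
    (PrimeSpectrum.basicOpen f).isOpen, ?_, ?_⟩
  · -- the point `p` itself
    refine ⟨p, ⟨?_, hf⟩, by simp⟩
    obtain ⟨y, hy⟩ := hne
    let η : PrimeSpectrum (A ⧸ p.asIdeal) := ⟨⊥, Ideal.isPrime_bot⟩
    have hη : η ∈ U₀ := by
      have hspec : η ⤳ y := (PrimeSpectrum.le_iff_specializes η y).mp bot_le
      exact hspec.mem_open hU₀ hy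
    rw [← hWU] at hη
    have hpη : PrimeSpectrum.comap (Ideal.Quotient.mk p.asIdeal) η = p := by
      ext1
      change Ideal.comap (Ideal.Quotient.mk p.asIdeal) ⊥ = p.asIdeal
      rw [← RingHom.ker_eq_comap_bot, Ideal.mk_ker]
    rw [← hpη]
    exact hη
  · rintro q ⟨⟨hqW, hqf⟩, hqp⟩
    have hqr : q ∈ Set.range (PrimeSpectrum.comap (Ideal.Quotient.mk p.asIdeal)) := by
      rw [_root_.range_comap_of_surjective _ _ Ideal.Quotient.mk_surjective, Ideal.mk_ker]
      exact hqp
    obtain ⟨Q, rfl⟩ := hqr
    have hQ : Q ∈ U₀ := by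
      rw [← hWU]
      exact hqW
    have hQreg : IsRegularLocalRing (Localization.AtPrime Q.asIdeal) := hsub hQ
    exact isRegularLocalRing_of_quotient' p.asIdeal Q.asIdeal s f hs hcard hqf hfs hQreg

end Algebra

section Transfer

variable {R S : Type u} [CommRing R] [CommRing S]

/-- the regular locus is compatible with ring isomorphisms. -/
theorem comap_mem_regLocus_iff (e : R ≃+* S) (Q : PrimeSpectrum S) :
    PrimeSpectrum.comap (e : R →+* S) Q ∈ EGA4.regLocus R ↔ Q ∈ EGA4.regLocus S := by
  let e' : Localization.AtPrime (Q.asIdeal.comap e) ≃+* Localization.AtPrime Q.asIdeal :=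
    IsLocalization.ringEquivOfRingEquiv
      (Localization.AtPrime (Q.asIdeal.comap e)) (Localization.AtPrime Q.asIdeal) e
      (e.map_primeCompl_comap_eq Q.asIdeal)
  constructor
  · intro h
    have h' : IsRegularLocalRing (Localization.AtPrime (Q.asIdeal.comap e)) := h
    exact IsRegularLocalRing.of_ringEquiv e'
  · intro h
    have h' : IsRegularLocalRing (Localization.AtPrime Q.asIdeal) := h
    exact IsRegularLocalRing.of_ringEquiv e'.symm

/-- "the regular locus contains a nonempty open" is invariant under ring isomorphisms. -/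
theorem exists_open_regLocus_of_ringEquiv (e : R ≃+* S)
    (h : ∃ U : Set (PrimeSpectrum R), IsOpen U ∧ U.Nonempty ∧ U ⊆ EGA4.regLocus R) :
    ∃ U : Set (PrimeSpectrum S), IsOpen U ∧ U.Nonempty ∧ U ⊆ EGA4.regLocus S := by
  obtain ⟨U, hU, ⟨y, hy⟩, hsub⟩ := h
  refine ⟨PrimeSpectrum.comap (e : R →+* S) ⁻¹' U,
    hU.preimage (PrimeSpectrum.continuous_comap _), ?_, ?_⟩
  · refine ⟨PrimeSpectrum.comap (e.symm : S →+* R) y, ?_⟩
    change PrimeSpectrum.comap (e : R →+* S) (PrimeSpectrum.comap (e.symm : S →+* R) y) ∈ U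
    have : PrimeSpectrum.comap (e : R →+* S) (PrimeSpectrum.comap (e.symm : S →+* R) y) = y := by
      ext x
      simp [PrimeSpectrum.comap_asIdeal]
    rw [this]
    exact hy
  · intro Q hQ
    exact (comap_mem_regLocus_iff e Q).mp (hsub hQ)

/-- the generic point of a domain is in the regular locus -/
theorem bot_mem_regLocus [IsDomain R] :
    (⟨⊥, Ideal.isPrime_bot⟩ : PrimeSpectrum R) ∈ EGA4.regLocus R := by
  change IsRegularLocalRing (Localization.AtPrime (⊥ : Ideal R))
  let _ : Field (Localization.AtPrime (⊥ : Ideal R)) := IsField.toField <| by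
    simp [IsLocalRing.isField_iff_maximalIdeal_eq, ← Localization.AtPrime.map_eq_maximalIdeal]
  infer_instance

end Transfer

section Quotients

variable {A : Type u} [CommRing A] [IsNoetherianRing A]

/-- EGA IV 6.12.3 -/
theorem forall_isOpen_regLocus_quotient_iff :
    (∀ I : Ideal A, IsOpen (EGA4.regLocus (A ⧸ I))) ↔
      ∀ (p : Ideal A) [p.IsPrime],
        ∃ U : Set (PrimeSpectrum (A ⧸ p)), IsOpen U ∧ U.Nonempty ∧ U ⊆ EGA4.regLocus (A ⧸ p) := by
  constructor
  · intro h p hp
    exact ⟨EGA4.regLocus (A ⧸ p), h p, ⟨_, bot_mem_regLocus⟩, subset_rfl⟩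
  · intro h I
    apply isOpen_regLocus_of_quotient
    intro P _
    let f : A →+* (A ⧸ I) ⧸ P.asIdeal := (Ideal.Quotient.mk P.asIdeal).comp (Ideal.Quotient.mk I)
    have hf : Function.Surjective f :=
      Ideal.Quotient.mk_surjective.comp Ideal.Quotient.mk_surjective
    have hker : (RingHom.ker f).IsPrime := RingHom.ker_isPrime f
    exact exists_open_regLocus_of_ringEquiv (RingHom.quotientKerEquivOfSurjective hf)
      (h (RingHom.ker f))

end Quotients

end Groth.Agent.H13.NagataCrit
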