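import Mathlib
import Groth.Prelude.Def_EGA4b
import Groth.Agent.H13.NagataCrit
import Groth.Agent.H24.GenericFlat
import Groth.Agent.Lead.RegularFlatDescent
import Groth.Agent.H47.SmoothRegular
import Groth.Agent.H47.RegSmoothField
import Groth.Agent.H39.SmoothStalk
import Groth.Agent.H26.ZariskiComplRegular

/-!
# Generic regularity

`GR D`: the regular locus of `D` contains a nonempty principal open subset.
-/

set_option autoImplicit false
set_option linter.style.haveILetI false
set_option linter.unusedSectionVars false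
universe u

namespace Groth.Agent.H13.GenReg

open Groth.Agent.H13.NagataCrit

/-- generic regularity: there is `g ≠ 0` with `D_Q` regular whenever `g ∉ Q`. -/
def GR (D : Type u) [CommRing D] : Prop :=
  ∃ g : D, g ≠ 0 ∧ ∀ (Q : Ideal D) [Q.IsPrime], g ∉ Q →
    IsRegularLocalRing (Localization.AtPrime Q)

theorem gr_of_exists_open (D : Type u) [CommRing D]
    (h : ∃ U : Set (PrimeSpectrum D), IsOpen U ∧ U.Nonempty ∧ U ⊆ EGA4.regLocus D) : GR D := by
  obtain ⟨U, hU, ⟨x, hx⟩, hsub⟩ := h
  obtain ⟨_, ⟨_, ⟨g, rfl⟩, rfl⟩, hxg, hgU⟩ :=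
    PrimeSpectrum.isBasis_basic_opens.exists_subset_of_mem_open hx hU
  refine ⟨g, ?_, fun Q hQ hgQ => hsub (hgU (show (⟨Q, hQ⟩ : PrimeSpectrum D) ∈ _ from hgQ))⟩
  rintro rfl
  simp at hxg

theorem exists_open_of_gr (D : Type u) [CommRing D] [IsDomain D] (h : GR D) :
    ∃ U : Set (PrimeSpectrum D), IsOpen U ∧ U.Nonempty ∧ U ⊆ EGA4.regLocus D := by
  obtain ⟨g, hg0, hg⟩ := h
  refine ⟨PrimeSpectrum.basicOpen g, (PrimeSpectrum.basicOpen g).isOpen,
    ⟨⟨⊥, Ideal.isPrime_bot⟩, ?_⟩, ?_⟩
  · change g ∉ (⊥ : Ideal D)
    simpa using hg0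
  · intro Q hQ
    exact hg Q.asIdeal hQ

theorem gr_iff (D : Type u) [CommRing D] [IsDomain D] :
    GR D ↔ ∃ U : Set (PrimeSpectrum D), IsOpen U ∧ U.Nonempty ∧ U ⊆ EGA4.regLocus D :=
  ⟨exists_open_of_gr D, gr_of_exists_open D⟩

/-- pointwise regularity on `D(g)` gives regularity of `D_g`. -/
theorem isRegularRing_away_of (D : Type u) [CommRing D] [IsNoetherianRing D] (g : D)
    (h : ∀ (Q : Ideal D) [Q.IsPrime], g ∉ Q → IsRegularLocalRing (Localization.AtPrime Q)) :
    IsRegularRing (Localization.Away g) := by
  have : IsNoetherianRing (Localization.Away g) :=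
    IsLocalization.isNoetherianRing (Submonoid.powers g) _ inferInstance
  rw [isRegularRing_iff]
  intro q hq
  have hgq : g ∉ q.comap (algebraMap D (Localization.Away g)) := by
    intro hmem
    have hunit : IsUnit (algebraMap D (Localization.Away g) g) :=
      IsLocalization.Away.algebraMap_isUnit g
    exact hq.ne_top (Ideal.eq_top_of_isUnit_mem _ hmem hunit)
  have := h (q.comap (algebraMap D (Localization.Away g))) hgq
  exact IsRegularLocalRing.of_ringEquiv
    (IsLocalization.localizationLocalizationAtPrimeIsoLocalization (Submonoid.powers g)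
      q).toRingEquiv

/-- regularity of `D_g` gives pointwise regularity on `D(g)`. -/
theorem isRegularLocalRing_of_away (D : Type u) [CommRing D] (g : D)
    [IsRegularRing (Localization.Away g)] (Q : Ideal D) [Q.IsPrime] (hg : g ∉ Q) :
    IsRegularLocalRing (Localization.AtPrime Q) := by
  refine Groth.Agent.H47.RSF.isRegularLocalRing_atPrime_of_isLocalization
    (S := Localization.Away g) (Submonoid.powers g) Q ?_
  rw [Set.disjoint_left]
  rintro _ ⟨n, rfl⟩ hmem
  exact hg (Ideal.IsPrime.mem_of_pow_mem ‹_› n hmem)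

theorem GR.of_ringEquiv {D D' : Type u} [CommRing D] [CommRing D'] (e : D ≃+* D') (h : GR D) :
    GR D' := by
  obtain ⟨g, hg0, hg⟩ := h
  refine ⟨e g, (EmbeddingLike.map_ne_zero_iff (f := e)).mpr hg0, fun Q hQ hgQ => ?_⟩
  have hQ' : (Q.comap e).IsPrime := Ideal.comap_isPrime _ Q
  have := hg (Q.comap e) (by simpa [Ideal.mem_comap] using hgQ)
  exact IsRegularLocalRing.of_ringEquiv (IsLocalization.ringEquivOfRingEquiv
      (Localization.AtPrime (Q.comap e)) (Localization.AtPrime Q) e
      (e.map_primeCompl_comap_eq Q))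

section Descent

variable (R S : Type u) [CommRing R] [IsDomain R] [IsNoetherianRing R] [CommRing S] [IsDomain S]
  [Algebra R S] [Algebra.FiniteType R S]

/-- Generic regularity descends along injective ring maps of finite type between domains
(generic flatness + descent of regularity along flat local homomorphisms). -/
theorem gr_of_injective_finiteType (hinj : Function.Injective (algebraMap R S)) (hS : GR S) :
    GR R := by
  obtain ⟨g, hg0, hg⟩ := hS
  obtain ⟨f, hf0, hflat⟩ := Groth.Agent.H24.GenericFlat.exists_flat_localization (A := R) S S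
  have hfS : algebraMap R S f ≠ 0 := by
    rw [Ne, ← map_zero (algebraMap R S)]
    exact fun h => hf0 (hinj h)
  let S' := Localization.Away (algebraMap R S f)
  have hle : Submonoid.powers (algebraMap R S f) ≤ nonZeroDivisors S :=
    Submonoid.powers_le.mpr (mem_nonZeroDivisors_of_ne_zero hfS)
  have hdom : IsDomain S' := IsLocalization.isDomain_localization hle
  have hflat' : Module.Flat R S' :=
    hflat (Submonoid.powers (algebraMap R S f)) (Submonoid.mem_powers _) S'
      (Algebra.linearMap S S')
  have hfpS : Algebra.FinitePresentation R S :=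
    Algebra.FinitePresentation.of_finiteType.mp inferInstance
  have hfp : Algebra.FinitePresentation R S' := Algebra.FinitePresentation.trans R S S'
  have hopen := PrimeSpectrum.isOpenMap_comap_of_hasGoingDown_of_finitePresentation
    (R := R) (S := S')
  apply gr_of_exists_open
  refine ⟨PrimeSpectrum.comap (algebraMap R S') ''
    (PrimeSpectrum.basicOpen (algebraMap S S' g) : Set (PrimeSpectrum S')),
    hopen _ (PrimeSpectrum.basicOpen _).isOpen, ?_, ?_⟩
  · refine ⟨_, ⟨⟨⊥, Ideal.isPrime_bot⟩, ?_, rfl⟩⟩
    change algebraMap S S' g ∉ (⊥ : Ideal S')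
    rw [Ideal.mem_bot]
    intro h0
    exact hg0 ((IsLocalization.injective S' hle) (h0.trans (map_zero _).symm))
  · rintro _ ⟨Q'', hQ'', rfl⟩
    let Q₁ : Ideal S := Q''.asIdeal.comap (algebraMap S S')
    have hQ₁ : Q₁.IsPrime := Ideal.comap_isPrime _ _
    have hgQ₁ : g ∉ Q₁ := hQ''
    have hfQ₁ : algebraMap R S f ∉ Q₁ := by
      intro hmem
      have hunit : IsUnit (algebraMap S S' (algebraMap R S f)) :=
        IsLocalization.Away.algebraMap_isUnit _
      exact Q''.isPrime.ne_top (Ideal.eq_top_of_isUnit_mem _ hmem hunit)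
    have hreg : IsRegularLocalRing (Localization.AtPrime Q₁) := hg Q₁ hgQ₁
    have hflatR : Module.Flat R (Localization.AtPrime Q₁) :=
      hflat Q₁.primeCompl hfQ₁ (Localization.AtPrime Q₁)
        (Algebra.linearMap S (Localization.AtPrime Q₁))
    change IsRegularLocalRing (Localization.AtPrime
      (Q''.asIdeal.comap (algebraMap R S')))
    have hcomap : Q''.asIdeal.comap (algebraMap R S') = Q₁.under R := by
      rw [IsScalarTower.algebraMap_eq R S S', ← Ideal.comap_comap]
    have hP : (Q₁.under R).IsPrime := Ideal.comap_isPrime _ _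
    refine isRegularLocalRing_congr _ _ hcomap.symm ?_
    have hlo : Q₁.LiesOver (Q₁.under R) := ⟨rfl⟩
    let _ := Localization.AtPrime.algebraOfLiesOver (Q₁.under R) Q₁
    have hloc : IsLocalHom (algebraMap (Localization.AtPrime (Q₁.under R))
        (Localization.AtPrime Q₁)) :=
      Localization.isLocalHom_localRingHom (Q₁.under R) Q₁ (algebraMap R S) Ideal.LiesOver.over
    have hfl : Module.Flat (Localization.AtPrime (Q₁.under R)) (Localization.AtPrime Q₁) :=
      (Module.flat_iff_of_isLocalization (Localization.AtPrime (Q₁.under R))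
        (Q₁.under R).primeCompl _).mpr hflatR
    exact Groth.Agent.Lead.RLR.isRegularLocalRing_of_flat (Localization.AtPrime (Q₁.under R))
      (Localization.AtPrime Q₁)

end Descent

section Ascent

variable (A B : Type u) [CommRing A] [IsDomain A] [IsNoetherianRing A] [CommRing B] [IsDomain B]
  [Algebra A B] [Algebra.FiniteType A B]

/-- the local ring at the generic point is the fraction field -/
noncomputable def atPrimeBotEquiv (B : Type u) [CommRing B] [IsDomain B] :
    Localization.AtPrime (⊥ : Ideal B) ≃ₐ[B] FractionRing B := by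
  have h : (⊥ : Ideal B).primeCompl = nonZeroDivisors B := by
    ext x
    simp [Ideal.primeCompl, mem_nonZeroDivisors_iff_ne_zero]
  have : IsLocalization (⊥ : Ideal B).primeCompl (FractionRing B) := by
    rw [h]
    infer_instance
  exact IsLocalization.algEquiv (⊥ : Ideal B).primeCompl _ _

/-- Generic regularity ascends along a finite type extension of domains which is smooth at the
generic point. -/
theorem gr_of_formallySmooth (hinj : Function.Injective (algebraMap A B))
    [Algebra.FormallySmooth A (FractionRing B)] (hA : GR A) : GR B := by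
  obtain ⟨g, hg0, hg⟩ := hA
  have hfpB : Algebra.FinitePresentation A B :=
    Algebra.FinitePresentation.of_finiteType.mp inferInstance
  have hsm : Algebra.IsSmoothAt A (⊥ : Ideal B) :=
    Algebra.FormallySmooth.of_equiv ((atPrimeBotEquiv B).restrictScalars A).symm
  obtain ⟨f, hf, hfs⟩ := Algebra.IsSmoothAt.exists_notMem_smooth A (⊥ : Ideal B)
  have hf0 : f ≠ 0 := by simpa using hf
  have hgB : algebraMap A B g ≠ 0 := by
    rw [Ne, ← map_zero (algebraMap A B)]
    exact fun h => hg0 (hinj h)
  refine ⟨f * algebraMap A B g, mul_ne_zero hf0 hgB, fun Q hQ hQfg => ?_⟩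
  have hfQ : f ∉ Q := fun h => hQfg (Ideal.mul_mem_right _ _ h)
  have hgQ : algebraMap A B g ∉ Q := fun h => hQfg (Ideal.mul_mem_left _ _ h)
  let Bf := Localization.Away f
  have hdisj : Disjoint (Submonoid.powers f : Set B) (Q : Set B) := by
    rw [Set.disjoint_left]
    rintro _ ⟨n, rfl⟩ hmem
    exact hfQ (Ideal.IsPrime.mem_of_pow_mem ‹_› n hmem)
  let q : Ideal Bf := Q.map (algebraMap B Bf)
  have hq : q.IsPrime := IsLocalization.isPrime_of_isPrime_disjoint (Submonoid.powers f) _ Q hQ hdisj
  have hcomap : q.comap (algebraMap B Bf) = Q :=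
    IsLocalization.under_map_of_isPrime_disjoint (Submonoid.powers f) _ hQ hdisj
  let P : Ideal A := q.under A
  have hP : P.IsPrime := Ideal.comap_isPrime _ _
  have hlo : q.LiesOver P := ⟨rfl⟩
  have hgP : g ∉ P := by
    intro hmem
    apply hgQ
    rw [← hcomap, Ideal.mem_comap, ← IsScalarTower.algebraMap_apply]
    exact hmem
  have hregP : IsRegularLocalRing (Localization.AtPrime P) := hg P hgP
  obtain ⟨T, _, _, hTsm, Q', hQ', ⟨e⟩⟩ :=
    Groth.Agent.H39.SmoothStalk.exists_smooth_localization A Bf P q
  have hRP : IsRegularRing (Localization.AtPrime P) :=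
    Groth.Agent.H26.ZariskiCompl.isRegularRing_of_isRegularLocalRing _
  have hT : IsRegularRing T := Groth.Agent.H47.isRegularRing_of_smooth (Localization.AtPrime P) T
  have hregq : IsRegularLocalRing (Localization.AtPrime q) := IsRegularLocalRing.of_ringEquiv e
  have hreg' : IsRegularLocalRing (Localization.AtPrime (q.comap (algebraMap B Bf))) :=
    IsRegularLocalRing.of_ringEquiv
      (IsLocalization.localizationLocalizationAtPrimeIsoLocalization (Submonoid.powers f)
        q).toRingEquiv.symm
  exact isRegularLocalRing_congr _ _ hcomap hreg'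

end Ascent

end Groth.Agent.H13.GenReg
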