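import Mathlib

/-!
# Separability of `p^e`-th powers, polynomial form

Tools for the "Frobenius twist" proof of generic regularity.
-/

set_option autoImplicit false
set_option linter.style.haveILetI false
set_option linter.unusedSectionVars false
universe u v

namespace Groth.Agent.H13.SepPow

open Polynomial

section Field

variable {F L : Type*} [Field F] [Field L] [Algebra F L]

/-- a root of a polynomial at which the derivative does not vanish is separable. -/
theorem isSeparable_of_aeval_derivative_ne_zero (z : L) (g : F[X]) (h0 : aeval z g = 0)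
    (h1 : aeval z (derivative g) ≠ 0) : IsSeparable F z := by
  have hg0 : g ≠ 0 := by
    rintro rfl
    simp at h1
  have hint : IsIntegral F z := (isAlgebraic_iff_isIntegral).mp ⟨g, hg0, h0⟩
  obtain ⟨h, rfl⟩ := minpoly.dvd F z h0
  have hirr := minpoly.irreducible hint
  change (minpoly F z).Separable
  rw [separable_iff_derivative_ne_zero hirr]
  intro hd
  apply h1
  rw [derivative_mul, hd, zero_mul, zero_add, map_mul, minpoly.aeval, zero_mul]

/-- an algebraic element has a `q^m`-th power which is separable. -/
theorem exists_pow_isSeparable (q : ℕ) [ExpChar F q] (y : L) (hy : IsAlgebraic F y) :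
    ∃ m : ℕ, IsSeparable F (y ^ q ^ m) := by
  have hint : IsIntegral F y := isAlgebraic_iff_isIntegral.mp hy
  have hirr := minpoly.irreducible hint
  obtain ⟨g, hg, m, hgm⟩ := hirr.hasSeparableContraction q
  refine ⟨m, ?_⟩
  have h0 : aeval (y ^ q ^ m) g = 0 := by
    rw [← expand_aeval, hgm, minpoly.aeval]
  exact hg.of_dvd (minpoly.dvd F _ h0)

theorem isSeparable_pow {z : L} (hz : IsSeparable F z) (n : ℕ) : IsSeparable F (z ^ n) := by
  have : z ∈ separableClosure F L := (mem_separableClosure_iff).mpr hz
  exact (mem_separableClosure_iff).mp (pow_mem this n)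

/-- common exponent for finitely many algebraic elements. -/
theorem exists_pow_isSeparable_finset (q : ℕ) [ExpChar F q] (S : Finset L)
    (hS : ∀ y ∈ S, IsAlgebraic F y) : ∃ e : ℕ, ∀ y ∈ S, IsSeparable F (y ^ q ^ e) := by
  classical
  induction S using Finset.induction_on with
  | empty => exact ⟨0, by simp⟩
  | insert a S ha ih =>
    obtain ⟨e₁, h₁⟩ := ih (fun y hy => hS y (Finset.mem_insert_of_mem hy))
    obtain ⟨m, hm⟩ := exists_pow_isSeparable q a (hS a (Finset.mem_insert_self a S))
    refine ⟨e₁ + m, ?_⟩
    intro y hy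
    rcases Finset.mem_insert.mp hy with rfl | hy'
    · rw [add_comm, pow_add, pow_mul]
      exact isSeparable_pow hm _
    · rw [pow_add, pow_mul]
      exact isSeparable_pow (h₁ y hy') _

end Field

section Ring

variable {R B : Type*} [CommRing R] [IsDomain R] [CommRing B] [IsDomain B] [Algebra R B]

/-- clearing denominators in a separable minimal polynomial -/
theorem exists_polynomial_of_isSeparable {F L : Type*} [Field F] [Field L] [Algebra R F]
    [IsFractionRing R F] [Algebra F L] [Algebra R L] [IsScalarTower R F L] [Algebra B L]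
    [IsScalarTower R B L] (hBL : Function.Injective (algebraMap B L)) (w : B)
    (hsep : IsSeparable F (algebraMap B L w)) :
    ∃ G : R[X], aeval w G = 0 ∧ aeval w (derivative G) ≠ 0 := by
  set z := algebraMap B L w with hz
  set g := minpoly F z with hg
  have hgsep : g.Separable := hsep
  obtain ⟨b, hb, hG⟩ := IsLocalization.integerNormalization_spec (nonZeroDivisors R) g
  set G := IsLocalization.integerNormalization (nonZeroDivisors R) g with hGdef
  have hbF : algebraMap R F b ≠ 0 :=
    IsLocalization.to_map_ne_zero_of_mem_nonZeroDivisors F le_rfl hb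
  have key : ∀ P : R[X], algebraMap B L (aeval w P) = aeval z (P.map (algebraMap R F)) := by
    intro P
    rw [aeval_map_algebraMap, hz, aeval_algebraMap_apply]
  have hG' : G.map (algebraMap R F) = C (algebraMap R F b) * g := by
    rw [hG, ← algebraMap_smul F b g, smul_eq_C_mul]
  refine ⟨G, ?_, ?_⟩
  · apply hBL
    rw [key, hG', map_zero, map_mul, minpoly.aeval, mul_zero]
  · intro h0
    have h1 := congrArg (algebraMap B L) h0
    rw [key, map_zero, ← derivative_map, hG', derivative_C_mul, map_mul, aeval_C,
      mul_eq_zero] at h1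
    rcases h1 with h1 | h1
    · exact hbF ((map_eq_zero_iff _ (algebraMap F L).injective).mp h1)
    · exact hgsep.aeval_derivative_ne_zero (minpoly.aeval F z) h1

/-- Ring version: finitely many elements of `B`, algebraic over `R`, have a common `q^e`-th power
which are roots of polynomials over `R` with non-vanishing derivative. -/
theorem exists_pow_sep (hinj : Function.Injective (algebraMap R B)) (q : ℕ) [ExpChar B q]
    (S : Finset B) (hS : ∀ y ∈ S, IsAlgebraic R y) :
    ∃ e : ℕ, ∀ y ∈ S, ∃ G : R[X], aeval (y ^ q ^ e) G = 0 ∧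
      aeval (y ^ q ^ e) (derivative G) ≠ 0 := by
  classical
  let F := FractionRing R
  let L := FractionRing B
  have hBL : Function.Injective (algebraMap B L) := IsFractionRing.injective B L
  have : FaithfulSMul R L := (faithfulSMul_iff_algebraMap_injective R L).mpr (by
    rw [IsScalarTower.algebraMap_eq R B L]
    exact hBL.comp hinj)
  letI := FractionRing.liftAlgebra R L
  have hR : ExpChar R q := (algebraMap R B).expChar hinj q
  have hF : ExpChar F q := expChar_of_injective_algebraMap (IsFractionRing.injective R F) q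
  have halg : ∀ y ∈ S.image (algebraMap B L), IsAlgebraic F y := by
    intro y hy
    obtain ⟨w, hw, rfl⟩ := Finset.mem_image.mp hy
    have h1 : IsAlgebraic R (algebraMap B L w) := (hS w hw).algebraMap
    exact h1.extendScalars (IsFractionRing.injective R F)
  obtain ⟨e, he⟩ := exists_pow_isSeparable_finset q (S.image (algebraMap B L)) halg
  refine ⟨e, fun y hy => ?_⟩
  have h1 := he (algebraMap B L y) (Finset.mem_image_of_mem _ hy)
  rw [← map_pow] at h1
  exact exists_polynomial_of_isSeparable (F := F) (L := L) hBL _ h1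

end Ring

section Smooth

variable (A₀ B₁ : Type*) [CommRing A₀] [IsDomain A₀] [CommRing B₁] [IsDomain B₁] [Algebra A₀ B₁]

/-- If the domain `B₁` is generated over `A₀` by an algebraically independent family `t` and
elements `z` which are roots of polynomials over `A₀[t]` with non-vanishing derivative, then
`Frac B₁` is formally smooth over `A₀`. -/
theorem formallySmooth_fractionRing {τ : Type*} (t : τ → B₁) (ht : AlgebraicIndependent A₀ t)
    (Z : Set B₁) (hgen : Algebra.adjoin A₀ (Set.range t ∪ Z) = ⊤)
    (hZ : ∀ z ∈ Z, ∃ G : (MvPolynomial τ A₀)[X],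
      eval₂ ((MvPolynomial.aeval t : MvPolynomial τ A₀ →ₐ[A₀] B₁) : MvPolynomial τ A₀ →+* B₁) z G
        = 0 ∧
      eval₂ ((MvPolynomial.aeval t : MvPolynomial τ A₀ →ₐ[A₀] B₁) : MvPolynomial τ A₀ →+* B₁) z
        (derivative G) ≠ 0) :
    Algebra.FormallySmooth A₀ (FractionRing B₁) := by
  let R₀ := MvPolynomial τ A₀
  let φ : R₀ →ₐ[A₀] B₁ := MvPolynomial.aeval t
  letI : Algebra R₀ B₁ := φ.toRingHom.toAlgebra
  have hφ : ∀ r : R₀, algebraMap R₀ B₁ r = φ r := fun _ => rfl
  have tow1 : IsScalarTower A₀ R₀ B₁ := IsScalarTower.of_algebraMap_eq fun a => by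
    rw [hφ, MvPolynomial.algebraMap_eq, MvPolynomial.aeval_C]
  have hinj : Function.Injective (algebraMap R₀ B₁) := ht
  let F₀ := FractionRing R₀
  let L₁ := FractionRing B₁
  have hBL : Function.Injective (algebraMap B₁ L₁) := IsFractionRing.injective B₁ L₁
  have : FaithfulSMul R₀ L₁ := (faithfulSMul_iff_algebraMap_injective R₀ L₁).mpr (by
    rw [IsScalarTower.algebraMap_eq R₀ B₁ L₁]
    exact hBL.comp hinj)
  letI := FractionRing.liftAlgebra R₀ L₁
  have tow2 : IsScalarTower A₀ F₀ L₁ := IsScalarTower.of_algebraMap_eq fun a => by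
    rw [IsScalarTower.algebraMap_apply A₀ R₀ F₀, ← IsScalarTower.algebraMap_apply R₀ F₀ L₁,
      IsScalarTower.algebraMap_apply R₀ B₁ L₁, ← IsScalarTower.algebraMap_apply A₀ R₀ B₁,
      ← IsScalarTower.algebraMap_apply A₀ B₁ L₁]
  -- separability
  have hmem : ∀ x : B₁, algebraMap B₁ L₁ x ∈ separableClosure F₀ L₁ := by
    intro x
    have hx : x ∈ Algebra.adjoin A₀ (Set.range t ∪ Z) := hgen ▸ Algebra.mem_top
    induction hx using Algebra.adjoin_induction with
    | mem y hy =>
      rcases hy with ⟨i, rfl⟩ | hy
      · have : algebraMap B₁ L₁ (t i) = algebraMap F₀ L₁ (algebraMap R₀ F₀ (MvPolynomial.X i)) := by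
          rw [← IsScalarTower.algebraMap_apply R₀ F₀ L₁, IsScalarTower.algebraMap_apply R₀ B₁ L₁,
            hφ, MvPolynomial.aeval_X]
        rw [this]
        exact (separableClosure F₀ L₁).algebraMap_mem _
      · obtain ⟨G, h0, h1⟩ := hZ y hy
        rw [mem_separableClosure_iff]
        refine isSeparable_of_aeval_derivative_ne_zero _ (G.map (algebraMap R₀ F₀)) ?_ ?_
        · rw [aeval_map_algebraMap, aeval_def, IsScalarTower.algebraMap_eq R₀ B₁ L₁,
            ← hom_eval₂]
          rw [show (algebraMap R₀ B₁) = (φ : R₀ →+* B₁) from rfl, h0, map_zero]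
        · rw [derivative_map, aeval_map_algebraMap, aeval_def,
            IsScalarTower.algebraMap_eq R₀ B₁ L₁, ← hom_eval₂]
          rw [show (algebraMap R₀ B₁) = (φ : R₀ →+* B₁) from rfl]
          exact fun h => h1 (hBL (h.trans (map_zero _).symm))
    | algebraMap a =>
      rw [← IsScalarTower.algebraMap_apply A₀ B₁ L₁, IsScalarTower.algebraMap_apply A₀ F₀ L₁]
      exact (separableClosure F₀ L₁).algebraMap_mem _
    | add x y _ _ hx hy =>
      rw [map_add]
      exact add_mem hx hy
    | mul x y _ _ hx hy =>
      rw [map_mul]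
      exact mul_mem hx hy
  have hsep : Algebra.IsSeparable F₀ L₁ := by
    rw [← separableClosure.eq_top_iff, eq_top_iff]
    intro x _
    obtain ⟨a, b, hb, rfl⟩ := IsFractionRing.div_surjective (A := B₁) x
    exact div_mem (hmem a) (hmem b)
  have h1 : Algebra.FormallyEtale F₀ L₁ := Algebra.FormallyEtale.of_isSeparable F₀ L₁
  have h2 : Algebra.FormallySmooth R₀ F₀ :=
    Algebra.FormallySmooth.of_isLocalization (nonZeroDivisors R₀)
  have h3 : Algebra.FormallySmooth A₀ F₀ := Algebra.FormallySmooth.comp A₀ R₀ F₀
  exact Algebra.FormallySmooth.comp A₀ F₀ L₁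

end Smooth

end Groth.Agent.H13.SepPow
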