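import Mathlib
import Groth.Agent.H13.SepPow
import Groth.Agent.H13.GenReg

/-!
# The Frobenius twist trick: generic regularity of finite type domains over a Noetherian ring
all of whose finite domains are generically regular (EGA IV 6.12.4).
-/

set_option autoImplicit false
set_option linter.style.haveILetI false
set_option linter.unusedSectionVars false
universe u

namespace Groth.Agent.H13.FrobTwist

open Polynomial

section Coef

variable {A B : Type*} [CommRing A] [CommRing B] [Algebra A B] {τ : Type*} (t : τ → B)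

/-- an element of `A[t]` is a polynomial in `t` with coefficients in any subring of `A` containing
a suitable finite set. -/
theorem exists_finset_lift (r : B) (hr : r ∈ Algebra.adjoin A (Set.range t)) :
    ∃ C : Finset A, ∀ A₀ : Subring A, (C : Set A) ⊆ A₀ →
      ∃ P : MvPolynomial τ A₀, MvPolynomial.aeval t P = r := by
  classical
  induction hr using Algebra.adjoin_induction with
  | mem y hy =>
    obtain ⟨i, rfl⟩ := hy
    exact ⟨∅, fun A₀ _ => ⟨MvPolynomial.X i, MvPolynomial.aeval_X _ _⟩⟩
  | algebraMap a =>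
    refine ⟨{a}, fun A₀ h => ⟨MvPolynomial.C ⟨a, h (by simp)⟩, ?_⟩⟩
    rw [MvPolynomial.aeval_C]
    rfl
  | add x y _ _ hx hy =>
    obtain ⟨C₁, h₁⟩ := hx
    obtain ⟨C₂, h₂⟩ := hy
    refine ⟨C₁ ∪ C₂, fun A₀ h => ?_⟩
    obtain ⟨P₁, hP₁⟩ := h₁ A₀ (fun a ha => h (by simp [Finset.mem_coe.mp ha]))
    obtain ⟨P₂, hP₂⟩ := h₂ A₀ (fun a ha => h (by simp [Finset.mem_coe.mp ha]))
    exact ⟨P₁ + P₂, by rw [map_add, hP₁, hP₂]⟩
  | mul x y _ _ hx hy =>
    obtain ⟨C₁, h₁⟩ := hx
    obtain ⟨C₂, h₂⟩ := hy
    refine ⟨C₁ ∪ C₂, fun A₀ h => ?_⟩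
    obtain ⟨P₁, hP₁⟩ := h₁ A₀ (fun a ha => h (by simp [Finset.mem_coe.mp ha]))
    obtain ⟨P₂, hP₂⟩ := h₂ A₀ (fun a ha => h (by simp [Finset.mem_coe.mp ha]))
    exact ⟨P₁ * P₂, by rw [map_mul, hP₁, hP₂]⟩

/-- polynomial version -/
theorem exists_finset_lift_polynomial (G : B[X])
    (hG : ∀ n, G.coeff n ∈ Algebra.adjoin A (Set.range t)) :
    ∃ C : Finset A, ∀ A₀ : Subring A, (C : Set A) ⊆ A₀ →
      ∃ G' : (MvPolynomial τ A₀)[X],
        G'.map ((MvPolynomial.aeval t : MvPolynomial τ A₀ →ₐ[A₀] B) : MvPolynomial τ A₀ →+* B)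
          = G := by
  classical
  choose Cf hCf using fun n => exists_finset_lift t (G.coeff n) (hG n)
  refine ⟨G.support.biUnion Cf, fun A₀ h => ?_⟩
  have hP : ∀ n, ∃ P : MvPolynomial τ A₀, MvPolynomial.aeval t P = G.coeff n := by
    intro n
    by_cases hn : n ∈ G.support
    · exact hCf n A₀ (fun a ha => h (by
        simp only [Finset.coe_biUnion, Set.mem_iUnion]
        exact ⟨n, hn, ha⟩))
    · exact ⟨0, by rw [map_zero, Polynomial.notMem_support_iff.mp hn]⟩
  choose P hP using hP
  refine ⟨∑ n ∈ G.support, Polynomial.monomial n (P n), ?_⟩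
  rw [Polynomial.map_sum]
  conv_rhs => rw [G.as_sum_support]
  refine Finset.sum_congr rfl fun n _ => ?_
  rw [Polynomial.map_monomial]
  congr 1
  exact hP n

end Coef

section Twist

variable (A B : Type u) [CommRing A] [CommRing B] [Algebra A B] (p e : ℕ) [ExpChar A p]
  [ExpChar B p] (C : Finset A) (T S : Set B)

/-- the subring `A^q[C]` of `A`, `q = p ^ e`. -/
def A₀ : Subring A := Subring.closure (Set.range (iterateFrobenius A p e) ∪ (C : Set A))

/-- the subalgebra `A₀[T, S^q]` of `B` -/
def B₁ : Subalgebra (A₀ A p e C) B :=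
  Algebra.adjoin (A₀ A p e C) (T ∪ (iterateFrobenius B p e) '' S)

/-- Frobenius as a map `A → A₀`. -/
def frobA : A →+* A₀ A p e C :=
  (iterateFrobenius A p e).codRestrict (A₀ A p e C)
    (fun a => Subring.subset_closure (Or.inl ⟨a, rfl⟩))

theorem frobA_finite : (frobA A p e C).Finite := by
  classical
  letI := (frobA A p e C).toAlgebra
  change Module.Finite A (A₀ A p e C)
  let C' : Set (A₀ A p e C) := {x | (x : A) ∈ C}
  have hfin : C'.Finite := C.finite_toSet.preimage Subtype.val_injective.injOn
  have hint : ∀ x ∈ C', IsIntegral A x := by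
    intro x _
    refine ⟨X ^ (p ^ e) - Polynomial.C (x : A),
      monic_X_pow_sub_C _ (pow_ne_zero _ (expChar_pos A p).ne'), ?_⟩
    rw [eval₂_sub, eval₂_X_pow, eval₂_C, sub_eq_zero]
    apply Subtype.ext
    rfl
  have htop : Algebra.adjoin A C' = ⊤ := by
    rw [eq_top_iff]
    rintro ⟨x, hx⟩ -
    induction hx using Subring.closure_induction with
    | mem y hy =>
      rcases hy with ⟨a, rfl⟩ | hy
      · exact (Algebra.adjoin A C').algebraMap_mem a
      · exact Algebra.subset_adjoin hy
    | zero => exact zero_mem _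
    | one => exact one_mem _
    | add x y hx hy hx' hy' => exact add_mem hx' hy'
    | neg x hx hx' => exact neg_mem hx'
    | mul x y hx hy hx' hy' => exact mul_mem hx' hy'
  refine ⟨?_⟩
  rw [← Algebra.top_toSubmodule, ← htop]
  exact fg_adjoin_of_finite hfin hint

/-- `b ^ q ∈ B₁` for all `b ∈ A[S]`. -/
theorem frob_mem_B₁ (b : B) (hb : b ∈ Algebra.adjoin A S) :
    iterateFrobenius B p e b ∈ B₁ A B p e C T S := by
  induction hb using Algebra.adjoin_induction with
  | mem y hy => exact Algebra.subset_adjoin (Or.inr ⟨y, hy, rfl⟩)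
  | algebraMap a =>
    have : iterateFrobenius B p e (algebraMap A B a) =
        algebraMap (A₀ A p e C) B (frobA A p e C a) := by
      rw [← RingHom.map_iterateFrobenius]
      rfl
    rw [this]
    exact Subalgebra.algebraMap_mem _ _
  | add x y _ _ hx hy =>
    rw [map_add]
    exact add_mem hx hy
  | mul x y _ _ hx hy =>
    rw [map_mul]
    exact mul_mem hx hy

/-- Frobenius as a map `B → B₁`. -/
def frobB (hS : Algebra.adjoin A S = ⊤) : B →+* B₁ A B p e C T S :=
  (iterateFrobenius B p e).codRestrict (B₁ A B p e C T S)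
    (fun b => frob_mem_B₁ A B p e C T S b (hS ▸ Algebra.mem_top))

theorem frobB_injective [IsReduced B] (hS : Algebra.adjoin A S = ⊤) :
    Function.Injective (frobB A B p e C T S hS) := by
  intro x y h
  apply iterateFrobenius_inj B p e
  exact congrArg Subtype.val h

theorem frobB_finiteType (hT : T.Finite) (hS : Algebra.adjoin A S = ⊤) :
    (frobB A B p e C T S hS).FiniteType := by
  classical
  letI := (frobB A B p e C T S hS).toAlgebra
  change Algebra.FiniteType B (B₁ A B p e C T S)
  let Gen : Set (B₁ A B p e C T S) := {x | (x : B) ∈ T ∪ (algebraMap A B) '' (C : Set A)}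
  have hfin : Gen.Finite :=
    (hT.union (C.finite_toSet.image _)).preimage Subtype.val_injective.injOn
  have hbase : ∀ (a : A) (ha : a ∈ A₀ A p e C),
      (⟨algebraMap A B a, Subalgebra.algebraMap_mem _ (⟨a, ha⟩ : A₀ A p e C)⟩ :
        B₁ A B p e C T S) ∈ Algebra.adjoin B Gen := by
    intro a ha
    induction ha using Subring.closure_induction with
    | mem y hy =>
      rcases hy with ⟨a', rfl⟩ | hy
      · have : (⟨algebraMap A B (iterateFrobenius A p e a'), Subalgebra.algebraMap_mem _
            (⟨_, Subring.subset_closure (Or.inl ⟨a', rfl⟩)⟩ : A₀ A p e C)⟩ :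
            B₁ A B p e C T S) = algebraMap B (B₁ A B p e C T S) (algebraMap A B a') := by
          apply Subtype.ext
          change algebraMap A B (iterateFrobenius A p e a') =
            iterateFrobenius B p e (algebraMap A B a')
          rw [RingHom.map_iterateFrobenius]
        rw [this]
        exact Subalgebra.algebraMap_mem _ _
      · exact Algebra.subset_adjoin (Or.inr ⟨y, hy, rfl⟩)
    | zero =>
      convert zero_mem (Algebra.adjoin B Gen)
      exact map_zero _
    | one =>
      convert one_mem (Algebra.adjoin B Gen)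
      exact map_one _
    | add x y hx hy hx' hy' =>
      convert add_mem hx' hy'
      exact map_add _ _ _
    | neg x hx hx' =>
      convert neg_mem hx'
      exact map_neg _ _
    | mul x y hx hy hx' hy' =>
      convert mul_mem hx' hy'
      exact map_mul _ _ _
  have htop : Algebra.adjoin B Gen = ⊤ := by
    rw [eq_top_iff]
    rintro ⟨x, hx⟩ -
    induction hx using Algebra.adjoin_induction with
    | mem y hy =>
      rcases hy with hy | ⟨s, hs, rfl⟩
      · exact Algebra.subset_adjoin (Or.inl hy)
      · exact (Algebra.adjoin B Gen).algebraMap_mem s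
    | algebraMap a => exact hbase a.1 a.2
    | add x y hx hy hx' hy' => exact add_mem hx' hy'
    | mul x y hx hy hx' hy' => exact mul_mem hx' hy'
  exact ⟨⟨hfin.toFinset, by rw [Set.Finite.coe_toFinset, htop]⟩⟩

end Twist

section Main

open Groth.Agent.H13.GenReg

variable (A : Type u) [CommRing A] [IsDomain A] [IsNoetherianRing A]

/-- EGA IV 6.12.4, key step: if every finite `A`-algebra which is a domain is generically
regular, then so is every finite type `A`-algebra which is a domain containing `A`. -/
theorem gr_of_finiteType_of_injective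
    (hb : ∀ (A' : Type u) [CommRing A'] [IsDomain A'] [Algebra A A'], Module.Finite A A' → GR A')
    (B : Type u) [CommRing B] [IsDomain B] [Algebra A B] [Algebra.FiniteType A B]
    (hinj : Function.Injective (algebraMap A B)) : GR B := by
  classical
  obtain ⟨p, hp⟩ := ExpChar.exists A
  have hpB : ExpChar B p := expChar_of_injective_algebraMap hinj p
  have hfaith : FaithfulSMul A B := (faithfulSMul_iff_algebraMap_injective A B).mpr hinj
  obtain ⟨S, hS⟩ := (Algebra.FiniteType.out : (⊤ : Subalgebra A B).FG)
  have halg : Algebra.IsAlgebraic (Algebra.adjoin A (S : Set B)) B := ⟨fun b => by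
    have hb' : b ∈ Algebra.adjoin A (S : Set B) := hS ▸ Algebra.mem_top
    exact isAlgebraic_algebraMap (⟨b, hb'⟩ : Algebra.adjoin A (S : Set B))⟩
  obtain ⟨T, hTS, hT⟩ := exists_isTranscendenceBasis_subset (R := A) (S : Set B)
  have hTfin : T.Finite := S.finite_toSet.subset hTS
  let t : T → B := Subtype.val
  have hrange : Set.range t = T := Subtype.range_coe
  let R := Algebra.adjoin A (Set.range t)
  have hRalg : Algebra.IsAlgebraic R B := hT.isAlgebraic
  obtain ⟨e, he⟩ := SepPow.exists_pow_sep (R := R) (B := B) Subtype.val_injective p S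
    (fun y _ => hRalg.isAlgebraic y)
  choose! G hG0 hG1 using he
  have hcoef : ∀ (y : B) (n : ℕ),
      ((G y).map (algebraMap R B)).coeff n ∈ Algebra.adjoin A (Set.range t) := by
    intro y n
    rw [coeff_map]
    exact ((G y).coeff n).2
  choose Cf hCf using fun y =>
    exists_finset_lift_polynomial (A := A) t ((G y).map (algebraMap R B)) (hcoef y)
  let C : Finset A := S.biUnion Cf
  let A0 := A₀ A p e C
  let B1 := B₁ A B p e C T (S : Set B)
  -- `A0` is a finite `A`-algebra
  letI algA : Algebra A A0 := (frobA A p e C).toAlgebra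
  have hfinA : Module.Finite A A0 := frobA_finite A p e C
  have hNoeth : IsNoetherianRing A0 := Algebra.FiniteType.isNoetherianRing A A0
  have hGR0 : GR A0 := hb A0 hfinA
  -- `B1` over `A0`
  let t' : T → B1 := fun i => ⟨t i, Algebra.subset_adjoin (Or.inl i.2)⟩
  let Z : Set B1 := {z | (z : B) ∈ (iterateFrobenius B p e) '' (S : Set B)}
  have hgen : Algebra.adjoin A0 (Set.range t' ∪ Z) = ⊤ := by
    have h1 : Set.range t' ∪ Z =
        (Subtype.val : B1 → B) ⁻¹' (T ∪ (iterateFrobenius B p e) '' (S : Set B)) := by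
      ext z
      constructor
      · rintro (⟨i, rfl⟩ | hz)
        · exact Or.inl i.2
        · exact Or.inr hz
      · rintro (hz | hz)
        · exact Or.inl ⟨⟨z.1, hz⟩, Subtype.ext rfl⟩
        · exact Or.inr hz
    rw [h1]
    exact Algebra.adjoin_adjoin_coe_preimage
  have ht' : AlgebraicIndependent A0 t' := by
    have h1 : AlgebraicIndependent A0 t :=
      hT.1.restrictScalars (K := A) Subtype.val_injective
    exact AlgebraicIndependent.of_comp B1.val h1
  have hcomp : ((B1.val : B1 →+* B)).comp
      ((MvPolynomial.aeval t' : MvPolynomial T A0 →ₐ[A0] B1) : MvPolynomial T A0 →+* B1) =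
      ((MvPolynomial.aeval t : MvPolynomial T A0 →ₐ[A0] B) : MvPolynomial T A0 →+* B) := by
    have : (B1.val).comp (MvPolynomial.aeval t' : MvPolynomial T A0 →ₐ[A0] B1) =
        (MvPolynomial.aeval t : MvPolynomial T A0 →ₐ[A0] B) := by
      apply MvPolynomial.algHom_ext
      intro i
      simp [t']
    exact congrArg (fun f : MvPolynomial T A0 →ₐ[A0] B => (f : MvPolynomial T A0 →+* B)) this
  have hZ : ∀ z ∈ Z, ∃ G' : (MvPolynomial T A0)[X],
      eval₂ ((MvPolynomial.aeval t' : MvPolynomial T A0 →ₐ[A0] B1) : MvPolynomial T A0 →+* B1) z G'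
        = 0 ∧
      eval₂ ((MvPolynomial.aeval t' : MvPolynomial T A0 →ₐ[A0] B1) : MvPolynomial T A0 →+* B1) z
        (derivative G') ≠ 0 := by
    rintro z ⟨y, hy, hyz⟩
    have hsub : (Cf y : Set A) ⊆ A0 := by
      intro a ha
      apply Subring.subset_closure
      refine Or.inr ?_
      simp only [C, Finset.coe_biUnion, Set.mem_iUnion]
      exact ⟨y, hy, ha⟩
    obtain ⟨G', hG'⟩ := hCf y A0 hsub
    have key : ∀ P : (MvPolynomial T A0)[X],
        ((eval₂ ((MvPolynomial.aeval t' : MvPolynomial T A0 →ₐ[A0] B1) :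
          MvPolynomial T A0 →+* B1) z P : B1) : B) =
        eval (y ^ p ^ e) (P.map ((MvPolynomial.aeval t : MvPolynomial T A0 →ₐ[A0] B) :
          MvPolynomial T A0 →+* B)) := by
      intro P
      have h1 := Polynomial.hom_eval₂ P
        ((MvPolynomial.aeval t' : MvPolynomial T A0 →ₐ[A0] B1) : MvPolynomial T A0 →+* B1)
        (B1.val : B1 →+* B) z
      rw [hcomp] at h1
      rw [eval_map]
      have h2 : (B1.val : B1 →+* B) z = y ^ p ^ e := by
        change (z : B) = _
        rw [← hyz, iterateFrobenius_def]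
      rw [← h2]
      exact h1
    refine ⟨G', ?_, ?_⟩
    · apply Subtype.ext
      rw [key, hG', eval_map, ← aeval_def, hG0 y hy]
      rfl
    · intro h0
      have h1 := congrArg Subtype.val h0
      rw [key, ← derivative_map, hG', derivative_map, eval_map, ← aeval_def] at h1
      exact hG1 y hy h1
  have hFS : Algebra.FormallySmooth A0 (FractionRing B1) :=
    SepPow.formallySmooth_fractionRing A0 B1 t' ht' Z hgen hZ
  have hft : Algebra.FiniteType A0 B1 :=
    (Subalgebra.fg_iff_finiteType _).mp
      (Subalgebra.fg_def.mpr ⟨_, hTfin.union (S.finite_toSet.image _), rfl⟩)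
  have hinj1 : Function.Injective (algebraMap A0 B1) := by
    intro x y hxy
    have h1 : algebraMap A B (x : A) = algebraMap A B (y : A) := congrArg Subtype.val hxy
    exact Subtype.ext (hinj h1)
  have hGR1 : GR B1 := gr_of_formallySmooth A0 B1 hinj1 hGR0
  -- descend along Frobenius `B → B1`
  letI algB : Algebra B B1 := (frobB A B p e C T (S : Set B) hS).toAlgebra
  have hftB : Algebra.FiniteType B B1 := frobB_finiteType A B p e C T (S : Set B) hTfin hS
  have hNB : IsNoetherianRing B := Algebra.FiniteType.isNoetherianRing A B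
  exact gr_of_injective_finiteType B B1 (frobB_injective A B p e C T (S : Set B) hS) hGR1

end Main

end Groth.Agent.H13.FrobTwist
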