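import Mathlib
import Groth.Prelude.Def_CAlg2
import Groth.Agent.H14.HensProp.StrictUni3

/-!
# A criterion for geometric unibranchness

A local ring `C` admitting an integral ring map, with nil kernel, to a normal local domain `D`
whose residue field is purely inseparable over that of `C`, is geometrically unibranch.
(Uses helper14's strict-henselization criterion.)
-/

set_option autoImplicit false
set_option linter.style.haveILetI false
universe u

namespace Groth.Agent.H13.GUCrit

open IsLocalRing Groth.Agent.H14.HensProp.StrictUni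

theorem isGeomUnibranch_of_pi_normal (C D : Type u) [CommRing C] [IsLocalRing C]
    [CommRing D] [IsLocalRing D] [IsDomain D] [IsIntegrallyClosed D]
    (f : C →+* D) (hint : f.IsIntegral) (hker : RingHom.ker f ≤ nilradical C)
    (p : ℕ) (hp : p = 1 ∨ (p.Prime ∧ (p : D) ∈ maximalIdeal D))
    (hpi : ∀ x : D, ∃ (n : ℕ) (c : C), x ^ p ^ n - f c ∈ maximalIdeal D) :
    CAlg2.IsGeomUnibranch C := by
  have hnil : ∀ a ∈ nilradical C, f a = 0 := by
    intro a ha
    have h1 : IsNilpotent (f a) := (mem_nilradical.mp ha).map f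
    exact h1.eq_zero
  let g : CAlg2.red C →+* D := Ideal.Quotient.lift (nilradical C) f hnil
  have hgf : g.comp (Ideal.Quotient.mk (nilradical C)) = f := by
    ext a
    simp [g]
  letI : Algebra (CAlg2.red C) D := g.toAlgebra
  haveI : Algebra.IsIntegral (CAlg2.red C) D := by
    have h1 : (g.comp (Ideal.Quotient.mk (nilradical C))).IsIntegral := by rw [hgf]; exact hint
    exact ⟨RingHom.IsIntegral.tower_top _ _ h1⟩
  have hinj : Function.Injective (algebraMap (CAlg2.red C) D) := by
    rw [injective_iff_map_eq_zero]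
    intro r hr
    obtain ⟨a, rfl⟩ := Ideal.Quotient.mk_surjective r
    have h1 : f a = 0 := by
      have : g (Ideal.Quotient.mk (nilradical C) a) = 0 := hr
      simpa [g] using this
    exact Ideal.Quotient.eq_zero_iff_mem.mpr (hker h1)
  have hpi' : ∀ x : D, ∃ (n : ℕ) (r : CAlg2.red C),
      x ^ p ^ n - algebraMap (CAlg2.red C) D r ∈ maximalIdeal D := by
    intro x
    obtain ⟨n, c, hc⟩ := hpi x
    refine ⟨n, Ideal.Quotient.mk (nilradical C) c, ?_⟩
    have : algebraMap (CAlg2.red C) D (Ideal.Quotient.mk (nilradical C) c) = f c := by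
      show g (Ideal.Quotient.mk (nilradical C) c) = f c
      simp [g]
    rw [this]
    exact hc
  have hSH := Groth.Agent.H3.SH.isStrictHenselization C
  obtain ⟨hU, hff⟩ := Groth.Agent.H3.HensUnion.package (Or.inr hSH)
  haveI := hSH
  haveI : HenselianLocalRing (Groth.Agent.H3.SH.S C) := hSH.henselian
  haveI : HenselianLocalRing
      (Groth.Agent.H3.SH.S C ⧸ (nilradical C).map (algebraMap C (Groth.Agent.H3.SH.S C))) :=
    Groth.Agent.H3.henselianLocalRing_quotient (Groth.Agent.H3.SH.S C) _
      (map_nilradical_ne_top C (Groth.Agent.H3.SH.S C))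
  haveI := flat_Q C (Groth.Agent.H3.SH.S C)
  haveI : Module.FaithfullyFlat (CAlg2.red C)
      (Groth.Agent.H3.SH.S C ⧸ (nilradical C).map (algebraMap C (Groth.Agent.H3.SH.S C))) :=
    Module.FaithfullyFlat.of_flat_of_isLocalHom
  haveI : IsSepClosed (ResidueField (Groth.Agent.H3.SH.S C)) := hSH.isSepClosure.sep_closed
  haveI := isSepClosed_Q C (Groth.Agent.H3.SH.S C)
  refine (isGeomUnibranch_iff_isDomain C _ (isUnion_Q C (Groth.Agent.H3.SH.S C) hU)).mpr ?_
  exact isDomain_of_pi_normal (CAlg2.red C) _ D (isUnion_Q C (Groth.Agent.H3.SH.S C) hU) hinj p hp hpi'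

end Groth.Agent.H13.GUCrit
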