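import Mathlib

/-!
# Associated primes of principal ideals in a normal Noetherian domain

For a Noetherian integrally closed domain `S`, `x ≠ 0` and `p ∈ Ass_S(S/xS)`, the local ring `S_p`
is a discrete valuation ring.
-/

set_option autoImplicit false
set_option linter.style.haveILetI false
set_option linter.unusedSectionVars false
universe u

open IsLocalRing

namespace Groth.Agent.H13.NormalAssDVR

/-- A Noetherian integrally closed local domain in which the maximal ideal is the colon
`(a : b)` with `b ∉ (a)`, `0 ≠ a ∈ m`, is a discrete valuation ring.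
(The argument is the classical one; cf. `Groth.Agent.H15.CDivAlg`.) -/
theorem isDiscreteValuationRing_of_colon {R : Type u} [CommRing R] [IsLocalRing R]
    [IsNoetherianRing R] [IsDomain R] [IsIntegrallyClosed R] (a b : R)
    (ha : a ∈ maximalIdeal R) (ha0 : a ≠ 0) (hb : b ∉ Ideal.span {a})
    (hmb : ∀ t ∈ maximalIdeal R, t * b ∈ Ideal.span {a}) : IsDiscreteValuationRing R := by
  have hb0 : b ≠ 0 := by
    rintro rfl
    exact hb (Ideal.zero_mem _)
  have hmne : maximalIdeal R ≠ ⊥ := by
    intro h0
    rw [h0] at ha
    exact ha0 ha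
  have hnf : ¬ IsField R := fun hf => hmne (isField_iff_maximalIdeal_eq.mp hf)
  have hc : ∀ t : R, t ∈ maximalIdeal R → ∃ c : R, c * a = t * b := fun t ht =>
    Ideal.mem_span_singleton'.mp (hmb t ht)
  suffices hprin : (maximalIdeal R).IsPrincipal from
    ((IsDiscreteValuationRing.TFAE R hnf).out 4 0).mp hprin
  by_cases hcase : ∃ t ∈ maximalIdeal R, ∃ c : R, c * a = t * b ∧ IsUnit c
  · obtain ⟨t, ht, c, hct, hcu⟩ := hcase
    refine ⟨⟨t, ?_⟩⟩
    apply le_antisymm
    · intro y hy
      obtain ⟨cy, hcy⟩ := hc y hy
      obtain ⟨c', hc'⟩ := hcu.exists_left_inv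
      change y ∈ Ideal.span {t}
      rw [Ideal.mem_span_singleton']
      refine ⟨cy * c', ?_⟩
      apply mul_right_cancel₀ hb0
      calc cy * c' * t * b = cy * c' * (t * b) := by ring
        _ = cy * c' * (c * a) := by rw [hct]
        _ = cy * (c' * c) * a := by ring
        _ = cy * a := by rw [hc', mul_one]
        _ = y * b := hcy
    · change Ideal.span {t} ≤ maximalIdeal R
      rw [Ideal.span_singleton_le_iff_mem]
      exact ht
  · exfalso
    push Not at hcase
    let K := FractionRing R
    let x : K := algebraMap R K b / algebraMap R K a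
    have haK : algebraMap R K a ≠ 0 := by
      rw [Ne, map_eq_zero_iff _ (IsFractionRing.injective R K)]; exact ha0
    let N : Submodule R K := Submodule.map (Algebra.linearMap R K) (maximalIdeal R)
    have hN : N ≠ ⊥ := by
      intro hN0
      have : Algebra.linearMap R K a ∈ N := Submodule.mem_map_of_mem ha
      rw [hN0, Submodule.mem_bot] at this
      exact haK this
    have hNfg : N.FG :=
      Submodule.FG.map (Algebra.linearMap R K)
        ((isNoetherianRing_iff_ideal_fg R).mp inferInstance _)
    have hxN : ∀ n ∈ N, x • n ∈ N := by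
      rintro _ ⟨t, ht, rfl⟩
      obtain ⟨c, hct⟩ := hc t ht
      have hcm : c ∈ maximalIdeal R := by
        by_contra hcm
        exact hcase t ht c hct (by simpa using hcm)
      refine ⟨c, hcm, ?_⟩
      change algebraMap R K c = x * algebraMap R K t
      have : algebraMap R K c * algebraMap R K a = algebraMap R K t * algebraMap R K b := by
        rw [← map_mul, ← map_mul, hct]
      change algebraMap R K c = algebraMap R K b / algebraMap R K a * algebraMap R K t
      rw [div_mul_eq_mul_div, eq_div_iff haK, this, mul_comm]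
    have hint : IsIntegral R x := isIntegral_of_smul_mem_submodule N hN hNfg x hxN
    obtain ⟨r, hr⟩ := IsIntegrallyClosed.isIntegral_iff.mp hint
    apply hb
    rw [Ideal.mem_span_singleton']
    refine ⟨r, ?_⟩
    apply IsFractionRing.injective R K
    rw [map_mul, hr]
    change algebraMap R K b / algebraMap R K a * algebraMap R K a = algebraMap R K b
    rw [div_mul_cancel₀ _ haK]

/-- In a Noetherian integrally closed domain, the localization at an associated prime of a nonzero
principal ideal is a discrete valuation ring. -/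
theorem isDiscreteValuationRing_atPrime (S : Type u) [CommRing S] [IsDomain S]
    [IsNoetherianRing S] [IsIntegrallyClosed S] (x : S) (hx : x ≠ 0) (p : Ideal S) [hpp : p.IsPrime]
    (hp : p ∈ associatedPrimes S (S ⧸ Ideal.span {x})) :
    IsDiscreteValuationRing (Localization.AtPrime p) := by
  obtain ⟨-, ybar, hy⟩ := (isAssociatedPrime_iff (M := S ⧸ Ideal.span {x})).mp hp
  obtain ⟨y, rfl⟩ := Ideal.Quotient.mk_surjective ybar
  have hmem : ∀ t : S, t ∈ p ↔ t * y ∈ Ideal.span {x} := by
    intro t
    rw [hy, Submodule.mem_colon_singleton, Submodule.mem_bot,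
      ← Ideal.Quotient.eq_zero_iff_mem (a := t * y)]
    rfl
  have hpcomp : p.primeCompl ≤ nonZeroDivisors S := by
    intro s hs
    apply mem_nonZeroDivisors_of_ne_zero
    rintro rfl
    exact hs p.zero_mem
  haveI : IsIntegrallyClosed (Localization.AtPrime p) :=
    isIntegrallyClosed_of_isLocalization (Localization.AtPrime p) p.primeCompl hpcomp
  have hinj : Function.Injective (algebraMap S (Localization.AtPrime p)) :=
    IsLocalization.injective _ hpcomp
  have hxp : x ∈ p := by
    rw [hmem]
    exact Ideal.mul_mem_right _ _ (Ideal.mem_span_singleton_self x)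
  refine isDiscreteValuationRing_of_colon (algebraMap S (Localization.AtPrime p) x)
    (algebraMap S (Localization.AtPrime p) y) ?_ ?_ ?_ ?_
  · rwa [IsLocalization.AtPrime.to_map_mem_maximal_iff (Localization.AtPrime p) p]
  · rwa [Ne, map_eq_zero_iff _ hinj]
  · intro hmem'
    obtain ⟨c, hc⟩ := Ideal.mem_span_singleton'.mp hmem'
    obtain ⟨c₀, s, rfl⟩ := IsLocalization.exists_mk'_eq p.primeCompl c
    have h1 : algebraMap S (Localization.AtPrime p) (c₀ * x) =
        algebraMap S (Localization.AtPrime p) (s * y) := by
      rw [map_mul, map_mul, ← hc, ← mul_assoc, mul_comm (algebraMap S _ (s : S)),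
        IsLocalization.mk'_spec]
    have h2 : c₀ * x = s * y := hinj h1
    have hs : (s : S) ∈ p := by
      rw [hmem, ← h2]
      exact Ideal.mul_mem_left _ _ (Ideal.mem_span_singleton_self x)
    exact s.2 hs
  · intro t ht
    obtain ⟨t₀, s, rfl⟩ := IsLocalization.exists_mk'_eq p.primeCompl t
    rw [IsLocalization.AtPrime.mk'_mem_maximal_iff (Localization.AtPrime p) p] at ht
    obtain ⟨c, hc⟩ := Ideal.mem_span_singleton'.mp ((hmem t₀).mp ht)
    rw [Ideal.mem_span_singleton']
    refine ⟨IsLocalization.mk' _ c s, ?_⟩
    rw [mul_comm, IsLocalization.mul_mk'_eq_mk'_of_mul, mul_comm (IsLocalization.mk' _ t₀ s),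
      IsLocalization.mul_mk'_eq_mk'_of_mul, mul_comm x, hc, mul_comm y]

end Groth.Agent.H13.NormalAssDVR
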