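import Mathlib
import Groth.Agent.H13.NormalAssDVR

/-!
# Discrete valuation rings inside a field: archimedean and discreteness properties

For a valuation subring `V` of a field `K` we isolate two elementary properties that hold when `V`
is a discrete valuation ring (and are stable under pullback along field homomorphisms):

* `IsArch V`: if `t ≠ 0` and `t * z ^ n ∈ V` for all `n` then `z ∈ V`;
* `IsDisc V`: for each `x` there is `e` such that any product of at least `e` non-units of `V`
  multiplies `x` into `V`.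

We also construct the family of essential valuation rings of a Noetherian integrally closed domain.
-/

set_option autoImplicit false
set_option linter.style.haveILetI false
set_option linter.unusedSectionVars false
universe u v

open IsLocalRing

namespace Groth.Agent.H13.KrullDVR

section Basic

variable {K : Type u} [Field K]

/-- archimedean property of a valuation subring -/
def IsArch (V : ValuationSubring K) : Prop :=
  ∀ t z : K, t ≠ 0 → (∀ n : ℕ, t * z ^ n ∈ V) → z ∈ V

/-- discreteness property of a valuation subring -/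
def IsDisc (V : ValuationSubring K) : Prop :=
  ∀ x : K, ∃ e : ℕ, ∀ l : List K, (∀ y ∈ l, y ∈ V.nonunits) → e ≤ l.length → l.prod * x ∈ V

theorem list_prod_mem_pow (V : ValuationSubring K) :
    ∀ l : List K, (∀ y ∈ l, y ∈ V.nonunits) →
      ∃ o : V, (o : K) = l.prod ∧ o ∈ (maximalIdeal V) ^ l.length := by
  intro l
  induction l with
  | nil =>
    intro _
    exact ⟨1, by simp, by simp⟩
  | cons a l ih =>
    intro h
    obtain ⟨o, ho, hom⟩ := ih (fun y hy => h y (List.mem_cons_of_mem _ hy))
    obtain ⟨ha, ham⟩ := ValuationSubring.mem_nonunits_iff_exists_mem_maximalIdeal.mp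
      (h a List.mem_cons_self)
    refine ⟨⟨a, ha⟩ * o, by simp [ho], ?_⟩
    rw [List.length_cons, pow_succ']
    exact Ideal.mul_mem_mul ham hom

theorem isArch_of_isDVR (V : ValuationSubring K) [IsDiscreteValuationRing V] : IsArch V := by
  intro t z ht h
  by_contra hz
  have hzinv : z⁻¹ ∈ V.nonunits := by
    rw [ValuationSubring.inv_mem_nonunits_iff]
    exact Or.inr hz
  obtain ⟨hw, hwm⟩ := ValuationSubring.mem_nonunits_iff_exists_mem_maximalIdeal.mp hzinv
  have ht0 : t ∈ V := by simpa using h 0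
  have hz0 : z ≠ 0 := by
    rintro rfl
    exact hz V.zero_mem
  have hall : ∀ n : ℕ, (⟨t, ht0⟩ : V) ∈ (maximalIdeal V) ^ n := by
    intro n
    have h1 : (⟨t, ht0⟩ : V) = ⟨t * z ^ n, h n⟩ * (⟨z⁻¹, hw⟩ : V) ^ n := by
      apply Subtype.ext
      simp only [MulMemClass.coe_mul, SubmonoidClass.coe_pow]
      rw [mul_assoc, ← mul_pow, mul_inv_cancel₀ hz0, one_pow, mul_one]
    rw [h1]
    exact Ideal.mul_mem_left _ _ (Ideal.pow_mem_pow hwm n)
  have hbot : (⟨t, ht0⟩ : V) ∈ (⨅ n : ℕ, (maximalIdeal V) ^ n : Ideal V) := by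
    rw [Ideal.mem_iInf]
    exact hall
  rw [Ideal.iInf_pow_eq_bot_of_isLocalRing _ (Ideal.IsPrime.ne_top inferInstance)] at hbot
  exact ht (congrArg Subtype.val (Ideal.mem_bot.mp hbot))

theorem isDisc_of_isDVR (V : ValuationSubring K) [IsDiscreteValuationRing V] : IsDisc V := by
  intro x
  by_cases hx : x ∈ V
  · refine ⟨0, fun l hl _ => ?_⟩
    obtain ⟨o, ho, -⟩ := list_prod_mem_pow V l hl
    rw [← ho]
    exact V.mul_mem _ _ o.2 hx
  · have hxinv : x⁻¹ ∈ V := (V.mem_or_inv_mem x).resolve_left hx
    have hx0 : x ≠ 0 := by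
      rintro rfl
      exact hx V.zero_mem
    have hne : (⟨x⁻¹, hxinv⟩ : V) ≠ 0 := by
      intro h0
      exact inv_ne_zero hx0 (congrArg Subtype.val h0)
    obtain ⟨ϖ, hϖ⟩ := IsDiscreteValuationRing.exists_irreducible V
    have hspan : Ideal.span {(⟨x⁻¹, hxinv⟩ : V)} ≠ ⊥ := by
      rw [Ne, Ideal.span_singleton_eq_bot]
      exact hne
    obtain ⟨e, he⟩ := IsDiscreteValuationRing.ideal_eq_span_pow_irreducible hspan hϖ
    have hmax : maximalIdeal V ^ e = Ideal.span {(⟨x⁻¹, hxinv⟩ : V)} := by
      rw [he, hϖ.maximalIdeal_eq, Ideal.span_singleton_pow]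
    refine ⟨e, fun l hl hle => ?_⟩
    obtain ⟨o, ho, hom⟩ := list_prod_mem_pow V l hl
    have h1 : o ∈ Ideal.span {(⟨x⁻¹, hxinv⟩ : V)} := by
      rw [← hmax]
      exact Ideal.pow_le_pow_right hle hom
    obtain ⟨o', ho'⟩ := Ideal.mem_span_singleton'.mp h1
    have h2 : l.prod * x = (o' : K) := by
      rw [← ho, ← ho']
      simp only [MulMemClass.coe_mul]
      rw [mul_assoc, inv_mul_cancel₀ hx0, mul_one]
    rw [h2]
    exact o'.2

variable {L : Type v} [Field L]

theorem isArch_comap (V : ValuationSubring L) (f : K →+* L) (h : IsArch V) :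
    IsArch (V.comap f) := by
  intro t z ht hn
  rw [ValuationSubring.mem_comap]
  apply h (f t) (f z) (by simpa using ht)
  intro n
  have := hn n
  rw [ValuationSubring.mem_comap, map_mul, map_pow] at this
  exact this

theorem mem_nonunits_comap (V : ValuationSubring L) (f : K →+* L) (y : K)
    (hy : y ∈ (V.comap f).nonunits) : f y ∈ V.nonunits := by
  rw [ValuationSubring.mem_nonunits_iff_or] at hy ⊢
  rcases hy with rfl | hy
  · left; simp
  · right
    rw [ValuationSubring.mem_comap, map_inv₀] at hy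
    exact hy

theorem isDisc_comap (V : ValuationSubring L) (f : K →+* L) (h : IsDisc V) :
    IsDisc (V.comap f) := by
  intro x
  obtain ⟨e, he⟩ := h (f x)
  refine ⟨e, fun l hl hle => ?_⟩
  rw [ValuationSubring.mem_comap, map_mul, map_list_prod]
  apply he
  · intro y hy
    obtain ⟨y', hy', rfl⟩ := List.mem_map.mp hy
    exact mem_nonunits_comap V f y' (hl y' hy')
  · simpa using hle

end Basic

section Height

theorem eq_of_le_of_height_eq_one {R : Type u} [CommRing R] [IsDomain R] (q p : Ideal R)
    [q.IsPrime] [p.IsPrime] (hq : q ≠ ⊥) (hle : q ≤ p) (hp : p.height = 1) : q = p := by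
  by_contra hne
  have hlt : q < p := lt_of_le_of_ne hle hne
  haveI : p.FiniteHeight := p.finiteHeight_iff.mpr (Or.inr (by rw [hp]; exact ENat.one_ne_top))
  have h1 := Ideal.height_strict_mono_of_isPrime_of_isPrime hlt
  rw [hp] at h1
  have h0 : q.height = 0 := by
    rwa [Order.lt_one_iff] at h1
  exact hq (Ideal.height_eq_zero_iff_eq_bot.mp h0)

end Height

section Normal

variable (S : Type u) [CommRing S] [IsDomain S] [IsNoetherianRing S]
  (L : Type u) [Field L] [Algebra S L] [IsFractionRing S L]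

/-- If `f y ∈ S` but `y ∉ S`, the denominator ideal of `y` lies in an associated prime of `S/fS`.
(General fraction field version of `N1Crit.exists_ass_of_not_mem`.) -/
theorem exists_ass_of_not_mem (f : S) (hf : f ≠ 0) (y : L) (r₀ : S)
    (hr₀ : algebraMap S L f * y = algebraMap S L r₀) (hy : ¬ ∃ r : S, y = algebraMap S L r) :
    ∃ Q ∈ associatedPrimes S (S ⧸ Ideal.span {f}),
      ∀ s r : S, algebraMap S L s * y = algebraMap S L r → s ∈ Q := by
  have hinj := IsFractionRing.injective S L
  have hf' : algebraMap S L f ≠ 0 := by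
    rwa [Ne, map_eq_zero_iff _ hinj]
  -- the denominator ideal
  let J : Ideal S :=
    { carrier := {s | ∃ r : S, algebraMap S L s * y = algebraMap S L r}
      add_mem' := by
        rintro a b ⟨ra, ha⟩ ⟨rb, hb⟩
        exact ⟨ra + rb, by rw [map_add, add_mul, ha, hb, map_add]⟩
      zero_mem' := ⟨0, by simp⟩
      smul_mem' := by
        rintro c a ⟨ra, ha⟩
        exact ⟨c * ra, by rw [smul_eq_mul, map_mul, mul_assoc, ha, map_mul]⟩ }
  have hJne : J ≠ ⊤ := by
    intro htop
    have h1 : (1 : S) ∈ J := htop ▸ Submodule.mem_top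
    obtain ⟨r, hr⟩ := h1
    exact hy ⟨r, by simpa using hr⟩
  obtain ⟨M, hM, hJM⟩ := Ideal.exists_le_maximal J hJne
  haveI : M.IsPrime := hM.isPrime
  have hJ : ∀ s : S, s ∈ J ↔ f ∣ s * r₀ := by
    intro s
    constructor
    · rintro ⟨r, hr⟩
      refine ⟨r, hinj ?_⟩
      rw [map_mul, map_mul, ← hr₀, ← hr]
      ring
    · rintro ⟨r, hr⟩
      refine ⟨r, mul_left_cancel₀ hf' ?_⟩
      rw [← map_mul, ← hr, map_mul, ← hr₀]
      ring
  obtain ⟨Q, hQmin, hQp⟩ := Ideal.exists_minimalPrimes_le hJM
  haveI hQprime : Q.IsPrime := hQmin.1.1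
  have hQass : Q ∈ associatedPrimes S (S ⧸ J) := by
    apply Module.associatedPrimes.minimalPrimes_annihilator_subset_associatedPrimes S (S ⧸ J)
    rwa [Ideal.annihilator_quotient]
  obtain ⟨-, x, hx⟩ := isAssociatedPrime_iff.mp hQass
  obtain ⟨x, rfl⟩ := Ideal.Quotient.mk_surjective x
  have hQmem : ∀ s : S, s ∈ Q ↔ s * x ∈ J := by
    intro s
    rw [hx, Submodule.mem_colon_singleton, Submodule.mem_bot, Algebra.smul_def,
      Ideal.Quotient.algebraMap_eq, ← map_mul, Ideal.Quotient.eq_zero_iff_mem]
  have hQass' : Q ∈ associatedPrimes S (S ⧸ Ideal.span {f}) := by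
    refine isAssociatedPrime_iff.mpr ⟨hQprime, Ideal.Quotient.mk _ (x * r₀), ?_⟩
    ext s
    rw [hQmem, hJ, Submodule.mem_colon_singleton, Submodule.mem_bot, Algebra.smul_def,
      Ideal.Quotient.algebraMap_eq, ← map_mul, Ideal.Quotient.eq_zero_iff_mem,
      Ideal.mem_span_singleton, mul_assoc]
  exact ⟨Q, hQass', fun s r hsr => hQmin.1.2 ⟨r, hsr⟩⟩

/-- the primes at which the localization is a discrete valuation ring -/
def dvrPrimes : Set (PrimeSpectrum S) :=
  {P | IsDiscreteValuationRing (Localization.AtPrime P.asIdeal)}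

variable {S}

theorem primeCompl_le (P : PrimeSpectrum S) : P.asIdeal.primeCompl ≤ nonZeroDivisors S := by
  intro s hs
  apply mem_nonZeroDivisors_of_ne_zero
  rintro rfl
  exact hs P.asIdeal.zero_mem

/-- the localization at a prime as a subalgebra of the fraction field -/
noncomputable abbrev locSub (P : PrimeSpectrum S) : Subalgebra S L :=
  Localization.subalgebra.ofField L P.asIdeal.primeCompl (primeCompl_le P)

theorem mem_locSub (P : PrimeSpectrum S) (y : L) :
    y ∈ locSub L P ↔ ∃ a s : S, s ∉ P.asIdeal ∧ y = algebraMap S L a * (algebraMap S L s)⁻¹ := by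
  constructor
  · rintro ⟨a, s, hs, h⟩
    exact ⟨a, s, hs, h⟩
  · rintro ⟨a, s, hs, h⟩
    exact ⟨a, s, hs, h⟩

theorem isDVR_locSub (P : dvrPrimes S) : IsDiscreteValuationRing (locSub L P.1) := by
  haveI : IsDiscreteValuationRing (Localization.AtPrime P.1.asIdeal) := P.2
  exact IsDiscreteValuationRing.RingEquivClass.isDiscreteValuationRing
    (IsLocalization.algEquiv P.1.asIdeal.primeCompl (Localization.AtPrime P.1.asIdeal)
      (locSub L P.1))

theorem mem_or_inv_mem_locSub (P : dvrPrimes S) (y : L) :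
    y ∈ (locSub L P.1).toSubring ∨ y⁻¹ ∈ (locSub L P.1).toSubring := by
  haveI := isDVR_locSub L P
  rcases ValuationRing.isInteger_or_isInteger (locSub L P.1) y with ⟨o, ho⟩ | ⟨o, ho⟩
  · left
    rw [← ho]
    exact o.2
  · right
    rw [← ho]
    exact o.2

/-- the localization at a DVR-prime as a valuation subring of the fraction field -/
noncomputable def locVS (P : dvrPrimes S) : ValuationSubring L :=
  ValuationSubring.ofSubring (locSub L P.1).toSubring (mem_or_inv_mem_locSub L P)

theorem mem_locVS (P : dvrPrimes S) (y : L) :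
    y ∈ locVS L P ↔ ∃ a s : S, s ∉ P.1.asIdeal ∧ y = algebraMap S L a * (algebraMap S L s)⁻¹ := by
  rw [← mem_locSub]
  exact Iff.rfl

/-- ring isomorphism between the subalgebra and the valuation subring -/
noncomputable def locEquiv (P : dvrPrimes S) : locSub L P.1 ≃+* locVS L P where
  toFun x := ⟨x.1, x.2⟩
  invFun x := ⟨x.1, x.2⟩
  left_inv _ := rfl
  right_inv _ := rfl
  map_mul' _ _ := rfl
  map_add' _ _ := rfl

instance isDVR_locVS (P : dvrPrimes S) : IsDiscreteValuationRing (locVS L P) := by
  haveI := isDVR_locSub L P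
  exact IsDiscreteValuationRing.RingEquivClass.isDiscreteValuationRing (locEquiv L P)

theorem algebraMap_mem_locVS (P : dvrPrimes S) (a : S) : algebraMap S L a ∈ locVS L P := by
  rw [mem_locVS]
  exact ⟨a, 1, fun h => P.1.2.ne_top ((Ideal.eq_top_iff_one _).mpr h), by simp⟩

variable [IsIntegrallyClosed S]

/-- A Noetherian integrally closed domain is the intersection of its localizations at the primes
where it is a discrete valuation ring. -/
theorem mem_range_iff (y : L) :
    y ∈ (algebraMap S L).range ↔ ∀ P : dvrPrimes S, y ∈ locVS L P := by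
  constructor
  · rintro ⟨a, rfl⟩ P
    exact algebraMap_mem_locVS L P a
  · intro h
    by_contra hy
    obtain ⟨r₀, f, hf, rfl⟩ := IsFractionRing.div_surjective (A := S) y
    have hf0 : f ≠ 0 := nonZeroDivisors.ne_zero hf
    have hf' : algebraMap S L f ≠ 0 := by
      rwa [Ne, map_eq_zero_iff _ (IsFractionRing.injective S L)]
    obtain ⟨Q, hQ, hQall⟩ := exists_ass_of_not_mem S L f hf0
      (algebraMap S L r₀ / algebraMap S L f) r₀ (mul_div_cancel₀ _ hf')
      (fun ⟨r, hr⟩ => hy ⟨r, hr.symm⟩)
    haveI hQp : Q.IsPrime := (isAssociatedPrime_iff.mp hQ).1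
    have hdvr : IsDiscreteValuationRing (Localization.AtPrime Q) :=
      Groth.Agent.H13.NormalAssDVR.isDiscreteValuationRing_atPrime S f hf0 Q hQ
    obtain ⟨a, s, hs, hy'⟩ := (mem_locVS L ⟨⟨Q, hQp⟩, hdvr⟩ _).mp (h ⟨⟨Q, hQp⟩, hdvr⟩)
    refine hs (hQall s a ?_)
    have hs' : algebraMap S L s ≠ 0 := by
      rw [Ne, map_eq_zero_iff _ (IsFractionRing.injective S L)]
      rintro rfl
      exact hs Q.zero_mem
    rw [hy', mul_comm, mul_assoc, inv_mul_cancel₀ hs', mul_one]

theorem height_eq_one (P : dvrPrimes S) : P.1.asIdeal.height = 1 := by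
  haveI : IsDiscreteValuationRing (Localization.AtPrime P.1.asIdeal) := P.2
  have h1 := IsLocalization.AtPrime.ringKrullDim_eq_height P.1.asIdeal
    (Localization.AtPrime P.1.asIdeal)
  rw [IsDiscreteValuationRing.ringKrullDim_eq_one] at h1
  exact_mod_cast h1.symm

/-- finite character of the family of essential valuation rings -/
theorem finite_bad (y : L) : {P : dvrPrimes S | y ∉ locVS L P}.Finite := by
  obtain ⟨r₀, f, hf, rfl⟩ := IsFractionRing.div_surjective (A := S) y
  have hf0 : f ≠ 0 := nonZeroDivisors.ne_zero hf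
  have hfin : (Ideal.span {f}).minimalPrimes.Finite :=
    Ideal.finite_minimalPrimes_of_isNoetherianRing S _
  let g : dvrPrimes S → Ideal S := fun P => P.1.asIdeal
  have hg : Function.Injective g := by
    intro P P' h
    exact Subtype.ext (PrimeSpectrum.ext h)
  refine (hfin.preimage (hg.injOn)).subset ?_
  intro P hP
  have hfP : f ∈ P.1.asIdeal := by
    by_contra hfP
    exact hP ((mem_locVS L P _).mpr ⟨r₀, f, hfP, div_eq_mul_inv _ _⟩)
  obtain ⟨q, hq, hqP⟩ := Ideal.exists_minimalPrimes_le
    (show Ideal.span {f} ≤ P.1.asIdeal from (Ideal.span_singleton_le_iff_mem _).mpr hfP)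
  haveI : q.IsPrime := hq.1.1
  have hq0 : q ≠ ⊥ := by
    intro h0
    have : f ∈ q := hq.1.2 (Ideal.mem_span_singleton_self f)
    rw [h0, Ideal.mem_bot] at this
    exact hf0 this
  have : q = P.1.asIdeal := eq_of_le_of_height_eq_one q P.1.asIdeal hq0 hqP (height_eq_one P)
  change P.1.asIdeal ∈ (Ideal.span {f}).minimalPrimes
  rw [← this]
  exact hq

end Normal

end Groth.Agent.H13.KrullDVR
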