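import Mathlib
import Groth.Agent.H13.KrullDVR
import Groth.Agent.H9.KADedekind

/-!
# An abstract Krull-domain argument

Let `C` be a Noetherian domain with fraction field `K` and suppose that the integral closure `D` of
`C` in `K` is the intersection of a family of valuation rings `W j` of finite character, each of
which is archimedean and discrete (`IsArch`, `IsDisc`), and that every prime of `C` has exactly one
prime of `D` above it.  Then `D` is the intersection of its localizations at the height one primes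
of `C`, these localizations are discrete valuation rings, and the family of height one primes of
`C` has finite character.
-/

set_option autoImplicit false
set_option linter.style.haveILetI false
set_option linter.unusedSectionVars false
universe u v

open IsLocalRing Groth.Agent.H13.KrullDVR

namespace Groth.Agent.H13.KrullAbstract

variable (C : Type u) [CommRing C] [IsDomain C]
  {K : Type u} [Field K] [Algebra C K] [IsFractionRing C K]
  {ι : Type v} (W : ι → ValuationSubring K)

/-- The hypotheses on the family of valuation rings. -/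
structure IsKrullFamily : Prop where
  mem_iff : ∀ x : K, IsIntegral C x ↔ ∀ j, x ∈ W j
  finite_bad : ∀ x : K, {j | x ∉ W j}.Finite
  arch : ∀ j, IsArch (W j)
  disc : ∀ j, IsDisc (W j)

variable (K) in
/-- every prime of `C` has at most one prime of the integral closure above it -/
def UniquePrimes : Prop :=
  ∀ (Q Q' : Ideal (integralClosure C K)), Q.IsPrime → Q'.IsPrime →
    Q.comap (algebraMap C (integralClosure C K)) = Q'.comap (algebraMap C (integralClosure C K)) →
    Q = Q'

variable {C}

/-- `x` lies in the localization at `P` of the `Q`-part of the integral closure -/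
def LocIdeal (P : Ideal C) (Q : Ideal (integralClosure C K)) (x : K) : Prop :=
  ∃ s : C, s ∉ P ∧ ∃ q : integralClosure C K, q ∈ Q ∧ algebraMap C K s * x = (q : K)

/-- `x` lies in the localization at `P` of the integral closure -/
def Loc (P : Ideal C) (x : K) : Prop :=
  ∃ s : C, s ∉ P ∧ IsIntegral C (algebraMap C K s * x)

theorem loc_iff_locIdeal_top (P : Ideal C) (x : K) : Loc P x ↔ LocIdeal P ⊤ x := by
  constructor
  · rintro ⟨s, hs, h⟩
    exact ⟨s, hs, ⟨_, h⟩, Submodule.mem_top, rfl⟩
  · rintro ⟨s, hs, q, -, h⟩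
    exact ⟨s, hs, h ▸ q.2⟩

theorem LocIdeal.loc {P : Ideal C} {Q : Ideal (integralClosure C K)} {x : K}
    (h : LocIdeal P Q x) : Loc P x := by
  obtain ⟨s, hs, q, -, h⟩ := h
  exact ⟨s, hs, h ▸ q.2⟩

theorem locIdeal_of_mem {P : Ideal C} [P.IsPrime] {Q : Ideal (integralClosure C K)}
    (q : integralClosure C K) (hq : q ∈ Q) : LocIdeal P Q (q : K) :=
  ⟨1, fun h => (Ideal.IsPrime.ne_top inferInstance) ((Ideal.eq_top_iff_one _).mpr h), q, hq,
    by simp⟩

theorem LocIdeal.add {P : Ideal C} [P.IsPrime] {Q : Ideal (integralClosure C K)} {x y : K}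
    (hx : LocIdeal P Q x) (hy : LocIdeal P Q y) : LocIdeal P Q (x + y) := by
  obtain ⟨s, hs, q, hq, h⟩ := hx
  obtain ⟨s', hs', q', hq', h'⟩ := hy
  refine ⟨s * s', fun hmem => ?_, algebraMap C _ s' * q + algebraMap C _ s * q',
    Q.add_mem (Q.mul_mem_left _ hq) (Q.mul_mem_left _ hq'), ?_⟩
  · rcases Ideal.IsPrime.mem_or_mem inferInstance hmem with h1 | h1
    · exact hs h1
    · exact hs' h1
  · rw [map_mul]
    simp only [Subalgebra.coe_add, Subalgebra.coe_mul, Subalgebra.coe_algebraMap]
    rw [← h, ← h']
    ring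

theorem Loc.mul_locIdeal {P : Ideal C} [P.IsPrime] {Q : Ideal (integralClosure C K)} {b y : K}
    (hb : Loc P b) (hy : LocIdeal P Q y) : LocIdeal P Q (b * y) := by
  obtain ⟨s, hs, hint⟩ := hb
  obtain ⟨s', hs', q', hq', h'⟩ := hy
  refine ⟨s * s', fun hmem => ?_, ⟨_, hint⟩ * q', Q.mul_mem_left _ hq', ?_⟩
  · rcases Ideal.IsPrime.mem_or_mem inferInstance hmem with h1 | h1
    · exact hs h1
    · exact hs' h1
  · rw [map_mul]
    simp only [Subalgebra.coe_mul]
    rw [← h']
    ring

theorem Loc.mul {P : Ideal C} [P.IsPrime] {b y : K} (hb : Loc P b) (hy : Loc P y) :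
    Loc P (b * y) := by
  rw [loc_iff_locIdeal_top] at hy ⊢
  exact hb.mul_locIdeal hy

theorem loc_of_isIntegral {P : Ideal C} [P.IsPrime] {y : K} (hy : IsIntegral C y) : Loc P y :=
  ⟨1, fun h => (Ideal.IsPrime.ne_top inferInstance) ((Ideal.eq_top_iff_one _).mpr h),
    by simpa using hy⟩

section Family

variable {W} (hW : IsKrullFamily C W)
include hW

theorem IsKrullFamily.coe_mem (c : C) (j : ι) : algebraMap C K c ∈ W j :=
  (hW.mem_iff _).mp isIntegral_algebraMap j

theorem IsKrullFamily.mem_of_isIntegral {d : K} (hd : IsIntegral C d) (j : ι) : d ∈ W j :=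
  (hW.mem_iff _).mp hd j

/-- the map from `C` to a member of the family -/
def IsKrullFamily.toW (j : ι) : C →+* W j :=
  (algebraMap C K).codRestrict (W j) (fun c => hW.coe_mem c j)

/-- the map from the integral closure to a member of the family -/
def IsKrullFamily.toW' (j : ι) : integralClosure C K →+* W j :=
  (integralClosure C K).val.toRingHom.codRestrict (W j) (fun d => hW.mem_of_isIntegral d.2 j)

/-- the center on `C` of a member of the family -/
def IsKrullFamily.center (j : ι) : Ideal C :=
  Ideal.comap (hW.toW j) (maximalIdeal (W j))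

/-- the center on the integral closure of a member of the family -/
def IsKrullFamily.center' (j : ι) : Ideal (integralClosure C K) :=
  Ideal.comap (hW.toW' j) (maximalIdeal (W j))

instance IsKrullFamily.center_isPrime (j : ι) : (hW.center j).IsPrime :=
  Ideal.comap_isPrime _ _

instance IsKrullFamily.center'_isPrime (j : ι) : (hW.center' j).IsPrime :=
  Ideal.comap_isPrime _ _

theorem IsKrullFamily.mem_center (j : ι) (c : C) :
    c ∈ hW.center j ↔ algebraMap C K c ∈ (W j).nonunits := by
  rw [IsKrullFamily.center, Ideal.mem_comap, ← ValuationSubring.coe_mem_nonunits_iff]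
  rfl

theorem IsKrullFamily.mem_center' (j : ι) (d : integralClosure C K) :
    d ∈ hW.center' j ↔ (d : K) ∈ (W j).nonunits := by
  rw [IsKrullFamily.center', Ideal.mem_comap, ← ValuationSubring.coe_mem_nonunits_iff]
  rfl

theorem IsKrullFamily.comap_center' (j : ι) :
    (hW.center' j).comap (algebraMap C (integralClosure C K)) = hW.center j := by
  ext c
  rw [Ideal.mem_comap, hW.mem_center', hW.mem_center]
  rfl

omit hW in
theorem inv_mem_of_not_mem_nonunits (V : ValuationSubring K) {y : K} (hy : y ∉ V.nonunits) :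
    y⁻¹ ∈ V := by
  rw [ValuationSubring.mem_nonunits_iff_or, not_or, not_not] at hy
  exact hy.2

omit hW in
theorem mul_mem_nonunits (V : ValuationSubring K) {x y : K} (hx : x ∈ V) (hy : y ∈ V.nonunits) :
    x * y ∈ V.nonunits := by
  obtain ⟨hy', hym⟩ := ValuationSubring.mem_nonunits_iff_exists_mem_maximalIdeal.mp hy
  rw [ValuationSubring.mem_nonunits_iff_exists_mem_maximalIdeal]
  exact ⟨V.mul_mem _ _ hx hy', Ideal.mul_mem_left _ ⟨x, hx⟩ hym⟩

theorem IsKrullFamily.inv_mem (j : ι) {c : C} (hc : c ∉ hW.center j) :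
    (algebraMap C K c)⁻¹ ∈ W j :=
  inv_mem_of_not_mem_nonunits _ (fun h => hc ((hW.mem_center j c).mpr h))

theorem IsKrullFamily.mem_of_mul_mem (j : ι) {c : C} (hc : c ∉ hW.center j) {x : K}
    (hx : algebraMap C K c * x ∈ W j) : x ∈ W j := by
  have hc0 : algebraMap C K c ≠ 0 := by
    intro h0
    apply hc
    rw [hW.mem_center, h0]
    exact (W j).nonunits.zero_mem
  have : x = (algebraMap C K c)⁻¹ * (algebraMap C K c * x) := by
    rw [← mul_assoc, inv_mul_cancel₀ hc0, one_mul]
  rw [this]
  exact (W j).mul_mem _ _ (hW.inv_mem j hc) hx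

/-- The localization of the integral closure at a prime `P` of `C` is the intersection of the
members of the family whose center lies in `P`. -/
theorem IsKrullFamily.loc_iff (P : Ideal C) [P.IsPrime] (x : K) :
    Loc P x ↔ ∀ j, hW.center j ≤ P → x ∈ W j := by
  constructor
  · rintro ⟨s, hs, hint⟩ j hj
    exact hW.mem_of_mul_mem j (fun h => hs (hj h)) (hW.mem_of_isIntegral hint j)
  · intro h
    classical
    have hfin := hW.finite_bad x
    have hex : ∀ j, x ∉ W j → ∃ (c : C) (e : ℕ), c ∉ P ∧ algebraMap C K c ^ e * x ∈ W j := by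
      intro j hj
      have hnot : ¬ hW.center j ≤ P := fun hle => hj (h j hle)
      obtain ⟨c, hc, hcP⟩ := SetLike.not_le_iff_exists.mp hnot
      obtain ⟨e, he⟩ := hW.disc j x
      refine ⟨c, e, hcP, ?_⟩
      have := he (List.replicate e (algebraMap C K c))
        (by
          intro y hy
          rw [List.eq_of_mem_replicate hy]
          exact (hW.mem_center j c).mp hc) (by simp)
      simpa using this
    choose! c e hcP hce using hex
    refine ⟨∏ j ∈ hfin.toFinset, c j ^ e j, ?_, ?_⟩
    · intro hs
      rw [Ideal.IsPrime.prod_mem_iff] at hs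
      obtain ⟨j, hj, hjP⟩ := hs
      exact hcP j (by simpa using hj) (Ideal.IsPrime.mem_of_pow_mem inferInstance _ hjP)
    · rw [hW.mem_iff]
      intro j
      by_cases hj : x ∈ W j
      · exact (W j).mul_mem _ _ (hW.coe_mem _ j) hj
      · have hjF : j ∈ hfin.toFinset := by simpa using hj
        rw [← Finset.prod_erase_mul _ _ hjF, map_mul, mul_assoc, map_pow]
        exact (W j).mul_mem _ _ (hW.coe_mem _ j) (hce j hj)

theorem IsKrullFamily.center_ne_bot (j : ι) {x : K} (hx : x ∉ W j) : hW.center j ≠ ⊥ := by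
  intro h0
  apply hx
  obtain ⟨a, b, hb, rfl⟩ := IsFractionRing.div_surjective (A := C) x
  have hb0 : b ∉ hW.center j := by
    rw [h0, Ideal.mem_bot]
    exact nonZeroDivisors.ne_zero hb
  rw [div_eq_mul_inv]
  exact (W j).mul_mem _ _ (hW.coe_mem a j) (hW.inv_mem j hb0)

/-- finite character for the height one primes of `C` -/
theorem IsKrullFamily.finite_bad_primes (x : K) :
    {p : Ideal C | p.IsPrime ∧ p.height = 1 ∧ ¬ Loc p x}.Finite := by
  refine ((hW.finite_bad x).image hW.center).subset ?_
  rintro p ⟨hp, hht, hloc⟩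
  haveI := hp
  rw [hW.loc_iff] at hloc
  push Not at hloc
  obtain ⟨j, hj, hxj⟩ := hloc
  refine ⟨j, hxj, ?_⟩
  exact eq_of_le_of_height_eq_one _ _ (hW.center_ne_bot j hxj) hj hht

end Family

section Local

variable {W} (hW : IsKrullFamily C W) (hU : UniquePrimes C K)
  (P : Ideal C) [P.IsPrime] (Q : Ideal (integralClosure C K)) [Q.IsPrime]
  (hQ : Q.comap (algebraMap C (integralClosure C K)) = P)

include hU hQ in
theorem exists_mul_eq_of_not_mem (d : integralClosure C K) (hd : d ∉ Q) :
    ∃ s : C, s ∉ P ∧ ∃ d' : integralClosure C K, d * d' = algebraMap C _ s := by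
  by_contra hcon
  push Not at hcon
  have hIP : (Ideal.span {d}).comap (algebraMap C (integralClosure C K)) ≤ P := by
    intro c hc
    by_contra hcP
    rw [Ideal.mem_comap, Ideal.mem_span_singleton'] at hc
    obtain ⟨d', hd'⟩ := hc
    exact hcon c hcP d' (by rw [mul_comm]; exact hd')
  obtain ⟨Q', hQ'le, hQ'p, hQ'c⟩ :=
    Ideal.exists_ideal_over_prime_of_isIntegral P (Ideal.span {d}) hIP
  have : Q' = Q := hU Q' Q hQ'p inferInstance (hQ'c.trans hQ.symm)
  exact hd (this ▸ hQ'le (Ideal.mem_span_singleton_self d))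

include hU hQ in
theorem inv_loc_of_not_locIdeal {y : K} (hy : Loc P y) (hn : ¬ LocIdeal P Q y) : Loc P y⁻¹ := by
  obtain ⟨s, hs, hint⟩ := hy
  have hd : (⟨_, hint⟩ : integralClosure C K) ∉ Q := fun h => hn ⟨s, hs, ⟨_, hint⟩, h, rfl⟩
  obtain ⟨s', hs', d', hd'⟩ := exists_mul_eq_of_not_mem hU P Q hQ _ hd
  have hd'K : algebraMap C K s * y * (d' : K) = algebraMap C K s' := by
    have := congrArg (fun t : integralClosure C K => (t : K)) hd'
    simpa using this
  have hy0 : y ≠ 0 := by
    rintro rfl
    apply hn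
    have := locIdeal_of_mem (P := P) (Q := Q) 0 Q.zero_mem
    simpa using this
  refine ⟨s', hs', ?_⟩
  have : algebraMap C K s' * y⁻¹ = algebraMap C K s * (d' : K) := by
    rw [← hd'K]
    field_simp
  rw [this]
  exact IsIntegral.mul isIntegral_algebraMap d'.2

include hU hQ in
theorem mem_nonunits_of_locIdeal (j : ι) (hj : hW.center j = P) {y : K}
    (hy : LocIdeal P Q y) : y ∈ (W j).nonunits := by
  have hc : hW.center' j = Q :=
    hU _ _ inferInstance inferInstance ((hW.comap_center' j).trans (hj.trans hQ.symm))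
  obtain ⟨s, hs, q, hq, h⟩ := hy
  have hs' : s ∉ hW.center j := hj ▸ hs
  have hs0 : algebraMap C K s ≠ 0 := by
    rw [Ne, map_eq_zero_iff _ (IsFractionRing.injective C K)]
    rintro rfl
    exact hs P.zero_mem
  have hqn : (q : K) ∈ (W j).nonunits := by
    rw [← hW.mem_center', hc]
    exact hq
  have : y = (algebraMap C K s)⁻¹ * (q : K) := by
    rw [← h, ← mul_assoc, inv_mul_cancel₀ hs0, one_mul]
  rw [this]
  exact mul_mem_nonunits _ (hW.inv_mem j hs') hqn

variable [IsNoetherianRing C]

include hW hU in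
/-- the core of the argument: a prime `P` of `C` of height at least two cannot be the
conductor of an element of `K` into the integral closure. -/
theorem core (x : K) (hP : ∀ c : C, c ∈ P ↔ IsIntegral C (algebraMap C K c * x))
    (P' : Ideal C) [P'.IsPrime] (hP'0 : P' ≠ ⊥) (hP'lt : P' < P) :
    False := by
  classical
  have hinj : Function.Injective (algebraMap C (integralClosure C K)) := by
    intro a b hab
    apply IsFractionRing.injective C K
    exact congrArg (fun t : integralClosure C K => (t : K)) hab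
  have hbot : ∀ P₀ : Ideal C, (⊥ : Ideal (integralClosure C K)).comap
      (algebraMap C (integralClosure C K)) ≤ P₀ := by
    intro P₀ c hc
    rw [Ideal.mem_comap, Ideal.mem_bot, map_eq_zero_iff _ hinj] at hc
    rw [hc]
    exact P₀.zero_mem
  obtain ⟨Q, -, hQp, hQ⟩ := Ideal.exists_ideal_over_prime_of_isIntegral P
    (⊥ : Ideal (integralClosure C K)) (hbot P)
  obtain ⟨Q', -, hQ'p, hQ'⟩ := Ideal.exists_ideal_over_prime_of_isIntegral P'
    (⊥ : Ideal (integralClosure C K)) (hbot P')
  haveI := hQp
  haveI := hQ'p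
  -- S1
  have hnl : ¬ Loc P x := by
    rintro ⟨s, hs, hint⟩
    exact hs ((hP s).mpr hint)
  -- S2
  have hcenter : ∀ j, hW.center j ≤ P → x ∉ W j → hW.center j = P := by
    intro j hj hxj
    refine le_antisymm hj (fun c hc => ?_)
    by_contra hcn
    exact hxj (hW.mem_of_mul_mem j hcn (hW.mem_of_isIntegral ((hP c).mp hc) j))
  -- S3
  have hS3 : ∃ e : ℕ, ∀ l : List K, (∀ y ∈ l, LocIdeal P Q y) → e ≤ l.length →
      Loc P (l.prod * x) := by
    choose e he using fun j => hW.disc j x
    refine ⟨(hW.finite_bad x).toFinset.sup e, fun l hl hle => ?_⟩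
    rw [hW.loc_iff]
    intro j hj
    by_cases hxj : x ∈ W j
    · refine (W j).mul_mem _ _ (list_prod_mem fun y hy => ?_) hxj
      exact (hW.loc_iff P y).mp (hl y hy).loc j hj
    · apply he j l
      · intro y hy
        exact mem_nonunits_of_locIdeal hW hU P Q hQ j (hcenter j hj hxj) (hl y hy)
      · refine le_trans ?_ hle
        exact Finset.le_sup (f := e) (by simpa using hxj)
  -- S4
  have hS4 : ∀ e : ℕ, ∀ x' : K, ¬ Loc P x' →
      (∀ l : List K, (∀ y ∈ l, LocIdeal P Q y) → e ≤ l.length → Loc P (l.prod * x')) →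
      ∃ z, ¬ Loc P z ∧ ∀ y, LocIdeal P Q y → Loc P (y * z) := by
    intro e
    induction e with
    | zero =>
      intro x' hx' h
      exact absurd (by simpa using h [] (by simp) (by simp)) hx'
    | succ e ih =>
      intro x' hx' h
      by_cases hall : ∀ y, LocIdeal P Q y → Loc P (y * x')
      · exact ⟨x', hx', hall⟩
      · push Not at hall
        obtain ⟨y, hy, hyx⟩ := hall
        refine ih (y * x') hyx (fun l hl hle => ?_)
        have := h (y :: l) (by
          intro y' hy'
          rcases List.mem_cons.mp hy' with rfl | hy'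
          · exact hy
          · exact hl y' hy') (by simpa using hle)
        rw [List.prod_cons] at this
        rw [show l.prod * (y * x') = y * l.prod * x' by ring]
        exact this
  obtain ⟨e, he⟩ := hS3
  obtain ⟨z, hz, hN⟩ := hS4 e x hnl he
  -- arch
  have harch : ∀ c₀ : K, c₀ ≠ 0 → (∀ n : ℕ, Loc P (c₀ * z ^ n)) → False := by
    intro c₀ hc₀ hn
    apply hz
    rw [hW.loc_iff]
    intro j hj
    exact hW.arch j c₀ z hc₀ (fun n => (hW.loc_iff P _).mp (hn n) j hj)
  have hz0 : z ≠ 0 := by
    rintro rfl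
    exact hz (loc_of_isIntegral isIntegral_zero)
  have hzero : ∀ Q₀ : Ideal (integralClosure C K), LocIdeal P Q₀ (0 : K) := by
    intro Q₀
    have := locIdeal_of_mem (P := P) (Q := Q₀) 0 Q₀.zero_mem
    simpa using this
  have hcoe : ∀ (P₀ : Ideal C) (Q₀ : Ideal (integralClosure C K)),
      Q₀.comap (algebraMap C (integralClosure C K)) = P₀ → ∀ c ∈ P₀,
      LocIdeal P Q₀ (algebraMap C K c) := by
    intro P₀ Q₀ h c hc
    exact locIdeal_of_mem (algebraMap C (integralClosure C K) c) (by rw [← h] at hc; exact hc)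
  have hpow : ∀ (Q₀ : Ideal (integralClosure C K)),
      (∀ y, LocIdeal P Q₀ y → LocIdeal P Q₀ (y * z)) → ∀ c₀ : K, LocIdeal P Q₀ c₀ →
      ∀ n : ℕ, LocIdeal P Q₀ (c₀ * z ^ n) := by
    intro Q₀ h c₀ hc₀ n
    induction n with
    | zero => simpa using hc₀
    | succ n ih =>
      rw [pow_succ, ← mul_assoc]
      exact h _ ih
  have hP'P : P' ≤ P := hP'lt.le
  obtain ⟨c', hc'P', hc'0⟩ := Submodule.exists_mem_ne_zero_of_ne_bot hP'0
  have hc'K : algebraMap C K c' ≠ 0 := by
    rwa [Ne, map_eq_zero_iff _ (IsFractionRing.injective C K)]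
  by_cases hcase : ∀ y, LocIdeal P Q y → LocIdeal P Q (y * z)
  · -- Case A
    exact harch (algebraMap C K c') hc'K
      (fun n => (hpow Q hcase _ (hcoe P Q hQ c' (hP'P hc'P')) n).loc)
  · -- Case B
    push Not at hcase
    obtain ⟨y, hy, hyz⟩ := hcase
    have hu : Loc P (y * z) := hN y hy
    have huinv : Loc P (y * z)⁻¹ := inv_loc_of_not_locIdeal hU P Q hQ hu hyz
    have hy0 : y ≠ 0 := by
      rintro rfl
      apply hyz
      simpa using hzero Q
    have ht : LocIdeal P Q z⁻¹ := by
      have := huinv.mul_locIdeal hy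
      rwa [show (y * z)⁻¹ * y = z⁻¹ by field_simp] at this
    -- (i)
    have hi : ∀ y, LocIdeal P Q' y → LocIdeal P Q y := by
      intro y hy
      by_contra hn
      have hy0 : y ≠ 0 := by
        rintro rfl
        exact hn (hzero Q)
      have hinv := inv_loc_of_not_locIdeal hU P Q hQ hy.loc hn
      obtain ⟨s, hs, q, hq, h⟩ := hy
      obtain ⟨s', hs', hint'⟩ := hinv
      have hmem : algebraMap C (integralClosure C K) (s * s') ∈ Q' := by
        have : algebraMap C (integralClosure C K) (s * s') = q * ⟨_, hint'⟩ := by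
          apply Subtype.ext
          simp only [Subalgebra.coe_mul, Subalgebra.coe_algebraMap, map_mul]
          rw [← h]
          field_simp
        rw [this]
        exact Q'.mul_mem_right _ hq
      have hmem' : s * s' ∈ P' := by
        rw [← hQ']
        exact hmem
      rcases Ideal.IsPrime.mem_or_mem inferInstance (hP'P hmem') with h1 | h1
      · exact hs h1
      · exact hs' h1
    -- (ii)
    have hii : ¬ LocIdeal P Q' z⁻¹ := by
      rintro ⟨s, hs, q, hq, h⟩
      obtain ⟨c, hcP, hcP'⟩ := SetLike.exists_of_lt hP'lt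
      obtain ⟨s'', hs'', hint''⟩ := hN _ (hcoe P Q hQ c hcP)
      have hmem : algebraMap C (integralClosure C K) (s * s'' * c) ∈ Q' := by
        have : algebraMap C (integralClosure C K) (s * s'' * c) = q * ⟨_, hint''⟩ := by
          apply Subtype.ext
          simp only [Subalgebra.coe_mul, Subalgebra.coe_algebraMap, map_mul]
          rw [← h]
          field_simp
        rw [this]
        exact Q'.mul_mem_right _ hq
      have hmem' : s * s'' * c ∈ P' := by
        rw [← hQ']
        exact hmem
      rcases Ideal.IsPrime.mem_or_mem inferInstance hmem' with h1 | h1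
      · rcases Ideal.IsPrime.mem_or_mem inferInstance h1 with h2 | h2
        · exact hs (hP'P h2)
        · exact hs'' (hP'P h2)
      · exact hcP' h1
    -- (iii)
    have hiii : ∀ y, LocIdeal P Q' y → LocIdeal P Q' (y * z) := by
      intro y hy
      obtain ⟨s'', hs'', hint''⟩ := hN y (hi y hy)
      obtain ⟨s', hs', hint'⟩ := ht.loc
      obtain ⟨s, hs, q, hq, h⟩ := hy
      have hmem : (⟨_, hint'⟩ : integralClosure C K) *
          (⟨_, hint''⟩ * algebraMap C (integralClosure C K) s) ∈ Q' := by
        have : (⟨_, hint'⟩ : integralClosure C K) *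
            (⟨_, hint''⟩ * algebraMap C (integralClosure C K) s) =
            algebraMap C (integralClosure C K) (s' * s'') * q := by
          apply Subtype.ext
          simp only [Subalgebra.coe_mul, Subalgebra.coe_algebraMap, map_mul]
          rw [← h]
          field_simp
        rw [this]
        exact Q'.mul_mem_left _ hq
      rcases Ideal.IsPrime.mem_or_mem inferInstance hmem with h1 | h1
      · exact absurd ⟨s', hs', _, h1, rfl⟩ hii
      · rcases Ideal.IsPrime.mem_or_mem inferInstance h1 with h2 | h2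
        · exact ⟨s'', hs'', _, h2, rfl⟩
        · have : s ∈ P' := by
            rw [← hQ']
            exact h2
          exact absurd (hP'P this) hs
    -- (iv)
    exact harch (algebraMap C K c') hc'K
      (fun n => (hi _ (hpow Q' hiii _ (hcoe P' Q' hQ' c' hc'P') n)).loc)

end Local

section Main

variable {W} [IsNoetherianRing C] (hW : IsKrullFamily C W) (hU : UniquePrimes C K)

include hW hU in
/-- **The integral closure is the intersection of its localizations at the height one primes
of `C`.** -/
theorem isIntegral_of_forall_loc (x : K)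
    (h : ∀ (p : Ideal C) [p.IsPrime], p.height = 1 → Loc p x) : IsIntegral C x := by
  by_contra hx
  -- the conductor ideal
  let 𝔡 : Ideal C :=
    { carrier := {c | IsIntegral C (algebraMap C K c * x)}
      add_mem' := by
        intro a b ha hb
        change IsIntegral C (algebraMap C K (a + b) * x)
        rw [map_add, add_mul]
        exact ha.add hb
      zero_mem' := by
        change IsIntegral C (algebraMap C K 0 * x)
        rw [map_zero, zero_mul]
        exact isIntegral_zero
      smul_mem' := by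
        intro c a ha
        change IsIntegral C (algebraMap C K (c • a) * x)
        rw [smul_eq_mul, map_mul, mul_assoc]
        exact IsIntegral.mul isIntegral_algebraMap ha }
  have h𝔡 : ∀ c : C, c ∈ 𝔡 ↔ IsIntegral C (algebraMap C K c * x) := fun c => Iff.rfl
  have hne : 𝔡 ≠ ⊤ := by
    intro htop
    have h1 : (1 : C) ∈ 𝔡 := htop ▸ Submodule.mem_top
    rw [h𝔡, map_one, one_mul] at h1
    exact hx h1
  haveI : Nontrivial (C ⧸ 𝔡) := Ideal.Quotient.nontrivial_iff.mpr hne
  obtain ⟨P, hPass⟩ := associatedPrimes.nonempty C (C ⧸ 𝔡)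
  obtain ⟨hPp, m, hm⟩ := isAssociatedPrime_iff.mp hPass
  obtain ⟨c₀, rfl⟩ := Ideal.Quotient.mk_surjective m
  haveI := hPp
  have hP : ∀ c : C, c ∈ P ↔ IsIntegral C (algebraMap C K c * (algebraMap C K c₀ * x)) := by
    intro c
    rw [hm, Submodule.mem_colon_singleton, Submodule.mem_bot, Algebra.smul_def,
      Ideal.Quotient.algebraMap_eq, ← map_mul, Ideal.Quotient.eq_zero_iff_mem, h𝔡, map_mul,
      mul_assoc]
  -- `P ≠ ⊥`
  obtain ⟨a, b, hb, hab⟩ := IsFractionRing.div_surjective (A := C) x
  have hb0 : b ≠ 0 := nonZeroDivisors.ne_zero hb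
  have hbK : algebraMap C K b ≠ 0 := by
    rwa [Ne, map_eq_zero_iff _ (IsFractionRing.injective C K)]
  have hbP : b ∈ P := by
    rw [hP]
    have : algebraMap C K b * (algebraMap C K c₀ * x) = algebraMap C K (c₀ * a) := by
      rw [← hab, map_mul]
      field_simp
    rw [this]
    exact isIntegral_algebraMap
  have hP0 : P ≠ ⊥ := by
    intro h0
    rw [h0, Ideal.mem_bot] at hbP
    exact hb0 hbP
  -- `P` is not of height one
  have hloc' : ∀ (p : Ideal C) [p.IsPrime], p.height = 1 → Loc p (algebraMap C K c₀ * x) := by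
    intro p _ hp
    exact (loc_of_isIntegral isIntegral_algebraMap).mul (h p hp)
  have hht : P.height ≠ 1 := by
    intro h1
    obtain ⟨s, hs, hint⟩ := hloc' P h1
    exact hs ((hP s).mpr hint)
  -- a nonzero prime strictly inside `P`
  obtain ⟨P', hP'min, hP'P⟩ := Ideal.exists_minimalPrimes_le
    (show Ideal.span {b} ≤ P from (Ideal.span_singleton_le_iff_mem _).mpr hbP)
  haveI : P'.IsPrime := hP'min.1.1
  have hP'0 : P' ≠ ⊥ := by
    intro h0
    have : b ∈ P' := hP'min.1.2 (Ideal.mem_span_singleton_self b)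
    rw [h0, Ideal.mem_bot] at this
    exact hb0 this
  have hP'ht : P'.height = 1 := by
    have h1 : P'.height ≤ 1 := Ideal.height_le_one_of_isPrincipal_of_mem_minimalPrimes _ _ hP'min
    have h2 : P'.height ≠ 0 := by
      rw [Ne, Ideal.height_eq_zero_iff_eq_bot]
      exact hP'0
    exact le_antisymm h1 (Order.one_le_iff_pos.mpr (pos_iff_ne_zero.mpr h2))
  have hP'lt : P' < P := by
    refine lt_of_le_of_ne hP'P ?_
    rintro rfl
    exact hht hP'ht
  exact core hW hU P _ hP P' hP'0 hP'lt

end Main

section DVR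

variable [IsNoetherianRing C] (hU : UniquePrimes C K) (p : Ideal C) [p.IsPrime]

omit [IsNoetherianRing C] in
theorem primeCompl_le : p.primeCompl ≤ nonZeroDivisors C := by
  intro s hs
  apply mem_nonZeroDivisors_of_ne_zero
  rintro rfl
  exact hs p.zero_mem

/-- the localization of `C` at `p` inside `K` -/
noncomputable abbrev Cp : Subalgebra C K :=
  Localization.subalgebra.ofField K p.primeCompl (primeCompl_le p)

omit [IsNoetherianRing C] in
theorem isIntegral_Cp_iff (y : K) : IsIntegral (Cp (K := K) p) y ↔ Loc p y := by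
  constructor
  · intro h
    obtain ⟨m, hm⟩ := IsIntegral.exists_multiple_integral_of_isLocalization p.primeCompl y h
    refine ⟨m.1, m.2, ?_⟩
    rwa [Submonoid.smul_def, Algebra.smul_def] at hm
  · rintro ⟨s, hs, hint⟩
    have h1 : IsIntegral (Cp (K := K) p) (algebraMap C K s * y) := hint.tower_top
    have hu : IsUnit (algebraMap C (Cp (K := K) p) s) :=
      IsLocalization.map_units (Cp (K := K) p) (⟨s, hs⟩ : p.primeCompl)
    obtain ⟨u, hu'⟩ := hu
    have hs0 : algebraMap C K s ≠ 0 := by
      rw [Ne, map_eq_zero_iff _ (IsFractionRing.injective C K)]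
      rintro rfl
      exact hs p.zero_mem
    have h2 : y = algebraMap (Cp (K := K) p) K (↑u⁻¹ : Cp (K := K) p) * (algebraMap C K s * y) := by
      have h3 : algebraMap (Cp (K := K) p) K (↑u⁻¹ : Cp (K := K) p) * algebraMap C K s = 1 := by
        rw [IsScalarTower.algebraMap_apply C (Cp (K := K) p) K, ← hu', ← map_mul]
        simp
      rw [← mul_assoc, h3, one_mul]
    rw [h2]
    exact IsIntegral.mul isIntegral_algebraMap h1

include hU in
/-- **The localization of the integral closure at a height one prime of `C` is a discrete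
valuation ring.** -/
theorem exists_dvr (hp : p.height = 1) :
    ∃ V : ValuationSubring K, IsDiscreteValuationRing V ∧ ∀ x : K, x ∈ V ↔ Loc p x := by
  haveI : IsLocalization.AtPrime (Cp (K := K) p) p := inferInstanceAs (IsLocalization p.primeCompl _)
  haveI : IsNoetherianRing (Cp (K := K) p) :=
    IsLocalization.isNoetherianRing p.primeCompl _ inferInstance
  haveI hloc : IsLocalRing (Cp (K := K) p) := IsLocalization.AtPrime.isLocalRing _ p
  have hdim : ringKrullDim (Cp (K := K) p) = 1 := by
    rw [IsLocalization.AtPrime.ringKrullDim_eq_height p, hp]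
    rfl
  haveI : Ring.KrullDimLE 1 (Cp (K := K) p) := Ring.krullDimLE_iff.mpr hdim.le
  have hnf : ¬ IsField (Cp (K := K) p) := by
    intro hf
    have := ringKrullDim_eq_zero_of_isField hf
    rw [hdim] at this
    exact one_ne_zero this
  let T := integralClosure (Cp (K := K) p) K
  haveI hded : IsDedekindDomain T := Groth.Agent.H9.KA.isDedekindDomain_integralClosure _ K
  haveI hfr : IsFractionRing T K := Groth.Agent.H9.KA.isFractionRing_integralClosure _ K
  have hTnf : ¬ IsField T := Groth.Agent.H9.KA.not_isField_integralClosure _ K hnf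
  have hmemT : ∀ y : K, y ∈ T ↔ Loc p y := fun y => isIntegral_Cp_iff p y
  -- the map from the integral closure of `C` to `T`
  have hDT : ∀ d : integralClosure C K, (d : K) ∈ T := fun d => (hmemT _).mpr (loc_of_isIntegral d.2)
  let ρ : integralClosure C K →+* T :=
    (integralClosure C K).val.toRingHom.codRestrict T hDT
  have hρ : ∀ d, ((ρ d : T) : K) = (d : K) := fun d => rfl
  -- contraction of a maximal ideal of `T` to `C`
  have hcontr : ∀ (𝔪 : Ideal T), 𝔪.IsMaximal →
      (𝔪.comap ρ).comap (algebraMap C (integralClosure C K)) = p := by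
    intro 𝔪 h𝔪
    haveI := h𝔪
    have h1 : (𝔪.comap (algebraMap (Cp (K := K) p) T)).IsMaximal :=
      Ideal.isMaximal_comap_of_isIntegral_of_isMaximal 𝔪
    have h2 : 𝔪.comap (algebraMap (Cp (K := K) p) T) = maximalIdeal (Cp (K := K) p) :=
      IsLocalRing.eq_maximalIdeal h1
    ext c
    rw [Ideal.mem_comap, Ideal.mem_comap,
      ← IsLocalization.AtPrime.to_map_mem_maximal_iff (Cp (K := K) p) p c, ← h2, Ideal.mem_comap]
    have : ρ (algebraMap C (integralClosure C K) c) =
        algebraMap (Cp (K := K) p) T (algebraMap C (Cp (K := K) p) c) := by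
      apply Subtype.ext
      rfl
    rw [this]
  -- uniqueness of the maximal ideal
  have huniq : ∀ (𝔪₁ 𝔪₂ : Ideal T), 𝔪₁.IsMaximal → 𝔪₂.IsMaximal → 𝔪₁ ≤ 𝔪₂ := by
    intro 𝔪₁ 𝔪₂ h₁ h₂
    haveI := h₁
    haveI := h₂
    have hQ : 𝔪₁.comap ρ = 𝔪₂.comap ρ :=
      hU _ _ (Ideal.comap_isPrime _ _) (Ideal.comap_isPrime _ _)
        ((hcontr 𝔪₁ h₁).trans (hcontr 𝔪₂ h₂).symm)
    intro y hy
    obtain ⟨s, hs, hint⟩ := (hmemT y).mp y.2
    have h1 : ρ ⟨_, hint⟩ = ρ (algebraMap C (integralClosure C K) s) * y := by
      apply Subtype.ext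
      rfl
    have h2 : (⟨_, hint⟩ : integralClosure C K) ∈ 𝔪₁.comap ρ := by
      rw [Ideal.mem_comap, h1]
      exact 𝔪₁.mul_mem_left _ hy
    rw [hQ, Ideal.mem_comap, h1] at h2
    rcases Ideal.IsPrime.mem_or_mem inferInstance h2 with h3 | h3
    · exfalso
      apply hs
      rw [← hcontr 𝔪₂ h₂]
      exact h3
    · exact h3
  haveI : IsLocalRing T := by
    haveI : Nontrivial T := inferInstance
    obtain ⟨𝔪, h𝔪⟩ := Ideal.exists_maximal T
    exact IsLocalRing.of_unique_max_ideal
      ⟨𝔪, h𝔪, fun 𝔪' h𝔪' => (h𝔪'.eq_of_le h𝔪.ne_top (huniq 𝔪' 𝔪 h𝔪' h𝔪))⟩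
  haveI hdvr : IsDiscreteValuationRing T := ((IsDiscreteValuationRing.TFAE T hTnf).out 0 2).mpr hded
  have hmem : ∀ y : K, y ∈ T.toSubring ∨ y⁻¹ ∈ T.toSubring := by
    intro y
    rcases ValuationRing.isInteger_or_isInteger T y with ⟨o, ho⟩ | ⟨o, ho⟩
    · left
      rw [← ho]
      exact o.2
    · right
      rw [← ho]
      exact o.2
  let e : T ≃+* ValuationSubring.ofSubring T.toSubring hmem :=
    { toFun := fun x => ⟨x.1, x.2⟩
      invFun := fun x => ⟨x.1, x.2⟩
      left_inv := fun _ => rfl
      right_inv := fun _ => rfl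
      map_mul' := fun _ _ => rfl
      map_add' := fun _ _ => rfl }
  exact ⟨ValuationSubring.ofSubring T.toSubring hmem,
    IsDiscreteValuationRing.RingEquivClass.isDiscreteValuationRing e, fun x => hmemT x⟩

end DVR

end Groth.Agent.H13.KrullAbstract
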