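import Mathlib

/-!
# Integrality: detection modulo nilpotents and descent along faithfully flat maps

* `isIntegral_of_forall_map`: an element `y` of an `R`-algebra `T` is integral over `R` as soon as
  its images under finitely many ring homomorphisms with jointly nil kernel are integral.
* `isIntegral_div_of_faithfullyFlat`: if `A → B` is faithfully flat, `a, b ∈ A` with `b ≠ 0`, and
  the fraction `a / b` satisfies a monic equation with coefficients in `B` (in homogenized form),
  then `a / b` is integral over `A`.
* `mem_of_mem_of_isNilpotent_tensor`: a criterion for uniqueness of primes in an extension of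
  `A`-algebras after a faithfully flat base change.
-/

set_option autoImplicit false
set_option linter.style.haveILetI false
set_option linter.unusedSectionVars false
universe u v w

open Polynomial TensorProduct

namespace Groth.Agent.H13.IntegralFFDescent

/-- integrality can be detected on finitely many quotients with jointly nil kernel -/
theorem isIntegral_of_forall_map {R : Type u} {T : Type v} [CommRing R] [CommRing T] [Algebra R T]
    {ι : Type w} [Finite ι] {Lι : ι → Type*} [∀ i, CommRing (Lι i)] (ψ : ∀ i, T →+* Lι i)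
    (hker : ∀ t : T, (∀ i, ψ i t = 0) → IsNilpotent t) (y : T)
    (hy : ∀ i, ((ψ i).comp (algebraMap R T)).IsIntegralElem (ψ i y)) : IsIntegral R y := by
  classical
  haveI := Fintype.ofFinite ι
  choose p hpm hp using hy
  let F : R[X] := ∏ i, p i
  have hF : F.Monic := monic_prod_of_monic _ _ (fun i _ => hpm i)
  have hnil : IsNilpotent (eval₂ (algebraMap R T) y F) := by
    apply hker
    intro i
    rw [hom_eval₂, eval₂_finsetProd]
    exact Finset.prod_eq_zero (Finset.mem_univ i) (hp i)
  obtain ⟨N, hN⟩ := hnil
  exact ⟨F ^ N, hF.pow N, by rw [eval₂_pow, hN]⟩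

section Descent

variable {A : Type u} {B : Type v} {K : Type w} [CommRing A] [IsDomain A] [CommRing B]
  [Algebra A B] [Module.FaithfullyFlat A B] [Field K] [Algebra A K] [IsFractionRing A K]

/-- descent of an integral equation in homogenized form along a faithfully flat map -/
theorem isIntegral_div_of_faithfullyFlat (a b : A) (hb : b ≠ 0) (F : B[X]) (hF : F.Monic)
    (hroot : (F.scaleRoots (algebraMap A B b)).eval (algebraMap A B a) = 0) :
    IsIntegral A (algebraMap A K a / algebraMap A K b) := by
  classical
  set n := F.natDegree with hn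
  set G := F.scaleRoots (algebraMap A B b) with hG
  have hGm : G.Monic := (monic_scaleRoots_iff _).mpr hF
  have hGn : G.natDegree = n := natDegree_scaleRoots _ _
  -- the ideal generated by `a ^ i * b ^ (n - i)`, `i < n`
  let v : Fin n → A := fun i => a ^ (i : ℕ) * b ^ (n - i)
  let J : Ideal A := Ideal.span (Set.range v)
  have hmem : algebraMap A B a ^ n ∈ J.map (algebraMap A B) := by
    have h1 := hroot
    rw [hGm.as_sum, hGn, eval_add, eval_pow, eval_X, eval_finsetSum] at h1
    rw [eq_neg_of_add_eq_zero_left h1]
    apply neg_mem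
    apply Ideal.sum_mem
    intro i hi
    rw [Finset.mem_range] at hi
    rw [eval_mul, eval_C, eval_pow, eval_X, hG, coeff_scaleRoots]
    have : F.coeff i * algebraMap A B b ^ (F.natDegree - i) * algebraMap A B a ^ i =
        F.coeff i * algebraMap A B (v ⟨i, hi⟩) := by
      simp only [v, map_mul, map_pow]
      ring
    rw [this]
    exact Ideal.mul_mem_left _ _ (Ideal.mem_map_of_mem _ (Ideal.subset_span ⟨_, rfl⟩))
  have hmemA : a ^ n ∈ J := by
    rw [← Ideal.comap_map_eq_self_of_faithfullyFlat (B := B) J, Ideal.mem_comap, map_pow]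
    exact hmem
  obtain ⟨c, hc⟩ := Ideal.mem_span_range_iff_exists_fun.mp hmemA
  have hbK : algebraMap A K b ≠ 0 := by
    rwa [Ne, map_eq_zero_iff _ (IsFractionRing.injective A K)]
  set x := algebraMap A K a / algebraMap A K b with hx
  have hxeq : x ^ n = ∑ i : Fin n, algebraMap A K (c i) * x ^ (i : ℕ) := by
    have h2 : algebraMap A K a ^ n = ∑ i : Fin n, algebraMap A K (c i) *
        (algebraMap A K a ^ (i : ℕ) * algebraMap A K b ^ (n - i)) := by
      rw [← map_pow, ← hc, map_sum]
      simp only [v, map_mul, map_pow]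
    rw [hx, div_pow, h2, Finset.sum_div]
    apply Finset.sum_congr rfl
    intro i _
    have hi : (i : ℕ) ≤ n := i.2.le
    rw [div_pow, mul_div_assoc]
    congr 1
    rw [div_eq_div_iff (pow_ne_zero _ hbK) (pow_ne_zero _ hbK), mul_assoc, ← pow_add,
      Nat.sub_add_cancel hi]
  let q : A[X] := X ^ n + -(∑ i : Fin n, C (c i) * X ^ (i : ℕ))
  have hq : q.Monic := by
    apply monic_X_pow_add
    rw [degree_neg]
    exact degree_sum_fin_lt _
  refine ⟨q, hq, ?_⟩
  simp only [q, eval₂_add, eval₂_pow, eval₂_X, eval₂_neg, eval₂_finsetSum, eval₂_mul, eval₂_C]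
  rw [hxeq]
  ring

end Descent

section Unique

variable {A : Type u} {B : Type v} [CommRing A] [CommRing B] [Algebra A B]
  [Module.FaithfullyFlat A B]
  {C : Type w} {C₁ : Type w} [CommRing C] [CommRing C₁] [Algebra A C] [Algebra A C₁]

/-- the base change of an injective algebra map along a flat algebra is injective -/
theorem map_injective_of_flat {D D' : Type*} [CommRing D] [CommRing D'] [Algebra A D]
    [Algebra A D'] (g : D →ₐ[A] D') (hg : Function.Injective g) :
    Function.Injective (Algebra.TensorProduct.map (AlgHom.id B B) g) := by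
  have h1 : Function.Injective (g.toLinearMap.lTensor B) :=
    Module.Flat.lTensor_preserves_injective_linearMap (M := B) g.toLinearMap hg
  have h2 : ∀ z, Algebra.TensorProduct.map (AlgHom.id B B) g z = g.toLinearMap.lTensor B z := by
    intro z
    induction z using TensorProduct.induction_on with
    | zero => simp
    | tmul b d => simp
    | add z w hz hw => rw [map_add, map_add, hz, hw]
  intro z w hzw
  apply h1
  rw [← h2, ← h2, hzw]

/-- If `c ⊗ 1` agrees up to nilpotents with an element coming from `B ⊗ C`, then any two primes of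
`C₁` with the same contraction to `C` both contain `c` or both do not. -/
theorem mem_of_mem_of_isNilpotent_tensor (f : C →ₐ[A] C₁) (c : C₁)
    (ξ : B ⊗[A] C)
    (hnil : IsNilpotent ((1 : B) ⊗ₜ[A] c - Algebra.TensorProduct.map (AlgHom.id B B) f ξ))
    (Q Q' : Ideal C₁) [Q.IsPrime] [Q'.IsPrime] (hQQ' : Q.comap f = Q'.comap f) (hc : c ∈ Q) :
    c ∈ Q' := by
  let P₀ : Ideal C := Q.comap f
  have hle : P₀ ≤ Q.comap f := le_rfl
  have hle' : P₀ ≤ Q'.comap f := hQQ'.le
  let g : C ⧸ P₀ →ₐ[A] C₁ ⧸ Q := Ideal.quotientMapₐ Q f hle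
  let g' : C ⧸ P₀ →ₐ[A] C₁ ⧸ Q' := Ideal.quotientMapₐ Q' f hle'
  have hg : Function.Injective g := by
    change Function.Injective (Ideal.quotientMap Q (f : C →+* C₁) hle)
    exact Ideal.quotientMap_injective' (H := hle) le_rfl
  have hg' : Function.Injective g' := by
    change Function.Injective (Ideal.quotientMap Q' (f : C →+* C₁) hle')
    exact Ideal.quotientMap_injective' (H := hle') hQQ'.ge
  let π : C₁ →ₐ[A] C₁ ⧸ Q := Ideal.Quotient.mkₐ A Q
  let π' : C₁ →ₐ[A] C₁ ⧸ Q' := Ideal.Quotient.mkₐ A Q'
  let π₀ : C →ₐ[A] C ⧸ P₀ := Ideal.Quotient.mkₐ A P₀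
  have hcomp : g.comp π₀ = π.comp f := by
    ext x
    rfl
  have hcomp' : g'.comp π₀ = π'.comp f := by
    ext x
    rfl
  let Tm := fun {D D' : Type w} [CommRing D] [CommRing D'] [Algebra A D] [Algebra A D']
    (h : D →ₐ[A] D') => Algebra.TensorProduct.map (AlgHom.id B B) h
  have hT : ∀ z : B ⊗[A] C, Algebra.TensorProduct.map (AlgHom.id B B) g
      (Algebra.TensorProduct.map (AlgHom.id B B) π₀ z) =
      Algebra.TensorProduct.map (AlgHom.id B B) π
      (Algebra.TensorProduct.map (AlgHom.id B B) f z) := by
    intro z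
    induction z using TensorProduct.induction_on with
    | zero => simp
    | tmul b d =>
      simp only [Algebra.TensorProduct.map_tmul, AlgHom.coe_id, id_eq]
      congr 1
    | add z w hz hw => simp only [map_add, hz, hw]
  have hT' : ∀ z : B ⊗[A] C, Algebra.TensorProduct.map (AlgHom.id B B) g'
      (Algebra.TensorProduct.map (AlgHom.id B B) π₀ z) =
      Algebra.TensorProduct.map (AlgHom.id B B) π'
      (Algebra.TensorProduct.map (AlgHom.id B B) f z) := by
    intro z
    induction z using TensorProduct.induction_on with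
    | zero => simp
    | tmul b d =>
      simp only [Algebra.TensorProduct.map_tmul, AlgHom.coe_id, id_eq]
      congr 1
    | add z w hz hw => simp only [map_add, hz, hw]
  -- the image of `ξ` in `B ⊗ C/P₀` is nilpotent
  have hπc : π c = 0 := by
    change Ideal.Quotient.mk Q c = 0
    rwa [Ideal.Quotient.eq_zero_iff_mem]
  have h1 : IsNilpotent (Algebra.TensorProduct.map (AlgHom.id B B) π₀ ξ) := by
    have h2 := hnil.map (Algebra.TensorProduct.map (AlgHom.id B B) π)
    rw [map_sub, Algebra.TensorProduct.map_tmul, hπc, tmul_zero, zero_sub, ← hT] at h2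
    have h3 : IsNilpotent (Algebra.TensorProduct.map (AlgHom.id B B) g
        (Algebra.TensorProduct.map (AlgHom.id B B) π₀ ξ)) := by
      have := h2.neg
      rwa [neg_neg] at this
    obtain ⟨N, hN⟩ := h3
    refine ⟨N, map_injective_of_flat g hg ?_⟩
    rw [map_pow, hN, map_zero]
  -- hence `1 ⊗ π' c` is nilpotent
  have h2 : IsNilpotent ((1 : B) ⊗ₜ[A] (π' c)) := by
    have h3 := hnil.map (Algebra.TensorProduct.map (AlgHom.id B B) π')
    rw [map_sub, Algebra.TensorProduct.map_tmul, ← hT'] at h3
    have h4 := h1.map (Algebra.TensorProduct.map (AlgHom.id B B) g')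
    have := Commute.isNilpotent_add (Commute.all _ _) h3 h4
    simpa using this
  obtain ⟨N, hN⟩ := h2
  have h3 : (1 : B) ⊗ₜ[A] (π' c ^ N) = 0 := by
    rw [← hN, Algebra.TensorProduct.tmul_pow, one_pow]
  have h4 : π' c ^ N = 0 := by
    apply Module.FaithfullyFlat.tensorProduct_mk_injective (A := A) (B := B) (C₁ ⧸ Q')
    rw [map_zero]
    exact h3
  have h5 : π' c = 0 := by
    haveI : IsDomain (C₁ ⧸ Q') := Ideal.Quotient.isDomain Q'
    exact pow_eq_zero_iff (n := N) (fun hN0 => by
      subst hN0
      rw [pow_zero] at h4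
      exact one_ne_zero h4) |>.mp h4
  change Ideal.Quotient.mk Q' c = 0 at h5
  rwa [Ideal.Quotient.eq_zero_iff_mem] at h5

end Unique

end Groth.Agent.H13.IntegralFFDescent
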