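import Mathlib
import Groth.Agent.H13.KrullDVR
import Groth.Agent.H13.IntegralFFDescent

/-!
# The integral closure of a Noetherian domain via a faithfully flat extension with N-1 components

Let `A` be a domain with fraction field `K` and `B` a faithfully flat Noetherian `A`-algebra such
that `B / P` is N-1 for every minimal prime `P` of `B` (for instance the completion of a Noetherian
local domain).  We show:

* the integral closure of `A` in `K` is the intersection of a finite-character family of
  valuation rings which are archimedean and discrete;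
* there is a finite sub-`A`-algebra `C` of the integral closure such that for every finite
  intermediate algebra `C ≤ C₁` the map `Spec C₁ → Spec C` is injective.
-/

set_option autoImplicit false
set_option linter.style.haveILetI false
set_option linter.unusedSectionVars false
universe u

open TensorProduct Polynomial Groth.Agent.H13.KrullDVR Groth.Agent.H13.IntegralFFDescent

namespace Groth.Agent.H13.MoriNagataCompl

variable {A : Type u} [CommRing A] [IsDomain A]
  (B : Type u) [CommRing B] [Algebra A B] [Module.FaithfullyFlat A B] [IsNoetherianRing B]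
  (K : Type u) [Field K] [Algebra A K] [IsFractionRing A K]

/-- the minimal primes of `B` -/
abbrev MinP : Type u := {P : Ideal B // P ∈ minimalPrimes B}

instance : Finite (MinP B) := (minimalPrimes.finite_of_isNoetherianRing B).to_subtype

instance (P : MinP B) : P.1.IsPrime := P.2.1.1

/-- the fraction field of the quotient by a minimal prime -/
abbrev Lf (P : MinP B) : Type u := FractionRing (B ⧸ P.1)

omit [IsNoetherianRing B] in
theorem algebraMap_mem_nonZeroDivisors (a : A) (ha : a ≠ 0) :
    algebraMap A B a ∈ nonZeroDivisors B := by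
  have h1 : IsSMulRegular A a := by
    intro x y hxy
    exact mul_left_cancel₀ ha hxy
  have h2 : IsSMulRegular B (algebraMap A B a) := IsSMulRegular.of_flat h1
  rw [mem_nonZeroDivisors_iff_right]
  intro x hx
  apply h2
  simp only [smul_eq_mul, mul_zero]
  rw [mul_comm]
  exact hx

variable {B} in
theorem algebraMap_eq_zero_iff (P : MinP B) (r : B) : algebraMap B (Lf B P) r = 0 ↔ r ∈ P.1 := by
  rw [IsScalarTower.algebraMap_apply B (B ⧸ P.1) (Lf B P),
    map_eq_zero_iff _ (IsFractionRing.injective (B ⧸ P.1) (Lf B P)),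
    Ideal.Quotient.algebraMap_eq, Ideal.Quotient.eq_zero_iff_mem]

theorem algebraMap_injective (P : MinP B) : Function.Injective (algebraMap A (Lf B P)) := by
  rw [injective_iff_map_eq_zero]
  intro a ha
  by_contra ha0
  rw [IsScalarTower.algebraMap_apply A B (Lf B P), algebraMap_eq_zero_iff] at ha
  exact Set.disjoint_left.mp (Ideal.disjoint_nonZeroDivisors_of_mem_minimalPrimes P.2) ha
    (algebraMap_mem_nonZeroDivisors B a ha0)

omit [IsDomain A] [Module.FaithfullyFlat A B] in
theorem isNilpotent_of_forall_algebraMap_eq_zero (r : B)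
    (h : ∀ P : MinP B, algebraMap B (Lf B P) r = 0) : IsNilpotent r := by
  rw [← mem_nilradical, nilradical, ← Ideal.sInf_minimalPrimes, Ideal.mem_sInf]
  intro P hP
  exact (algebraMap_eq_zero_iff ⟨P, hP⟩ r).mp (h ⟨P, hP⟩)

variable (A) in
/-- the map from the fraction field of `A` to the fraction field of `B / P` -/
noncomputable def φ (P : MinP B) : K →ₐ[A] Lf B P :=
  IsFractionRing.liftAlgHom (R := A) (A := A) (K := K) (g := Algebra.ofId A (Lf B P))
    (algebraMap_injective B P)

/-- **Integrality over `A` is detected on the minimal components of `B`.** -/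
theorem isIntegral_iff (x : K) : IsIntegral A x ↔ ∀ P : MinP B, IsIntegral B (φ A B K P x) := by
  constructor
  · intro hx P
    exact (hx.map (φ A B K P)).tower_top
  · intro h
    obtain ⟨a, b, hb, rfl⟩ := IsFractionRing.div_surjective (A := A) x
    have hb0 : b ≠ 0 := nonZeroDivisors.ne_zero hb
    set β := algebraMap A B with hβ
    have hbnzd : β b ∈ nonZeroDivisors B := algebraMap_mem_nonZeroDivisors B b hb0
    let T := Localization.Away (β b)
    have hinjT : Function.Injective (algebraMap B T) :=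
      IsLocalization.injective T (Submonoid.powers_le.mpr hbnzd)
    have hu : ∀ P : MinP B, IsUnit (algebraMap B (Lf B P) (β b)) := by
      intro P
      rw [isUnit_iff_ne_zero, ← IsScalarTower.algebraMap_apply A B (Lf B P), Ne,
        map_eq_zero_iff _ (algebraMap_injective B P)]
      exact hb0
    let ψT : ∀ P : MinP B, T →+* Lf B P := fun P => IsLocalization.Away.lift (β b) (hu P)
    let y : T := IsLocalization.mk' T (β a) (⟨β b, Submonoid.mem_powers _⟩ : Submonoid.powers (β b))
    have hyb : y * algebraMap B T (β b) = algebraMap B T (β a) := IsLocalization.mk'_spec _ _ _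
    have hψy : ∀ P : MinP B, ψT P y = φ A B K P (algebraMap A K a / algebraMap A K b) := by
      intro P
      have h1 := congrArg (ψT P) hyb
      rw [map_mul, IsLocalization.Away.lift_eq, IsLocalization.Away.lift_eq] at h1
      rw [map_div₀, AlgHom.commutes, AlgHom.commutes, eq_div_iff (by
        rw [IsScalarTower.algebraMap_apply A B (Lf B P)]
        exact (hu P).ne_zero), IsScalarTower.algebraMap_apply A B (Lf B P) b,
        IsScalarTower.algebraMap_apply A B (Lf B P) a]
      exact h1
    have hker : ∀ t : T, (∀ P, ψT P t = 0) → IsNilpotent t := by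
      intro t ht
      obtain ⟨r, m, rfl⟩ := IsLocalization.exists_mk'_eq (Submonoid.powers (β b)) t
      have hr : IsNilpotent r := by
        apply isNilpotent_of_forall_algebraMap_eq_zero
        intro P
        have h1 := congrArg (ψT P) (IsLocalization.mk'_spec T r m)
        rw [map_mul, ht P, zero_mul, IsLocalization.Away.lift_eq] at h1
        exact h1.symm
      obtain ⟨N, hN⟩ := hr
      refine ⟨N, ?_⟩
      have h2 : (IsLocalization.mk' T r m) ^ N * (algebraMap B T m) ^ N = 0 := by
        rw [← mul_pow, IsLocalization.mk'_spec, ← map_pow, hN, map_zero]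
      have hunit : IsUnit ((algebraMap B T m) ^ N) := (IsLocalization.map_units T m).pow N
      exact (hunit.mul_left_eq_zero).mp h2
    have hint : IsIntegral B y := by
      apply isIntegral_of_forall_map ψT hker y
      intro P
      rw [IsLocalization.Away.lift_comp, hψy]
      exact h P
    obtain ⟨F, hF, hFy⟩ := hint
    have hroot : (F.scaleRoots (β b)).eval (β a) = 0 := by
      apply hinjT
      rw [map_zero, ← eval₂_at_apply, ← hyb, mul_comm y, scaleRoots_eval₂_mul, hFy, mul_zero]
    exact isIntegral_div_of_faithfullyFlat a b hb0 F hF hroot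

section Family

/-- the normalization of `B / P` -/
abbrev Sn (P : MinP B) : Subalgebra (B ⧸ P.1) (Lf B P) := integralClosure (B ⧸ P.1) (Lf B P)

instance (P : MinP B) : IsIntegrallyClosed (Sn B P) :=
  integralClosure.isIntegrallyClosedOfFiniteExtension (Lf B P)

instance (P : MinP B) : IsFractionRing (Sn B P) (Lf B P) :=
  integralClosure.isFractionRing_of_finite_extension (Lf B P) (Lf B P)

/-- the index set of the family of valuation rings -/
abbrev Idx : Type u := Σ P : MinP B, dvrPrimes (Sn B P)

variable (hN1 : ∀ P : MinP B, Module.Finite (B ⧸ P.1) (Sn B P))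

include hN1 in
omit [IsDomain A] [Algebra A B] [Module.FaithfullyFlat A B] in
theorem isNoetherianRing_Sn (P : MinP B) : IsNoetherianRing (Sn B P) := by
  haveI := hN1 P
  exact isNoetherian_of_tower (B ⧸ P.1)
    (isNoetherian_of_isNoetherianRing_of_finite (B ⧸ P.1) (Sn B P))

variable (A) in
/-- the family of valuation rings of `K` -/
noncomputable def Wfam (j : Idx B) : ValuationSubring K :=
  haveI := isNoetherianRing_Sn B hN1 j.1
  (locVS (Lf B j.1) j.2).comap (φ A B K j.1 : K →+* Lf B j.1)

omit [IsDomain A] [Algebra A B] [Module.FaithfullyFlat A B] [IsNoetherianRing B] in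
theorem isIntegral_quot_iff (P : MinP B) (y : Lf B P) :
    IsIntegral B y ↔ IsIntegral (B ⧸ P.1) y := by
  constructor
  · intro h
    exact h.tower_top
  · intro h
    haveI : Algebra.IsIntegral B (B ⧸ P.1) :=
      Algebra.isIntegral_of_surjective Ideal.Quotient.mk_surjective
    exact isIntegral_trans y h

theorem mem_Wfam_iff (x : K) : IsIntegral A x ↔ ∀ j : Idx B, x ∈ Wfam A B K hN1 j := by
  rw [isIntegral_iff B K]
  constructor
  · intro h j
    haveI := isNoetherianRing_Sn B hN1 j.1
    change φ A B K j.1 x ∈ locVS (Lf B j.1) j.2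
    have h1 : IsIntegral (B ⧸ j.1.1) (φ A B K j.1 x) := (isIntegral_quot_iff B j.1 _).mp (h j.1)
    have h2 : φ A B K j.1 x ∈ (algebraMap (Sn B j.1) (Lf B j.1)).range := ⟨⟨_, h1⟩, rfl⟩
    exact (mem_range_iff (Lf B j.1) _).mp h2 j.2
  · intro h P
    haveI := isNoetherianRing_Sn B hN1 P
    rw [isIntegral_quot_iff]
    have h2 : φ A B K P x ∈ (algebraMap (Sn B P) (Lf B P)).range :=
      (mem_range_iff (Lf B P) _).mpr (fun Q => h ⟨P, Q⟩)
    obtain ⟨s, hs⟩ := h2
    rw [← hs]
    exact s.2

theorem finite_bad_Wfam (x : K) : {j : Idx B | x ∉ Wfam A B K hN1 j}.Finite := by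
  have h1 : {j : Idx B | x ∉ Wfam A B K hN1 j} ⊆
      ⋃ P : MinP B, (Sigma.mk P) '' {Q : dvrPrimes (Sn B P) |
        haveI := isNoetherianRing_Sn B hN1 P
        φ A B K P x ∉ locVS (Lf B P) Q} := by
    rintro ⟨P, Q⟩ hj
    rw [Set.mem_iUnion]
    exact ⟨P, Q, hj, rfl⟩
  refine Set.Finite.subset (Set.finite_iUnion fun P => Set.Finite.image _ ?_) h1
  haveI := isNoetherianRing_Sn B hN1 P
  exact finite_bad (Lf B P) _

theorem isArch_Wfam (j : Idx B) : IsArch (Wfam A B K hN1 j) := by
  haveI := isNoetherianRing_Sn B hN1 j.1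
  exact isArch_comap _ _ (isArch_of_isDVR _)

theorem isDisc_Wfam (j : Idx B) : IsDisc (Wfam A B K hN1 j) := by
  haveI := isNoetherianRing_Sn B hN1 j.1
  exact isDisc_comap _ _ (isDisc_of_isDVR _)

end Family

section Choice

/-- the product of the fraction fields of the minimal components -/
abbrev Lam : Type u := ∀ P : MinP B, Lf B P

variable (A) in
/-- the map from `K` to the product of the fraction fields -/
noncomputable def ψ : K →ₐ[A] Lam B := AlgHom.pi (fun P => φ A B K P)

theorem ψ_apply (x : K) (P : MinP B) : ψ A B K x P = φ A B K P x := rfl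

/-- the map `B ⊗ C₁ → Λ` -/
noncomputable def θ (C₁ : Subalgebra A K) : B ⊗[A] C₁ →ₐ[B] Lam B :=
  Algebra.TensorProduct.lift (Algebra.ofId B (Lam B)) ((ψ A B K).comp C₁.val)
    (fun _ _ => Commute.all _ _)

theorem θ_tmul (C₁ : Subalgebra A K) (r : B) (c : C₁) :
    θ B K C₁ (r ⊗ₜ c) = algebraMap B (Lam B) r * ψ A B K c := by
  rw [θ, Algebra.TensorProduct.lift_tmul]
  rfl

theorem θ_map (C C₁ : Subalgebra A K) (h : C ≤ C₁) (ξ : B ⊗[A] C) :
    θ B K C₁ (Algebra.TensorProduct.map (AlgHom.id B B) (Subalgebra.inclusion h) ξ) =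
      θ B K C ξ := by
  induction ξ using TensorProduct.induction_on with
  | zero => simp
  | tmul r c =>
    rw [Algebra.TensorProduct.map_tmul, θ_tmul, θ_tmul]
    rfl
  | add z w hz hw => rw [map_add, map_add, map_add, hz, hw]

omit [Module.FaithfullyFlat A B] [IsNoetherianRing B] in
theorem exists_common_denominator (W : Submodule A K) (hW : W.FG) :
    ∃ b : A, b ≠ 0 ∧ ∀ z ∈ W, ∃ a : A, algebraMap A K a = algebraMap A K b * z := by
  classical
  obtain ⟨s, rfl⟩ := hW
  obtain ⟨c, hc⟩ := IsLocalization.exist_integer_multiples_of_finset (nonZeroDivisors A) s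
  refine ⟨c, nonZeroDivisors.ne_zero c.2, fun z hz => ?_⟩
  induction hz using Submodule.span_induction with
  | mem x hx =>
    obtain ⟨b, hb⟩ := hc x hx
    exact ⟨b, by rw [hb, Algebra.smul_def]⟩
  | zero => exact ⟨0, by simp⟩
  | add x y _ _ hx hy =>
    obtain ⟨b₁, h₁⟩ := hx
    obtain ⟨b₂, h₂⟩ := hy
    exact ⟨b₁ + b₂, by rw [map_add, h₁, h₂, mul_add]⟩
  | smul r x _ hx =>
    obtain ⟨b, hb⟩ := hx
    exact ⟨r * b, by rw [map_mul, hb, Algebra.smul_def]; ring⟩

/-- the kernel of `B ⊗ C₁ → Λ` is nil for a finite subalgebra `C₁` of `K` -/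
theorem isNilpotent_of_θ_eq_zero (C₁ : Subalgebra A K) (hfg : C₁.toSubmodule.FG)
    (ξ : B ⊗[A] C₁) (hξ : θ B K C₁ ξ = 0) : IsNilpotent ξ := by
  obtain ⟨b, hb0, hb⟩ := exists_common_denominator K C₁.toSubmodule hfg
  have hbK : algebraMap A K b ≠ 0 := by
    rwa [Ne, map_eq_zero_iff _ (IsFractionRing.injective A K)]
  have hstep : ∀ ξ : B ⊗[A] C₁, ∃ r : B, b • ξ = r ⊗ₜ[A] (1 : C₁) := by
    intro ξ
    induction ξ using TensorProduct.induction_on with
    | zero => exact ⟨0, by simp⟩
    | tmul r c =>
      obtain ⟨a, ha⟩ := hb c c.2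
      refine ⟨a • r, ?_⟩
      have h1 : b • c = a • (1 : C₁) := by
        apply Subtype.ext
        rw [Subalgebra.coe_smul, Subalgebra.coe_smul, Algebra.smul_def, Algebra.smul_def, ← ha]
        simp
      rw [← TensorProduct.tmul_smul, h1, TensorProduct.tmul_smul, TensorProduct.smul_tmul']
    | add z w hz hw =>
      obtain ⟨r₁, h₁⟩ := hz
      obtain ⟨r₂, h₂⟩ := hw
      exact ⟨r₁ + r₂, by rw [smul_add, h₁, h₂, TensorProduct.add_tmul]⟩
  obtain ⟨r, hr⟩ := hstep ξ
  have hr0 : algebraMap B (Lam B) r = 0 := by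
    have h1 : θ B K C₁ (b • ξ) = 0 := by
      rw [← algebraMap_smul B b ξ, map_smul, hξ, smul_zero]
    rw [hr, θ_tmul] at h1
    simpa using h1
  have hrnil : IsNilpotent r := by
    apply isNilpotent_of_forall_algebraMap_eq_zero
    intro P
    exact congrFun hr0 P
  obtain ⟨N, hN⟩ := hrnil
  refine ⟨N, ?_⟩
  have h2 : b ^ N • ξ ^ N = 0 := by
    rw [← _root_.smul_pow, hr, Algebra.TensorProduct.tmul_pow, hN, TensorProduct.zero_tmul]
  have hreg : IsSMulRegular C₁ (b ^ N) := by
    intro x y hxy
    apply Subtype.ext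
    have := congrArg (fun z : C₁ => (z : K)) hxy
    simp only [Algebra.smul_def] at this
    exact mul_left_cancel₀ (by rw [map_pow]; exact pow_ne_zero _ hbK) this
  have hreg' : IsSMulRegular (B ⊗[A] C₁) (b ^ N) := IsSMulRegular.lTensor B hreg
  apply hreg'
  simp only [smul_zero]
  exact h2

variable (hN1 : ∀ P : MinP B, Module.Finite (B ⧸ P.1) (Sn B P))

include hN1 in
/-- **Choice of the finite subalgebra.** -/
theorem exists_finset :
    ∃ T : Finset K, (∀ t ∈ T, IsIntegral A t) ∧ ∀ c : K, IsIntegral A c →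
      ∃ ξ : B ⊗[A] (Algebra.adjoin A (T : Set K)),
        θ B K (Algebra.adjoin A (T : Set K)) ξ = ψ A B K c := by
  classical
  haveI : ∀ P : MinP B, Module.Finite B (Sn B P) := fun P =>
    haveI := hN1 P
    Module.Finite.trans (B ⧸ P.1) (Sn B P)
  haveI : IsNoetherian B (∀ P : MinP B, Sn B P) :=
    isNoetherian_of_isNoetherianRing_of_finite B _
  let ν : (∀ P : MinP B, Sn B P) →ₗ[B] Lam B :=
    LinearMap.pi fun P => ((Sn B P).val.toLinearMap.restrictScalars B).comp (LinearMap.proj P)
  let M : Submodule B (Lam B) := Submodule.span B ((ψ A B K) '' {x | IsIntegral A x})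
  have hMle : M ≤ LinearMap.range ν := by
    rw [Submodule.span_le]
    rintro _ ⟨x, hx, rfl⟩
    refine ⟨fun P => ⟨φ A B K P x, ?_⟩, ?_⟩
    · exact ((isIntegral_iff B K x).mp hx P).tower_top
    · rfl
  have hMfg : M.FG := by
    rw [← Submodule.map_comap_eq_self hMle]
    exact (IsNoetherian.noetherian _).map _
  obtain ⟨s', hs'sub, hs'span⟩ := (Submodule.fg_span_iff_fg_span_finset_subset _).mp hMfg
  obtain ⟨T, hTsub, hTimg⟩ := Finset.subset_set_image_iff.mp hs'sub
  refine ⟨T, fun t ht => hTsub ht, fun c hc => ?_⟩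
  have h1 : ψ A B K c ∈ M := Submodule.subset_span ⟨c, hc, rfl⟩
  have h2 : M ≤ LinearMap.range (θ B K (Algebra.adjoin A (T : Set K))).toLinearMap := by
    change Submodule.span B _ ≤ _
    rw [hs'span, ← hTimg, Submodule.span_le]
    intro z hz
    rw [Finset.coe_image] at hz
    obtain ⟨t, ht, rfl⟩ := hz
    refine ⟨(1 : B) ⊗ₜ[A] (⟨t, Algebra.subset_adjoin ht⟩ : Algebra.adjoin A (T : Set K)), ?_⟩
    rw [AlgHom.toLinearMap_apply, θ_tmul, map_one, one_mul]
  obtain ⟨ξ, hξ⟩ := h2 h1
  exact ⟨ξ, hξ⟩

/-- **Uniqueness of primes over the chosen subalgebra.** -/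
theorem mem_of_comap_eq (C C₁ : Subalgebra A K)
    (hC : ∀ c : K, IsIntegral A c → ∃ ξ : B ⊗[A] C, θ B K C ξ = ψ A B K c)
    (h : C ≤ C₁) (hfg : C₁.toSubmodule.FG) (hint : ∀ c ∈ C₁, IsIntegral A c)
    (Q Q' : Ideal C₁) [Q.IsPrime] [Q'.IsPrime]
    (hQQ' : Q.comap (Subalgebra.inclusion h) = Q'.comap (Subalgebra.inclusion h))
    (c : C₁) (hc : c ∈ Q) : c ∈ Q' := by
  obtain ⟨ξ, hξ⟩ := hC c (hint c c.2)
  refine mem_of_mem_of_isNilpotent_tensor (B := B) (Subalgebra.inclusion h) c ξ ?_ Q Q' hQQ' hc
  apply isNilpotent_of_θ_eq_zero B K C₁ hfg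
  rw [map_sub, θ_map, hξ, θ_tmul, map_one, one_mul]
  exact sub_self _

end Choice

end Groth.Agent.H13.MoriNagataCompl
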