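import Mathlib
import Groth.Agent.H13.KrullAbstract
import Groth.Agent.H13.MoriNagataCompl

/-!
# The Mori–Nagata theorem with a finite subalgebra carrying the essential valuations

Let `A` be a Noetherian domain with fraction field `K`, and `B` a faithfully flat Noetherian
`A`-algebra all of whose minimal components `B / P` are N-1.  Then there is a finite
sub-`A`-algebra `C` of `K` such that the integral closure `A'` of `A` in `K` satisfies: for every
height one prime `p` of `C` the ring `A'_p` is a discrete valuation ring, `A'` is the intersection of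
these, and every element of `K` lies in all but finitely many of them.
-/

set_option autoImplicit false
set_option linter.style.haveILetI false
set_option linter.unusedSectionVars false
universe u

open Groth.Agent.H13.KrullDVR Groth.Agent.H13.KrullAbstract Groth.Agent.H13.MoriNagataCompl

namespace Groth.Agent.H13.MoriNagataMain

theorem main {A : Type u} [CommRing A] [IsDomain A] [IsNoetherianRing A]
    (B : Type u) [CommRing B] [Algebra A B] [Module.FaithfullyFlat A B] [IsNoetherianRing B]
    (hN1 : ∀ P : MinP B, Module.Finite (B ⧸ P.1) (Sn B P))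
    (K : Type u) [Field K] [Algebra A K] [IsFractionRing A K] :
    ∃ C : Subalgebra A K, Module.Finite A C ∧
      (∀ (p : Ideal C) [p.IsPrime], p.height = 1 →
        ∃ V : ValuationSubring K, IsDiscreteValuationRing V ∧
          ∀ x : K, x ∈ V ↔ ∃ s : C, s ∉ p ∧ IsIntegral C ((s : K) * x)) ∧
      (∀ x : K, x ∈ integralClosure A K ↔
        ∀ (p : Ideal C) [p.IsPrime], p.height = 1 →
          ∃ s : C, s ∉ p ∧ IsIntegral C ((s : K) * x)) ∧
      (∀ x : K, {p : Ideal C | p.IsPrime ∧ p.height = 1 ∧
        ¬ ∃ s : C, s ∉ p ∧ IsIntegral C ((s : K) * x)}.Finite) := by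
  classical
  obtain ⟨T, hTint, hT⟩ := exists_finset (A := A) B K hN1
  let C : Subalgebra A K := Algebra.adjoin A (T : Set K)
  have hCfg : C.toSubmodule.FG := fg_adjoin_of_finite T.finite_toSet hTint
  haveI hCfin : Module.Finite A C := Module.Finite.iff_fg.mpr hCfg
  have hCle : C ≤ integralClosure A K := Algebra.adjoin_le (fun t ht => hTint t ht)
  haveI : Algebra.IsIntegral A C := Algebra.IsIntegral.of_finite A C
  haveI : IsNoetherianRing C := isNoetherian_of_tower A
    (isNoetherian_of_isNoetherianRing_of_finite A C)
  have hint_iff : ∀ x : K, IsIntegral C x ↔ IsIntegral A x := by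
    intro x
    constructor
    · intro h
      exact isIntegral_trans x h
    · intro h
      exact h.tower_top
  have hW : IsKrullFamily C (Wfam A B K hN1) :=
    { mem_iff := fun x => (hint_iff x).trans (mem_Wfam_iff B K hN1 x)
      finite_bad := finite_bad_Wfam B K hN1
      arch := isArch_Wfam B K hN1
      disc := isDisc_Wfam B K hN1 }
  -- uniqueness of primes
  have hU' : ∀ (Q Q' : Ideal (integralClosure C K)), Q.IsPrime → Q'.IsPrime →
      Q.comap (algebraMap C (integralClosure C K)) =
        Q'.comap (algebraMap C (integralClosure C K)) → Q ≤ Q' := by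
    intro Q Q' hQ hQ' hcomap d hd
    haveI := hQ
    haveI := hQ'
    have hdA : IsIntegral A (d : K) := (hint_iff _).mp d.2
    let C₁ : Subalgebra A K := Algebra.adjoin A ((T : Set K) ∪ {(d : K)})
    have hCC₁ : C ≤ C₁ := Algebra.adjoin_mono Set.subset_union_left
    have hall : ∀ t ∈ (T : Set K) ∪ {(d : K)}, IsIntegral A t := by
      intro t ht
      rcases ht with ht | ht
      · exact hTint t ht
      · rw [Set.mem_singleton_iff.mp ht]
        exact hdA
    have hC₁fg : C₁.toSubmodule.FG :=
      fg_adjoin_of_finite (T.finite_toSet.union (Set.finite_singleton _)) hall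
    have hC₁le : C₁ ≤ integralClosure A K := Algebra.adjoin_le hall
    have hC₁int : ∀ c ∈ C₁, IsIntegral A c := fun c hc => hC₁le hc
    let j : C₁ →+* integralClosure C K :=
      (C₁.val.toRingHom).codRestrict (integralClosure C K)
        (fun c => (hint_iff _).mpr (hC₁int c c.2))
    have hj : ∀ c : C, j (Subalgebra.inclusion hCC₁ c) = algebraMap C (integralClosure C K) c := by
      intro c
      apply Subtype.ext
      rfl
    have hcomap₁ : (Q.comap j).comap (Subalgebra.inclusion hCC₁) =
        (Q'.comap j).comap (Subalgebra.inclusion hCC₁) := by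
      ext c
      simp only [Ideal.mem_comap, hj]
      have h1 : algebraMap C (integralClosure C K) c ∈ Q ↔
          c ∈ Q.comap (algebraMap C (integralClosure C K)) := Iff.rfl
      have h2 : algebraMap C (integralClosure C K) c ∈ Q' ↔
          c ∈ Q'.comap (algebraMap C (integralClosure C K)) := Iff.rfl
      rw [h1, h2, hcomap]
    let d₁ : C₁ := ⟨(d : K), Algebra.subset_adjoin (Set.mem_union_right _ rfl)⟩
    have hjd : j d₁ = d := by
      apply Subtype.ext
      rfl
    have hd₁ : d₁ ∈ Q.comap j := by
      rw [Ideal.mem_comap, hjd]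
      exact hd
    have := mem_of_comap_eq B K C C₁ hT hCC₁ hC₁fg hC₁int (Q.comap j) (Q'.comap j) hcomap₁ d₁ hd₁
    rw [Ideal.mem_comap, hjd] at this
    exact this
  have hU : UniquePrimes C K := fun Q Q' hQ hQ' hcomap =>
    le_antisymm (hU' Q Q' hQ hQ' hcomap) (hU' Q' Q hQ' hQ hcomap.symm)
  refine ⟨C, hCfin, ?_, ?_, ?_⟩
  · intro p _ hp
    exact exists_dvr hU p hp
  · intro x
    constructor
    · intro hx p _ _
      have hx' : IsIntegral A x := hx
      exact loc_of_isIntegral ((hint_iff x).mpr hx')
    · intro h
      have : IsIntegral C x := isIntegral_of_forall_loc hW hU x (fun p _ hp => h p hp)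
      exact (hint_iff x).mp this
  · intro x
    exact hW.finite_bad_primes x

end Groth.Agent.H13.MoriNagataMain
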