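import Groth.Agent.H13.ReducedTensor
import Mathlib.AlgebraicGeometry.Pullbacks
import Mathlib.AlgebraicGeometry.Properties
import Groth.Prelude.Def_FDesc

/-!
# Base change of reduced schemes along separable field extensions (helper13)
-/

set_option autoImplicit false
universe u
open CategoryTheory CategoryTheory.Limits AlgebraicGeometry TensorProduct

namespace Groth.Agent.H13

/-- `Spec R ×_k Spec k'` is reduced for `R` reduced and `k'/k` geometrically reduced. -/
theorem isReduced_pullback_specMap_of_algebra (k k' : Type u) [Field k] [Field k'] [Algebra k k']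
    [Algebra.IsGeometricallyReduced k k'] (R : Type u) [CommRing R] [Algebra k R]
    [_root_.IsReduced R] :
    IsReduced (pullback (Spec.map (CommRingCat.ofHom (algebraMap k R)))
      (Spec.map (CommRingCat.ofHom (algebraMap k k')))) := by
  haveI : _root_.IsReduced (R ⊗[k] k') := by
    haveI := isReduced_tensorProduct_of_isReduced_of_isGeometricallyReduced k k' R
    exact isReduced_of_injective (Algebra.TensorProduct.comm k R k')
      (Algebra.TensorProduct.comm k R k').injective
  haveI : _root_.IsReduced (CommRingCat.of (R ⊗[k] k')) := ‹_›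
  haveI : IsReduced (Spec (CommRingCat.of (R ⊗[k] k'))) := inferInstance
  exact isReduced_of_isOpenImmersion (pullbackSpecIso k R k').hom

/-- Affine case. -/
theorem isReduced_pullback_of_isAffine (k k' : Type u) [Field k] [Field k'] [Algebra k k']
    [Algebra.IsGeometricallyReduced k k'] {W : Scheme.{u}} [IsAffine W] [IsReduced W]
    (a : W ⟶ Spec (CommRingCat.of k)) :
    IsReduced (pullback a (Spec.map (CommRingCat.ofHom (algebraMap k k')))) := by
  let φ : CommRingCat.of k ⟶ Γ(W, ⊤) := (Scheme.ΓSpecIso (CommRingCat.of k)).inv ≫ a.appTop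
  letI : Algebra k Γ(W, ⊤) := φ.hom.toAlgebra
  have ha : a = W.isoSpec.hom ≫ Spec.map (CommRingCat.ofHom (algebraMap k Γ(W, ⊤))) := by
    change a = W.isoSpec.hom ≫ Spec.map φ
    rw [Spec.map_comp, Scheme.isoSpec_hom, ← Scheme.toSpecΓ_naturality_assoc,
      toSpecΓ_SpecMap_ΓSpecIso_inv, Category.comp_id]
  have hred := isReduced_pullback_specMap_of_algebra k k' Γ(W, ⊤)
  let e := pullback.map a (Spec.map (CommRingCat.ofHom (algebraMap k k')))
    (Spec.map (CommRingCat.ofHom (algebraMap k Γ(W, ⊤))))
    (Spec.map (CommRingCat.ofHom (algebraMap k k'))) W.isoSpec.hom (𝟙 _) (𝟙 _)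
    (by rw [Category.comp_id]; exact ha) (by simp)
  haveI : IsIso e := by
    dsimp only [e]
    infer_instance
  exact isReduced_of_isOpenImmersion e

/-- **Base change of a reduced `k`-scheme along a separable (geometrically reduced) field extension
is reduced.** -/
theorem isReduced_pullback_specMap_of_isGeometricallyReduced (k k' : Type u) [Field k] [Field k']
    [Algebra k k'] [Algebra.IsGeometricallyReduced k k'] {X : Scheme.{u}} [IsReduced X]
    (f : X ⟶ Spec (CommRingCat.of k)) :
    IsReduced (pullback f (Spec.map (CommRingCat.ofHom (algebraMap k k')))) := by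
  apply +allowSynthFailures @IsReduced.of_openCover
    (𝒰 := Scheme.Pullback.openCoverOfLeft X.affineCover f _)
  intro i
  haveI : IsReduced (X.affineCover.X i) := isReduced_of_isOpenImmersion (X.affineCover.f i)
  exact isReduced_pullback_of_isAffine k k' (X.affineCover.f i ≫ f)

section iso

variable (k : Type u) [Field k] {W : Scheme.{u}} [IsAffine W] (a : W ⟶ Spec (CommRingCat.of k))

/-- The `k`-algebra structure on the global sections of an affine `k`-scheme. -/
@[reducible] noncomputable def algebraOfHom : Algebra k Γ(W, ⊤) :=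
  ((Scheme.ΓSpecIso (CommRingCat.of k)).inv ≫ a.appTop).hom.toAlgebra

lemma hom_eq_isoSpec_comp :
    letI := algebraOfHom k a
    a = W.isoSpec.hom ≫ Spec.map (CommRingCat.ofHom (algebraMap k Γ(W, ⊤))) := by
  letI := algebraOfHom k a
  change a = W.isoSpec.hom ≫ Spec.map ((Scheme.ΓSpecIso (CommRingCat.of k)).inv ≫ a.appTop)
  rw [Spec.map_comp, Scheme.isoSpec_hom, ← Scheme.toSpecΓ_naturality_assoc,
    toSpecΓ_SpecMap_ΓSpecIso_inv, Category.comp_id]

/-- For an affine `k`-scheme `W` and a field extension `L/k`, `W ×_k Spec L ≅ Spec (Γ(W) ⊗_k L)`. -/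
noncomputable def pullbackIsoSpecTensor (L : Type u) [Field L] [Algebra k L] :
    letI := algebraOfHom k a
    pullback a (Spec.map (CommRingCat.ofHom (algebraMap k L))) ≅
      Spec (CommRingCat.of (Γ(W, ⊤) ⊗[k] L)) := by
  letI := algebraOfHom k a
  let e := pullback.map a (Spec.map (CommRingCat.ofHom (algebraMap k L)))
    (Spec.map (CommRingCat.ofHom (algebraMap k Γ(W, ⊤))))
    (Spec.map (CommRingCat.ofHom (algebraMap k L))) W.isoSpec.hom (𝟙 _) (𝟙 _)
    (by rw [Category.comp_id]; exact hom_eq_isoSpec_comp k a) (by simp)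
  haveI : IsIso e := by
    dsimp only [e]
    infer_instance
  exact asIso e ≪≫ pullbackSpecIso k Γ(W, ⊤) L

theorem isReduced_pullback_iff_isReduced_tensor (L : Type u) [Field L] [Algebra k L] :
    letI := algebraOfHom k a
    IsReduced (pullback a (Spec.map (CommRingCat.ofHom (algebraMap k L)))) ↔
      _root_.IsReduced (Γ(W, ⊤) ⊗[k] L) := by
  letI := algebraOfHom k a
  rw [← affine_isReduced_iff (CommRingCat.of (Γ(W, ⊤) ⊗[k] L))]
  constructor
  · intro h
    exact isReduced_of_isOpenImmersion (pullbackIsoSpecTensor k a L).inv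
  · intro h
    exact isReduced_of_isOpenImmersion (pullbackIsoSpecTensor k a L).hom

end iso

end Groth.Agent.H13
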