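import Groth.Agent.H13.PrimUnique

/-!
# The sub-`O_X`-module of sections whose germs vanish at all points of a set `T` (helper13)

For an `O_X`-module `M` and a set of points `T`, `famT M T` is the family of sections whose germ at
every point of `T` (when defined) vanishes.  If `M` is quasi-coherent, `T` meets every affine open
in a finite set and a power of the maximal ideal kills the stalk `M_x` for every `x ∈ T`, then
the associated module `subT M T` is quasi-coherent.
-/

set_option autoImplicit false
universe u

noncomputable section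

namespace Groth.Agent.H13.GenSub

open CategoryTheory CategoryTheory.Limits Opposite TopologicalSpace AlgebraicGeometry
open Groth.Agent.H18 Groth.Agent.H12.SubSheaf Groth.Agent.H12.QCohExt
  Groth.Agent.H12.QCohAbelian Groth.Agent.H13.PrimSub

variable {X : Scheme.{u}} (M : X.Modules) (T : Set X)

/-- sections whose germ at every point of `T` (when defined) vanishes. -/
def famT : SubFam M where
  carrier U :=
    { carrier := {s | ∀ x ∈ T, ∀ h : x ∈ U, M.presheaf.germ U x h s = 0}
      add_mem' := fun {a b} ha hb x hx h => by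
        rw [map_add, ha x hx h, hb x hx h, add_zero]
      zero_mem' := fun x _ h => map_zero _
      smul_mem' := fun r s hs x hx h => by
        rw [Groth.Agent.H5.Stalk.germ_smul, hs x hx h, smul_zero] }
  res := fun {W W'} h {s} hs x hx hxW' => by
    have h1 : M.presheaf.germ W' x hxW' (mres M h s) = M.presheaf.germ W x (h hxW') s :=
      TopCat.Presheaf.germ_res_apply M.presheaf (homOfLE h) x hxW' s
    rw [h1]
    exact hs x hx _

theorem mem_famT {U : X.Opens} (s : Γ(M, U)) :
    s ∈ (famT M T).carrier U ↔ ∀ x ∈ T, ∀ h : x ∈ U, M.presheaf.germ U x h s = 0 := Iff.rfl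

theorem isLocal_famT : (famT M T).IsLocal := by
  intro W s h x hxT hx
  obtain ⟨W', hW', hxW', hs⟩ := h x hx
  have h1 : M.presheaf.germ W' x hxW' (mres M hW' s) = M.presheaf.germ W x hx s :=
    TopCat.Presheaf.germ_res_apply M.presheaf (homOfLE hW') x hxW' s
  rw [← h1]
  exact hs x hxT hxW'

/-- the submodule of `M` of sections whose germs vanish on `T`. -/
def subT : X.Modules := (famT M T).toModules (isLocal_famT M T)

/-- the inclusion. -/
def subTι : subT M T ⟶ M := (famT M T).ι (isLocal_famT M T)

instance : Mono (subTι M T) := SubFam.mono_ι _ _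

theorem subTι_app_germ {U : X.Opens} (t : Γ(subT M T, U)) (x : X) (hx : x ∈ T) (h : x ∈ U) :
    M.presheaf.germ U x h ((subTι M T).app U t) = 0 :=
  (famT M T).ι_app_mem (isLocal_famT M T) U t x hx h

theorem exists_subTι_app_eq {U : X.Opens} (s : Γ(M, U))
    (hs : ∀ x ∈ T, ∀ h : x ∈ U, M.presheaf.germ U x h s = 0) :
    ∃ t : Γ(subT M T, U), (subTι M T).app U t = s :=
  (famT M T).exists_ι_app_eq (isLocal_famT M T) U s hs

theorem subTι_app_injective (U : X.Opens) : Function.Injective ((subTι M T).app U) :=
  (famT M T).ι_app_injective (isLocal_famT M T) U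

theorem isQuasicoherent_subT [M.IsQuasicoherent]
    (hfin : ∀ U : X.affineOpens, (T ∩ (U.1 : Set X)).Finite)
    (hlen : ∀ x ∈ T, ∃ n : ℕ, (IsLocalRing.maximalIdeal (X.presheaf.stalk x)) ^ n •
      (⊤ : Submodule (X.presheaf.stalk x) (M.presheaf.stalk x)) = ⊥) :
    (subT M T).IsQuasicoherent := by
  classical
  choose! nx hnx using hlen
  refine isQuasicoherent_of_localizes (subT M T) (ι := X.affineOpens) (fun U => U.1)
    X.isBasis_affineOpens.isOpenCover (fun U => U.2) ?_ ?_
  · intro U r y
    have hD : X.basicOpen r ≤ U.1 := X.basicOpen_le r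
    obtain ⟨n₀, z, hz⟩ := exists_pow_smul_eq_res_of_isQuasicoherent M U.2 r
      ((subTι M T).app (X.basicOpen r) y)
    let n : ℕ := (hfin U).toFinset.sup nx
    have hmem : ∀ x ∈ T, ∀ hxU : x ∈ U.1, M.presheaf.germ U.1 x hxU (r ^ n • z) = 0 := by
      intro x hxT hxU
      rw [Groth.Agent.H5.Stalk.germ_smul, map_pow]
      by_cases hxr : x ∈ X.basicOpen r
      · have h1 : M.presheaf.germ (X.basicOpen r) x hxr (mres M hD z) =
            M.presheaf.germ U.1 x hxU z :=
          TopCat.Presheaf.germ_res_apply M.presheaf (homOfLE hD) x hxr z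
        rw [← h1, ← hz, Groth.Agent.H5.Stalk.germ_smul, subTι_app_germ M T y x hxT hxr,
          smul_zero, smul_zero]
      · have hle : nx x ≤ n := Finset.le_sup (f := nx) ((hfin U).mem_toFinset.mpr ⟨hxT, hxU⟩)
        have h2 : (X.presheaf.germ U.1 x hxU r) ^ n • M.presheaf.germ U.1 x hxU z ∈
            (IsLocalRing.maximalIdeal (X.presheaf.stalk x)) ^ nx x •
              (⊤ : Submodule (X.presheaf.stalk x) (M.presheaf.stalk x)) :=
          Submodule.smul_mem_smul (Ideal.pow_le_pow_right hle (Ideal.pow_mem_pow
            (germ_mem_maximalIdeal_of_not_mem_basicOpen x r hxU hxr) n)) trivial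
        rw [hnx x hxT] at h2
        exact (Submodule.mem_bot _).mp h2
    obtain ⟨w, hw⟩ := exists_subTι_app_eq M T _ hmem
    refine ⟨n + n₀, w, ?_⟩
    apply subTι_app_injective M T (X.basicOpen r)
    rw [← app_mres, hw, mres_smul, map_pow, ← hz, Scheme.Modules.Hom.app_smul, pow_add, mul_smul]
  · intro U r t ht
    have hD : X.basicOpen r ≤ U.1 := X.basicOpen_le r
    have h0 : mres M hD ((subTι M T).app U.1 t) = 0 := by
      rw [app_mres, ht, map_zero]
    obtain ⟨k, hk⟩ := exists_pow_smul_eq_zero_of_isQuasicoherent M U.2 r _ h0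
    refine ⟨k, ?_⟩
    apply subTι_app_injective M T U.1
    rw [Scheme.Modules.Hom.app_smul, hk, map_zero]

/-- the quotient of `M` by `subT M T`. -/
def quotT : X.Modules := cokernel (subTι M T)

/-- the quotient map. -/
def quotTπ : M ⟶ quotT M T := cokernel.π (subTι M T)

instance : Epi (quotTπ M T) := inferInstanceAs (Epi (cokernel.π (subTι M T)))

/-- the short exact sequence `0 → subT → M → quotT → 0`. -/
def seqT : ShortComplex X.Modules :=
  ShortComplex.mk (subTι M T) (quotTπ M T) (cokernel.condition _)

theorem seqT_shortExact : (seqT M T).ShortExact := by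
  have h1 : (seqT M T).Exact :=
    ShortComplex.exact_of_g_is_cokernel (seqT M T) (cokernelIsCokernel _)
  have : Mono (seqT M T).f := inferInstanceAs (Mono (subTι M T))
  have : Epi (seqT M T).g := inferInstanceAs (Epi (quotTπ M T))
  exact ShortComplex.ShortExact.mk h1

/-- the kernel of `M → quotT` on sections. -/
theorem quotTπ_app_eq_zero_iff {U : X.Opens} (s : Γ(M, U)) :
    (quotTπ M T).app U s = 0 ↔ ∀ x ∈ T, ∀ h : x ∈ U, M.presheaf.germ U x h s = 0 := by
  constructor
  · intro hs
    have : Mono (seqT M T).f := inferInstanceAs (Mono (subTι M T))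
    obtain ⟨t, ht⟩ := app_exact_of_exact_of_mono (seqT M T) (seqT_shortExact M T).exact U s hs
    intro x hx h
    rw [← ht]
    exact subTι_app_germ M T t x hx h
  · intro hs
    obtain ⟨t, ht⟩ := exists_subTι_app_eq M T s hs
    rw [← ht]
    exact app_zero_apply (seqT M T) U t

end Groth.Agent.H13.GenSub
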