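import Groth.Agent.H13.PBasisField

/-!
# EGA 0_IV 21.4.5: p-independence / p-generation / p-bases of fields via differentials (S2468)
-/

set_option autoImplicit false
set_option linter.style.haveILetI false
set_option linter.unusedSectionVars false
universe u

namespace Groth.Agent.H13.PB

open EGA41 KaehlerDifferential

variable (p : ℕ) [Fact p.Prime] {k K : Type u} [Field k] [Field K] [Algebra k K] [CharP K p]

theorem isPIndependent_empty : IsPIndependent p k (Subtype.val : (∅ : Set K) → K) := by
  rw [isPIndependent_iff, linearIndependent_subsingleton_index_iff]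
  intro e
  have : e.1 = 0 := Subsingleton.elim _ _
  unfold mono
  rw [this, Finsupp.prod_zero_index]
  exact one_ne_zero

theorem isPGenerating_univ : IsPGenerating p k (Subtype.val : ↥(Set.univ : Set K) → K) := by
  rw [← adjoin_eq_top_iff_isPGenerating, Subtype.range_coe, Algebra.adjoin_univ]

theorem D_mem_span_of_mem_adjoin (T : Set K) (y : K)
    (hy : y ∈ Algebra.adjoin (pPowerSubalgebra p k K) T) :
    D k K y ∈ Submodule.span K (D k K '' T) := by
  induction hy using Algebra.adjoin_induction with
  | mem y hy => exact Submodule.subset_span ⟨y, hy, rfl⟩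
  | algebraMap c =>
    have : D k K (algebraMap (pPowerSubalgebra p k K) K c) = 0 :=
      D_eq_zero_of_mem_pPower p _ c.2
    rw [this]
    exact Submodule.zero_mem _
  | add a b _ _ ha hb => rw [map_add]; exact add_mem ha hb
  | mul a b _ _ ha hb =>
    rw [Derivation.leibniz]
    exact add_mem (Submodule.smul_mem _ _ hb) (Submodule.smul_mem _ _ ha)

theorem injective_of_isPIndependent {ι : Type u} (x : ι → K) (hx : IsPIndependent p k x) :
    Function.Injective x := by
  have hp : p.Prime := Fact.out
  intro i j hij
  have hinj := ((isPIndependent_iff p x).mp hx).injective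
  let ei : Red ι p := ⟨Finsupp.single i 1, fun l => by
    by_cases h : i = l
    · subst h; simpa using hp.one_lt
    · simpa [Finsupp.single_apply, h] using hp.pos⟩
  let ej : Red ι p := ⟨Finsupp.single j 1, fun l => by
    by_cases h : j = l
    · subst h; simpa using hp.one_lt
    · simpa [Finsupp.single_apply, h] using hp.pos⟩
  have h1 : mono p x ei = mono p x ej := by
    simp [mono, ei, ej, hij]
  have h2 := congrArg Subtype.val (hinj h1)
  exact Finsupp.single_left_injective one_ne_zero h2

theorem isPIndependent_range {ι : Type u} (x : ι → K) (hx : IsPIndependent p k x) :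
    IsPIndependent p k (Subtype.val : Set.range x → K) := by
  let g : Set.range x ↪ ι := ⟨fun a => a.2.choose, fun a a' h => by
    apply Subtype.ext
    rw [← a.2.choose_spec, ← a'.2.choose_spec]
    exact congrArg x h⟩
  have := linearIndependent_mono_comp (R := pPowerSubalgebra p k K) x g hx
  have heq : (Subtype.val : Set.range x → K) = x ∘ g := by
    funext a
    exact a.2.choose_spec.symm
  rw [isPIndependent_iff, heq]
  exact this

theorem isPIndependent_of_range {ι : Type u} (x : ι → K) (hinj : Function.Injective x)
    (hx : IsPIndependent p k (Subtype.val : Set.range x → K)) : IsPIndependent p k x := by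
  let g : ι ↪ Set.range x := ⟨fun i => ⟨x i, i, rfl⟩, fun i j h => hinj (congrArg Subtype.val h)⟩
  exact linearIndependent_mono_comp (R := pPowerSubalgebra p k K) (Subtype.val : Set.range x → K) g hx

/-- `p`-independent ⟹ differentials linearly independent. -/
theorem linearIndependent_D_of_isPIndependent {ι : Type u} (x : ι → K)
    (hx : IsPIndependent p k x) : LinearIndependent K (fun i => D k K (x i)) := by
  obtain ⟨B', hLB, -, hB'⟩ := exists_isPBasis_between p Set.univ (Set.range x)
    (Set.subset_univ _) (isPGenerating_univ p) (isPIndependent_range p x hx)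
  obtain ⟨b, hb⟩ := exists_basis_kaehler_of_isPBasis p (Subtype.val : B' → K) hB'
  have hinj := injective_of_isPIndependent p x hx
  have := b.linearIndependent.comp (fun i => (⟨x i, hLB ⟨i, rfl⟩⟩ : B'))
    (fun i j h => hinj (congrArg Subtype.val h))
  have heq : (fun i => D k K (x i)) = b ∘ fun i => (⟨x i, hLB ⟨i, rfl⟩⟩ : B') := by
    funext i
    simp [hb]
  rw [heq]
  exact this

/-- differentials linearly independent ⟹ `p`-independent. -/
theorem isPIndependent_of_linearIndependent_D {ι : Type u} (x : ι → K)
    (h : LinearIndependent K (fun i => D k K (x i))) : IsPIndependent p k x := by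
  have hxinj : Function.Injective x := fun i j hij => h.injective (by simp only [hij])
  obtain ⟨B, -, hBS, hB, hSB⟩ := exists_isPIndependent_between (k := k) p (Set.range x) ∅
    (Set.empty_subset _) (isPIndependent_empty p)
  have hsub : Set.range x ⊆ B := by
    rintro _ ⟨j, rfl⟩
    by_contra hj
    have h1 := D_mem_span_of_mem_adjoin p B (x j) (hSB ⟨j, rfl⟩)
    have h2 : D k K '' B = (fun i => D k K (x i)) '' (x ⁻¹' B) := by
      conv_lhs => rw [← Set.image_preimage_eq_of_subset hBS]
      rw [Set.image_image]
    rw [h2] at h1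
    exact h.notMem_span_image (s := x ⁻¹' B) (x := j) hj h1
  have hBeq : B = Set.range x := le_antisymm hBS hsub
  subst hBeq
  exact isPIndependent_of_range p x hxinj hB

/-- differentials span ⟹ `p`-generating. -/
theorem isPGenerating_of_span_D_eq_top_field {ι : Type u} (x : ι → K)
    (h : Submodule.span K (Set.range fun i => D k K (x i)) = ⊤) : IsPGenerating p k x := by
  rw [← adjoin_eq_top_iff_isPGenerating]
  by_contra hne
  obtain ⟨B, -, hBS, hB, hSB⟩ := exists_isPIndependent_between (k := k) p (Set.range x) ∅
    (Set.empty_subset _) (isPIndependent_empty p)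
  have hadj : Algebra.adjoin (pPowerSubalgebra p k K) B =
      Algebra.adjoin (pPowerSubalgebra p k K) (Set.range x) :=
    le_antisymm (Algebra.adjoin_mono hBS) (Algebra.adjoin_le hSB)
  obtain ⟨s, hs⟩ : ∃ s : K, s ∉ Algebra.adjoin (pPowerSubalgebra p k K) (Set.range x) := by
    by_contra hall
    push Not at hall
    exact hne (eq_top_iff.mpr fun s _ => hall s)
  have hs' : s ∉ Algebra.adjoin (pPowerSubalgebra p k K) B := hadj ▸ hs
  have hsB : s ∉ B := fun hmem => hs' (Algebra.subset_adjoin hmem)
  have hins := isPIndependent_insert p B hB s hs'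
  obtain ⟨B', hsub, -, hB'⟩ := exists_isPBasis_between p Set.univ (insert s B)
    (Set.subset_univ _) (isPGenerating_univ p) hins
  obtain ⟨b, hb⟩ := exists_basis_kaehler_of_isPBasis p (Subtype.val : B' → K) hB'
  have hDs : D k K s ∈ Submodule.span K (D k K '' B) := by
    have hle : Submodule.span K (Set.range fun i => D k K (x i)) ≤
        Submodule.span K (D k K '' B) := by
      rw [Submodule.span_le]
      rintro _ ⟨i, rfl⟩
      exact D_mem_span_of_mem_adjoin p B (x i) (hSB ⟨i, rfl⟩)
    exact hle (h ▸ Submodule.mem_top)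
  let s' : B' := ⟨s, hsub (Set.mem_insert s B)⟩
  have hs'B : s' ∉ {b' : B' | b'.1 ∈ B} := hsB
  have himg : b '' {b' : B' | b'.1 ∈ B} = D k K '' B := by
    ext ω
    constructor
    · rintro ⟨b', hb', rfl⟩
      exact ⟨b'.1, hb', (hb b').symm⟩
    · rintro ⟨y, hy, rfl⟩
      exact ⟨⟨y, hsub (Set.mem_insert_of_mem s hy)⟩, hy, hb _⟩
  have := b.linearIndependent.notMem_span_image hs'B
  rw [himg, hb] at this
  exact this hDs

/-- Key fact: `s ∈ C[T]` iff `ds` lies in the span of the `dt`, `t ∈ T`. -/
theorem D_notMem_span_of_notMem_adjoin (T : Set K) (s : K)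
    (hs : s ∉ Algebra.adjoin (pPowerSubalgebra p k K) T) :
    D k K s ∉ Submodule.span K (D k K '' T) := by
  obtain ⟨B, -, hBT, hB, hTB⟩ := exists_isPIndependent_between (k := k) p T ∅
    (Set.empty_subset _) (isPIndependent_empty p)
  have hadj : Algebra.adjoin (pPowerSubalgebra p k K) B =
      Algebra.adjoin (pPowerSubalgebra p k K) T :=
    le_antisymm (Algebra.adjoin_mono hBT) (Algebra.adjoin_le hTB)
  have hs' : s ∉ Algebra.adjoin (pPowerSubalgebra p k K) B := hadj ▸ hs
  have hsB : s ∉ B := fun hmem => hs' (Algebra.subset_adjoin hmem)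
  have hins := isPIndependent_insert p B hB s hs'
  have hli := linearIndependent_D_of_isPIndependent p _ hins
  intro hDs
  have hle : Submodule.span K (D k K '' T) ≤ Submodule.span K (D k K '' B) := by
    rw [Submodule.span_le]
    rintro _ ⟨t, ht, rfl⟩
    exact D_mem_span_of_mem_adjoin p B t (hTB ht)
  let s' : ↥(insert s B) := ⟨s, Set.mem_insert s B⟩
  have hs'B : s' ∉ {b' : ↥(insert s B) | b'.1 ∈ B} := hsB
  have himg : (fun b' : ↥(insert s B) => D k K b'.1) '' {b' | b'.1 ∈ B} = D k K '' B := by
    ext ω
    constructor
    · rintro ⟨b', hb', rfl⟩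
      exact ⟨b'.1, hb', rfl⟩
    · rintro ⟨y, hy, rfl⟩
      exact ⟨⟨y, Set.mem_insert_of_mem s hy⟩, hy, rfl⟩
  have := hli.notMem_span_image hs'B
  rw [himg] at this
  exact this (hle hDs)

theorem mem_adjoin_iff_D_mem_span (T : Set K) (s : K) :
    s ∈ Algebra.adjoin (pPowerSubalgebra p k K) T ↔
      D k K s ∈ Submodule.span K (D k K '' T) :=
  ⟨D_mem_span_of_mem_adjoin p T s, fun h => by
    by_contra hs
    exact D_notMem_span_of_notMem_adjoin p T s hs h⟩

/-- The subfield generated over `k` by `K^p` and `T` is `k[K^p][T]`. -/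
theorem coe_intermediateField_adjoin (T : Set K) :
    (IntermediateField.adjoin k ((Set.range fun y : K => y ^ p) ∪ T) : Set K) =
      (Algebra.adjoin (pPowerSubalgebra p k K) T : Set K) := by
  apply Set.Subset.antisymm
  · let F : IntermediateField k K :=
      Subalgebra.toIntermediateField
        ((Algebra.adjoin (pPowerSubalgebra p k K) T).restrictScalars k)
        (fun c hc => inv_mem_of_pow_mem p (Algebra.adjoin (pPowerSubalgebra p k K) T)
          (pow_mem_adjoin_pPower p T) c hc)
    have hle : IntermediateField.adjoin k ((Set.range fun y : K => y ^ p) ∪ T) ≤ F := by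
      rw [IntermediateField.adjoin_le_iff]
      rintro y (⟨b, rfl⟩ | hy)
      · exact pow_mem_adjoin_pPower p T b
      · exact Algebra.subset_adjoin hy
    exact hle
  · intro y hy
    induction hy using Algebra.adjoin_induction with
    | mem y hy => exact IntermediateField.subset_adjoin _ _ (Or.inr hy)
    | algebraMap c =>
      have h1 : Algebra.adjoin k (Set.range fun y : K => y ^ p) ≤
          (IntermediateField.adjoin k ((Set.range fun y : K => y ^ p) ∪ T)).toSubalgebra :=
        Algebra.adjoin_le fun z hz => IntermediateField.subset_adjoin _ _ (Or.inl hz)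
      exact h1 c.2
    | add a b _ _ ha hb => exact add_mem ha hb
    | mul a b _ _ ha hb => exact mul_mem ha hb

/-- EGA 0_IV 21.4.3 (the statement of S4521). -/
theorem isPIndependent_iff_notMem_adjoin {ι : Type u} (x : ι → K) :
    IsPIndependent p k x ↔
      ∀ a : ι, x a ∉ IntermediateField.adjoin k
        ((Set.range fun y : K => y ^ p) ∪ x '' {b | b ≠ a}) := by
  have key : ∀ a : ι, (x a ∈ IntermediateField.adjoin k
      ((Set.range fun y : K => y ^ p) ∪ x '' {b | b ≠ a})) ↔
      D k K (x a) ∈ Submodule.span K ((fun i => D k K (x i)) '' (Set.univ \ {a})) := by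
    intro a
    have h1 : x a ∈ IntermediateField.adjoin k
        ((Set.range fun y : K => y ^ p) ∪ x '' {b | b ≠ a}) ↔
        x a ∈ (IntermediateField.adjoin k
          ((Set.range fun y : K => y ^ p) ∪ x '' {b | b ≠ a}) : Set K) := Iff.rfl
    rw [h1, coe_intermediateField_adjoin, SetLike.mem_coe, mem_adjoin_iff_D_mem_span,
      Set.image_image]
    have h2 : {b : ι | b ≠ a} = Set.univ \ {a} := by
      ext b; simp
    rw [h2]
  constructor
  · intro hx a
    rw [key]
    exact (linearIndependent_iff_notMem_span.mp (linearIndependent_D_of_isPIndependent p x hx)) a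
  · intro h
    apply isPIndependent_of_linearIndependent_D
    rw [linearIndependent_iff_notMem_span]
    intro a
    rw [← key]
    exact h a

/-- EGA 0_IV 21.4.5 (the statement of S2468). -/
theorem field_theorem {ι : Type u} (x : ι → K) :
    (IsPIndependent p k x ↔ LinearIndependent K (fun i => D k K (x i))) ∧
    (IsPGenerating p k x ↔ Submodule.span K (Set.range fun i => D k K (x i)) = ⊤) ∧
    (IsPBasis p k x ↔ ∃ b : Module.Basis ι K (Ω[K⁄k]), ∀ i, b i = D k K (x i)) := by
  refine ⟨⟨linearIndependent_D_of_isPIndependent p x, isPIndependent_of_linearIndependent_D p x⟩,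
    ⟨span_D_eq_top_of_isPGenerating p x, isPGenerating_of_span_D_eq_top_field p x⟩,
    ⟨exists_basis_kaehler_of_isPBasis p x, ?_⟩⟩
  rintro ⟨b, hb⟩
  have hfun : (fun i => D k K (x i)) = b := funext fun i => (hb i).symm
  refine ⟨isPIndependent_of_linearIndependent_D p x ?_, isPGenerating_of_span_D_eq_top_field p x ?_⟩
  · rw [hfun]; exact b.linearIndependent
  · rw [hfun]; exact b.span_eq

end Groth.Agent.H13.PB
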