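import Mathlib
import Groth.Prelude.Def_Found
import Groth.Prelude.Def_Hensel
import Groth.Agent.S0506
import Groth.Agent.S2045
import Groth.Agent.H23.PolyGRing2
import Groth.Agent.H3.Henselization
import Groth.Agent.H3.HensIso
import Groth.Agent.H3.HensLocal

/-!
# The image of the henselization of a local ring in a henselian local ring

For a local homomorphism `φ : R → A` into a henselian local ring, the canonical map `Rʰ → A`
has an image `hensImage R φ`, a henselian local subring of `A` (with local inclusion) which is
a G-ring when `R` is a Noetherian G-ring, and which is monotone in `(R, φ)`.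
-/

set_option autoImplicit false
set_option linter.style.haveILetI false
set_option linter.unusedSectionVars false
set_option linter.unusedVariables false
universe u

namespace Groth.Agent.H13.HensImage

open IsLocalRing

/-- a surjective image of a henselian local ring is henselian local (if nontrivial). -/
theorem henselianLocalRing_of_surjective {H G : Type*} [CommRing H] [CommRing G]
    [HenselianLocalRing H] [Nontrivial G] (φ : H →+* G) (hφ : Function.Surjective φ) :
    HenselianLocalRing G := by
  have hK : RingHom.ker φ ≠ ⊤ := RingHom.ker_ne_top φ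
  haveI := Groth.Agent.H3.henselianLocalRing_quotient H (RingHom.ker φ) hK
  let e : (H ⧸ RingHom.ker φ) ≃+* G := RingHom.quotientKerEquivOfSurjective hφ
  haveI : IsLocalRing G := IsLocalRing.of_surjective' φ hφ
  refine ⟨fun f hf a₀ h₁ h₂ => ?_⟩
  -- transport along `e.symm`
  have hloc : IsLocalHom (e.symm : G →+* H ⧸ RingHom.ker φ) := inferInstance
  set f' := f.map (e.symm : G →+* H ⧸ RingHom.ker φ) with hf'
  have hm : f'.Monic := hf.map _
  have h1' : f'.eval (e.symm a₀) ∈ maximalIdeal (H ⧸ RingHom.ker φ) := by
    rw [hf']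
    have : (f.map (e.symm : G →+* H ⧸ RingHom.ker φ)).eval (e.symm a₀) =
        (e.symm : G →+* H ⧸ RingHom.ker φ) (f.eval a₀) := by
      rw [Polynomial.eval_map]
      exact Polynomial.eval₂_hom (e.symm : G →+* H ⧸ RingHom.ker φ) a₀
    rw [this]
    rw [IsLocalRing.mem_maximalIdeal, mem_nonunits_iff] at h₁ ⊢
    intro hu
    exact h₁ (isUnit_of_map_unit (e.symm : G →+* H ⧸ RingHom.ker φ) _ hu)
  have h2' : IsUnit (f'.derivative.eval (e.symm a₀)) := by
    rw [hf', Polynomial.derivative_map]
    have : ((Polynomial.derivative f).map (e.symm : G →+* H ⧸ RingHom.ker φ)).eval (e.symm a₀) =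
        (e.symm : G →+* H ⧸ RingHom.ker φ) ((Polynomial.derivative f).eval a₀) := by
      rw [Polynomial.eval_map]
      exact Polynomial.eval₂_hom (e.symm : G →+* H ⧸ RingHom.ker φ) a₀
    rw [this]
    exact h₂.map _
  obtain ⟨b, hb, hb'⟩ := HenselianLocalRing.is_henselian f' hm (e.symm a₀) h1' h2'
  refine ⟨e b, ?_, ?_⟩
  · have : f'.eval b = 0 := hb
    rw [hf', Polynomial.eval_map] at this
    have h3 := congrArg e this
    rw [map_zero] at h3
    have h4 : e (Polynomial.eval₂ (e.symm : G →+* H ⧸ RingHom.ker φ) b f) =
        Polynomial.eval₂ ((e : (H ⧸ RingHom.ker φ) →+* G).comp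
          (e.symm : G →+* H ⧸ RingHom.ker φ)) (e b) f :=
      Polynomial.hom_eval₂ f (e.symm : G →+* H ⧸ RingHom.ker φ) (e : (H ⧸ RingHom.ker φ) →+* G) b
    rw [h4] at h3
    have h5 : (e : (H ⧸ RingHom.ker φ) →+* G).comp (e.symm : G →+* H ⧸ RingHom.ker φ) =
        RingHom.id G := by
      ext x; simp
    rw [h5, Polynomial.eval₂_id] at h3
    exact h3
  · rw [IsLocalRing.mem_maximalIdeal, mem_nonunits_iff] at hb' ⊢
    intro hu
    apply hb'
    have : b - e.symm a₀ = e.symm (e b - a₀) := by simp
    rw [this]
    exact hu.map _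

section Generic

variable {A : Type u} [CommRing A] [HenselianLocalRing A]

/-- a chosen henselization, bundled. -/
structure HensData (R : Type u) [CommRing R] [IsLocalRing R] where
  S : Type u
  [cr : CommRing S]
  [loc : IsLocalRing S]
  [alg : Algebra R S]
  [lh : IsLocalHom (algebraMap R S)]
  hens : Hensel.IsHenselization R S

attribute [instance] HensData.cr HensData.loc HensData.alg HensData.lh

theorem nonempty_hensData (R : Type u) [CommRing R] [IsLocalRing R] : Nonempty (HensData R) := by
  obtain ⟨S, i1, i2, i3, i4, h⟩ := Groth.Agent.S0506.result R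
  exact ⟨{ S := S, hens := h }⟩

/-- the chosen henselization data. -/
noncomputable def hd (R : Type u) [CommRing R] [IsLocalRing R] : HensData R :=
  (nonempty_hensData R).some

variable (R : Type u) [CommRing R] [IsLocalRing R] (φ : R →+* A) [hφ : IsLocalHom φ]

/-- the canonical map from the chosen henselization. -/
noncomputable def can : (hd R).S →+* A :=
  Classical.choose ((hd R).hens.universal A φ hφ).exists

theorem can_comp : (can R φ).comp (algebraMap R (hd R).S) = φ :=
  Classical.choose_spec ((hd R).hens.universal A φ hφ).exists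

theorem can_unique (g : (hd R).S →+* A) (hg : g.comp (algebraMap R (hd R).S) = φ) :
    g = can R φ :=
  ((hd R).hens.universal A φ hφ).unique hg (can_comp R φ)

theorem maximalIdeal_hd :
    maximalIdeal (hd R).S = (maximalIdeal R).map (algebraMap R (hd R).S) :=
  Groth.Agent.H3.HensLocal.maximalIdeal_eq
    (Groth.Agent.H3.HensIso.isPairHenselization_of_isHenselization (hd R).hens)

instance isLocalHom_can : IsLocalHom (can R φ) := by
  refine ⟨fun x hx => ?_⟩
  by_contra hnu
  have hm : x ∈ maximalIdeal (hd R).S := (IsLocalRing.mem_maximalIdeal x).mpr hnu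
  rw [maximalIdeal_hd] at hm
  have h2 : can R φ x ∈ ((maximalIdeal R).map (algebraMap R (hd R).S)).map (can R φ) :=
    Ideal.mem_map_of_mem _ hm
  rw [Ideal.map_map, can_comp] at h2
  have h3 : (maximalIdeal R).map φ ≤ maximalIdeal A := by
    rw [Ideal.map_le_iff_le_comap]
    intro a ha
    rw [Ideal.mem_comap, IsLocalRing.mem_maximalIdeal, mem_nonunits_iff]
    intro hu
    exact (IsLocalRing.mem_maximalIdeal a).mp ha (hφ.map_nonunit a hu)
  exact (IsLocalRing.mem_maximalIdeal _).mp (h3 h2) hx

/-- the image of the henselization of `R` in `A`. -/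
noncomputable def hensImage : Subring A := (can R φ).range

theorem range_le_hensImage : φ.range ≤ hensImage R φ := by
  rintro _ ⟨r, rfl⟩
  refine ⟨algebraMap R (hd R).S r, ?_⟩
  exact congrArg (fun ψ : R →+* A => ψ r) (can_comp R φ)

theorem hensImage_mono {R' : Type u} [CommRing R'] [IsLocalRing R'] (φ' : R' →+* A)
    [hφ' : IsLocalHom φ'] (ρ : R →+* R') (h : φ'.comp ρ = φ) :
    hensImage R φ ≤ hensImage R' φ' := by
  haveI : HenselianLocalRing (hd R').S := (hd R').hens.henselian
  have hρ : IsLocalHom ρ := by
    refine ⟨fun a ha => ?_⟩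
    have : IsUnit (φ a) := by
      rw [← h]; exact (ha.map φ')
    exact hφ.map_nonunit a this
  have hg : IsLocalHom ((algebraMap R' (hd R').S).comp ρ) := by
    refine ⟨fun a ha => ?_⟩
    exact hρ.map_nonunit a ((hd R').lh.map_nonunit _ ha)
  obtain ⟨t, ht, -⟩ := (hd R).hens.universal (hd R').S ((algebraMap R' (hd R').S).comp ρ) hg
  have key : (can R' φ').comp t = can R φ := by
    apply can_unique
    rw [RingHom.comp_assoc]
    rw [ht, ← RingHom.comp_assoc, can_comp, h]
  rintro _ ⟨x, rfl⟩
  refine ⟨t x, ?_⟩
  exact congrArg (fun ψ : (hd R).S →+* A => ψ x) key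

instance nontrivial_hensImage : Nontrivial (hensImage R φ) := inferInstance

theorem henselianLocalRing_hensImage : HenselianLocalRing (hensImage R φ) := by
  haveI : HenselianLocalRing (hd R).S := (hd R).hens.henselian
  exact henselianLocalRing_of_surjective (can R φ).rangeRestrict (can R φ).rangeRestrict_surjective

theorem isLocalHom_subtype : IsLocalHom (hensImage R φ).subtype := by
  refine ⟨fun x hx => ?_⟩
  obtain ⟨x, y, rfl⟩ := x
  have hx' : IsUnit (can R φ y) := hx
  have hy : IsUnit y := (isLocalHom_can R φ).map_nonunit y hx'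
  have : (⟨can R φ y, ⟨y, rfl⟩⟩ : hensImage R φ) = (can R φ).rangeRestrict y := rfl
  rw [this]
  exact hy.map _

theorem isGRing_hensImage [IsNoetherianRing R] (hR : CAlg.IsGRing R) :
    CAlg.IsGRing (hensImage R φ) := by
  haveI := (hd R).hens
  have h1 : CAlg.IsGRing (hd R).S := Groth.Agent.S2045.result hR
  exact Groth.Agent.H23.PolyGRing.isGRing_of_surjective (hd R).S (hensImage R φ)
    (can R φ).rangeRestrict (can R φ).rangeRestrict_surjective h1

end Generic

end Groth.Agent.H13.HensImage
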