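import Mathlib
import Groth.Agent.H13.FrobTwist

/-!
# EGA IV 6.12.4: criterion for J-2
-/

set_option autoImplicit false
set_option linter.style.haveILetI false
set_option linter.unusedSectionVars false
universe u

namespace Groth.Agent.H13.J2Crit

open Groth.Agent.H13.GenReg Groth.Agent.H13.NagataCrit Groth.Agent.H13.FrobTwist

variable (A : Type u) [CommRing A] [IsNoetherianRing A]

/-- the hypothesis "every finite `A`-algebra which is a domain is generically regular" passes
to quotients of `A`. -/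
theorem forall_finite_gr_quotient
    (hb : ∀ (A' : Type u) [CommRing A'] [IsDomain A'] [Algebra A A'], Module.Finite A A' → GR A')
    (𝔭 : Ideal A) (A' : Type u) [CommRing A'] [IsDomain A'] [Algebra (A ⧸ 𝔭) A']
    (hfin : Module.Finite (A ⧸ 𝔭) A') : GR A' := by
  letI : Algebra A A' := ((algebraMap (A ⧸ 𝔭) A').comp (Ideal.Quotient.mk 𝔭)).toAlgebra
  have : IsScalarTower A (A ⧸ 𝔭) A' := IsScalarTower.of_algebraMap_eq fun _ => rfl
  have : Module.Finite A A' := Module.Finite.trans (A ⧸ 𝔭) A'
  exact hb A' this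

/-- EGA IV 6.12.4 (b) ⟹ (a). -/
theorem isJ2_of_forall_finite_gr
    (hb : ∀ (A' : Type u) [CommRing A'] [IsDomain A'] [Algebra A A'], Module.Finite A A' → GR A') :
    EGA4.IsJ2 A := by
  intro S _ _ hS
  have hNS : IsNoetherianRing S := Algebra.FiniteType.isNoetherianRing A S
  apply isOpen_regLocus_of_quotient
  intro P _
  apply exists_open_of_gr
  let 𝔭 : Ideal A := P.asIdeal.under A
  have h𝔭 : 𝔭.IsPrime := Ideal.comap_isPrime _ _
  exact gr_of_finiteType_of_injective (A ⧸ 𝔭) (forall_finite_gr_quotient A hb 𝔭) (S ⧸ P.asIdeal)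
    (FaithfulSMul.algebraMap_injective _ _)

/-- EGA IV 6.12.4. -/
theorem isJ2_iff :
    EGA4.IsJ2 A ↔
      ∀ (A' : Type u) [CommRing A'] [IsDomain A'] [Algebra A A'], Module.Finite A A' →
        ∃ U : Set (PrimeSpectrum A'), IsOpen U ∧ U.Nonempty ∧ U ⊆ EGA4.regLocus A' := by
  constructor
  · intro h A' _ _ _ hfin
    exact ⟨EGA4.regLocus A', h A' inferInstance, ⟨_, bot_mem_regLocus⟩, subset_rfl⟩
  · intro h
    exact isJ2_of_forall_finite_gr A fun A' _ _ _ hfin => gr_of_exists_open A' (h A' hfin)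

end Groth.Agent.H13.J2Crit
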