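import Mathlib
import Groth.Agent.H13.HensImage
import Groth.Agent.S9314
import Groth.Agent.H72.DedExc2
import Groth.Agent.H72.ExcellentLoc

/-!
# A henselian local ring is a direct limit of henselian local G-rings
-/

set_option autoImplicit false
set_option linter.style.haveILetI false
set_option linter.unusedSectionVars false
set_option linter.unusedVariables false
universe u

namespace Groth.Agent.H13.HensLimGRing

open IsLocalRing Groth.Agent.H13.HensImage

theorem andre : Groth.Agent.H23.PolyGRing.Andre.{u} :=
  fun hA h => Groth.Agent.S9314.result hA h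

theorem isGRing_ulift_int : CAlg.IsGRing (ULift.{u} ℤ) := by
  haveI : IsDomain (ULift.{u} ℤ) := (ULift.ringEquiv : ULift.{u} ℤ ≃+* ℤ).toMulEquiv.isDomain
  haveI : CharZero (ULift.{u} ℤ) := (ULift.ringEquiv : ULift.{u} ℤ ≃+* ℤ).toRingHom.charZero
  haveI : IsPrincipalIdealRing (ULift.{u} ℤ) :=
    IsPrincipalIdealRing.of_surjective (ULift.ringEquiv : ULift.{u} ℤ ≃+* ℤ).symm.toRingHom
      (ULift.ringEquiv : ULift.{u} ℤ ≃+* ℤ).symm.surjective
  exact Groth.Agent.H72.DedExc.isGRing_of_isDedekindDomain_charZero (ULift.{u} ℤ)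

variable (A : Type u) [CommRing A] [HenselianLocalRing A]

/-- the polynomial ring over `ℤ` on a finite set of elements of `A`. -/
abbrev P (S : Finset A) : Type u := MvPolynomial S (ULift.{u} ℤ)

/-- the structure map `ℤ → A` (lifted). -/
noncomputable def zmap : ULift.{u} ℤ →+* A :=
  (Int.castRingHom A).comp (ULift.ringEquiv : ULift.{u} ℤ ≃+* ℤ).toRingHom

/-- evaluation. -/
noncomputable def ev (S : Finset A) : P A S →+* A :=
  MvPolynomial.eval₂Hom (zmap A) (fun s => (s : A))

/-- the prime of `P S` below the maximal ideal. -/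
noncomputable def pS (S : Finset A) : Ideal (P A S) := (maximalIdeal A).comap (ev A S)

instance (S : Finset A) : (pS A S).IsPrime := Ideal.comap_isPrime _ _

/-- the localization. -/
abbrev L (S : Finset A) : Type u := Localization.AtPrime (pS A S)

theorem isGRing_P (S : Finset A) : CAlg.IsGRing (P A S) :=
  Groth.Agent.H23.PolyGRing.isGRing_of_finiteType andre (ULift.{u} ℤ) isGRing_ulift_int (P A S)

theorem isGRing_L (S : Finset A) : CAlg.IsGRing (L A S) :=
  Groth.Agent.H72.ExcellentLoc.isGRing_of_isLocalization (pS A S).primeCompl (isGRing_P A S)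

instance (S : Finset A) : IsNoetherianRing (L A S) := (isGRing_L A S).1

theorem isUnit_ev (S : Finset A) (y : (pS A S).primeCompl) : IsUnit (ev A S y) := by
  by_contra h
  exact y.2 ((IsLocalRing.mem_maximalIdeal _).mpr h)

/-- the map `L S → A`. -/
noncomputable def l (S : Finset A) : L A S →+* A :=
  IsLocalization.lift (M := (pS A S).primeCompl) (g := ev A S) (isUnit_ev A S)

theorem l_algebraMap (S : Finset A) (x : P A S) : l A S (algebraMap (P A S) (L A S) x) = ev A S x :=
  IsLocalization.lift_eq _ _

instance isLocalHom_l (S : Finset A) : IsLocalHom (l A S) := by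
  refine ⟨fun x hx => ?_⟩
  obtain ⟨a, s, rfl⟩ := IsLocalization.exists_mk'_eq (pS A S).primeCompl x
  have h1 : l A S (IsLocalization.mk' (L A S) a s) * ev A S s = ev A S a := by
    rw [← l_algebraMap, ← l_algebraMap, ← map_mul, IsLocalization.mk'_spec]
  have h2 : IsUnit (ev A S a) := by
    rw [← h1]; exact hx.mul (isUnit_ev A S s)
  have h3 : a ∈ (pS A S).primeCompl := by
    intro ha
    exact (IsLocalRing.mem_maximalIdeal _).mp ha h2
  have h4 : IsUnit (algebraMap (P A S) (L A S) a) := IsLocalization.map_units _ ⟨a, h3⟩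
  have h5 : IsLocalization.mk' (L A S) a s * algebraMap (P A S) (L A S) s =
      algebraMap (P A S) (L A S) a := IsLocalization.mk'_spec _ _ _
  have h6 : IsUnit (IsLocalization.mk' (L A S) a s * algebraMap (P A S) (L A S) s) := by
    rw [h5]; exact h4
  exact isUnit_of_mul_isUnit_left h6

/-- the henselian local G-subring attached to `S`. -/
noncomputable def G (S : Finset A) : Subring A := hensImage (L A S) (l A S)

theorem mem_G (S : Finset A) (a : A) (ha : a ∈ S) : a ∈ G A S := by
  apply range_le_hensImage (L A S) (l A S)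
  refine ⟨algebraMap (P A S) (L A S) (MvPolynomial.X ⟨a, ha⟩), ?_⟩
  rw [l_algebraMap]
  simp [ev]

/-- renaming of variables. -/
noncomputable def ren {S T : Finset A} (h : S ≤ T) : P A S →+* P A T :=
  (MvPolynomial.rename (fun s : S => (⟨s.1, h s.2⟩ : T)) :
    MvPolynomial S (ULift.{u} ℤ) →ₐ[ULift.{u} ℤ] MvPolynomial T (ULift.{u} ℤ)).toRingHom

theorem ev_ren {S T : Finset A} (h : S ≤ T) : (ev A T).comp (ren A h) = ev A S := by
  apply MvPolynomial.ringHom_ext
  · intro r
    simp [ev, ren]
  · intro i
    simp [ev, ren]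

theorem pS_eq {S T : Finset A} (h : S ≤ T) : pS A S = (pS A T).comap (ren A h) := by
  rw [pS, pS, Ideal.comap_comap, ev_ren]

theorem G_mono {S T : Finset A} (h : S ≤ T) : G A S ≤ G A T := by
  refine hensImage_mono (R' := L A T) (L A S) (l A S) (l A T)
    (Localization.localRingHom (pS A S) (pS A T) (ren A h) (pS_eq A h)) ?_
  apply IsLocalization.ringHom_ext (pS A S).primeCompl
  refine RingHom.ext fun x => ?_
  simp only [RingHom.comp_apply]
  rw [Localization.localRingHom_to_map, l_algebraMap, l_algebraMap]
  exact congrArg (fun ψ : P A S →+* A => ψ x) (ev_ren A h)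

/-- the transition maps. -/
noncomputable def tr (S T : Finset A) (h : S ≤ T) : G A S →+* G A T :=
  Subring.inclusion (G_mono A h)

instance : DirectedSystem (fun S : Finset A => G A S) (fun S T h => tr A S T h) where
  map_self S x := by ext; rfl
  map_map S T U h1 h2 x := by ext; rfl

theorem main :
    (∀ S : Finset A, HenselianLocalRing (G A S) ∧ CAlg.IsGRing (G A S)) ∧
      (∀ (S T : Finset A) (h : S ≤ T), IsLocalHom (tr A S T h)) ∧
      Nonempty (A ≃+* DirectLimit (fun S : Finset A => G A S) (tr A)) := by
  refine ⟨fun S => ⟨henselianLocalRing_hensImage _ _, isGRing_hensImage _ _ (isGRing_L A S)⟩,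
    fun S T h => ?_, ?_⟩
  · refine ⟨fun x hx => ?_⟩
    have h1 : IsUnit ((G A T).subtype (tr A S T h x)) := hx.map _
    have h2 : (G A T).subtype (tr A S T h x) = (G A S).subtype x := rfl
    rw [h2] at h1
    exact (isLocalHom_subtype (L A S) (l A S)).map_nonunit x h1
  · let Φ : DirectLimit (fun S : Finset A => G A S) (tr A) →+* A :=
      DirectLimit.Ring.lift (fun S : Finset A => G A S) (tr A) A (fun S => (G A S).subtype)
        (fun S T h x => rfl)
    have hinj : Function.Injective Φ := by
      rw [injective_iff_map_eq_zero]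
      intro x hx
      induction x using DirectLimit.induction with
      | _ S x =>
        have h1 : Φ (DirectLimit.Ring.of _ (tr A) S x) = (G A S).subtype x := rfl
        have h2 : (x : A) = 0 := by
          have : Φ (DirectLimit.Ring.of _ (tr A) S x) = 0 := hx
          rw [h1] at this
          exact this
        have h3 : x = 0 := Subtype.ext h2
        rw [h3]
        exact map_zero (DirectLimit.Ring.of (fun S : Finset A => G A S) (tr A) S)
    have hsurj : Function.Surjective Φ := by
      intro a
      refine ⟨DirectLimit.Ring.of _ (tr A) {a} ⟨a, mem_G A {a} a (Finset.mem_singleton_self a)⟩, rfl⟩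
    exact ⟨(RingEquiv.ofBijective Φ ⟨hinj, hsurj⟩).symm⟩

end Groth.Agent.H13.HensLimGRing
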