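import Mathlib
import Groth.Prelude.Def_Found
import Groth.Agent.H13.AnUnramLemma
import Groth.Agent.H13.NormalAssDVR
import Groth.Agent.H38.FieldNagata
import Groth.Agent.H38.N2Frac
import Groth.Agent.H72.FormalEquidim

/-!
# Nagata local rings are analytically unramified (Stacks 0331), relative form

For a Noetherian local ring `R` all of whose quotients by primes are N-2, and a finite `R`-algebra
`B` which is a domain, `B ⊗[R] R̂` is reduced.
-/

set_option autoImplicit false
set_option linter.style.haveILetI false
set_option linter.unusedSectionVars false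
universe u

open TensorProduct IsLocalRing

namespace Groth.Agent.H13.NagataAnUnram

variable (R : Type u) [CommRing R] [IsLocalRing R] [IsNoetherianRing R]

local notation "R̂" => AdicCompletion (maximalIdeal R) R

section BaseCase

variable (S : Type u) [CommRing S] [Algebra R S] [Module.Finite R S]

/-- a module killed by `I` is `I`-adically complete -/
theorem isAdicComplete_of_smul_top_eq_bot (I : Ideal R) (M : Type u) [AddCommGroup M] [Module R M]
    (h : I • (⊤ : Submodule R M) = ⊥) : IsAdicComplete I M := by
  have h1 : (I ^ 1 • ⊤ : Submodule R M) = ⊥ := by rw [pow_one, h]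
  refine { haus' := ?_, prec' := ?_ }
  · intro x hx
    have := hx 1
    rw [h1, SModEq.bot] at this
    exact this
  · intro f hf
    refine ⟨f 1, fun n => ?_⟩
    rcases Nat.eq_zero_or_pos n with rfl | hn
    · rw [pow_zero, Ideal.one_eq_top, Submodule.top_smul]
      exact SModEq.top
    · have := hf (m := 1) (n := n) hn
      rw [h1, SModEq.bot] at this
      rw [this]

/-- if `m S = 0` then `S → S ⊗[R] R̂` is bijective -/
theorem includeLeft_bijective_of_smul_eq_zero
    (h : ∀ a ∈ maximalIdeal R, algebraMap R S a = 0) :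
    Function.Bijective (Algebra.TensorProduct.includeLeft : S →ₐ[R] S ⊗[R] R̂) := by
  have hsm : (maximalIdeal R) • (⊤ : Submodule R S) = ⊥ := by
    rw [eq_bot_iff, Submodule.smul_le]
    intro a ha s _
    rw [Submodule.mem_bot, Algebra.smul_def, h a ha, zero_mul]
  haveI : IsAdicComplete (maximalIdeal R) S := isAdicComplete_of_smul_top_eq_bot R _ S hsm
  have hof : Function.Bijective (AdicCompletion.of (maximalIdeal R) S) :=
    AdicCompletion.of_bijective _ _
  let e := AdicCompletion.ofTensorProductEquivOfFiniteNoetherian (maximalIdeal R) S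
  have hfun : ⇑(Algebra.TensorProduct.includeLeft : S →ₐ[R] S ⊗[R] R̂) =
      ⇑(TensorProduct.comm R R̂ S) ∘ ⇑e.symm ∘ ⇑(AdicCompletion.of (maximalIdeal R) S) := by
    funext s
    simp only [Function.comp_apply, e]
    rw [AdicCompletion.ofTensorProductEquivOfFiniteNoetherian_symm_of]
    rfl
  rw [hfun]
  exact (TensorProduct.comm R R̂ S).bijective.comp (e.symm.bijective.comp hof)

theorem isReduced_tensor_of_smul_eq_zero [IsReduced S]
    (h : ∀ a ∈ maximalIdeal R, algebraMap R S a = 0) : IsReduced (S ⊗[R] R̂) := by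
  let e : S ≃+* S ⊗[R] R̂ :=
    RingEquiv.ofBijective (Algebra.TensorProduct.includeLeft : S →ₐ[R] S ⊗[R] R̂).toRingHom
      (includeLeft_bijective_of_smul_eq_zero R S h)
  exact isReduced_of_injective e.symm e.symm.injective

end BaseCase

section Inj

/-- reducedness of `S ⊗ R̂` passes to `B ⊗ R̂` for `B ↪ S` -/
theorem isReduced_tensor_of_injective (B S : Type u) [CommRing B] [CommRing S] [Algebra R B]
    [Algebra R S] (f : B →ₐ[R] S) (hf : Function.Injective f) (h : IsReduced (S ⊗[R] R̂)) :
    IsReduced (B ⊗[R] R̂) := by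
  haveI : Module.Flat R R̂ := inferInstance
  have hinj : Function.Injective (Algebra.TensorProduct.map f (AlgHom.id R R̂)) := by
    have : ⇑(Algebra.TensorProduct.map f (AlgHom.id R R̂)) = ⇑(f.toLinearMap.rTensor R̂) := by
      funext z
      induction z using TensorProduct.induction_on with
      | zero => simp
      | tmul b r => rfl
      | add x y hx hy => rw [map_add, map_add, hx, hy]
    rw [this]
    exact Module.Flat.rTensor_preserves_injective_linearMap _ hf
  exact isReduced_of_injective (Algebra.TensorProduct.map f (AlgHom.id R R̂)) hinj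

end Inj

section Step

attribute [local instance] Algebra.TensorProduct.rightAlgebra

variable (S : Type u) [CommRing S] [Algebra R S] [Module.Finite R S]

theorem isNoetherianRing_tensor : IsNoetherianRing (S ⊗[R] R̂) := by
  haveI := Groth.Agent.H72.FormalEquidim.isNoetherianRing_compl R
  have h1 : (algebraMap R̂ (S ⊗[R] R̂)).Finite :=
    RingHom.finite_isStableUnderBaseChange R S R̂ (S ⊗[R] R̂)
      (RingHom.finite_algebraMap.mpr inferInstance)
  haveI : Module.Finite R̂ (S ⊗[R] R̂) := RingHom.finite_algebraMap.mp h1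
  exact Algebra.FiniteType.isNoetherianRing R̂ (S ⊗[R] R̂)

theorem tmul_mem_jacobson (x : R) (hx : x ∈ maximalIdeal R) :
    algebraMap S (S ⊗[R] R̂) (algebraMap R S x) ∈ (⊥ : Ideal (S ⊗[R] R̂)).jacobson := by
  haveI := Groth.Agent.H72.FormalEquidim.isLocalRing_compl R
  haveI := Groth.Agent.H72.FormalEquidim.isLocalHom_compl R
  have h1 : (algebraMap R̂ (S ⊗[R] R̂)).IsIntegral :=
    RingHom.isIntegral_isStableUnderBaseChange R S R̂ (S ⊗[R] R̂)
      (algebraMap_isIntegral_iff.mpr inferInstance)
  have hxm : algebraMap R R̂ x ∈ maximalIdeal R̂ := by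
    rw [mem_maximalIdeal, mem_nonunits_iff] at hx ⊢
    intro hu
    exact hx (isUnit_of_map_unit (algebraMap R R̂) x hu)
  have heq : algebraMap S (S ⊗[R] R̂) (algebraMap R S x) =
      algebraMap R̂ (S ⊗[R] R̂) (algebraMap R R̂ x) := by
    rw [← IsScalarTower.algebraMap_apply R S (S ⊗[R] R̂),
      ← IsScalarTower.algebraMap_apply R R̂ (S ⊗[R] R̂)]
  rw [heq, Ideal.jacobson, Ideal.mem_sInf]
  rintro M ⟨-, hM⟩
  haveI := hM
  have hmax : (M.comap (algebraMap R̂ (S ⊗[R] R̂))).IsMaximal :=
    Ideal.isMaximal_comap_of_isIntegral_of_isMaximal' _ h1 M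
  have : M.comap (algebraMap R̂ (S ⊗[R] R̂)) = maximalIdeal R̂ := eq_maximalIdeal hmax
  have h2 : algebraMap R R̂ x ∈ M.comap (algebraMap R̂ (S ⊗[R] R̂)) := by rw [this]; exact hxm
  exact h2

end Step

section StepMain

variable (S : Type u) [CommRing S] [Algebra R S] [Module.Finite R S]

/-- the inductive step: for a normal finite `R`-algebra domain `S`, reducedness of
`(S ⧸ p) ⊗ R̂` for all nonzero primes `p` implies reducedness of `S ⊗ R̂`. -/
theorem isReduced_tensor_of_normal [IsDomain S] [IsIntegrallyClosed S]
    (h : ∀ (p : Ideal S) [p.IsPrime], p ≠ ⊥ → IsReduced ((S ⧸ p) ⊗[R] R̂)) :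
    IsReduced (S ⊗[R] R̂) := by
  by_cases hcase : ∀ a ∈ maximalIdeal R, algebraMap R S a = 0
  · exact isReduced_tensor_of_smul_eq_zero R S hcase
  · push Not at hcase
    obtain ⟨a, ham, ha0⟩ := hcase
    haveI : IsNoetherianRing S := Algebra.FiniteType.isNoetherianRing R S
    haveI : IsNoetherianRing (S ⊗[R] R̂) := isNoetherianRing_tensor R S
    haveI : Module.Flat R R̂ := inferInstance
    haveI : Module.Flat S (S ⊗[R] R̂) := inferInstance
    refine Groth.Agent.H13.AnUnramLemma.isReduced_of_flat (R := S) (S := S ⊗[R] R̂)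
      (algebraMap R S a) ha0 (tmul_mem_jacobson R S a ham) ?_
    intro p hp hpp
    refine ⟨Groth.Agent.H13.NormalAssDVR.isDiscreteValuationRing_atPrime S (algebraMap R S a) ha0
      p hp, ?_⟩
    have hpne : p ≠ ⊥ := by
      rintro rfl
      obtain ⟨-, ybar, hy⟩ := (isAssociatedPrime_iff (M := S ⧸ Ideal.span {algebraMap R S a})).mp hp
      have hmem : algebraMap R S a ∈ (⊥ : Ideal S) := by
        rw [hy, Submodule.mem_colon_singleton, Submodule.mem_bot]
        obtain ⟨y, rfl⟩ := Ideal.Quotient.mk_surjective ybar
        change Ideal.Quotient.mk _ (algebraMap R S a * y) = 0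
        rw [Ideal.Quotient.eq_zero_iff_mem]
        exact Ideal.mul_mem_right _ _ (Ideal.mem_span_singleton_self _)
      exact ha0 hmem
    have hred := h p hpne
    let e := Algebra.TensorProduct.quotientTensorEquiv (R := R) R R̂ S p
    exact isReduced_of_injective e.symm.toRingEquiv e.symm.injective

end StepMain

section Main

/-- auxiliary form of the main theorem, by Noetherian induction on the kernel of `R → B` -/
theorem isReduced_tensor_aux (hN : ∀ (p : Ideal R) [p.IsPrime], CAlg.IsN2 (R ⧸ p)) :
    ∀ (I : Ideal R) (B : Type u) [CommRing B] [IsDomain B] [Algebra R B] [Module.Finite R B],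
      RingHom.ker (algebraMap R B) = I → IsReduced (B ⊗[R] R̂) := by
  intro I
  induction I using WellFoundedGT.induction with
  | ind I ih =>
    intro B _ _ _ _ hker
    haveI hIp : I.IsPrime := hker ▸ RingHom.ker_isPrime (algebraMap R B)
    -- `B` is a finite injective extension of `D = R ⧸ I`
    have hlift : ∀ a : R, a ∈ I → algebraMap R B a = 0 := fun a ha => by
      rw [← hker] at ha; exact ha
    letI : Algebra (R ⧸ I) B := (Ideal.Quotient.lift I (algebraMap R B) hlift).toAlgebra
    haveI : IsScalarTower R (R ⧸ I) B := IsScalarTower.of_algebraMap_eq (fun _ => rfl)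
    haveI : Module.Finite (R ⧸ I) B := Module.Finite.of_restrictScalars_finite R (R ⧸ I) B
    have hinjDB : Function.Injective (algebraMap (R ⧸ I) B) :=
      RingHom.lift_injective_of_ker_le_ideal I hlift hker.le
    haveI : FaithfulSMul (R ⧸ I) B := (faithfulSMul_iff_algebraMap_injective _ _).mpr hinjDB
    have hB2 : CAlg.IsN2 B :=
      Groth.Agent.H38.FieldNagata.isN2_of_finite_injective (R := R ⧸ I) (hN I)
    -- the normalization
    let S := integralClosure B (FractionRing B)
    haveI : Module.Finite B S :=
      Groth.Agent.H38.finite_integralClosure_of_isN2 B (FractionRing B) hB2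
    haveI : IsScalarTower R B S := inferInstance
    haveI : Module.Finite R S := Module.Finite.trans B S
    haveI : IsIntegrallyClosed S :=
      integralClosure.isIntegrallyClosedOfFiniteExtension (FractionRing B)
    have hinjBS : Function.Injective (algebraMap B S) := by
      intro x y hxy
      have := congrArg (algebraMap S (FractionRing B)) hxy
      rw [← IsScalarTower.algebraMap_apply, ← IsScalarTower.algebraMap_apply] at this
      exact IsFractionRing.injective B (FractionRing B) this
    refine isReduced_tensor_of_injective R B S (IsScalarTower.toAlgHom R B S) hinjBS ?_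
    refine isReduced_tensor_of_normal R S ?_
    intro p _ hpne
    -- the kernel of `R → S ⧸ p` is strictly bigger than `I`
    refine ih (RingHom.ker (algebraMap R (S ⧸ p))) ?_ (S ⧸ p) rfl
    letI : Algebra (R ⧸ I) S := ((algebraMap B S).comp (algebraMap (R ⧸ I) B)).toAlgebra
    haveI : IsScalarTower (R ⧸ I) B S := IsScalarTower.of_algebraMap_eq (fun _ => rfl)
    haveI : Algebra.IsIntegral (R ⧸ I) B := Algebra.IsIntegral.of_finite _ _
    haveI : Algebra.IsIntegral B S := Algebra.IsIntegral.of_finite _ _
    haveI : Algebra.IsIntegral (R ⧸ I) S := Algebra.IsIntegral.trans (R := R ⧸ I) (B := S) B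
    have hcomap : p.comap (algebraMap (R ⧸ I) S) ≠ ⊥ := fun h0 =>
      hpne (Ideal.eq_bot_of_comap_eq_bot h0)
    obtain ⟨d, hdp, hd0⟩ := Submodule.exists_mem_ne_zero_of_ne_bot hcomap
    obtain ⟨a, rfl⟩ := Ideal.Quotient.mk_surjective d
    have haI : a ∉ I := fun haI => hd0 (Ideal.Quotient.eq_zero_iff_mem.mpr haI)
    have hak : a ∈ RingHom.ker (algebraMap R (S ⧸ p)) := by
      rw [RingHom.mem_ker, IsScalarTower.algebraMap_apply R S (S ⧸ p), Ideal.Quotient.algebraMap_eq,
        Ideal.Quotient.eq_zero_iff_mem]
      exact hdp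
    refine lt_of_le_of_ne ?_ (fun heq => haI (heq ▸ hak))
    intro b hb
    rw [RingHom.mem_ker, IsScalarTower.algebraMap_apply R S (S ⧸ p),
      IsScalarTower.algebraMap_apply R B S, hlift b hb, map_zero, map_zero]

/-- **Main theorem.** `R` Noetherian local with all `R ⧸ p` N-2; `B` a finite `R`-algebra which is
a domain. Then `B ⊗[R] R̂` is reduced. -/
theorem isReduced_tensor_of_isDomain (hN : ∀ (p : Ideal R) [p.IsPrime], CAlg.IsN2 (R ⧸ p))
    (B : Type u) [CommRing B] [IsDomain B] [Algebra R B] [Module.Finite R B] :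
    IsReduced (B ⊗[R] R̂) :=
  isReduced_tensor_aux R hN _ B rfl

end Main

end Groth.Agent.H13.NagataAnUnram
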