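import Mathlib
import Groth.Prelude.Def_Found
import Groth.Prelude.Def_EGA4b
import Groth.Agent.S2647
import Groth.Agent.S2648
import Groth.Agent.H13.LocalNagata

/-!
# A Noetherian local ring is Nagata iff its formal fibres are geometrically reduced
-/

set_option autoImplicit false
set_option linter.style.haveILetI false
universe u

namespace Groth.Agent.H13.NagataGRFF

/-- A Nagata local ring has geometrically reduced formal fibres. -/
theorem hasGeomReducedFormalFibres_of_isNagata (A : Type u) [CommRing A] [IsLocalRing A]
    (hA : CAlg.IsNagata A) : EGA4.HasGeomReducedFormalFibres A := by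
  haveI : IsNoetherianRing A := hA.1
  refine (Groth.Agent.S2648.result A).mp ?_
  intro C _ _ hfin hred
  haveI := hfin
  haveI := hred
  exact Groth.Agent.S2647.result A hA.2 C

/-- A Noetherian local ring is Nagata iff its formal fibres are geometrically reduced. -/
theorem isNagata_iff_hasGeomReducedFormalFibres (A : Type u) [CommRing A] [IsLocalRing A]
    [IsNoetherianRing A] : CAlg.IsNagata A ↔ EGA4.HasGeomReducedFormalFibres A :=
  ⟨hasGeomReducedFormalFibres_of_isNagata A,
    Groth.Agent.H13.LocalNagata.isNagata_of_hasGeomReducedFormalFibres A⟩

end Groth.Agent.H13.NagataGRFF
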