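import Mathlib
import Groth.Agent.H3.UnionEtale
import Groth.Agent.H10.EtaleRetract

/-!
# Changing the base of a tensor product along a union of étale algebras

Let `S` be an `R`-algebra which is a union of images of étale `R`-algebras (e.g. a henselization),
`L` a field over `S` and `N` an `S`-algebra.  Then `L ⊗[S] N` is the quotient of `L ⊗[R] N` by an
ideal each of whose elements is absorbed by an idempotent of the ideal; in particular `L ⊗[S] N`
is reduced as soon as `L ⊗[R] N` is.
-/

set_option autoImplicit false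
set_option linter.style.haveILetI false
set_option linter.unusedSectionVars false
universe u

open TensorProduct

namespace Groth.Agent.H13.UnionTensorRed

variable {R S : Type u} [CommRing R] [CommRing S] [Algebra R S]
  (L : Type u) [Field L] [Algebra S L] [Algebra R L] [IsScalarTower R S L]
  (N : Type u) [CommRing N] [Algebra S N] [Algebra R N] [IsScalarTower R S N]

variable (R S) in
/-- the canonical surjection `L ⊗[R] N → L ⊗[S] N` -/
noncomputable abbrev proj : L ⊗[R] N →ₐ[R] L ⊗[S] N :=
  Algebra.TensorProduct.mapOfCompatibleSMul S R R L N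

variable (R) in
/-- the element `(s • 1) ⊗ 1 - 1 ⊗ (s • 1)` -/
noncomputable def delta (s : S) : L ⊗[R] N :=
  (algebraMap S L s) ⊗ₜ[R] (1 : N) - (1 : L) ⊗ₜ[R] (algebraMap S N s)

/-- Each `delta s` is absorbed by an idempotent in the kernel. -/
theorem exists_idempotent_delta (hU : Groth.Agent.H3.UnionEtale.IsUnion R S) (s : S) :
    ∃ e : L ⊗[R] N, IsIdempotentElem e ∧ proj R S L N e = 0 ∧ e * delta R L N s = delta R L N s := by
  obtain ⟨A', _, _, hEt, φ, hφ⟩ := hU s
  obtain ⟨a', ha'⟩ := hφ (Set.mem_singleton s)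
  haveI := hEt
  let χ : A' →ₐ[R] L := (IsScalarTower.toAlgHom R S L).comp φ
  let ν : A' →ₐ[R] N := (IsScalarTower.toAlgHom R S N).comp φ
  let ρ : L ⊗[R] A' →ₐ[L] L :=
    Algebra.TensorProduct.lift (AlgHom.id L L) χ (fun _ _ => Commute.all _ _)
  let θ : L ⊗[R] A' →ₐ[L] L ⊗[R] N := Algebra.TensorProduct.map (AlgHom.id L L) ν
  obtain ⟨e', he', hker⟩ := Groth.Agent.H10.exists_idempotent_ker_of_retraction ρ
  let w : L ⊗[R] A' := (1 : L) ⊗ₜ[R] a' - (χ a') ⊗ₜ[R] (1 : A')
  have hw : w ∈ RingHom.ker ρ.toRingHom := by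
    rw [RingHom.mem_ker]
    change ρ w = 0
    simp only [w, map_sub, ρ, Algebra.TensorProduct.lift_tmul, AlgHom.coe_id, id_eq, map_one,
      one_mul, mul_one, sub_self]
  have hew : e' * w = w := by
    rw [hker, Ideal.mem_span_singleton'] at hw
    obtain ⟨c, hc⟩ := hw
    rw [← hc, mul_comm c e', ← mul_assoc, he'.eq]
  have hθw : θ w = - delta R L N s := by
    simp only [w, map_sub, θ, Algebra.TensorProduct.map_tmul, AlgHom.coe_id, id_eq, map_one, delta]
    have h1 : ν a' = algebraMap S N s := by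
      change algebraMap S N (φ a') = _
      rw [ha']
    have h2 : χ a' = algebraMap S L s := by
      change algebraMap S L (φ a') = _
      rw [ha']
    rw [h1, h2]
    ring
  refine ⟨θ e', he'.map θ, ?_, ?_⟩
  · -- `proj ∘ θ = includeLeft ∘ ρ`
    have hcomp : ((proj R S L N).toRingHom.comp θ.toRingHom) =
        (Algebra.TensorProduct.includeLeft : L →ₐ[S] L ⊗[S] N).toRingHom.comp ρ.toRingHom := by
      let f₁ : L ⊗[R] A' →ₐ[R] L ⊗[S] N := (proj R S L N).comp (θ.restrictScalars R)
      let f₂ : L ⊗[R] A' →ₐ[R] L ⊗[S] N :=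
        ((Algebra.TensorProduct.includeLeft : L →ₐ[S] L ⊗[S] N).restrictScalars R).comp
          (ρ.restrictScalars R)
      have h12 : f₁ = f₂ := by
        apply Algebra.TensorProduct.ext
        · ext l
          simp [f₁, f₂, θ, ρ, proj]
        · ext a''
          simp only [f₁, f₂, θ, ρ, proj, AlgHom.coe_comp, AlgHom.coe_restrictScalars',
            Function.comp_apply, Algebra.TensorProduct.includeRight_apply,
            Algebra.TensorProduct.map_tmul, AlgHom.coe_id, id_eq,
            Algebra.TensorProduct.mapOfCompatibleSMul_tmul, Algebra.TensorProduct.lift_tmul,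
            one_mul, Algebra.TensorProduct.includeLeft_apply]
          change (1 : L) ⊗ₜ[S] (algebraMap S N (φ a'')) = (algebraMap S L (φ a'')) ⊗ₜ[S] (1 : N)
          rw [Algebra.algebraMap_eq_smul_one, Algebra.algebraMap_eq_smul_one,
            TensorProduct.smul_tmul]
      refine RingHom.ext fun x => ?_
      exact congrArg (fun f : L ⊗[R] A' →ₐ[R] L ⊗[S] N => f x) h12
    have := congrArg (fun f : L ⊗[R] A' →+* L ⊗[S] N => f e') hcomp
    simp only [RingHom.comp_apply] at this
    have he'ker : ρ.toRingHom e' = 0 := by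
      have : e' ∈ RingHom.ker ρ.toRingHom := by
        rw [hker]; exact Ideal.mem_span_singleton_self e'
      exact this
    rw [he'ker, map_zero] at this
    exact this
  · have h3 : θ e' * θ w = θ w := by rw [← map_mul, hew]
    rw [hθw, mul_neg, neg_inj] at h3
    exact h3

/-- Every element of the kernel of `L ⊗[R] N → L ⊗[S] N` is absorbed by an idempotent of the
kernel. -/
theorem exists_idempotent_of_mem_ker (hU : Groth.Agent.H3.UnionEtale.IsUnion R S)
    (z : L ⊗[R] N) (hz : proj R S L N z = 0) :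
    ∃ e : L ⊗[R] N, IsIdempotentElem e ∧ proj R S L N e = 0 ∧ e * z = z := by
  have hzker : z ∈ LinearMap.ker (TensorProduct.mapOfCompatibleSMul S R S L N) := by
    rw [LinearMap.mem_ker]
    exact hz
  rw [TensorProduct.AlgebraTensorModule.ker_mapOfCompatibleSMul] at hzker
  clear hz
  induction hzker using Submodule.span_induction with
  | mem x hx =>
    obtain ⟨a, m, n, rfl⟩ := hx
    obtain ⟨e, he, hpe, hed⟩ := exists_idempotent_delta L N hU a
    refine ⟨e, he, hpe, ?_⟩
    have hx : (a • m) ⊗ₜ[R] n - m ⊗ₜ[R] (a • n) = (m ⊗ₜ[R] n) * delta R L N a := by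
      rw [delta, mul_sub, Algebra.TensorProduct.tmul_mul_tmul, Algebra.TensorProduct.tmul_mul_tmul,
        mul_one, mul_one, Algebra.smul_def, Algebra.smul_def, mul_comm m, mul_comm n]
    rw [hx, mul_left_comm, hed]
  | zero => exact ⟨0, IsIdempotentElem.zero, map_zero _, mul_zero _⟩
  | add x y _ _ hx hy =>
    obtain ⟨e₁, he₁, hp₁, hx₁⟩ := hx
    obtain ⟨e₂, he₂, hp₂, hy₂⟩ := hy
    refine ⟨1 - (1 - e₁) * (1 - e₂), (he₁.one_sub.mul he₂.one_sub).one_sub, ?_, ?_⟩
    · rw [map_sub, map_mul, map_sub, map_sub, map_one, hp₁, hp₂]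
      ring
    · have h1 : (1 - e₁) * x = 0 := by rw [sub_mul, one_mul, hx₁, sub_self]
      have h2 : (1 - e₂) * y = 0 := by rw [sub_mul, one_mul, hy₂, sub_self]
      have : (1 - (1 - e₁) * (1 - e₂)) * (x + y) =
          x + y - ((1 - e₂) * ((1 - e₁) * x) + (1 - e₁) * ((1 - e₂) * y)) := by ring
      rw [this, h1, h2, mul_zero, mul_zero, add_zero, sub_zero]
  | smul a x _ hx =>
    obtain ⟨e, he, hpe, hex⟩ := hx
    exact ⟨e, he, hpe, by rw [mul_smul_comm, hex]⟩

/-- **Reducedness passes from `L ⊗[R] N` to `L ⊗[S] N`** when `S` is a union of étale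
`R`-algebras. -/
theorem isReduced_tensor (hU : Groth.Agent.H3.UnionEtale.IsUnion R S)
    (h : IsReduced (L ⊗[R] N)) : IsReduced (L ⊗[S] N) := by
  refine ⟨fun y hy => ?_⟩
  obtain ⟨n, hn⟩ := hy
  obtain ⟨z, rfl⟩ := Algebra.TensorProduct.mapOfCompatibleSMul_surjective S R R L N y
  have hz : proj R S L N (z ^ (n + 1)) = 0 := by
    rw [map_pow, pow_succ]
    change (proj R S L N z) ^ n * _ = 0
    rw [hn, zero_mul]
  obtain ⟨e, he, hpe, hez⟩ := exists_idempotent_of_mem_ker L N hU _ hz
  have hnil : ((1 - e) * z) ^ (n + 1) = 0 := by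
    rw [mul_pow, he.one_sub.pow_succ_eq, sub_mul, one_mul, hez, sub_self]
  have h0 : (1 - e) * z = 0 := h.eq_zero _ ⟨n + 1, hnil⟩
  have hze : z = e * z := by
    have : z - e * z = 0 := by rw [← h0]; ring
    exact sub_eq_zero.mp this
  change proj R S L N z = 0
  rw [hze, map_mul, hpe, zero_mul]

end Groth.Agent.H13.UnionTensorRed
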