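import Mathlib
import Groth.Prelude.Def_Found
import Groth.Prelude.Def_EGA4b
import Groth.Prelude.Def_Hensel
import Groth.Agent.H13.UnionTensorRed
import Groth.Agent.H13.NagataGRFF
import Groth.Agent.H13.AlgClosedTensor
import Groth.Agent.H13.CompleteNagata
import Groth.Agent.H13.NagataDescent
import Groth.Agent.H14.HensProp.Small
import Groth.Agent.H14.HensProp.Reduced
import Groth.Agent.H14.HensProp.HensComplBranch
import Groth.Agent.H78.HensCompl.Basic
import Groth.Agent.H3.HensIntegralBC2
import Groth.Agent.H26.RegHomBaseChange
import Groth.Agent.H26.FormalFibreFinite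

/-!
# The henselization of a Noetherian local ring is Nagata iff the ring is
-/

set_option autoImplicit false
set_option linter.style.haveILetI false
set_option linter.unusedSectionVars false
universe u

open TensorProduct IsLocalRing

namespace Groth.Agent.H13.HensNagata

/-- **Generic descent.** `A` Noetherian, `C` a faithfully flat Nagata `A`-algebra such that
`C ⊗_A Frac B` is reduced for every finite `A`-algebra `B` which is a domain.  Then `A` is Nagata. -/
theorem isNagata_of_faithfullyFlat (A C : Type u) [CommRing A] [IsNoetherianRing A] [CommRing C]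
    [Algebra A C] [Module.FaithfullyFlat A C] (hC : CAlg.IsNagata C)
    (hred : ∀ (B : Type u) [CommRing B] [IsDomain B] [Algebra A B] [Module.Finite A B],
      IsReduced (C ⊗[A] FractionRing B)) : CAlg.IsNagata A := by
  refine ⟨inferInstance, fun p hp => ?_⟩
  intro L _ _ _ _ hfd
  haveI := hfd
  obtain ⟨S', -, hfin, hfrac⟩ :=
    Groth.Agent.H47.exists_finite_subalgebra_isFractionRing (A ⧸ p) (FractionRing (A ⧸ p)) L
  haveI := hfin
  haveI := hfrac
  letI : Algebra A L := ((algebraMap (A ⧸ p) L).comp (algebraMap A (A ⧸ p))).toAlgebra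
  haveI : IsScalarTower A (A ⧸ p) L := IsScalarTower.of_algebraMap_eq (fun _ => rfl)
  haveI : IsScalarTower A (A ⧸ p) S' := inferInstance
  haveI : Module.Finite A S' := Module.Finite.trans (A ⧸ p) S'
  have hN1 : CAlg.IsN1 S' :=
    Groth.Agent.H13.NagataDescent.isN1_of_faithfullyFlat_nagata A C S' hC (hred S')
  exact Groth.Agent.H47.finite_integralClosure_of_subalgebra S' hN1

set_option backward.isDefEq.respectTransparency false in
/-- For a local ring with geometrically reduced formal fibres, `L ⊗ Â` is reduced for every field
`L` over it. -/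
theorem isReduced_field_tensor_cpl (R : Type u) [CommRing R] [IsLocalRing R]
    (hR : EGA4.HasGeomReducedFormalFibres R) (L : Type u) [Field L] [Algebra R L] :
    IsReduced (L ⊗[R] AdicCompletion (maximalIdeal R) R) := by
  obtain ⟨p, hp, alg, tower⟩ :=
    Groth.Agent.H26.RegHomBaseChange.exists_residueField_algebra' (R := R) L
  haveI hgr : Algebra.IsGeometricallyReduced p.ResidueField
      (p.Fiber (AdicCompletion (maximalIdeal R) R)) := hR p
  have hred : IsReduced (L ⊗[p.ResidueField] (p.Fiber (AdicCompletion (maximalIdeal R) R))) :=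
    Groth.Agent.H13.isReduced_tensorProduct_of_isGeometricallyReduced p.ResidueField _ L
  exact Groth.Agent.H26.FormalFibreFinite.isReduced_of_ringEquiv'
    (X := L ⊗[p.ResidueField] (p.Fiber (AdicCompletion (maximalIdeal R) R)))
    (Y := L ⊗[R] (AdicCompletion (maximalIdeal R) R))
    (Groth.Agent.H26.RegHomDescent.tensorFiberEquiv R (AdicCompletion (maximalIdeal R) R) L p).symm
    hred

variable (R S : Type u) [CommRing R] [IsLocalRing R] [IsNoetherianRing R]
  [CommRing S] [IsLocalRing S] [Algebra R S] [IsLocalHom (algebraMap R S)]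
  [Hensel.IsHenselization R S]

/-- The henselization of a Nagata local ring is Nagata. -/
theorem isNagata_henselization (hR : CAlg.IsNagata R) : CAlg.IsNagata S := by
  have hH : Hensel.IsHenselization R S := inferInstance
  obtain ⟨hSN, hflat, hmax⟩ := Groth.Agent.H14.HensProp.hens_basic R S
  haveI := hSN
  haveI := Groth.Agent.H72.FormalEquidim.isLocalRing_compl R
  haveI := Groth.Agent.H72.FormalEquidim.isNoetherianRing_compl R
  haveI := Groth.Agent.H72.FormalEquidim.isLocalHom_compl R
  haveI hHL : HenselianLocalRing (AdicCompletion (maximalIdeal R) R) :=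
    Groth.Agent.H14.HensProp.HensComplBranch.henselianLocalRing_compl R
  obtain ⟨ψ, hψ, -⟩ := hH.universal (AdicCompletion (maximalIdeal R) R)
    (algebraMap R (AdicCompletion (maximalIdeal R) R)) inferInstance
  obtain ⟨hψflat, hψloc⟩ := Groth.Agent.H78.HensCompl.flat_and_isLocalHom R S ψ hψ
  letI : Algebra S (AdicCompletion (maximalIdeal R) R) := ψ.toAlgebra
  haveI : IsScalarTower R S (AdicCompletion (maximalIdeal R) R) :=
    IsScalarTower.of_algebraMap_eq fun x => by
      have := congrArg (fun f : R →+* AdicCompletion (maximalIdeal R) R => f x) hψ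
      exact this.symm
  haveI : Module.Flat S (AdicCompletion (maximalIdeal R) R) := hψflat
  haveI : IsLocalHom (algebraMap S (AdicCompletion (maximalIdeal R) R)) := hψloc
  haveI : Module.FaithfullyFlat S (AdicCompletion (maximalIdeal R) R) :=
    Module.FaithfullyFlat.of_flat_of_isLocalHom
  haveI : IsAdicComplete (maximalIdeal (AdicCompletion (maximalIdeal R) R))
      (AdicCompletion (maximalIdeal R) R) :=
    AdicCompletion.isAdicComplete_of_fg (maximalIdeal R).fg_of_isNoetherianRing
  have hC : CAlg.IsNagata (AdicCompletion (maximalIdeal R) R) :=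
    Groth.Agent.H13.CompleteNagata.isNagata_of_complete_local _
  have hGR : EGA4.HasGeomReducedFormalFibres R :=
    Groth.Agent.H13.NagataGRFF.hasGeomReducedFormalFibres_of_isNagata R hR
  have hU : Groth.Agent.H3.UnionEtale.IsUnion R S :=
    (Groth.Agent.H3.HensUnion.package (Or.inl hH)).1
  refine isNagata_of_faithfullyFlat S (AdicCompletion (maximalIdeal R) R) hC ?_
  intro T _ _ _ _
  letI : Algebra R (FractionRing T) :=
    ((algebraMap S (FractionRing T)).comp (algebraMap R S)).toAlgebra
  haveI : IsScalarTower R S (FractionRing T) := IsScalarTower.of_algebraMap_eq (fun _ => rfl)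
  have h1 : IsReduced (FractionRing T ⊗[R] AdicCompletion (maximalIdeal R) R) :=
    isReduced_field_tensor_cpl R hGR (FractionRing T)
  have h2 : IsReduced (FractionRing T ⊗[S] AdicCompletion (maximalIdeal R) R) :=
    Groth.Agent.H13.UnionTensorRed.isReduced_tensor (FractionRing T)
      (AdicCompletion (maximalIdeal R) R) hU h1
  exact isReduced_of_injective
    (Algebra.TensorProduct.comm S (AdicCompletion (maximalIdeal R) R) (FractionRing T)).toRingHom
    (Algebra.TensorProduct.comm S (AdicCompletion (maximalIdeal R) R) (FractionRing T)).injective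

/-- If the henselization of a Noetherian local ring is Nagata, so is the ring. -/
theorem isNagata_of_henselization (hS : CAlg.IsNagata S) : CAlg.IsNagata R := by
  have hH : Hensel.IsHenselization R S := inferInstance
  obtain ⟨hSN, hflat, hmax⟩ := Groth.Agent.H14.HensProp.hens_basic R S
  haveI := hflat
  haveI : Module.FaithfullyFlat R S := Module.FaithfullyFlat.of_flat_of_isLocalHom
  have hP := Groth.Agent.H3.HensIso.isPairHenselization_of_isHenselization hH
  refine isNagata_of_faithfullyFlat R S hS ?_
  intro B _ _ _ _
  haveI : Algebra.IsIntegral R B := Algebra.IsIntegral.of_finite R B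
  have hPB : Hens2.IsPairHenselization B ((maximalIdeal R).map (algebraMap R B)) (B ⊗[R] S) :=
    Groth.Agent.H3.HensIntegralBC.isPairHenselization_tensor (maximalIdeal R)
      ((maximalIdeal R).map (algebraMap R B)) le_rfl rfl hP
  haveI : IsReduced (B ⊗[R] S) :=
    Groth.Agent.H14.HensProp.isReduced_of_isPairHenselization hPB
  haveI : IsLocalization (Algebra.algebraMapSubmonoid (B ⊗[R] S) (nonZeroDivisors B))
      ((B ⊗[R] S) ⊗[B] FractionRing B) :=
    IsLocalization.tensor (FractionRing B) (nonZeroDivisors B)
  have h1 : IsReduced ((B ⊗[R] S) ⊗[B] FractionRing B) :=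
    isReduced_localizationPreserves
      (Algebra.algebraMapSubmonoid (B ⊗[R] S) (nonZeroDivisors B)) _ inferInstance
  let e1 := (Algebra.TensorProduct.comm B (B ⊗[R] S) (FractionRing B)).toRingEquiv
  let e2 := (Algebra.TensorProduct.cancelBaseChange R B B (FractionRing B) S).toRingEquiv
  let e3 := (Algebra.TensorProduct.comm R (FractionRing B) S).toRingEquiv
  let e : (B ⊗[R] S) ⊗[B] FractionRing B ≃+* S ⊗[R] FractionRing B := (e1.trans e2).trans e3
  exact isReduced_of_injective e.symm.toRingHom e.symm.injective

end Groth.Agent.H13.HensNagata
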