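import Mathlib
import Groth.Agent.H17.QF.MvPolyIC

/-!
# A horizontal element stays horizontal (helper13, for S1404)

`A ⊆ B` local domains, `B` essentially of finite type over `A`, `g ∈ m_B` in no minimal prime of
`m_A B`, and `dim (B / m_A B) + trdeg κ(B)/κ(A) = trdeg B/A`.  Then `A → B / g B` is injective.

Strategy: parameters `g = x₀, x₁, …, x_n` of `B / m_A B` and lifts `y_j` of a transcendence basis of
`κ(B)/κ(A)` give `P = A[X, Y] → B` which is quasi-finite at `m_B`; Zariski's main theorem shows that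
`B` is a localisation of the integral closure `C₁` of `P` in `B`; counting transcendence degrees,
`P → B` is injective; going-down over the normalisation of `P` produces a prime `Q ⊆ m_B ∩ C₁`
with `g ∈ Q` and `Q ∩ A = 0`.
-/

set_option autoImplicit false
set_option linter.style.haveILetI false
universe u

namespace Groth.Agent.H13.HorizElt

open IsLocalRing

/-- If `r` lies in no minimal prime of `R`, then `dim R/(r) + 1 ≤ dim R`. -/
lemma ringKrullDim_quotient_succ_le_of_notMem_minimalPrimes {R : Type*} [CommRing R]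
    {r : R} (hr : ∀ p ∈ minimalPrimes R, r ∉ p) :
    ringKrullDim (R ⧸ Ideal.span {r}) + 1 ≤ ringKrullDim R := by
  by_cases hr' : Ideal.span {r} = ⊤
  · rw [hr', ringKrullDim_eq_bot_of_subsingleton]
    simp
  have : Nonempty (PrimeSpectrum.zeroLocus (R := R) (Ideal.span {r})) := by
    rwa [Set.nonempty_coe_sort, Set.nonempty_iff_ne_empty, ne_eq,
      PrimeSpectrum.zeroLocus_empty_iff_eq_top]
  have := Ideal.Quotient.nontrivial_iff.mpr hr'
  have := (Ideal.Quotient.mk (Ideal.span {r})).domain_nontrivial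
  rw [ringKrullDim_quotient, Order.krullDim_eq_iSup_length, ringKrullDim,
    Order.krullDim_eq_iSup_length, ← WithBot.coe_one, ← WithBot.coe_add,
    ENat.iSup_add, WithBot.coe_le_coe, iSup_le_iff]
  intro l
  obtain ⟨p, hp, hp'⟩ := Ideal.exists_minimalPrimes_le (J := l.head.1.asIdeal) bot_le
  let p' : PrimeSpectrum R := ⟨p, hp.1.1⟩
  have hp' : p' < l.head := lt_of_le_of_ne hp' fun h ↦ hr p hp
    (show r ∈ p by simpa [← h] using l.head.2)
  refine le_trans ?_ (le_iSup _ ((l.map Subtype.val (fun _ _ ↦ id)).cons p' hp'))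
  simp

/-- transfer of "is the maximal ideal" along a surjection of local rings -/
lemma eq_maximalIdeal_of_map_eq {R S : Type*} [CommRing R] [CommRing S] [IsLocalRing R]
    [IsLocalRing S] (f : R →+* S) (hf : Function.Surjective f) (𝔮 : Ideal R)
    (hker : RingHom.ker f ≤ 𝔮) (h : 𝔮.map f = maximalIdeal S) : 𝔮 = maximalIdeal R := by
  have h1 : (𝔮.map f).comap f = 𝔮 := by
    rw [Ideal.comap_map_of_surjective f hf, ← RingHom.ker_eq_comap_bot, sup_eq_left]
    exact hker
  have : IsLocalHom f := .of_surjective f hf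
  rw [← h1, h]
  exact ((IsLocalRing.local_hom_TFAE f).out 0 4).mp this

theorem exists_params (R : Type*) [CommRing R] [IsNoetherianRing R] [IsLocalRing R] (g : R)
    (hg : g ∈ maximalIdeal R) (hmin : ∀ q ∈ minimalPrimes R, g ∉ q) (d : ℕ)
    (hd : ringKrullDim R = d) :
    ∃ (n : ℕ) (x : Fin n → R), n + 1 ≤ d ∧ (∀ i, x i ∈ maximalIdeal R) ∧
      ∀ 𝔮 : Ideal R, 𝔮.IsPrime → g ∈ 𝔮 → (∀ i, x i ∈ 𝔮) → 𝔮 = maximalIdeal R := by
  classical
  let R' := R ⧸ Ideal.span {g}
  let π : R →+* R' := Ideal.Quotient.mk _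
  have hπ : Function.Surjective π := Ideal.Quotient.mk_surjective
  have hne : Ideal.span {g} ≠ ⊤ := by
    intro h
    have : Ideal.span {g} ≤ maximalIdeal R := (Ideal.span_singleton_le_iff_mem _).mpr hg
    rw [h] at this
    exact (maximalIdeal.isMaximal R).ne_top (top_le_iff.mp this)
  have : Nontrivial R' := Ideal.Quotient.nontrivial_iff.mpr hne
  have : IsLocalRing R' := IsLocalRing.of_surjective' π hπ
  obtain ⟨s, hs, hcard⟩ :=
    Ideal.exists_finset_card_eq_height_of_isNoetherianRing (maximalIdeal R')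
  have hdim : ringKrullDim R' + 1 ≤ d := hd ▸ ringKrullDim_quotient_succ_le_of_notMem_minimalPrimes hmin
  rw [← IsLocalRing.maximalIdeal_height_eq_ringKrullDim, ← hcard] at hdim
  have hn : s.card + 1 ≤ d := by exact_mod_cast hdim
  let x' : Fin s.card → R' := fun i => (s.equivFin.symm i).1
  have hx'mem : ∀ i, x' i ∈ s := fun i => (s.equivFin.symm i).2
  have hx'surj : ∀ y ∈ s, ∃ i, x' i = y := fun y hy =>
    ⟨s.equivFin ⟨y, hy⟩, by simp [x']⟩
  choose x hx using fun i => hπ (x' i)
  have hsle : Ideal.span (s : Set R') ≤ maximalIdeal R' := hs.1.2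
  refine ⟨s.card, x, hn, fun i => ?_, fun 𝔮 h𝔮 hg𝔮 hx𝔮 => ?_⟩
  · by_contra hni
    have hu : IsUnit (x i) := by
      rwa [mem_maximalIdeal, mem_nonunits_iff, not_not] at hni
    have : IsUnit (x' i) := hx i ▸ hu.map π
    exact (mem_maximalIdeal _).mp (hsle (Ideal.subset_span (hx'mem i))) this
  · have hker : RingHom.ker π ≤ 𝔮 := by
      rw [Ideal.mk_ker]
      exact (Ideal.span_singleton_le_iff_mem _).mpr hg𝔮
    apply eq_maximalIdeal_of_map_eq π hπ 𝔮 hker
    have hprime : (𝔮.map π).IsPrime := Ideal.map_isPrime_of_surjective hπ hker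
    have hle : Ideal.span (s : Set R') ≤ 𝔮.map π := by
      rw [Ideal.span_le]
      intro y hy
      obtain ⟨i, rfl⟩ := hx'surj y hy
      rw [← hx i]
      exact Ideal.mem_map_of_mem π (hx𝔮 i)
    exact le_antisymm (le_maximalIdeal hprime.ne_top) (hs.2 ⟨hprime, hle⟩ (le_maximalIdeal hprime.ne_top))

/-- a prime of a finite type algebra which is both maximal and minimal among the primes of its fibre
is quasi-finite. -/
theorem quasiFiniteAt_of_max_min {P C : Type*} [CommRing P] [CommRing C] [Algebra P C]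
    [Algebra.FiniteType P C] (q : Ideal C) [hq : q.IsPrime]
    (hmax : ∀ q₂ : Ideal C, q₂.IsPrime → q ≤ q₂ →
      q₂.comap (algebraMap P C) = q.comap (algebraMap P C) → q₂ = q)
    (hmin : ∀ q₁ : Ideal C, q₁.IsPrime → q₁ ≤ q →
      q₁.comap (algebraMap P C) = q.comap (algebraMap P C) → q₁ = q) :
    Algebra.QuasiFiniteAt P q := by
  refine Algebra.QuasiFiniteAt.of_isOpen_singleton_fiber (R := P) (⟨q, hq⟩ : PrimeSpectrum C) ?_
  set pt : PrimeSpectrum P := PrimeSpectrum.comap (algebraMap P C) ⟨q, hq⟩ with hpt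
  let e := PrimeSpectrum.preimageHomeomorphFiber P C pt
  have hkey : ∀ y : (PrimeSpectrum.comap (algebraMap P C) ⁻¹' {pt}),
      y.1.asIdeal.comap (algebraMap P C) = q.comap (algebraMap P C) := by
    intro y
    have := y.2
    simp only [Set.mem_preimage, Set.mem_singleton_iff] at this
    exact congrArg PrimeSpectrum.asIdeal this
  rw [← e.isOpen_image, Set.image_singleton]
  have : Algebra.FiniteType pt.asIdeal.ResidueField (pt.asIdeal.Fiber C) := inferInstance
  have : IsNoetherianRing (pt.asIdeal.Fiber C) :=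
    Algebra.FiniteType.isNoetherianRing pt.asIdeal.ResidueField _
  have : IsJacobsonRing (pt.asIdeal.Fiber C) :=
    isJacobsonRing_of_finiteType (A := pt.asIdeal.ResidueField)
  rw [(PrimeSpectrum.isOpen_singleton_tfae_of_isNoetherian_of_isJacobsonRing _).out 0 2 rfl rfl]
  constructor
  · rw [← Set.image_singleton, e.isClosed_image]
    have : ({⟨⟨q, hq⟩, rfl⟩} : Set (PrimeSpectrum.comap (algebraMap P C) ⁻¹' {pt})) =
        Subtype.val ⁻¹' (PrimeSpectrum.zeroLocus (q : Set C)) := by
      ext y
      simp only [Set.mem_singleton_iff, Set.mem_preimage, PrimeSpectrum.mem_zeroLocus,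
        SetLike.coe_subset_coe]
      constructor
      · rintro rfl; exact le_rfl
      · intro hy
        have := hmax y.1.asIdeal y.1.2 hy (hkey y)
        exact Subtype.ext (PrimeSpectrum.ext this)
    rw [this]
    exact (PrimeSpectrum.isClosed_zeroLocus _).preimage continuous_subtype_val
  · intro a b hba ha
    rw [Set.mem_singleton_iff] at ha ⊢
    subst ha
    have h1 : e.symm b ⤳ e.symm (e ⟨⟨q, hq⟩, rfl⟩) := hba.map e.symm.continuous
    rw [e.symm_apply_apply] at h1
    have h2 : (e.symm b).1 ⤳ (⟨q, hq⟩ : PrimeSpectrum C) := h1.map continuous_subtype_val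
    rw [← PrimeSpectrum.le_iff_specializes] at h2
    have h3 := hmin (e.symm b).1.asIdeal (e.symm b).1.2 h2 (hkey _)
    have h4 : e.symm b = ⟨⟨q, hq⟩, rfl⟩ := Subtype.ext (PrimeSpectrum.ext h3)
    rw [← h4, e.apply_symm_apply]

theorem exists_integral_fraction {P B : Type*} [CommRing P] [CommRing B] [IsLocalRing B]
    [Algebra P B] [Algebra.EssFiniteType P B]
    (H1 : ∀ 𝔮 : Ideal B, 𝔮.IsPrime →
      𝔮.comap (algebraMap P B) = (maximalIdeal B).comap (algebraMap P B) → 𝔮 = maximalIdeal B)
    (H2 : ∀ b : B, b ∉ maximalIdeal B → ∃ f : Polynomial P,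
      Polynomial.aeval b f ∈ maximalIdeal B ∧ algebraMap P B (f.coeff 0) ∉ maximalIdeal B) :
    ∀ b : B, ∃ c s : B, IsIntegral P c ∧ IsIntegral P s ∧ s ∉ maximalIdeal B ∧ b * s = c := by
  classical
  let C : Subalgebra P B := Algebra.EssFiniteType.subalgebra P B
  let M : Submonoid C := Algebra.EssFiniteType.submonoid P B
  have hloc : IsLocalization M B := Algebra.EssFiniteType.isLocalization P B
  let q : Ideal C := (maximalIdeal B).comap (algebraMap C B)
  have hq : q.IsPrime := Ideal.comap_isPrime _ _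
  have hM : M = q.primeCompl := by
    ext t
    change IsUnit (algebraMap C B t) ↔ ¬ (algebraMap C B t ∈ maximalIdeal B)
    rw [mem_maximalIdeal, mem_nonunits_iff, not_not]
  have hlocq : IsLocalization q.primeCompl B := hM ▸ hloc
  have hcomapq : q.comap (algebraMap P C) = (maximalIdeal B).comap (algebraMap P B) := by
    rw [Ideal.comap_comap, ← IsScalarTower.algebraMap_eq]
  -- (max)
  have hmax : ∀ q₂ : Ideal C, q₂.IsPrime → q ≤ q₂ →
      q₂.comap (algebraMap P C) = q.comap (algebraMap P C) → q₂ = q := by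
    intro q₂ hq₂ hle hc
    refine le_antisymm (fun c hc₂ => ?_) hle
    by_contra hcq
    have hcB : (algebraMap C B c) ∉ maximalIdeal B := hcq
    obtain ⟨f, hf1, hf2⟩ := H2 _ hcB
    have h1 : Polynomial.aeval (algebraMap C B c) f = algebraMap C B (Polynomial.aeval c f) :=
      Polynomial.aeval_algebraMap_apply B c f
    rw [h1] at hf1
    have h2 : Polynomial.aeval c f ∈ q₂ := hle hf1
    obtain ⟨h, hh⟩ := Polynomial.X_dvd_sub_C (p := f)
    have h3 : Polynomial.aeval c f = algebraMap P C (f.coeff 0) + c * Polynomial.aeval c h := by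
      have := congrArg (Polynomial.aeval c) hh
      rw [map_sub, map_mul, Polynomial.aeval_X, Polynomial.aeval_C] at this
      rw [← this]; ring
    have h4 : algebraMap P C (f.coeff 0) ∈ q₂ := by
      have : algebraMap P C (f.coeff 0) = Polynomial.aeval c f - c * Polynomial.aeval c h := by
        rw [h3]; ring
      rw [this]
      exact q₂.sub_mem h2 (q₂.mul_mem_right _ hc₂)
    have h5 : f.coeff 0 ∈ q.comap (algebraMap P C) := hc ▸ (Ideal.mem_comap.mpr h4)
    rw [hcomapq] at h5
    exact hf2 h5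
  -- (min)
  have hmin : ∀ q₁ : Ideal C, q₁.IsPrime → q₁ ≤ q →
      q₁.comap (algebraMap P C) = q.comap (algebraMap P C) → q₁ = q := by
    intro q₁ hq₁ hle hc
    have hdisj : Disjoint (q.primeCompl : Set C) (q₁ : Set C) := by
      rw [Set.disjoint_left]
      intro t ht htq
      exact ht (hle htq)
    have hprime : (q₁.map (algebraMap C B)).IsPrime :=
      IsLocalization.isPrime_of_isPrime_disjoint q.primeCompl B q₁ hq₁ hdisj
    have hcm : (q₁.map (algebraMap C B)).comap (algebraMap C B) = q₁ :=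
      IsLocalization.under_map_of_isPrime_disjoint q.primeCompl B hq₁ hdisj
    have h1 : (q₁.map (algebraMap C B)).comap (algebraMap P B) =
        (maximalIdeal B).comap (algebraMap P B) := by
      rw [IsScalarTower.algebraMap_eq P C B, ← Ideal.comap_comap, hcm, hc, Ideal.comap_comap]
    have h2 := H1 _ hprime h1
    rw [← hcm, h2]
  -- quasi-finite at q
  have hQF : Algebra.QuasiFiniteAt P q := quasiFiniteAt_of_max_min q hmax hmin
  have hZ := Algebra.ZariskisMainProperty.of_finiteType (R := P) q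
  obtain ⟨r, hrq, hrint, hr⟩ := Algebra.zariskisMainProperty_iff.mp hZ
  intro b
  obtain ⟨⟨x, t⟩, hxt⟩ := IsLocalization.surj M b
  obtain ⟨m₁, hm₁⟩ := hr x
  obtain ⟨m₂, hm₂⟩ := hr t.1
  have hc : IsIntegral P (r ^ (m₁ + m₂) * x) := by
    have : r ^ (m₁ + m₂) * x = r ^ m₂ * (r ^ m₁ * x) := by ring
    rw [this]
    exact (hrint.pow m₂).mul hm₁
  have hs : IsIntegral P (r ^ (m₁ + m₂) * t.1) := by
    have : r ^ (m₁ + m₂) * t.1 = r ^ m₁ * (r ^ m₂ * t.1) := by ring
    rw [this]
    exact (hrint.pow m₁).mul hm₂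
  refine ⟨algebraMap C B (r ^ (m₁ + m₂) * x), algebraMap C B (r ^ (m₁ + m₂) * t.1),
    hc.map (IsScalarTower.toAlgHom P C B), hs.map (IsScalarTower.toAlgHom P C B), ?_, ?_⟩
  · have hru : IsUnit (algebraMap C B r) := by
      have : algebraMap C B r ∉ maximalIdeal B := hrq
      rwa [mem_maximalIdeal, mem_nonunits_iff, not_not] at this
    have htu : IsUnit (algebraMap C B t.1) := t.2
    rw [mem_maximalIdeal, mem_nonunits_iff, not_not, map_mul, map_pow]
    exact (hru.pow _).mul htu
  · rw [map_mul, map_mul, ← hxt]; ring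

/-- integrality of `MvPolynomial.map` along an integral extension -/
lemma isIntegral_mvPolynomial_map {A A' : Type*} {σ : Type*} [CommRing A] [CommRing A']
    [Algebra A A'] [Algebra.IsIntegral A A'] :
    (MvPolynomial.map (σ := σ) (algebraMap A A')).IsIntegral := by
  intro f
  induction f using MvPolynomial.induction_on with
  | C a' =>
    have h1 : IsIntegral A a' := Algebra.IsIntegral.isIntegral a'
    letI : Algebra (MvPolynomial σ A) (MvPolynomial σ A') :=
      (MvPolynomial.map (σ := σ) (algebraMap A A')).toAlgebra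
    have := IsIntegral.map_of_comp_eq (R := A) (S := A') (T := MvPolynomial σ A)
      (U := MvPolynomial σ A') (MvPolynomial.C) (MvPolynomial.C) (by
        ext a
        simp [RingHom.algebraMap_toAlgebra]) h1
    exact this
  | add p q hp hq => exact RingHom.IsIntegralElem.add _ hp hq
  | mul_X p i hp =>
    refine RingHom.IsIntegralElem.mul _ hp ?_
    have : (MvPolynomial.X i : MvPolynomial σ A') =
        MvPolynomial.map (algebraMap A A') (MvPolynomial.X i) := by simp
    rw [this]
    exact RingHom.isIntegralElem_map _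

theorem exists_prime_le_of_mvPolynomial_aux {A C₁ L : Type*} {σ : Type*} [Finite σ]
    [CommRing A] [IsDomain A] [CommRing C₁] [IsDomain C₁] [Field L]
    [Algebra A C₁] [Algebra (MvPolynomial σ A) C₁] [IsScalarTower A (MvPolynomial σ A) C₁]
    [FaithfulSMul (MvPolynomial σ A) C₁] [Algebra.IsIntegral (MvPolynomial σ A) C₁]
    [Algebra C₁ L] [FaithfulSMul C₁ L] [Algebra A L] [Algebra (MvPolynomial σ A) L]
    [IsScalarTower A C₁ L] [IsScalarTower (MvPolynomial σ A) C₁ L]
    [IsScalarTower A (MvPolynomial σ A) L]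
    (i₀ : σ) (q₁ : Ideal C₁) [hq₁p : q₁.IsPrime]
    (hq₁ : algebraMap (MvPolynomial σ A) C₁ (MvPolynomial.X i₀) ∈ q₁) :
    ∃ Q : Ideal C₁, Q.IsPrime ∧ Q ≤ q₁ ∧
      algebraMap (MvPolynomial σ A) C₁ (MvPolynomial.X i₀) ∈ Q ∧
      Q.comap (algebraMap A C₁) = ⊥ := by
  classical
  let P := MvPolynomial σ A
  have hCL : Function.Injective (algebraMap C₁ L) := FaithfulSMul.algebraMap_injective C₁ L
  have hPC : Function.Injective (algebraMap P C₁) := FaithfulSMul.algebraMap_injective P C₁
  let x : σ → L := fun i => algebraMap P L (MvPolynomial.X i)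
  have haeval : (MvPolynomial.aeval x : P →ₐ[A] L) = IsScalarTower.toAlgHom A P L := by
    apply MvPolynomial.algHom_ext
    intro i
    rw [MvPolynomial.aeval_X]
    rfl
  have hx : AlgebraicIndependent A x := by
    change Function.Injective (MvPolynomial.aeval x : P →ₐ[A] L)
    rw [haeval]
    change Function.Injective (algebraMap P L)
    rw [IsScalarTower.algebraMap_eq P C₁ L]
    exact hCL.comp hPC
  let Abar := integralClosure A L
  have hxbar : AlgebraicIndependent Abar x := hx.integralClosure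
  haveI : IsIntegrallyClosed Abar :=
    IsIntegrallyClosed.of_isIntegrallyClosed_of_isIntegrallyClosedIn Abar L
  let Pbar := MvPolynomial σ Abar
  haveI : IsIntegrallyClosed Pbar := Groth.Agent.H17.QF.isIntegrallyClosed_mvPolynomial Abar σ
  let θ : Pbar →ₐ[Abar] L := MvPolynomial.aeval x
  have hθinj : Function.Injective θ := hxbar
  letI : Algebra Pbar L := θ.toRingHom.toAlgebra
  let m : P →+* Pbar := MvPolynomial.map (algebraMap A Abar)
  have hθm : (algebraMap Pbar L).comp m = algebraMap P L := by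
    apply MvPolynomial.ringHom_ext
    · intro a
      change θ (MvPolynomial.map (algebraMap A Abar) (MvPolynomial.C a)) = _
      rw [MvPolynomial.map_C, MvPolynomial.aeval_C]
      rw [← IsScalarTower.algebraMap_apply A Abar L, IsScalarTower.algebraMap_apply A P L]
      rfl
    · intro i
      change θ (MvPolynomial.map (algebraMap A Abar) (MvPolynomial.X i)) = _
      rw [MvPolynomial.map_X, MvPolynomial.aeval_X]
  letI : Algebra P Pbar := m.toAlgebra
  haveI : IsScalarTower P Pbar L := IsScalarTower.of_algebraMap_eq' hθm.symm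
  haveI : Algebra.IsIntegral P Pbar := ⟨isIntegral_mvPolynomial_map (A := A) (A' := Abar)⟩
  let D := integralClosure Pbar L
  haveI : FaithfulSMul Pbar D := by
    rw [faithfulSMul_iff_algebraMap_injective]
    intro f₁ f₂ h
    apply hθinj
    exact congrArg Subtype.val h
  have hι : ∀ c : C₁, algebraMap C₁ L c ∈ D := by
    intro c
    have h1 : IsIntegral P c := Algebra.IsIntegral.isIntegral c
    exact IsIntegral.map_of_comp_eq (R := P) (S := C₁) (T := Pbar) (U := L) m (algebraMap C₁ L)
      (by rw [hθm, IsScalarTower.algebraMap_eq P C₁ L]) h1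
  let ι : C₁ →+* D := (algebraMap C₁ L).codRestrict D hι
  have hιinj : Function.Injective ι := by
    intro c₁ c₂ h
    apply hCL
    exact congrArg Subtype.val h
  letI : Algebra C₁ D := ι.toAlgebra
  haveI : IsScalarTower C₁ D L := IsScalarTower.of_algebraMap_eq (fun c => rfl)
  haveI : Algebra.IsIntegral C₁ D := by
    refine ⟨fun z => ?_⟩
    have h1 : IsIntegral Pbar (z : L) := z.2
    have h2 : IsIntegral P (z : L) := isIntegral_trans (R := P) (A := Pbar) _ h1
    have h3 : IsIntegral C₁ (z : L) := h2.tower_top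
    exact (isIntegral_algebraMap_iff (R := C₁) (A := D) (B := L) (x := z)
      Subtype.val_injective).mp h3
  -- lying over
  obtain ⟨𝔔, h𝔔p, h𝔔⟩ := Ideal.exists_ideal_over_prime_of_isIntegral_of_isDomain (R := C₁) (S := D)
    q₁ (by
      have : RingHom.ker (algebraMap C₁ D) = ⊥ := (RingHom.injective_iff_ker_eq_bot ι).mp hιinj
      rw [this]
      exact bot_le)
  -- going down
  have hXprime : (Ideal.span {(MvPolynomial.X i₀ : Pbar)}).IsPrime := by
    rw [Ideal.span_singleton_prime (MvPolynomial.X_ne_zero i₀)]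
    exact MvPolynomial.X_prime
  have hXι : algebraMap Pbar D (MvPolynomial.X i₀) = ι (algebraMap P C₁ (MvPolynomial.X i₀)) := by
    apply Subtype.ext
    change θ (MvPolynomial.X i₀) = algebraMap C₁ L (algebraMap P C₁ (MvPolynomial.X i₀))
    rw [MvPolynomial.aeval_X, ← IsScalarTower.algebraMap_apply P C₁ L]
  have hle : Ideal.span {(MvPolynomial.X i₀ : Pbar)} ≤ 𝔔.under Pbar := by
    rw [Ideal.span_singleton_le_iff_mem, Ideal.under_def, Ideal.mem_comap, hXι]
    have : algebraMap P C₁ (MvPolynomial.X i₀) ∈ 𝔔.comap (algebraMap C₁ D) := h𝔔 ▸ hq₁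
    exact this
  haveI : 𝔔.LiesOver (𝔔.under Pbar) := ⟨rfl⟩
  obtain ⟨𝔔', h𝔔'le, h𝔔'p, h𝔔'over⟩ :=
    Ideal.exists_ideal_le_liesOver_of_le (p := Ideal.span {(MvPolynomial.X i₀ : Pbar)})
      (q := 𝔔.under Pbar) 𝔔 hle
  have hover : 𝔔'.comap (algebraMap Pbar D) = Ideal.span {(MvPolynomial.X i₀ : Pbar)} :=
    (h𝔔'over.over).symm
  refine ⟨𝔔'.comap ι, Ideal.comap_isPrime _ _, ?_, ?_, ?_⟩
  · rw [← h𝔔]
    exact Ideal.comap_mono h𝔔'le
  · rw [Ideal.mem_comap, ← hXι, ← Ideal.mem_comap, hover]
    exact Ideal.mem_span_singleton_self _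
  · rw [eq_bot_iff]
    intro a ha
    rw [Ideal.mem_comap, Ideal.mem_comap] at ha
    have h1 : ι (algebraMap A C₁ a) = algebraMap Pbar D (MvPolynomial.C (algebraMap A Abar a)) := by
      apply Subtype.ext
      change algebraMap C₁ L (algebraMap A C₁ a) = θ (MvPolynomial.C (algebraMap A Abar a))
      rw [MvPolynomial.aeval_C, ← IsScalarTower.algebraMap_apply A C₁ L,
        ← IsScalarTower.algebraMap_apply A Abar L]
    rw [h1, ← Ideal.mem_comap, hover, Ideal.mem_span_singleton] at ha
    obtain ⟨h, hh⟩ := ha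
    have h2 := congrArg MvPolynomial.constantCoeff hh
    rw [MvPolynomial.constantCoeff_C, map_mul, MvPolynomial.constantCoeff_X, zero_mul] at h2
    have h3 : algebraMap A L a = 0 := by
      rw [IsScalarTower.algebraMap_apply A Abar L, h2, map_zero]
    have hAL : Function.Injective (algebraMap A L) := by
      rw [IsScalarTower.algebraMap_eq A P L]
      exact (by rw [IsScalarTower.algebraMap_eq P C₁ L]; exact hCL.comp hPC :
        Function.Injective (algebraMap P L)).comp (MvPolynomial.C_injective σ A)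
    exact (map_eq_zero_iff _ hAL).mp h3

lemma exists_poly_of_transcendenceBasis {A B P : Type*} [CommRing A] [CommRing B] [CommRing P]
    [IsLocalRing A] [IsLocalRing B] [Algebra A B] [IsLocalHom (algebraMap A B)] [Algebra A P]
    [Algebra P B] [IsScalarTower A P B]
    {ι : Type*} (ybar : ι → ResidueField B) (hy : IsTranscendenceBasis (ResidueField A) ybar)
    (hrange : ∀ j, ∃ f : P, residue B (algebraMap P B f) = ybar j)
    (b : B) (hb : b ∉ maximalIdeal B) :
    ∃ f : Polynomial P, Polynomial.aeval b f ∈ maximalIdeal B ∧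
      algebraMap P B (f.coeff 0) ∉ maximalIdeal B := by
  classical
  let k := ResidueField A
  let K' := ResidueField B
  let ρ : B →+* K' := residue B
  let ψ : P →+* K' := ρ.comp (algebraMap P B)
  let S₀ := Algebra.adjoin k (Set.range ybar)
  have halg : Algebra.IsAlgebraic S₀ K' := hy.isAlgebraic
  have hρb : ρ b ≠ 0 := by
    intro h
    exact hb ((residue_eq_zero_iff b).mp h)
  have hρb' : ρ b ∈ nonZeroDivisors K' := mem_nonZeroDivisors_of_ne_zero hρb
  obtain ⟨fbar, hf0, hfb⟩ :=
    (halg.isAlgebraic (ρ b)).exists_nonzero_coeff_and_aeval_eq_zero hρb'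
  have hS₀ : ∀ z ∈ S₀, z ∈ ψ.range := by
    intro z hz
    induction hz using Algebra.adjoin_induction with
    | mem z hz =>
      obtain ⟨j, rfl⟩ := hz
      obtain ⟨f, hf⟩ := hrange j
      exact ⟨f, hf⟩
    | algebraMap c =>
      obtain ⟨a, rfl⟩ := residue_surjective c
      refine ⟨algebraMap A P a, ?_⟩
      change residue B (algebraMap P B (algebraMap A P a)) = _
      rw [← IsScalarTower.algebraMap_apply A P B]
      rfl
    | add z w _ _ hz hw => exact ψ.range.add_mem hz hw
    | mul z w _ _ hz hw => exact ψ.range.mul_mem hz hw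
  have hlift : fbar.map (algebraMap S₀ K') ∈ Polynomial.lifts ψ := by
    rw [Polynomial.lifts_iff_coeff_lifts]
    intro n
    rw [Polynomial.coeff_map]
    exact hS₀ _ (fbar.coeff n).2
  obtain ⟨F, hF⟩ := (Polynomial.mem_lifts _).mp hlift
  refine ⟨F, ?_, ?_⟩
  · rw [← residue_eq_zero_iff]
    change ρ (Polynomial.aeval b F) = 0
    rw [Polynomial.aeval_def, Polynomial.hom_eval₂, ← Polynomial.eval_map]
    change Polynomial.eval (ρ b) (F.map ψ) = 0
    rw [hF, Polynomial.eval_map, ← Polynomial.aeval_def]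
    exact hfb
  · intro hmem
    have h1 : ψ (F.coeff 0) = 0 := (residue_eq_zero_iff _).mpr hmem
    rw [← Polynomial.coeff_map, hF, Polynomial.coeff_map] at h1
    apply hf0
    exact Subtype.ext h1

lemma isAlgebraic_adjoin_of_fraction {A B : Type*} {σ : Type*} [CommRing A] [CommRing B]
    [IsDomain B] [Algebra A B] (v : σ → B) [Algebra (MvPolynomial σ A) B]
    (halg : ∀ f, algebraMap (MvPolynomial σ A) B f = MvPolynomial.aeval v f)
    (hfrac : ∀ b : B, ∃ c s : B, IsIntegral (MvPolynomial σ A) c ∧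
      IsIntegral (MvPolynomial σ A) s ∧ s ≠ 0 ∧ b * s = c) :
    Algebra.IsAlgebraic (Algebra.adjoin A (Set.range v)) B := by
  classical
  let S := Algebra.adjoin A (Set.range v)
  let L := FractionRing B
  have hBL : Function.Injective (algebraMap B L) := IsFractionRing.injective B L
  let φ' : MvPolynomial σ A →ₐ[A] S := (MvPolynomial.aeval v).codRestrict S (by
    intro f
    change _ ∈ Algebra.adjoin A (Set.range v)
    rw [Algebra.adjoin_range_eq_range_aeval]
    exact ⟨f, rfl⟩)
  have hcomp : (algebraMap S B).comp φ'.toRingHom =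
      (RingHom.id B).comp (algebraMap (MvPolynomial σ A) B) := by
    ext f
    · simp [φ', halg]
    · simp [φ', halg]
  have hint : ∀ c : B, IsIntegral (MvPolynomial σ A) c → IsIntegral S c := fun c hc =>
    IsIntegral.map_of_comp_eq φ'.toRingHom (RingHom.id B) hcomp hc
  refine ⟨fun b => ?_⟩
  obtain ⟨c, s, hc, hs, hs0, hbs⟩ := hfrac b
  have hcL : IsAlgebraic S (algebraMap B L c) := (hint c hc).isAlgebraic.algebraMap
  have hsL : IsAlgebraic S (algebraMap B L s) := (hint s hs).isAlgebraic.algebraMap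
  have hsL0 : algebraMap B L s ≠ 0 := fun h => hs0 ((map_eq_zero_iff _ hBL).mp h)
  have hb : algebraMap B L b = algebraMap B L c * (algebraMap B L s)⁻¹ := by
    rw [← hbs, map_mul, mul_assoc, mul_inv_cancel₀ hsL0, mul_one]
  have hbL : IsAlgebraic S (algebraMap B L b) := hb ▸ hcL.mul hsL.inv
  exact (isAlgebraic_algebraMap_iff hBL).mp hbL

end Groth.Agent.H13.HorizElt
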