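import Groth.Agent.H13.HorizElt

/-!
# `A → B / g B` is injective for a horizontal element `g` (helper13, S1404)
-/

set_option autoImplicit false
set_option linter.style.haveILetI false
universe u

namespace Groth.Agent.H13.HorizElt

open IsLocalRing Cardinal

/-- Step 1: parameters in `B` cutting out the closed point of the closed fibre, the first of
which is `g`. -/
theorem exists_params_fibre {A B : Type u} [CommRing A] [CommRing B]
    [IsLocalRing A] [IsLocalRing B] [Algebra A B] [IsLocalHom (algebraMap A B)]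
    [Algebra.EssFiniteType A B]
    (g : B) (hg : g ∈ maximalIdeal B)
    (hmin : ∀ q ∈ (Ideal.map (algebraMap A B) (maximalIdeal A)).minimalPrimes, g ∉ q)
    (d : ℕ) (hd : ringKrullDim (B ⧸ Ideal.map (algebraMap A B) (maximalIdeal A)) = d) :
    ∃ (n : ℕ) (x : Fin n → B), n + 1 ≤ d ∧ (∀ i, x i ∈ maximalIdeal B) ∧
      ∀ 𝔮 : Ideal B, 𝔮.IsPrime → Ideal.map (algebraMap A B) (maximalIdeal A) ≤ 𝔮 → g ∈ 𝔮 →
        (∀ i, x i ∈ 𝔮) → 𝔮 = maximalIdeal B := by
  classical
  set 𝔪 := Ideal.map (algebraMap A B) (maximalIdeal A) with h𝔪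
  have h𝔪le : 𝔪 ≤ maximalIdeal B := by
    rw [h𝔪, Ideal.map_le_iff_le_comap]
    have hloc : IsLocalHom (algebraMap A B) := inferInstance
    have h4 : (maximalIdeal B).comap (algebraMap A B) = maximalIdeal A :=
      ((IsLocalRing.local_hom_TFAE (algebraMap A B)).out 0 4).mp hloc
    exact h4.ge
  let R := B ⧸ 𝔪
  let π : B →+* R := Ideal.Quotient.mk 𝔪
  have hπ : Function.Surjective π := Ideal.Quotient.mk_surjective
  have hne : 𝔪 ≠ ⊤ := fun h => (maximalIdeal.isMaximal B).ne_top (top_le_iff.mp (h ▸ h𝔪le))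
  haveI : Nontrivial R := Ideal.Quotient.nontrivial_iff.mpr hne
  haveI : IsLocalRing R := IsLocalRing.of_surjective' π hπ
  letI : Field (A ⧸ maximalIdeal A) := Ideal.Quotient.field _
  haveI : Algebra.EssFiniteType (A ⧸ maximalIdeal A) R := inferInstance
  haveI : IsNoetherianRing R := Algebra.EssFiniteType.isNoetherianRing (A ⧸ maximalIdeal A) R
  haveI : IsLocalHom π := .of_surjective π hπ
  have hπmax : ∀ b : B, π b ∈ maximalIdeal R ↔ b ∈ maximalIdeal B := by
    intro b
    rw [mem_maximalIdeal, mem_maximalIdeal, mem_nonunits_iff, mem_nonunits_iff, isUnit_map_iff]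
  have hmin' : ∀ q' ∈ minimalPrimes R, π g ∉ q' := by
    intro q' hq' hgq'
    have h1 : (⊥ : Ideal R).comap π = 𝔪 := by
      rw [← RingHom.ker_eq_comap_bot]; exact Ideal.mk_ker
    have h2 := Ideal.comap_minimalPrimes_eq_of_surjective hπ (⊥ : Ideal R)
    rw [h1] at h2
    have h3 : q'.comap π ∈ 𝔪.minimalPrimes := by
      rw [h2]; exact ⟨q', hq', rfl⟩
    exact hmin _ h3 hgq'
  obtain ⟨n, xbar, hn, hxbar, huniq⟩ := exists_params R (π g) ((hπmax g).mpr hg) hmin' d hd
  choose x hx using fun i => hπ (xbar i)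
  refine ⟨n, x, hn, fun i => (hπmax _).mp (hx i ▸ hxbar i), fun 𝔮 h𝔮 h𝔪𝔮 hg𝔮 hx𝔮 => ?_⟩
  have hker : RingHom.ker π ≤ 𝔮 := by rw [Ideal.mk_ker]; exact h𝔪𝔮
  apply eq_maximalIdeal_of_map_eq π hπ 𝔮 hker
  have hprime : (𝔮.map π).IsPrime := Ideal.map_isPrime_of_surjective hπ hker
  exact huniq _ hprime (Ideal.mem_map_of_mem π hg𝔮) (fun i => hx i ▸ Ideal.mem_map_of_mem π (hx𝔮 i))

/-- Main theorem (with an auxiliary field `L ⊇ B`). -/
theorem injective_algebraMap_quotient {A B : Type u} [CommRing A] [CommRing B] [IsDomain A]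
    [IsDomain B] [IsLocalRing A] [IsLocalRing B] [Algebra A B] [IsLocalHom (algebraMap A B)]
    [FaithfulSMul A B] [Algebra.EssFiniteType A B]
    (g : B) (hg : g ∈ maximalIdeal B)
    (hmin : ∀ q ∈ (Ideal.map (algebraMap A B) (maximalIdeal A)).minimalPrimes, g ∉ q)
    (d e : ℕ) (hd : ringKrullDim (B ⧸ Ideal.map (algebraMap A B) (maximalIdeal A)) = d)
    (he : Algebra.trdeg (ResidueField A) (ResidueField B) = e)
    (hsum : Algebra.trdeg A B = (d + e : ℕ))
    {L : Type u} [Field L] [Algebra B L] [FaithfulSMul B L] :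
    Function.Injective (algebraMap A (B ⧸ Ideal.span {g})) := by
  classical
  obtain ⟨n, x, hn, hxm, huniq⟩ := exists_params_fibre g hg hmin d hd
  -- transcendence basis of the residue field extension
  obtain ⟨ι, ybar, hybar⟩ := exists_isTranscendenceBasis' (ResidueField A) (ResidueField B)
  have hcard : #ι = e := by rw [← he]; exact hybar.cardinalMk_eq_trdeg
  haveI : Finite ι := by
    rw [← Cardinal.mk_lt_aleph0_iff, hcard]; exact Cardinal.natCast_lt_aleph0
  choose y hy using fun j => residue_surjective (ybar j)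
  -- the polynomial ring
  let σ := Fin (n + 1) ⊕ ι
  let v : σ → B := Sum.elim (Fin.cons g x) y
  let P := MvPolynomial σ A
  let φ : P →ₐ[A] B := MvPolynomial.aeval v
  letI : Algebra P B := φ.toRingHom.toAlgebra
  haveI : IsScalarTower A P B := IsScalarTower.of_algebraMap_eq (fun a => by
    change _ = φ (MvPolynomial.C a)
    rw [MvPolynomial.aeval_C])
  have hφX : ∀ i, algebraMap P B (MvPolynomial.X i) = v i := fun i => MvPolynomial.aeval_X v i
  haveI : Algebra.EssFiniteType P B := Algebra.EssFiniteType.of_comp A P B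
  have hvm : ∀ i : Fin (n + 1), v (Sum.inl i) ∈ maximalIdeal B := by
    intro i
    change Fin.cons (α := fun _ => B) g x i ∈ maximalIdeal B
    refine Fin.cases ?_ (fun j => ?_) i
    · simpa using hg
    · simpa using hxm j
  have hAm : ∀ a ∈ maximalIdeal A, algebraMap A B a ∈ maximalIdeal B := by
    intro a ha
    have hloc : IsLocalHom (algebraMap A B) := inferInstance
    have h4 : (maximalIdeal B).comap (algebraMap A B) = maximalIdeal A :=
      ((IsLocalRing.local_hom_TFAE (algebraMap A B)).out 0 4).mp hloc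
    rw [← h4] at ha
    exact ha
  -- H1
  have H1 : ∀ 𝔮 : Ideal B, 𝔮.IsPrime →
      𝔮.comap (algebraMap P B) = (maximalIdeal B).comap (algebraMap P B) →
      𝔮 = maximalIdeal B := by
    intro 𝔮 h𝔮 hc
    have hmem : ∀ f : P, algebraMap P B f ∈ maximalIdeal B → algebraMap P B f ∈ 𝔮 := by
      intro f hf
      have : f ∈ 𝔮.comap (algebraMap P B) := hc ▸ (Ideal.mem_comap.mpr hf)
      exact this
    refine huniq 𝔮 h𝔮 ?_ ?_ ?_
    · rw [Ideal.map_le_iff_le_comap]
      intro a ha
      rw [Ideal.mem_comap, IsScalarTower.algebraMap_apply A P B]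
      apply hmem
      rw [← IsScalarTower.algebraMap_apply A P B]
      exact hAm a ha
    · have h0 := hmem (MvPolynomial.X (Sum.inl 0)) (by rw [hφX]; exact hvm 0)
      rw [hφX] at h0
      simpa [v] using h0
    · intro i
      have h0 := hmem (MvPolynomial.X (Sum.inl i.succ)) (by rw [hφX]; exact hvm _)
      rw [hφX] at h0
      simpa [v] using h0
  -- H2
  have H2 : ∀ b : B, b ∉ maximalIdeal B → ∃ f : Polynomial P,
      Polynomial.aeval b f ∈ maximalIdeal B ∧ algebraMap P B (f.coeff 0) ∉ maximalIdeal B := by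
    intro b hb
    refine exists_poly_of_transcendenceBasis (A := A) ybar hybar (fun j => ?_) b hb
    exact ⟨MvPolynomial.X (Sum.inr j), by rw [hφX]; exact hy j⟩
  have hfrac := exists_integral_fraction (P := P) (B := B) H1 H2
  -- algebraic independence of `v`
  haveI : Algebra.IsAlgebraic (Algebra.adjoin A (Set.range v)) B := by
    refine isAlgebraic_adjoin_of_fraction (A := A) v (fun f => rfl) (fun b => ?_)
    obtain ⟨c, s, hc, hs, hsm, hbs⟩ := hfrac b
    exact ⟨c, s, hc, hs, fun h => hsm (h ▸ (maximalIdeal B).zero_mem), hbs⟩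
  have hσcard : #σ ≤ Algebra.trdeg A B := by
    rw [hsum]
    have : #σ = ((n + 1 + e : ℕ) : Cardinal) := by
      simp only [σ, Cardinal.mk_sum, Cardinal.mk_fin, hcard, Cardinal.lift_id', Nat.cast_add,
        Nat.cast_one]
      simp
    rw [this]
    exact_mod_cast (by omega : n + 1 + e ≤ d + e)
  have hvbasis : IsTranscendenceBasis A v :=
    Algebra.IsAlgebraic.isTranscendenceBasis_of_le_trdeg_of_finite A v hσcard
  have hφinj : Function.Injective (algebraMap P B) := hvbasis.1
  -- the integral closure of `P` in `B`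
  let C₁ := integralClosure P B
  have hBL : Function.Injective (algebraMap B L) := FaithfulSMul.algebraMap_injective B L
  haveI : FaithfulSMul P C₁ := by
    rw [faithfulSMul_iff_algebraMap_injective]
    intro f₁ f₂ h
    exact hφinj (congrArg Subtype.val h)
  letI : Algebra A L := ((algebraMap B L).comp (algebraMap A B)).toAlgebra
  letI : Algebra P L := ((algebraMap B L).comp (algebraMap P B)).toAlgebra
  haveI : FaithfulSMul C₁ L := by
    rw [faithfulSMul_iff_algebraMap_injective]
    exact hBL.comp Subtype.val_injective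
  haveI : IsScalarTower A C₁ L := IsScalarTower.of_algebraMap_eq (fun a => rfl)
  haveI : IsScalarTower P C₁ L := IsScalarTower.of_algebraMap_eq (fun f => rfl)
  haveI : IsScalarTower A P L := IsScalarTower.of_algebraMap_eq (fun a => by
    change algebraMap B L (algebraMap A B a) = algebraMap B L (algebraMap P B (algebraMap A P a))
    rw [← IsScalarTower.algebraMap_apply A P B])
  let q₁ : Ideal C₁ := (maximalIdeal B).comap (algebraMap C₁ B)
  haveI hq₁p : q₁.IsPrime := Ideal.comap_isPrime _ _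
  have hq₁ : algebraMap P C₁ (MvPolynomial.X (Sum.inl 0)) ∈ q₁ := by
    change algebraMap P B (MvPolynomial.X (Sum.inl 0)) ∈ maximalIdeal B
    rw [hφX]; exact hvm 0
  obtain ⟨Q, hQp, hQle, hgQ, hQA⟩ :=
    exists_prime_le_of_mvPolynomial_aux (A := A) (C₁ := C₁) (L := L) (σ := σ) (Sum.inl 0) q₁ hq₁
  -- conclusion
  rw [injective_iff_map_eq_zero]
  intro a ha
  rw [IsScalarTower.algebraMap_apply A B (B ⧸ Ideal.span {g}), Ideal.Quotient.algebraMap_eq,
    Ideal.Quotient.eq_zero_iff_mem, Ideal.mem_span_singleton'] at ha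
  obtain ⟨b, hb⟩ := ha
  obtain ⟨c, s, hc, hs, hsm, hbs⟩ := hfrac b
  let c' : C₁ := ⟨c, hc⟩
  let s' : C₁ := ⟨s, hs⟩
  have hrel : algebraMap A C₁ a * s' = algebraMap P C₁ (MvPolynomial.X (Sum.inl 0)) * c' := by
    apply Subtype.ext
    change algebraMap A B a * s = algebraMap P B (MvPolynomial.X (Sum.inl 0)) * c
    rw [hφX, ← hb, ← hbs]
    change b * g * s = g * (b * s)
    ring
  have h1 : algebraMap A C₁ a * s' ∈ Q := hrel ▸ Q.mul_mem_right _ hgQ
  have hs'Q : s' ∉ Q := fun h => hsm (hQle h)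
  have h2 : algebraMap A C₁ a ∈ Q := (hQp.mem_or_mem h1).resolve_right hs'Q
  have h3 : a ∈ Q.comap (algebraMap A C₁) := h2
  rw [hQA] at h3
  exact h3

/-- Main theorem. -/
theorem injective_algebraMap_quotient' {A B : Type u} [CommRing A] [CommRing B] [IsDomain A]
    [IsDomain B] [IsLocalRing A] [IsLocalRing B] [Algebra A B] [IsLocalHom (algebraMap A B)]
    [FaithfulSMul A B] [Algebra.EssFiniteType A B]
    (g : B) (hg : g ∈ maximalIdeal B)
    (hmin : ∀ q ∈ (Ideal.map (algebraMap A B) (maximalIdeal A)).minimalPrimes, g ∉ q)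
    (d e : ℕ) (hd : ringKrullDim (B ⧸ Ideal.map (algebraMap A B) (maximalIdeal A)) = d)
    (he : Algebra.trdeg (ResidueField A) (ResidueField B) = e)
    (hsum : Algebra.trdeg A B = (d + e : ℕ)) :
    Function.Injective (algebraMap A (B ⧸ Ideal.span {g})) :=
  injective_algebraMap_quotient g hg hmin d e hd he hsum (L := FractionRing B)

end Groth.Agent.H13.HorizElt
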