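import Mathlib

/-!
# Clearing denominators in integral dependence

`R₁ → R₂ → K`, `c ∈ R₁` such that every element of `R₂` becomes integral over `R₁` after
multiplication by a power of `c`.  Then every `y ∈ K` integral over `R₂` becomes integral over
`R₁` after multiplication by a power of `c`.
-/

set_option autoImplicit false
set_option linter.style.haveILetI false
set_option linter.unusedSectionVars false

namespace Groth.Agent.H13.IntegralScale

open Polynomial

/-- A root of a monic polynomial whose coefficients are integral is integral. -/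
theorem isIntegral_of_monic_of_coeff {R₁ R₂ K : Type*} [CommRing R₁] [CommRing R₂] [CommRing K]
    [Algebra R₁ R₂] [Algebra R₂ K] [Algebra R₁ K] [IsScalarTower R₁ R₂ K]
    (q : R₂[X]) (hq : q.Monic) (hcoeff : ∀ i, IsIntegral R₁ (q.coeff i)) (z : K)
    (hz : eval₂ (algebraMap R₂ K) z q = 0) : IsIntegral R₁ z := by
  let T : Subalgebra R₁ R₂ := integralClosure R₁ R₂
  have hsub : (q.coeffs : Set R₂) ⊆ T.toSubring := by
    intro a ha
    obtain ⟨i, -, rfl⟩ := Polynomial.mem_coeffs_iff.mp (Finset.mem_coe.mp ha)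
    exact hcoeff i
  let q' : T[X] := q.toSubring T.toSubring hsub
  have hq' : q'.Monic := (q.monic_toSubring _ _).mpr hq
  have hTz : IsIntegral T z := by
    refine ⟨q', hq', ?_⟩
    have hmap : q'.map (algebraMap T R₂) = q := q.map_toSubring T.toSubring hsub
    rw [IsScalarTower.algebraMap_eq T R₂ K, ← eval₂_map, hmap]
    exact hz
  exact isIntegral_trans (A := T) z hTz

theorem exists_pow_mul_isIntegral {R₁ R₂ K : Type*} [CommRing R₁] [CommRing R₂] [CommRing K]
    [Algebra R₁ R₂] [Algebra R₂ K] [Algebra R₁ K] [IsScalarTower R₁ R₂ K] (c : R₁)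
    (h : ∀ r : R₂, ∃ k : ℕ, IsIntegral R₁ (algebraMap R₁ R₂ (c ^ k) * r)) (y : K)
    (hy : IsIntegral R₂ y) : ∃ k : ℕ, IsIntegral R₁ (algebraMap R₁ K (c ^ k) * y) := by
  classical
  obtain ⟨p, hp, hpy⟩ := hy
  choose kf hkf using h
  let k : ℕ := (Finset.range p.natDegree).sup (fun i => kf (p.coeff i))
  refine ⟨k, ?_⟩
  let cc : R₂ := algebraMap R₁ R₂ (c ^ k)
  have hcc : ∀ j : ℕ, IsIntegral R₁ (cc ^ j) := fun j => (isIntegral_algebraMap).pow j
  refine isIntegral_of_monic_of_coeff (scaleRoots p cc) ((monic_scaleRoots_iff cc).mpr hp) ?_ _ ?_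
  · intro i
    rw [coeff_scaleRoots]
    rcases lt_trichotomy i p.natDegree with hi | hi | hi
    · have hki : kf (p.coeff i) ≤ k :=
        Finset.le_sup (f := fun i => kf (p.coeff i)) (Finset.mem_range.mpr hi)
      obtain ⟨m, hm⟩ : ∃ m, p.natDegree - i = m + 1 := ⟨p.natDegree - i - 1, by omega⟩
      have h2 : p.coeff i * cc ^ (m + 1) =
          (algebraMap R₁ R₂ (c ^ (k - kf (p.coeff i))) *
            (algebraMap R₁ R₂ (c ^ kf (p.coeff i)) * p.coeff i)) * cc ^ m := by
        have : cc = algebraMap R₁ R₂ (c ^ (k - kf (p.coeff i))) *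
            algebraMap R₁ R₂ (c ^ kf (p.coeff i)) := by
          rw [← map_mul, ← pow_add, Nat.sub_add_cancel hki]
        rw [pow_succ]
        nth_rewrite 2 [this]
        ring
      rw [hm, h2]
      exact ((isIntegral_algebraMap).mul (hkf _)).mul (hcc _)
    · rw [hi, hp.coeff_natDegree, one_mul]
      exact hcc _
    · rw [coeff_eq_zero_of_natDegree_lt hi, zero_mul]
      exact isIntegral_zero
  · have := scaleRoots_eval₂_eq_zero (algebraMap R₂ K) (s := cc) hpy
    rwa [← IsScalarTower.algebraMap_apply R₁ R₂ K] at this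

end Groth.Agent.H13.IntegralScale
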