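import Mathlib
import Groth.Agent.H13.J2Dedekind

/-!
# Nagata rings of dimension one are J-2
-/

set_option autoImplicit false
set_option linter.style.haveILetI false
set_option linter.unusedSectionVars false
universe u

namespace Groth.Agent.H13.J2Nagata

open Groth.Agent.H13.GenReg Groth.Agent.H13.NagataCrit Groth.Agent.H13.J2Crit
  Groth.Agent.H13.J2Apps Groth.Agent.H13.J2Dedekind

/-- a finite domain extension of an N-2 Noetherian domain of dimension `≤ 1` is generically
regular (its normalization is a finite Dedekind extension). -/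
theorem gr_of_isN2_dim_le_one (R₀ A' : Type u) [CommRing R₀] [IsDomain R₀] [IsNoetherianRing R₀]
    (hN2 : CAlg.IsN2 R₀) (hdim : ringKrullDim R₀ ≤ 1) [CommRing A'] [IsDomain A'] [Algebra R₀ A']
    [Module.Finite R₀ A'] (hinj : Function.Injective (algebraMap R₀ A')) : GR A' := by
  let K := FractionRing R₀
  let L := FractionRing A'
  have hAL : Function.Injective (algebraMap A' L) := IsFractionRing.injective A' L
  have : FaithfulSMul R₀ L := (faithfulSMul_iff_algebraMap_injective R₀ L).mpr (by
    rw [IsScalarTower.algebraMap_eq R₀ A' L]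
    exact hAL.comp hinj)
  letI := FractionRing.liftAlgebra R₀ L
  have halg : Algebra.IsAlgebraic K L := isAlgebraic_of_isFractionRing R₀ A' K L
  have h1 : Algebra.EssFiniteType A' L := Algebra.EssFiniteType.of_isLocalization L (nonZeroDivisors A')
  have h2 : Algebra.EssFiniteType R₀ L := Algebra.EssFiniteType.comp R₀ A' L
  have h3 : Algebra.EssFiniteType K L := Algebra.EssFiniteType.of_comp R₀ K L
  have hfinKL : Module.Finite K L := Algebra.finite_of_essFiniteType_of_isAlgebraic
  have hfinC : Module.Finite R₀ (integralClosure R₀ L) := hN2 L hfinKL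
  let C := integralClosure R₀ L
  let f : A' →+* C := (algebraMap A' L).codRestrict C (fun a =>
    (Algebra.IsIntegral.isIntegral (R := R₀) a).map (IsScalarTower.toAlgHom R₀ A' L))
  letI : Algebra A' C := f.toAlgebra
  have tow : IsScalarTower R₀ A' C := IsScalarTower.of_algebraMap_eq fun r => by
    apply Subtype.ext
    exact IsScalarTower.algebraMap_apply R₀ A' L r
  have hfinAC : Module.Finite A' C := Module.Finite.of_restrictScalars_finite R₀ A' C
  have hfinj : Function.Injective (algebraMap A' C) := by
    intro x y hxy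
    exact hAL (congrArg Subtype.val hxy)
  have hNA : IsNoetherianRing A' := Algebra.FiniteType.isNoetherianRing R₀ A'
  have hNC : IsNoetherianRing C := Algebra.FiniteType.isNoetherianRing R₀ C
  have hK1 : Ring.KrullDimLE 1 R₀ := (Ring.krullDimLE_iff).mpr hdim
  have hD1 : Ring.DimensionLEOne R₀ := ⟨fun hp hP => hP.isMaximal_of_ne_bot hp⟩
  have hIC : IsIntegrallyClosed C := integralClosure.isIntegrallyClosedOfFiniteExtension K
  have hDR : IsDedekindRing C :=
    { (inferInstance : IsNoetherianRing C), (inferInstance : Ring.DimensionLEOne C), hIC with }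
  have hDD : IsDedekindDomain C := {}
  have hGRC : GR C := gr_of_isRegularRing C
  exact gr_of_injective_finiteType A' C hfinj hGRC

/-- A Nagata ring of dimension one is J-2. -/
theorem isJ2_of_isNagata_dim_one (R : Type u) [CommRing R] (hR : CAlg.IsNagata R)
    (hdim : ringKrullDim R = 1) : EGA4.IsJ2 R := by
  have hN : IsNoetherianRing R := hR.1
  apply isJ2_of_forall_finite_gr
  intro A' _ _ _ hfin
  let 𝔭 := RingHom.ker (algebraMap R A')
  have h𝔭 : 𝔭.IsPrime := RingHom.ker_isPrime _
  letI : Algebra (R ⧸ 𝔭) A' := (RingHom.kerLift (algebraMap R A')).toAlgebra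
  have tow : IsScalarTower R (R ⧸ 𝔭) A' := IsScalarTower.of_algebraMap_eq fun r => rfl
  have hfin' : Module.Finite (R ⧸ 𝔭) A' := Module.Finite.of_restrictScalars_finite R _ _
  exact gr_of_isN2_dim_le_one (R ⧸ 𝔭) A' (hR.2 𝔭)
    ((ringKrullDim_quotient_le 𝔭).trans hdim.le) (RingHom.kerLift_injective _)

end Groth.Agent.H13.J2Nagata
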