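import Mathlib
import Groth.Agent.H13.MoriNagataLocal

/-!
# The integral closure of a Noetherian domain as an intersection over height one primes

If every height one prime of every finite subalgebra of the integral closure `A'` of a Noetherian
domain `A` contracts to a height one prime of `A`, then `A'` is the intersection of its
localizations at the height one primes of `A`.
-/

set_option autoImplicit false
set_option linter.style.haveILetI false
set_option linter.unusedSectionVars false
universe u

open Groth.Agent.H13.KrullAbstract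

namespace Groth.Agent.H13.KrullGlobal

variable {A : Type u} [CommRing A] [IsDomain A] [IsNoetherianRing A]
  (K : Type u) [Field K] [Algebra A K] [IsFractionRing A K]

/-- the local statement: under the contraction hypothesis, an element lying in the localizations
of the integral closure at all height one primes lies in its localization at any prime `m`. -/
theorem loc_of_forall_height_one
    (h : ∀ C : Subalgebra A K, C ≤ integralClosure A K → Module.Finite A C →
      ∀ (q : Ideal C) [q.IsPrime], q.height = 1 → (q.comap (algebraMap A C)).height = 1)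
    (x : K) (hx : ∀ (p : Ideal A) [p.IsPrime], p.height = 1 → Loc p x)
    (m : Ideal A) [m.IsPrime] : Loc m x := by
  classical
  rw [← isIntegral_Cp_iff]
  -- the local ring `A_m` inside `K`
  let Am : Subalgebra A K := Cp (K := K) m
  haveI : IsLocalization.AtPrime Am m := inferInstanceAs (IsLocalization m.primeCompl _)
  haveI : IsNoetherianRing Am := IsLocalization.isNoetherianRing m.primeCompl _ inferInstance
  haveI : IsLocalRing Am := IsLocalization.AtPrime.isLocalRing _ m
  obtain ⟨Cm, hCmfin, -, hb, -⟩ := Groth.Agent.H13.MoriNagataLocal.local_main Am K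
  change x ∈ integralClosure Am K
  rw [hb]
  intro P hPp hP1
  haveI := hPp
  haveI := hCmfin
  haveI : Algebra.IsIntegral Am Cm := Algebra.IsIntegral.of_finite Am Cm
  -- elements of `A_m`
  have hAm : ∀ a : Am, ∃ a' u : A, u ∉ m ∧ (a : K) = algebraMap A K a' * (algebraMap A K u)⁻¹ := by
    intro a
    obtain ⟨a', u, hu, ha⟩ := a.2
    exact ⟨a', u, hu, ha⟩
  have hne : ∀ u : A, u ∉ m → algebraMap A K u ≠ 0 := by
    intro u hu
    rw [Ne, map_eq_zero_iff _ (IsFractionRing.injective A K)]
    rintro rfl
    exact hu m.zero_mem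
  -- generators of `Cm` as a module over `A_m`
  obtain ⟨T, hT⟩ := (Module.Finite.iff_fg (N := Cm.toSubmodule)).mp hCmfin
  have hTmem : ∀ t ∈ T, t ∈ Cm := by
    intro t ht
    have : t ∈ Submodule.span Am (T : Set K) := Submodule.subset_span ht
    rw [hT] at this
    exact this
  have hTloc : ∀ t ∈ T, ∃ s : A, s ∉ m ∧ IsIntegral A (algebraMap A K s * t) := by
    intro t ht
    have h1 : IsIntegral Am t :=
      (Algebra.IsIntegral.isIntegral (R := Am) (⟨t, hTmem t ht⟩ : Cm)).map Cm.val
    exact (isIntegral_Cp_iff m t).mp h1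
  choose! sT hsTm hsTint using hTloc
  let s : A := ∏ t ∈ T, sT t
  have hsm : s ∉ m := by
    intro hs
    rw [Ideal.IsPrime.prod_mem_iff] at hs
    obtain ⟨t, ht, hst⟩ := hs
    exact hsTm t ht hst
  have hsint : ∀ t ∈ T, IsIntegral A (algebraMap A K s * t) := by
    intro t ht
    change IsIntegral A (algebraMap A K (∏ t ∈ T, sT t) * t)
    rw [← Finset.prod_erase_mul _ _ ht, map_mul, mul_assoc]
    exact IsIntegral.mul isIntegral_algebraMap (hsTint t ht)
  -- the finite `A`-algebra `C`
  let gen : Set K := (fun t => algebraMap A K s * t) '' (T : Set K)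
  have hgenint : ∀ y ∈ gen, IsIntegral A y := by
    rintro _ ⟨t, ht, rfl⟩
    exact hsint t ht
  let C : Subalgebra A K := Algebra.adjoin A gen
  have hCle : C ≤ integralClosure A K := Algebra.adjoin_le hgenint
  have hCfin : Module.Finite A C :=
    Module.Finite.iff_fg.mpr (fg_adjoin_of_finite (T.finite_toSet.image _) hgenint)
  have hAK : ∀ a : A, algebraMap A K a ∈ Cm := by
    intro a
    rw [IsScalarTower.algebraMap_apply A Am K]
    exact Cm.algebraMap_mem _
  have hCCm : C ≤ Cm.restrictScalars A := by
    apply Algebra.adjoin_le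
    rintro _ ⟨t, ht, rfl⟩
    exact Cm.mul_mem (hAK s) (hTmem t ht)
  -- every element of `Cm` is a fraction with numerator in `C` and denominator outside `m`
  have hfrac' : ∀ z ∈ Submodule.span Am (T : Set K), ∃ u : A, u ∉ m ∧ algebraMap A K u * z ∈ C := by
    intro z hz'
    induction hz' using Submodule.span_induction with
    | mem t ht => exact ⟨s, hsm, Algebra.subset_adjoin ⟨t, ht, rfl⟩⟩
    | zero => exact ⟨1, fun h1 => (Ideal.IsPrime.ne_top inferInstance)
        ((Ideal.eq_top_iff_one m).mpr h1), by simp⟩
    | add z₁ z₂ _ _ h₁ h₂ =>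
      obtain ⟨u₁, hu₁, hc₁⟩ := h₁
      obtain ⟨u₂, hu₂, hc₂⟩ := h₂
      refine ⟨u₁ * u₂, fun hmem => ?_, ?_⟩
      · rcases Ideal.IsPrime.mem_or_mem inferInstance hmem with h3 | h3
        · exact hu₁ h3
        · exact hu₂ h3
      · have : algebraMap A K (u₁ * u₂) * (z₁ + z₂) =
            algebraMap A K u₂ * (algebraMap A K u₁ * z₁) +
              algebraMap A K u₁ * (algebraMap A K u₂ * z₂) := by
          rw [map_mul]; ring
        rw [this]
        exact C.add_mem (C.mul_mem (C.algebraMap_mem _) hc₁) (C.mul_mem (C.algebraMap_mem _) hc₂)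
    | smul a z _ hz₁ =>
      obtain ⟨u, hu, hc⟩ := hz₁
      obtain ⟨a', u', hu', ha⟩ := hAm a
      refine ⟨u' * u, fun hmem => ?_, ?_⟩
      · rcases Ideal.IsPrime.mem_or_mem inferInstance hmem with h3 | h3
        · exact hu' h3
        · exact hu h3
      · have : algebraMap A K (u' * u) * (a • z) = algebraMap A K a' * (algebraMap A K u * z) := by
          rw [Algebra.smul_def, map_mul]
          change _ * _ * ((a : K) * z) = _
          rw [ha]
          have := hne u' hu'
          field_simp
        rw [this]
        exact C.mul_mem (C.algebraMap_mem _) hc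
  have hfrac : ∀ z ∈ Cm, ∃ u : A, u ∉ m ∧ algebraMap A K u * z ∈ C := by
    intro z hz
    apply hfrac'
    rw [hT]
    exact hz
  -- `Cm` is a localization of `C`
  let i : C →+* Cm := (C.val.toRingHom).codRestrict Cm (fun c => hCCm c.2)
  letI : Algebra C Cm := i.toAlgebra
  have hi : ∀ c : C, ((algebraMap C Cm c : Cm) : K) = (c : K) := fun c => rfl
  let M : Submonoid C := Algebra.algebraMapSubmonoid C m.primeCompl
  haveI : IsLocalization M Cm := by
    refine ⟨?_, ?_, ?_⟩
    · rintro ⟨_, u, hu, rfl⟩
      have hinv : (algebraMap A K u)⁻¹ ∈ Cm := by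
        have h1 : (algebraMap A K u)⁻¹ ∈ Am := ⟨1, u, hu, by simp⟩
        have := Cm.algebraMap_mem (⟨_, h1⟩ : Am)
        exact this
      refine isUnit_iff_exists_inv.mpr ⟨⟨_, hinv⟩, ?_⟩
      apply Subtype.ext
      change algebraMap A K u * (algebraMap A K u)⁻¹ = 1
      exact mul_inv_cancel₀ (hne u hu)
    · intro z
      obtain ⟨u, hu, hc⟩ := hfrac z z.2
      refine ⟨(⟨_, hc⟩, ⟨algebraMap A C u, u, hu, rfl⟩), ?_⟩
      apply Subtype.ext
      change (z : K) * algebraMap A K u = algebraMap A K u * z
      exact mul_comm _ _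
    · intro c₁ c₂ hc
      refine ⟨1, ?_⟩
      have : c₁ = c₂ := by
        apply Subtype.ext
        have := congrArg (fun z : Cm => (z : K)) hc
        exact this
      rw [this]
  -- the contraction of `P`
  have hq1 : (P.under C).height = 1 := by
    rw [IsLocalization.height_under M P, hP1]
  haveI : (P.under C).IsPrime := Ideal.comap_isPrime _ _
  have hp1 := h C hCle hCfin (P.under C) hq1
  haveI : ((P.under C).comap (algebraMap A C)).IsPrime := Ideal.comap_isPrime _ _
  obtain ⟨s', hs', hs'int⟩ := hx _ hp1
  refine ⟨⟨algebraMap A K s', hAK s'⟩, ?_, ?_⟩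
  · intro hmem
    apply hs'
    rw [Ideal.mem_comap, Ideal.under, Ideal.mem_comap]
    have : algebraMap C Cm (algebraMap A C s') = ⟨algebraMap A K s', hAK s'⟩ := by
      apply Subtype.ext
      rfl
    rw [this]
    exact hmem
  · have h1 : IsIntegral Am (algebraMap A K s' * x) := hs'int.tower_top
    exact h1.tower_top

/-- the global statement -/
theorem isIntegral_of_forall_height_one
    (h : ∀ C : Subalgebra A K, C ≤ integralClosure A K → Module.Finite A C →
      ∀ (q : Ideal C) [q.IsPrime], q.height = 1 → (q.comap (algebraMap A C)).height = 1)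
    (x : K) (hx : ∀ (p : Ideal A) [p.IsPrime], p.height = 1 → Loc p x) : IsIntegral A x := by
  by_contra hxA
  let 𝔡 : Ideal A :=
    { carrier := {c | IsIntegral A (algebraMap A K c * x)}
      add_mem' := by
        intro a b ha hb
        change IsIntegral A (algebraMap A K (a + b) * x)
        rw [map_add, add_mul]
        exact ha.add hb
      zero_mem' := by
        change IsIntegral A (algebraMap A K 0 * x)
        rw [map_zero, zero_mul]
        exact isIntegral_zero
      smul_mem' := by
        intro c a ha
        change IsIntegral A (algebraMap A K (c • a) * x)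
        rw [smul_eq_mul, map_mul, mul_assoc]
        exact IsIntegral.mul isIntegral_algebraMap ha }
  have hne : 𝔡 ≠ ⊤ := by
    intro htop
    have h1 : (1 : A) ∈ 𝔡 := htop ▸ Submodule.mem_top
    change IsIntegral A (algebraMap A K 1 * x) at h1
    rw [map_one, one_mul] at h1
    exact hxA h1
  obtain ⟨m, hm, h𝔡m⟩ := Ideal.exists_le_maximal 𝔡 hne
  haveI := hm.isPrime
  obtain ⟨s, hs, hint⟩ := loc_of_forall_height_one K h x hx m
  exact hs (h𝔡m hint)

end Groth.Agent.H13.KrullGlobal
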