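import Mathlib.RingTheory.Flat.FaithfullyFlat.Basic
import Mathlib.RingTheory.Length
import Mathlib.RingTheory.FiniteLength
import Mathlib.RingTheory.LocalRing.ResidueField.Defs
import Mathlib.RingTheory.SimpleModule.Basic
import Mathlib.LinearAlgebra.TensorProduct.Quotient
import Mathlib.LinearAlgebra.TensorProduct.Tower

set_option autoImplicit false
open TensorProduct
universe u

namespace Groth.Agent.H13

section

variable {A B : Type u} [CommRing A] [CommRing B] [Algebra A B]
  (N : Type u) [AddCommGroup N] [Module B N] [Module A N] [IsScalarTower A B N]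

/-- Additivity of `M ↦ length_B (N ⊗_A M)` on short exact sequences, for `N` flat over `A`. -/
theorem length_lTensor_eq_add_of_exact [Module.Flat A N]
    {M' M M'' : Type u} [AddCommGroup M'] [AddCommGroup M] [AddCommGroup M'']
    [Module A M'] [Module A M] [Module A M''] (f : M' →ₗ[A] M) (g : M →ₗ[A] M'')
    (hf : Function.Injective f) (hg : Function.Surjective g) (hfg : Function.Exact f g) :
    Module.length B (N ⊗[A] M) = Module.length B (N ⊗[A] M') + Module.length B (N ⊗[A] M'') := by
  refine Module.length_eq_add_of_exact (AlgebraTensorModule.lTensor B N f)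
    (AlgebraTensorModule.lTensor B N g) ?_ ?_ ?_
  · rw [AlgebraTensorModule.coe_lTensor]
    exact Module.Flat.lTensor_preserves_injective_linearMap f hf
  · rw [AlgebraTensorModule.coe_lTensor]
    exact LinearMap.lTensor_surjective N hg
  · rw [AlgebraTensorModule.coe_lTensor, AlgebraTensorModule.coe_lTensor]
    exact lTensor_exact N hfg hg

/-- `length_B (N ⊗_A M)` only depends on the isomorphism class of `M`. -/
theorem length_lTensor_congr {M M' : Type u} [AddCommGroup M] [AddCommGroup M']
    [Module A M] [Module A M'] (e : M ≃ₗ[A] M') :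
    Module.length B (N ⊗[A] M) = Module.length B (N ⊗[A] M') :=
  (AlgebraTensorModule.congr (LinearEquiv.refl B N) e).length_eq

/-- `N ⊗_A (A/I) ≅ N / (IB) N` as `B`-modules, at the level of lengths. -/
theorem length_lTensor_quotient (I : Ideal A) :
    Module.length B (N ⊗[A] (A ⧸ I)) =
      Module.length B (N ⧸ (I.map (algebraMap A B) • (⊤ : Submodule B N))) := by
  let π : N →ₗ[B] N ⊗[A] (A ⧸ I) :=
    { toFun := fun n => n ⊗ₜ[A] (1 : A ⧸ I)
      map_add' := fun x y => TensorProduct.add_tmul x y 1
      map_smul' := fun b n => rfl }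
  have hπ : Function.Surjective π := by
    intro z
    induction z using TensorProduct.induction_on with
    | zero => exact ⟨0, map_zero π⟩
    | add x y hx hy =>
      obtain ⟨a, rfl⟩ := hx
      obtain ⟨b, rfl⟩ := hy
      exact ⟨a + b, map_add π a b⟩
    | tmul n r =>
      obtain ⟨a, rfl⟩ := Ideal.Quotient.mk_surjective r
      refine ⟨a • n, ?_⟩
      change (a • n) ⊗ₜ[A] (1 : A ⧸ I) = n ⊗ₜ[A] (Ideal.Quotient.mk I a)
      rw [TensorProduct.smul_tmul]
      congr 1
      rw [Algebra.smul_def, mul_one]
      rfl
  have hker : LinearMap.ker π = I.map (algebraMap A B) • (⊤ : Submodule B N) := by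
    apply Submodule.restrictScalars_injective A
    rw [Ideal.smul_restrictScalars, Submodule.restrictScalars_top]
    ext n
    simp only [Submodule.restrictScalars_mem, LinearMap.mem_ker]
    change n ⊗ₜ[A] (1 : A ⧸ I) = 0 ↔ _
    rw [← (tensorQuotEquivQuotSMul N I).map_eq_zero_iff]
    have : (1 : A ⧸ I) = Ideal.Quotient.mk I 1 := rfl
    rw [this, tensorQuotEquivQuotSMul_tmul_mk, one_smul, Submodule.Quotient.mk_eq_zero]
  rw [← hker]
  exact (LinearMap.quotKerEquivOfSurjective π hπ).length_eq.symm

end

section Local

variable {A B : Type u} [CommRing A] [CommRing B] [IsLocalRing A] [Algebra A B]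
  (N : Type u) [AddCommGroup N] [Module B N] [Module A N] [IsScalarTower A B N]

/-- For a simple module `S` over the local ring `A`, `N ⊗_A S` has the `B`-length of `N/𝔪N`. -/
theorem length_lTensor_simple (S : Type u) [AddCommGroup S] [Module A S] [IsSimpleModule A S] :
    Module.length B (N ⊗[A] S) =
      Module.length B (N ⧸ ((IsLocalRing.maximalIdeal A).map (algebraMap A B) • (⊤ : Submodule B N))) := by
  obtain ⟨I, hI, ⟨e⟩⟩ := isSimpleModule_iff_quot_maximal.mp ‹IsSimpleModule A S›
  rw [IsLocalRing.eq_maximalIdeal hI] at e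
  rw [length_lTensor_congr N e, length_lTensor_quotient]

/-- The finite length case. -/
theorem length_lTensor_of_isFiniteLength [Module.Flat A N]
    (M : Type u) [AddCommGroup M] [Module A M] (hM : IsFiniteLength A M) :
    Module.length B (N ⊗[A] M) = Module.length A M *
      Module.length B (N ⧸ ((IsLocalRing.maximalIdeal A).map (algebraMap A B) • (⊤ : Submodule B N))) := by
  induction hM with
  | of_subsingleton =>
    rw [Module.length_eq_zero, Module.length_eq_zero, zero_mul]
  | @of_simple_quotient M _ _ M' _ _ ih =>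
    rw [length_lTensor_eq_add_of_exact N M'.subtype M'.mkQ M'.subtype_injective
      M'.mkQ_surjective (LinearMap.exact_subtype_mkQ M'), ih, length_lTensor_simple N (M ⧸ M'),
      Module.length_eq_add_of_exact M'.subtype M'.mkQ M'.subtype_injective
      M'.mkQ_surjective (LinearMap.exact_subtype_mkQ M'), Module.length_eq_one (R := A) (M := M ⧸ M'), add_mul, one_mul]

end Local

section FF

variable {A B : Type u} [CommRing A] [CommRing B] [Algebra A B]
  (N : Type u) [AddCommGroup N] [Module B N] [Module A N] [IsScalarTower A B N]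

/-- For `N` faithfully flat over `A`, `length_A M ≤ length_B (N ⊗_A M)`. -/
theorem length_le_length_lTensor [Module.FaithfullyFlat A N]
    (M : Type u) [AddCommGroup M] [Module A M] :
    Module.length A M ≤ Module.length B (N ⊗[A] M) := by
  let Φ : Submodule A M → Submodule B (N ⊗[A] M) := fun M' =>
    LinearMap.range (AlgebraTensorModule.lTensor B N M'.subtype)
  have hmem : ∀ (M' : Submodule A M) (z : N ⊗[A] M), z ∈ Φ M' ↔ ∃ x, (M'.subtype.lTensor N) x = z := by
    intro M' z
    rfl
  have hmono : ∀ M₁ M₂ : Submodule A M, M₁ ≤ M₂ → Φ M₁ ≤ Φ M₂ := by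
    intro M₁ M₂ h z hz
    rw [hmem] at hz ⊢
    obtain ⟨x, rfl⟩ := hz
    refine ⟨((Submodule.inclusion h).lTensor N) x, ?_⟩
    rw [← LinearMap.comp_apply, ← LinearMap.lTensor_comp]
    rfl
  have hrefl : ∀ M₁ M₂ : Submodule A M, M₁ ≤ M₂ → Φ M₂ ≤ Φ M₁ → M₂ ≤ M₁ := by
    intro M₁ M₂ h h21
    have hsurj : Function.Surjective ((Submodule.inclusion h).lTensor N) := by
      intro y
      have hy : (M₂.subtype.lTensor N) y ∈ Φ M₂ := (hmem _ _).mpr ⟨y, rfl⟩
      obtain ⟨x, hx⟩ := (hmem _ _).mp (h21 hy)
      refine ⟨x, ?_⟩
      apply Module.Flat.lTensor_preserves_injective_linearMap (M := N) M₂.subtype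
        M₂.subtype_injective
      rw [← hx, ← LinearMap.comp_apply, ← LinearMap.lTensor_comp]
      rfl
    rw [Module.FaithfullyFlat.lTensor_surjective_iff_surjective] at hsurj
    intro m hm
    obtain ⟨⟨m', hm'⟩, hmm⟩ := hsurj ⟨m, hm⟩
    have : m' = m := congrArg Subtype.val hmm
    rw [← this]
    exact hm'
  have hstrict : StrictMono Φ := by
    intro M₁ M₂ h12
    refine lt_of_le_of_ne (hmono _ _ h12.le) ?_
    intro heq
    exact h12.not_ge (hrefl _ _ h12.le heq.ge)
  have := Order.krullDim_le_of_strictMono Φ hstrict
  rw [← Module.coe_length, ← Module.coe_length] at this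
  exact WithBot.coe_le_coe.mp this

end FF

section Main

variable {A B : Type u} [CommRing A] [CommRing B] [IsLocalRing A] [Algebra A B]
  (N : Type u) [AddCommGroup N] [Module B N] [Module A N] [IsScalarTower A B N]

theorem length_lTensor_eq_mul [Module.FaithfullyFlat A N]
    (M : Type u) [AddCommGroup M] [Module A M] :
    Module.length B (N ⊗[A] M) = Module.length A M *
      Module.length B (N ⧸ ((IsLocalRing.maximalIdeal A).map (algebraMap A B) • (⊤ : Submodule B N))) := by
  by_cases hM : IsFiniteLength A M
  · exact length_lTensor_of_isFiniteLength N M hM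
  · have htop : Module.length A M = ⊤ := by
      by_contra h
      exact hM ((Module.length_ne_top_iff (R := A) (M := M)).mp h)
    have hle := length_le_length_lTensor (A := A) (B := B) N M
    rw [htop, top_le_iff] at hle
    rw [hle, htop, ENat.top_mul]
    intro h0
    rw [Module.length_eq_zero_iff, Submodule.Quotient.subsingleton_iff] at h0
    have h1 : (IsLocalRing.maximalIdeal A) • (⊤ : Submodule A N) = ⊤ := by
      have := congrArg (Submodule.restrictScalars A) h0
      rw [Ideal.smul_restrictScalars, Submodule.restrictScalars_top] at this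
      exact this
    exact Module.FaithfullyFlat.submodule_ne_top (IsLocalRing.maximalIdeal.isMaximal A) h1

end Main

end Groth.Agent.H13
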