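import Mathlib
import Groth.Prelude.Def_Found
import Groth.Agent.H13.LocalNagata

/-!
# N-2 for Noetherian local domains via the generic formal fibre (EGA 0_IV 23.1.7 / IV 7.6.4)
-/

set_option autoImplicit false
set_option linter.style.haveILetI false
set_option linter.unusedSectionVars false
universe u

open TensorProduct IsLocalRing nonZeroDivisors

namespace Groth.Agent.H13.LocalN2

/-- variant of `isN1_of_faithfullyFlat_nagata` with an arbitrary fraction field -/
theorem isN1_of_faithfullyFlat_nagata' (A C B : Type u) [CommRing A] [CommRing C] [Algebra A C]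
    [Module.FaithfullyFlat A C] (hC : CAlg.IsNagata C)
    [CommRing B] [IsDomain B] [Algebra A B] [Module.Finite A B]
    (KB : Type u) [Field KB] [Algebra B KB] [IsFractionRing B KB] [Algebra A KB]
    [IsScalarTower A B KB] (hred : IsReduced (C ⊗[A] KB)) : CAlg.IsN1 B := by
  refine Groth.Agent.H13.NagataDescent.isN1_of_faithfullyFlat_nagata A C B hC ?_
  let e : FractionRing B ≃ₐ[A] KB := (FractionRing.algEquiv B KB).restrictScalars A
  let e' : C ⊗[A] FractionRing B ≃ₐ[C] C ⊗[A] KB :=
    Algebra.TensorProduct.congr AlgEquiv.refl e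
  exact isReduced_of_injective e'.toRingEquiv.toRingHom e'.injective

/-- A Noetherian local domain `A` such that `Â ⊗_A L` is reduced for every finite extension `L`
of its fraction field is N-2. -/
theorem isN2_of_local_domain (A : Type u) [CommRing A] [IsDomain A] [IsLocalRing A]
    [IsNoetherianRing A]
    (hred : ∀ (L : Type u) [Field L] [Algebra A L] [Algebra (FractionRing A) L]
      [IsScalarTower A (FractionRing A) L], FiniteDimensional (FractionRing A) L →
      IsReduced (AdicCompletion (maximalIdeal A) A ⊗[A] L)) : CAlg.IsN2 A := by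
  haveI := Groth.Agent.H72.FormalEquidim.isLocalRing_compl A
  haveI := Groth.Agent.H72.FormalEquidim.isNoetherianRing_compl A
  haveI := Groth.Agent.H72.FormalEquidim.isLocalHom_compl A
  haveI : IsAdicComplete (maximalIdeal (AdicCompletion (maximalIdeal A) A))
      (AdicCompletion (maximalIdeal A) A) :=
    AdicCompletion.isAdicComplete_of_fg (maximalIdeal A).fg_of_isNoetherianRing
  haveI : Module.FaithfullyFlat A (AdicCompletion (maximalIdeal A) A) :=
    Module.FaithfullyFlat.of_flat_of_isLocalHom
  have hC : CAlg.IsNagata (AdicCompletion (maximalIdeal A) A) :=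
    Groth.Agent.H13.CompleteNagata.isNagata_of_complete_local _
  intro L _ _ _ _ hfd
  haveI := hfd
  obtain ⟨S', -, hfin, hfrac⟩ :=
    Groth.Agent.H47.exists_finite_subalgebra_isFractionRing A (FractionRing A) L
  haveI := hfin
  haveI := hfrac
  have hN1 : CAlg.IsN1 S' :=
    isN1_of_faithfullyFlat_nagata' A (AdicCompletion (maximalIdeal A) A) S' hC L (hred L hfd)
  exact Groth.Agent.H47.finite_integralClosure_of_subalgebra S' hN1

/-- EGA 0_IV 23.1.7 (ii): analytically unramified local domain whose completion has geometrically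
reduced total ring of fractions over `Frac A` is N-2. -/
theorem isN2_of_geomReduced_totalFractions {A R : Type u}
    [CommRing A] [IsDomain A] [IsLocalRing A] [IsNoetherianRing A]
    [CommRing R] [Algebra (AdicCompletion (maximalIdeal A) A) R]
    [IsFractionRing (AdicCompletion (maximalIdeal A) A) R] [Algebra A R]
    [IsScalarTower A (AdicCompletion (maximalIdeal A) A) R]
    [Algebra (FractionRing A) R] [IsScalarTower A (FractionRing A) R]
    (h : Algebra.IsGeometricallyReduced (FractionRing A) R) :
    CAlg.IsN2 A := by
  apply isN2_of_local_domain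
  intro L _ _ _ _ hfd
  haveI := hfd
  -- `ψ : K ⊗ Â → R`
  let ψ : FractionRing A ⊗[A] AdicCompletion (maximalIdeal A) A →ₐ[FractionRing A] R :=
    Algebra.TensorProduct.lift (Algebra.ofId (FractionRing A) R)
      (IsScalarTower.toAlgHom A (AdicCompletion (maximalIdeal A) A) R) (fun _ _ => Commute.all _ _)
  have hψ : Function.Injective ψ := by
    let c : AdicCompletion (maximalIdeal A) A ⊗[A] FractionRing A ≃ₐ[A]
        FractionRing A ⊗[A] AdicCompletion (maximalIdeal A) A :=
      Algebra.TensorProduct.comm A _ _
    let ψ₀ : AdicCompletion (maximalIdeal A) A ⊗[A] FractionRing A →+* R :=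
      ψ.toRingHom.comp c.toRingEquiv.toRingHom
    haveI : IsLocalization (Algebra.algebraMapSubmonoid (AdicCompletion (maximalIdeal A) A) A⁰)
        (AdicCompletion (maximalIdeal A) A ⊗[A] FractionRing A) :=
      IsLocalization.tensor (FractionRing A) A⁰
    have hker : RingHom.ker ψ₀ = ⊥ := by
      rw [← IsLocalization.map_under
        (Algebra.algebraMapSubmonoid (AdicCompletion (maximalIdeal A) A) A⁰)
        (AdicCompletion (maximalIdeal A) A ⊗[A] FractionRing A) (RingHom.ker ψ₀)]
      have : Ideal.under (AdicCompletion (maximalIdeal A) A) (RingHom.ker ψ₀) = ⊥ := by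
        rw [eq_bot_iff]
        intro a ha
        have h1 : ψ₀ (algebraMap _ _ a) = 0 := ha
        have h2 : ψ₀ (algebraMap _ _ a) = algebraMap (AdicCompletion (maximalIdeal A) A) R a := by
          simp [ψ₀, c, ψ, Algebra.TensorProduct.algebraMap_apply]
        rw [h2] at h1
        exact (map_eq_zero_iff _ (IsFractionRing.injective _ R)).1 h1
      rw [this, Ideal.map_bot]
    have hψ₀ : Function.Injective ψ₀ := (RingHom.injective_iff_ker_eq_bot ψ₀).2 hker
    intro x y hxy
    have : ψ₀ (c.symm x) = ψ₀ (c.symm y) := by
      simp only [ψ₀, RingHom.comp_apply]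
      have hx : c.toRingEquiv.toRingHom (c.symm x) = x := c.apply_symm_apply x
      have hy : c.toRingEquiv.toRingHom (c.symm y) = y := c.apply_symm_apply y
      rw [hx, hy]
      exact hxy
    exact c.symm.injective (hψ₀ this)
  -- `Ψ : L ⊗ (K ⊗ Â) → L ⊗ R`
  let Ψ : L ⊗[FractionRing A] (FractionRing A ⊗[A] AdicCompletion (maximalIdeal A) A)
      →ₐ[FractionRing A] L ⊗[FractionRing A] R :=
    Algebra.TensorProduct.map (AlgHom.id (FractionRing A) L) ψ
  have hΨ : Function.Injective Ψ := by
    have h1 : Function.Injective (LinearMap.lTensor L ψ.toLinearMap) :=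
      Module.Flat.lTensor_preserves_injective_linearMap (M := L) ψ.toLinearMap hψ
    have h2 : (⇑Ψ : _ → _) = ⇑(LinearMap.lTensor L ψ.toLinearMap) := by
      ext x
      induction x using TensorProduct.induction_on with
      | zero => simp
      | tmul c b => simp [Ψ]
      | add x y hx hy => simp only [map_add, hx, hy]
    rw [h2]; exact h1
  let e2 := Algebra.TensorProduct.cancelBaseChange A (FractionRing A) (FractionRing A) L
    (AdicCompletion (maximalIdeal A) A)
  let e1 := Algebra.TensorProduct.comm A (AdicCompletion (maximalIdeal A) A) L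
  haveI : Algebra.IsAlgebraic (FractionRing A) L := Algebra.IsAlgebraic.of_finite _ _
  haveI : IsReduced (L ⊗[FractionRing A] R) :=
    Algebra.instIsReducedTensorProductOfIsAlgebraicOfIsGeometricallyReduced (FractionRing A) R L
  let Φ : AdicCompletion (maximalIdeal A) A ⊗[A] L →+* L ⊗[FractionRing A] R :=
    Ψ.toRingHom.comp (e2.symm.toRingEquiv.toRingHom.comp e1.toRingEquiv.toRingHom)
  have hΦ : Function.Injective Φ :=
    hΨ.comp (e2.symm.injective.comp e1.injective)
  exact isReduced_of_injective Φ hΦ

end Groth.Agent.H13.LocalN2
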