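import Mathlib
import Groth.Agent.H13.JacobsonFinite

/-!
# A local finite subalgebra with the same fraction field

`D` a Noetherian local domain, `L` a field over `D`, `S₀ ⊆ L` a finite `D`-subalgebra and `t` in
the maximal ideal of `D`.  Then `S = D + t S₀` is a finite `D`-subalgebra of `L` which is a local
ring, and `D → S` is a local homomorphism.  If `t ≠ 0` in `L` and `L = Frac S₀`, then `L = Frac S`.
-/

set_option autoImplicit false
set_option linter.style.haveILetI false
set_option linter.unusedSectionVars false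
universe u

open IsLocalRing

namespace Groth.Agent.H13.LocalSub

variable {D L : Type u} [CommRing D] [Field L] [Algebra D L] (S₀ : Subalgebra D L) (t : D)

/-- the subalgebra `D + t S₀` -/
def sub : Subalgebra D L where
  carrier := {x | ∃ d : D, ∃ s ∈ S₀, x = algebraMap D L d + algebraMap D L t * s}
  mul_mem' := by
    rintro _ _ ⟨d, s, hs, rfl⟩ ⟨d', s', hs', rfl⟩
    refine ⟨d * d', algebraMap D L d * s' + algebraMap D L d' * s + algebraMap D L t * s * s', ?_, ?_⟩
    · refine S₀.add_mem (S₀.add_mem (S₀.mul_mem (S₀.algebraMap_mem d) hs')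
        (S₀.mul_mem (S₀.algebraMap_mem d') hs)) (S₀.mul_mem (S₀.mul_mem (S₀.algebraMap_mem t) hs) hs')
    · rw [map_mul]; ring
  add_mem' := by
    rintro _ _ ⟨d, s, hs, rfl⟩ ⟨d', s', hs', rfl⟩
    exact ⟨d + d', s + s', S₀.add_mem hs hs', by rw [map_add]; ring⟩
  algebraMap_mem' := fun d => ⟨d, 0, S₀.zero_mem, by simp⟩

theorem mem_sub {x : L} :
    x ∈ sub S₀ t ↔ ∃ d : D, ∃ s ∈ S₀, x = algebraMap D L d + algebraMap D L t * s := Iff.rfl

theorem sub_le : sub S₀ t ≤ S₀ := by
  rintro _ ⟨d, s, hs, rfl⟩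
  exact S₀.add_mem (S₀.algebraMap_mem d) (S₀.mul_mem (S₀.algebraMap_mem t) hs)

theorem smul_mem_sub {s : L} (hs : s ∈ S₀) : algebraMap D L t * s ∈ sub S₀ t :=
  ⟨0, s, hs, by simp⟩

theorem finite_sub [IsNoetherianRing D] [Module.Finite D S₀] : Module.Finite D (sub S₀ t) := by
  have h1 : (Subalgebra.toSubmodule S₀).FG := Module.Finite.iff_fg.mp inferInstance
  have h2 : (Subalgebra.toSubmodule (sub S₀ t)).FG :=
    Submodule.FG.of_le h1 (sub_le S₀ t)
  exact Module.Finite.iff_fg.mpr h2

theorem isFractionRing_sub [IsFractionRing S₀ L] (ht : algebraMap D L t ≠ 0) :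
    IsFractionRing (sub S₀ t) L := by
  apply IsFractionRing.of_field
  intro z
  obtain ⟨a, b, hb, rfl⟩ := IsFractionRing.div_surjective (A := S₀) z
  refine ⟨⟨algebraMap D L t * a, smul_mem_sub S₀ t a.2⟩,
    ⟨algebraMap D L t * b, smul_mem_sub S₀ t b.2⟩, ?_⟩
  change algebraMap S₀ L a / algebraMap S₀ L b = (algebraMap D L t * a) / (algebraMap D L t * b)
  rw [mul_div_mul_left _ _ ht]
  rfl

section Local

variable [IsLocalRing D] [Module.Finite D S₀]

/-- elements `d + t s` with `d ∈ m` lie in the Jacobson radical of `S₀`, hence are non-units -/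
theorem not_isUnit_of_mem (ht : t ∈ maximalIdeal D) (d : D) (hd : d ∈ maximalIdeal D) (s : S₀) :
    ¬ IsUnit (algebraMap D S₀ d + algebraMap D S₀ t * s) := by
  haveI : Algebra.IsIntegral D S₀ := Algebra.IsIntegral.of_finite D S₀
  have hjac := Groth.Agent.H13.JacobsonFinite.map_maximalIdeal_le_jacobson D S₀
  have h1 : algebraMap D S₀ d + algebraMap D S₀ t * s ∈ (⊥ : Ideal S₀).jacobson := by
    refine Ideal.add_mem _ (hjac (Ideal.mem_map_of_mem _ hd))
      (Ideal.mul_mem_right _ _ (hjac (Ideal.mem_map_of_mem _ ht)))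
  intro hu
  have htop : (⊥ : Ideal S₀).jacobson = ⊤ := Ideal.eq_top_of_isUnit_mem _ h1 hu
  rw [Ideal.jacobson_eq_top_iff] at htop
  exact bot_ne_top htop

/-- elements `d + t s` with `d ∉ m` are units of `D + t S₀` -/
theorem isUnit_of_notMem (ht : t ∈ maximalIdeal D) (d : D) (hd : d ∉ maximalIdeal D) (s : L)
    (hs : s ∈ S₀) :
    IsUnit (⟨algebraMap D L d + algebraMap D L t * s, ⟨d, s, hs, rfl⟩⟩ : sub S₀ t) := by
  haveI : Algebra.IsIntegral D S₀ := Algebra.IsIntegral.of_finite D S₀
  have hjac := Groth.Agent.H13.JacobsonFinite.map_maximalIdeal_le_jacobson D S₀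
  have hdu : IsUnit d := by
    by_contra h
    exact hd ((mem_maximalIdeal d).mpr h)
  obtain ⟨d', hdd'⟩ := hdu.exists_right_inv
  -- `1 + t d' s` is a unit of `S₀`
  let s₀ : S₀ := ⟨s, hs⟩
  have h1 : algebraMap D S₀ t * (algebraMap D S₀ d' * s₀) ∈ (⊥ : Ideal S₀).jacobson :=
    Ideal.mul_mem_right _ _ (hjac (Ideal.mem_map_of_mem _ ht))
  have hu : IsUnit (algebraMap D S₀ t * (algebraMap D S₀ d' * s₀) + 1) := by
    have := (Ideal.mem_jacobson_bot.mp h1) 1
    rwa [mul_one] at this
  obtain ⟨u, hu'⟩ := hu.exists_right_inv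
  -- the inverse is `d' * u`, and `u = 1 - t (d' s u)`
  have hu'' : (u : L) = 1 - algebraMap D L t * (algebraMap D L d' * s * u) := by
    have := congrArg (fun z : S₀ => (z : L)) hu'
    simp only [Subalgebra.coe_mul, Subalgebra.coe_add, Subalgebra.coe_one,
      Subalgebra.coe_algebraMap, s₀] at this
    linear_combination this
  have hmem : algebraMap D L d' * (u : L) ∈ sub S₀ t := by
    refine ⟨d', -(algebraMap D L d' * (algebraMap D L d' * s * u)), ?_, ?_⟩
    · exact S₀.neg_mem (S₀.mul_mem (S₀.algebraMap_mem d')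
        (S₀.mul_mem (S₀.mul_mem (S₀.algebraMap_mem d') hs) u.2))
    · linear_combination (algebraMap D L d') * hu''
  refine IsUnit.of_mul_eq_one (⟨algebraMap D L d' * (u : L), hmem⟩ : sub S₀ t) ?_
  apply Subtype.ext
  have hdd'L : algebraMap D L d * algebraMap D L d' = 1 := by rw [← map_mul, hdd', map_one]
  have hu3 : (algebraMap D L t * (algebraMap D L d' * s) + 1) * (u : L) = 1 := by
    have := congrArg (fun z : S₀ => (z : L)) hu'
    simpa only [Subalgebra.coe_mul, Subalgebra.coe_add, Subalgebra.coe_one,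
      Subalgebra.coe_algebraMap, s₀] using this
  change (algebraMap D L d + algebraMap D L t * s) * (algebraMap D L d' * (u : L)) = 1
  linear_combination (u : L) * hdd'L + hu3

end Local

section Local2

variable [IsLocalRing D] [Module.Finite D S₀]

/-- a non-unit of `D + t S₀` can be written `d + t s` with `d ∈ m` -/
theorem exists_of_not_isUnit (ht : t ∈ maximalIdeal D) (a : sub S₀ t) (ha : ¬ IsUnit a) :
    ∃ d ∈ maximalIdeal D, ∃ s ∈ S₀, (a : L) = algebraMap D L d + algebraMap D L t * s := by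
  obtain ⟨d, s, hs, hds⟩ := a.2
  refine ⟨d, ?_, s, hs, hds⟩
  by_contra hd
  apply ha
  have := isUnit_of_notMem S₀ t ht d hd s hs
  convert this using 1
  exact Subtype.ext hds

/-- elements `d + t s` with `d ∈ m` are non-units of `D + t S₀` -/
theorem not_isUnit_sub_of_mem (ht : t ∈ maximalIdeal D) (a : sub S₀ t) (d : D)
    (hd : d ∈ maximalIdeal D) (s : L) (hs : s ∈ S₀)
    (ha : (a : L) = algebraMap D L d + algebraMap D L t * s) : ¬ IsUnit a := by
  intro hu
  have hu' : IsUnit (Subalgebra.inclusion (sub_le S₀ t) a) := hu.map _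
  apply not_isUnit_of_mem S₀ t ht d hd ⟨s, hs⟩
  convert hu' using 1
  apply Subtype.ext
  simp only [Subalgebra.coe_add, Subalgebra.coe_mul, Subalgebra.coe_algebraMap,
    Subalgebra.coe_inclusion]
  exact ha.symm

theorem isLocalRing_sub (ht : t ∈ maximalIdeal D) : IsLocalRing (sub S₀ t) := by
  apply IsLocalRing.of_nonunits_add
  intro a b ha hb
  obtain ⟨d, hd, s, hs, hds⟩ := exists_of_not_isUnit S₀ t ht a ha
  obtain ⟨d', hd', s', hs', hds'⟩ := exists_of_not_isUnit S₀ t ht b hb
  refine not_isUnit_sub_of_mem S₀ t ht (a + b) (d + d') (Ideal.add_mem _ hd hd') (s + s')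
    (S₀.add_mem hs hs') ?_
  rw [Subalgebra.coe_add, hds, hds', map_add]
  ring

theorem isLocalHom_sub (ht : t ∈ maximalIdeal D) : IsLocalHom (algebraMap D (sub S₀ t)) := by
  constructor
  intro d hu
  by_contra hd
  have hdm : d ∈ maximalIdeal D := (mem_maximalIdeal d).mpr hd
  exact not_isUnit_sub_of_mem S₀ t ht (algebraMap D (sub S₀ t) d) d hdm 0 S₀.zero_mem (by simp) hu

end Local2

end Groth.Agent.H13.LocalSub
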