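import Mathlib
import Groth.Prelude.Def_Found
import Groth.Agent.H8.DVR

/-!
# Monogenic birational extensions of a normal Noetherian domain

`D` a normal Noetherian domain with fraction field `K`, `S = D[t] ⊆ K` (abstractly: a `D`-algebra
`S` inside `K` generated by one element `t`).  We show

* `S = D + tS` (`exists_eq_add_mul`);
* `tS ∩ D = {d | d / t ∈ D}` (`exists_of_eq_mul`);
* for every associated prime `𝔮` of `S ⧸ tS`, the localization `S_𝔮` is a discrete valuation ring
  (`isDiscreteValuationRing_atPrime`).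
-/

set_option autoImplicit false
set_option linter.style.haveILetI false
set_option linter.unusedSectionVars false
universe u

namespace Groth.Agent.H13.MonoDVR

open Polynomial

variable {D : Type u} [CommRing D] {S : Type u} [CommRing S] [Algebra D S]

/-- `S = D + tS`. -/
theorem exists_eq_add_mul (t : S) (hadj : Algebra.adjoin D {t} = ⊤) (s : S) :
    ∃ (d : D) (s' : S), s = algebraMap D S d + t * s' := by
  have hs : s ∈ Algebra.adjoin D {t} := hadj ▸ Algebra.mem_top
  induction hs using Algebra.adjoin_induction with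
  | mem x hx =>
    rw [Set.mem_singleton_iff] at hx
    exact ⟨0, 1, by rw [hx, map_zero, zero_add, mul_one]⟩
  | algebraMap r => exact ⟨r, 0, by rw [mul_zero, add_zero]⟩
  | add x y _ _ hx hy =>
    obtain ⟨d₁, s₁, rfl⟩ := hx
    obtain ⟨d₂, s₂, rfl⟩ := hy
    exact ⟨d₁ + d₂, s₁ + s₂, by rw [map_add]; ring⟩
  | mul x y _ _ hx hy =>
    obtain ⟨d₁, s₁, rfl⟩ := hx
    obtain ⟨d₂, s₂, rfl⟩ := hy
    exact ⟨d₁ * d₂, algebraMap D S d₁ * s₂ + s₁ * algebraMap D S d₂ + t * s₁ * s₂,
      by rw [map_mul]; ring⟩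

/-- If `u t ∈ D` then every element of `S = D[t]` is brought into `D` by a power of `u`. -/
theorem exists_pow_mul_eq (t : S) (hadj : Algebra.adjoin D {t} = ⊤) (u e : D)
    (hu : algebraMap D S u * t = algebraMap D S e) (s : S) :
    ∃ (n : ℕ) (d : D), algebraMap D S (u ^ n) * s = algebraMap D S d := by
  have hs : s ∈ Algebra.adjoin D {t} := hadj ▸ Algebra.mem_top
  induction hs using Algebra.adjoin_induction with
  | mem x hx =>
    rw [Set.mem_singleton_iff] at hx
    exact ⟨1, e, by rw [hx, pow_one, hu]⟩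
  | algebraMap r => exact ⟨0, r, by rw [pow_zero, map_one, one_mul]⟩
  | add x y _ _ hx hy =>
    obtain ⟨n₁, d₁, h₁⟩ := hx
    obtain ⟨n₂, d₂, h₂⟩ := hy
    refine ⟨n₁ + n₂, u ^ n₂ * d₁ + u ^ n₁ * d₂, ?_⟩
    rw [map_add, map_mul, map_mul, ← h₁, ← h₂, pow_add, map_mul]
    ring
  | mul x y _ _ hx hy =>
    obtain ⟨n₁, d₁, h₁⟩ := hx
    obtain ⟨n₂, d₂, h₂⟩ := hy
    refine ⟨n₁ + n₂, d₁ * d₂, ?_⟩
    rw [map_mul, ← h₁, ← h₂, pow_add, map_mul]
    ring

variable [IsDomain D] [IsIntegrallyClosed D] [IsDomain S]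
  (K : Type u) [Field K] [Algebra D K] [IsFractionRing D K] [Algebra S K] [IsScalarTower D S K]
  [FaithfulSMul S K]

include K

/-- `tS ∩ D = {d | d / t ∈ D}`: if `d = t s` with `d ∈ D`, `s ∈ S = D[t]`, then `s ∈ D`. -/
theorem exists_of_eq_mul (t : S) (hadj : Algebra.adjoin D {t} = ⊤) (d : D) (s : S)
    (h : algebraMap D S d = t * s) : ∃ e : D, algebraMap D S e = s := by
  have hSK : Function.Injective (algebraMap S K) := FaithfulSMul.algebraMap_injective S K
  have hDK : Function.Injective (algebraMap D K) := IsFractionRing.injective D K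
  have hDS : Function.Injective (algebraMap D S) := by
    intro x y hxy
    apply hDK
    rw [IsScalarTower.algebraMap_apply D S K, hxy, ← IsScalarTower.algebraMap_apply D S K]
  by_cases hd : d = 0
  · subst hd
    rw [map_zero] at h
    rcases mul_eq_zero.mp h.symm with ht | hs
    · -- `t = 0`: `S = D`
      subst ht
      have hs : s ∈ Algebra.adjoin D {(0 : S)} := hadj ▸ Algebra.mem_top
      rw [Algebra.adjoin_singleton_eq_range_aeval] at hs
      obtain ⟨P, hP⟩ := hs
      change aeval 0 P = s at hP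
      subst hP
      refine ⟨P.coeff 0, ?_⟩
      rw [aeval_def, eval₂_at_zero]
    · exact ⟨0, by rw [map_zero, hs]⟩
  · have ht : t ≠ 0 := by
      rintro rfl
      rw [zero_mul] at h
      exact hd (hDS (by rw [h, map_zero]))
    have hs : s ∈ Algebra.adjoin D {t} := hadj ▸ Algebra.mem_top
    rw [Algebra.adjoin_singleton_eq_range_aeval] at hs
    obtain ⟨P, hP⟩ := hs
    change aeval t P = s at hP
    subst hP
    set τ : K := algebraMap S K t with hτ
    have hτ0 : τ ≠ 0 := fun h0 => ht (hSK (by rw [← hτ, h0, map_zero]))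
    let Q : D[X] := X * P - C d
    have hQ : aeval τ Q = 0 := by
      have h1 : aeval t Q = 0 := by
        change aeval t (X * P - C d) = 0
        rw [map_sub, map_mul, aeval_X, aeval_C]
        change t * (aeval t P) - algebraMap D S d = 0
        rw [h, sub_self]
      rw [hτ, aeval_algebraMap_apply, h1, map_zero]
    have hQ0 : Q.coeff 0 = -d := by
      change (X * P - C d).coeff 0 = -d
      rw [coeff_sub, coeff_C_zero, mul_comm, coeff_mul_X_zero, zero_sub]
    have hQ0' : Q.coeff 0 ≠ 0 := by rw [hQ0]; exact neg_ne_zero.mpr hd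
    have hlead : Q.reverse.leadingCoeff = -d := by
      rw [reverse_leadingCoeff, trailingCoeff_eq_coeff_zero hQ0', hQ0]
    letI : Invertible τ := invertibleOfNonzero hτ0
    have hrev : aeval (τ⁻¹) Q.reverse = 0 := by
      rw [aeval_def, ← invOf_eq_inv τ, eval₂_reverse_eq_zero_iff, ← aeval_def, hQ]
    have hint := isIntegral_leadingCoeff_smul (R := D) (S := K) Q.reverse τ⁻¹ hrev
    rw [hlead] at hint
    have hval : (-d) • τ⁻¹ = - algebraMap S K (aeval t P) := by
      rw [Algebra.smul_def, map_neg, neg_mul]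
      congr 1
      rw [IsScalarTower.algebraMap_apply D S K, h, map_mul, ← hτ]
      field_simp
    rw [hval] at hint
    have hint' : IsIntegral D (algebraMap S K (aeval t P)) := by
      have := hint.neg
      rwa [neg_neg] at this
    obtain ⟨e, he⟩ := IsIntegrallyClosed.isIntegral_iff.mp hint'
    refine ⟨e, hSK ?_⟩
    rw [← IsScalarTower.algebraMap_apply D S K, he]

variable [IsNoetherianRing D] [IsNoetherianRing S]

/-- For an associated prime `𝔮` of `S ⧸ tS`, the local ring `S_𝔮` is a discrete valuation ring. -/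
theorem isDiscreteValuationRing_atPrime (t : S) (hadj : Algebra.adjoin D {t} = ⊤) (ht : t ≠ 0)
    (𝔮 : Ideal S) (h𝔮 : 𝔮 ∈ associatedPrimes S (S ⧸ Ideal.span {t})) [h𝔮p : 𝔮.IsPrime] :
    IsDiscreteValuationRing (Localization.AtPrime 𝔮) := by
  have hSK : Function.Injective (algebraMap S K) := FaithfulSMul.algebraMap_injective S K
  have hDK : Function.Injective (algebraMap D K) := IsFractionRing.injective D K
  have hDS : Function.Injective (algebraMap D S) := by
    intro x y hxy
    apply hDK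
    rw [IsScalarTower.algebraMap_apply D S K, hxy, ← IsScalarTower.algebraMap_apply D S K]
  obtain ⟨-, ybar, hy⟩ := (isAssociatedPrime_iff (M := S ⧸ Ideal.span {t})).mp h𝔮
  obtain ⟨y, rfl⟩ := Ideal.Quotient.mk_surjective ybar
  obtain ⟨d₀, s', rfl⟩ := exists_eq_add_mul t hadj y
  -- membership in `𝔮`
  have hmem : ∀ q : S, q ∈ 𝔮 ↔ ∃ s'' : S, q * algebraMap D S d₀ = t * s'' := by
    intro q
    rw [hy, Submodule.mem_colon_singleton, Submodule.mem_bot]
    change Ideal.Quotient.mk _ (q * (algebraMap D S d₀ + t * s')) = 0 ↔ _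
    rw [Ideal.Quotient.eq_zero_iff_mem, Ideal.mem_span_singleton']
    constructor
    · rintro ⟨a, ha⟩
      exact ⟨a - q * s', by linear_combination -ha⟩
    · rintro ⟨s'', hs''⟩
      exact ⟨s'' + q * s', by linear_combination -hs''⟩
  have ht𝔮 : t ∈ 𝔮 := (hmem t).mpr ⟨algebraMap D S d₀, rfl⟩
  have hd₀ : ¬ ∃ s'' : S, algebraMap D S d₀ = t * s'' := by
    rintro ⟨s'', hs''⟩
    exact h𝔮p.ne_top ((Ideal.eq_top_iff_one _).mpr ((hmem 1).mpr ⟨s'', by rw [one_mul, hs'']⟩))
  set 𝔭 : Ideal D := 𝔮.comap (algebraMap D S) with h𝔭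
  haveI : 𝔭.IsPrime := Ideal.comap_isPrime _ _
  have hp_e : ∀ p ∈ 𝔭, ∃ e : D, algebraMap D S (p * d₀) = t * algebraMap D S e := by
    intro p hp
    obtain ⟨s'', hs''⟩ := (hmem (algebraMap D S p)).mp hp
    obtain ⟨e, he⟩ := exists_of_eq_mul K t hadj (p * d₀) s'' (by rw [map_mul, hs''])
    exact ⟨e, by rw [map_mul, hs'', he]⟩
  -- a nonzero element of `𝔭`
  obtain ⟨b, hb𝔭, hb0⟩ : ∃ b ∈ 𝔭, b ≠ 0 := by
    obtain ⟨⟨b, a⟩, hba⟩ := IsLocalization.surj (nonZeroDivisors D) (algebraMap S K t)
    have h1 : t * algebraMap D S (a : D) = algebraMap D S b := by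
      apply hSK
      rw [map_mul, ← IsScalarTower.algebraMap_apply D S K, ← IsScalarTower.algebraMap_apply D S K]
      exact hba
    refine ⟨b, ?_, ?_⟩
    · change algebraMap D S b ∈ 𝔮
      rw [← h1]
      exact Ideal.mul_mem_right _ _ ht𝔮
    · rintro rfl
      rw [map_zero] at h1
      rcases mul_eq_zero.mp h1 with h2 | h2
      · exact ht h2
      · exact nonZeroDivisors.ne_zero a.2 (hDS (by rw [h2, map_zero]))
  -- existence of `p₀ ∈ 𝔭` and `u ∉ 𝔭` with `p₀ d₀ = t u`
  obtain ⟨p₀, hp₀, u, hu𝔭, hp₀u⟩ : ∃ p₀ ∈ 𝔭, ∃ u : D, u ∉ 𝔭 ∧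
      algebraMap D S (p₀ * d₀) = t * algebraMap D S u := by
    by_contra hcon
    push Not at hcon
    have hcon' : ∀ p ∈ 𝔭, ∀ e : D, algebraMap D S (p * d₀) = t * algebraMap D S e → e ∈ 𝔭 := by
      intro p hp e he
      by_contra hne
      exact hcon p hp e hne he
    set τ : K := algebraMap S K t with hτ
    have hτ0 : τ ≠ 0 := fun h0 => ht (hSK (by rw [← hτ, h0, map_zero]))
    let w : K := algebraMap D K d₀ / τ
    let N : Submodule D K := Submodule.map (Algebra.linearMap D K) 𝔭
    have hNfg : N.FG := Submodule.FG.map _ (IsNoetherian.noetherian 𝔭)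
    have hNbot : N ≠ ⊥ := by
      intro hbot
      have : algebraMap D K b ∈ N := ⟨b, hb𝔭, rfl⟩
      rw [hbot, Submodule.mem_bot] at this
      exact hb0 (hDK (by rw [this, map_zero]))
    have hw : ∀ n ∈ N, w • n ∈ N := by
      rintro _ ⟨p, hp, rfl⟩
      obtain ⟨e, he⟩ := hp_e p hp
      refine ⟨e, hcon' p hp e he, ?_⟩
      have he' : algebraMap D K p * algebraMap D K d₀ = τ * algebraMap D K e := by
        have := congrArg (algebraMap S K) he
        simp only [map_mul, ← IsScalarTower.algebraMap_apply D S K] at this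
        exact this
      change algebraMap D K e = w • algebraMap D K p
      rw [smul_eq_mul]
      change _ = algebraMap D K d₀ / τ * _
      field_simp
      linear_combination -he'
    have hint : IsIntegral D w := isIntegral_of_smul_mem_submodule N hNbot hNfg w hw
    obtain ⟨e₀, he₀⟩ := IsIntegrallyClosed.isIntegral_iff.mp hint
    apply hd₀
    refine ⟨algebraMap D S e₀, hSK ?_⟩
    rw [map_mul, ← IsScalarTower.algebraMap_apply D S K, ← IsScalarTower.algebraMap_apply D S K,
      he₀, ← hτ]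
    change _ = τ * (algebraMap D K d₀ / τ)
    field_simp
  have hu : algebraMap D S u * t = algebraMap D S (p₀ * d₀) := by rw [hp₀u, mul_comm]
  have hu𝔮 : algebraMap D S u ∉ 𝔮 := hu𝔭
  -- every element of `𝔮` is, up to a unit of `S_𝔮`, a multiple of `p₀`
  have key : ∀ q ∈ 𝔮, ∃ (n : ℕ) (e : D),
      algebraMap D S (u ^ (n + 1)) * q = algebraMap D S p₀ * algebraMap D S e := by
    intro q hq
    obtain ⟨n, d, hnd⟩ := exists_pow_mul_eq t hadj u (p₀ * d₀) hu q
    have hd : d ∈ 𝔭 := by
      change algebraMap D S d ∈ 𝔮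
      rw [← hnd]
      exact Ideal.mul_mem_left _ _ hq
    obtain ⟨e, he⟩ := hp_e d hd
    refine ⟨n, e, ?_⟩
    have h1 : algebraMap D S u * algebraMap D S d = algebraMap D S p₀ * algebraMap D S e := by
      apply mul_left_cancel₀ ht
      rw [map_mul] at he hu
      linear_combination (algebraMap D S d) * hu + (algebraMap D S p₀) * he
    rw [pow_succ, map_mul, mul_comm (algebraMap D S (u ^ n)), mul_assoc, hnd, h1]
  -- conclusion
  set A := Localization.AtPrime 𝔮
  set π : A := algebraMap S A (algebraMap D S p₀) with hπ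
  have hSA : Function.Injective (algebraMap S A) :=
    IsLocalization.injective A 𝔮.primeCompl_le_nonZeroDivisors
  have hmax : IsLocalRing.maximalIdeal A = Ideal.span {π} := by
    rw [← Localization.AtPrime.map_eq_maximalIdeal]
    apply le_antisymm
    · rw [Ideal.map_le_iff_le_comap]
      intro q hq
      obtain ⟨n, e, hne⟩ := key q hq
      rw [Ideal.mem_comap, Ideal.mem_span_singleton]
      have hunit : IsUnit (algebraMap S A (algebraMap D S (u ^ (n + 1)))) := by
        refine IsLocalization.map_units A (⟨_, ?_⟩ : 𝔮.primeCompl)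
        rw [map_pow]
        exact fun h => hu𝔮 (h𝔮p.mem_of_pow_mem _ h)
      rw [← hunit.dvd_mul_left, ← map_mul, hne, map_mul]
      exact Dvd.intro _ rfl
    · rw [Ideal.span_le, Set.singleton_subset_iff]
      exact Ideal.mem_map_of_mem _ hp₀
  have hp₀0 : p₀ ≠ 0 := by
    rintro rfl
    rw [zero_mul, map_zero] at hp₀u
    rcases mul_eq_zero.mp hp₀u.symm with h2 | h2
    · exact ht h2
    · apply hu𝔭
      have : u = 0 := hDS (by rw [h2, map_zero])
      rw [this]
      exact zero_mem _
  have hπ0 : π ∈ nonZeroDivisors A := by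
    apply mem_nonZeroDivisors_of_ne_zero
    intro h0
    exact hp₀0 (hDS (hSA (by rw [← hπ, h0, map_zero, map_zero])))
  obtain ⟨_, hdvr⟩ := Groth.Agent.H8.isDiscreteValuationRing_of_maximalIdeal_eq_span π hπ0 hmax
  exact hdvr

end Groth.Agent.H13.MonoDVR
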