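import Mathlib
import Groth.Prelude.Def_Found
import Groth.Agent.H13.N1Crit

/-!
# A variant of the N-1 criterion with arbitrary localizations

`R` Noetherian domain, `R_f` integrally closed for some `f ≠ 0`, and for every prime `Q` there is a
localization `M⁻¹R` with `M ∩ Q = ∅` which is N-1.  Then `R` is N-1.
-/

set_option autoImplicit false
set_option linter.style.haveILetI false
set_option linter.unusedSectionVars false
universe u

namespace Groth.Agent.H13.N1CritGen

open nonZeroDivisors Groth.Agent.H13.N1Crit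

variable (R : Type u) [CommRing R] [IsDomain R] [IsNoetherianRing R]

local notation "K" => FractionRing R

theorem isN1_of_local' (f : R) (hf : f ≠ 0) (hn : IsIntegrallyClosed (Localization.Away f))
    (hloc : ∀ (Q : Ideal R) [Q.IsPrime], ∃ (M : Submonoid R) (Rm : Type u) (_ : CommRing Rm)
      (_ : Algebra R Rm) (_ : IsLocalization M Rm) (_ : Algebra Rm K) (_ : IsScalarTower R Rm K),
      Disjoint (M : Set R) (Q : Set R) ∧ Module.Finite Rm (integralClosure Rm K)) :
    CAlg.IsN1 R := by
  classical
  have hpowers : Submonoid.powers f ≤ R⁰ :=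
    Submonoid.powers_le.mpr (mem_nonZeroDivisors_of_ne_zero hf)
  have hf1 : ∀ y : K, IsIntegral R y → ∃ (n : ℕ) (r : R),
      algebraMap R K (f ^ n) * y = algebraMap R K r := by
    intro y hy
    obtain ⟨s, ⟨n, rfl⟩, r, hr⟩ :=
      (Groth.Agent.H14.NormalLocus.isIntegrallyClosed_localization_iff (Localization.Away f)
        (Submonoid.powers f) hpowers).mp hn y hy
    exact ⟨n, r, hr⟩
  -- local bounds at the associated primes of `R/fR`
  have hex : ∀ Q : Ideal R, ∃ N : ℕ, Q ∈ associatedPrimes R (R ⧸ Ideal.span {f}) →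
      ∀ y : K, IsIntegral R y → ∃ s ∉ Q, ∃ r : R,
        algebraMap R K s * (algebraMap R K (f ^ N) * y) = algebraMap R K r := by
    intro Q
    by_cases hQ : Q ∈ associatedPrimes R (R ⧸ Ideal.span {f})
    · haveI hQp : Q.IsPrime := hQ.isPrime
      obtain ⟨M, Rm, _, _, _, _, _, hdisj, hfin⟩ := hloc Q
      obtain ⟨N, hN⟩ := exists_pow_denominator M Rm K hfin f hf1
      refine ⟨N, fun _ y hy => ?_⟩
      obtain ⟨s, hs, r, hr⟩ := hN y hy
      exact ⟨s, fun hsQ => Set.disjoint_left.1 hdisj hs hsQ, r, hr⟩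
    · exact ⟨0, fun h => absurd h hQ⟩
  choose Nf hNf using hex
  let N : ℕ := (associatedPrimes.finite R (R ⧸ Ideal.span {f})).toFinset.sup Nf
  have hbound : ∀ y : K, IsIntegral R y → ∃ r : R, algebraMap R K (f ^ N) * y = algebraMap R K r := by
    intro y hy
    obtain ⟨n, r₀, hr₀⟩ := hf1 y hy
    refine mem_of_forall_ass f hf n _ (f ^ N * r₀) ?_ ?_
    · rw [map_mul, ← hr₀]
      ring
    · intro Q hQ
      obtain ⟨s, hsQ, r, hr⟩ := hNf Q hQ y hy
      have hle : Nf Q ≤ N := Finset.le_sup (f := Nf)
        ((associatedPrimes.finite R (R ⧸ Ideal.span {f})).mem_toFinset.mpr hQ)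
      refine ⟨s, hsQ, f ^ (N - Nf Q) * r, ?_⟩
      rw [map_mul, ← hr, ← Nat.sub_add_cancel hle, pow_add, map_mul, Nat.sub_add_cancel hle]
      ring
  -- conclude finiteness
  have hfN : algebraMap R K (f ^ N) ≠ 0 := by
    simpa using pow_ne_zero N hf
  change Module.Finite R (integralClosure R K)
  rw [← fg_iff_finite]
  have hle : (integralClosure R K).toSubmodule ≤
      Submodule.span R {(algebraMap R K (f ^ N))⁻¹} := by
    intro y hy
    obtain ⟨r, hr⟩ := hbound y hy
    rw [Submodule.mem_span_singleton]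
    refine ⟨r, ?_⟩
    rw [Algebra.smul_def, ← hr]
    field_simp
  haveI : IsNoetherian R (Submodule.span R ({(algebraMap R K (f ^ N))⁻¹} : Set K)) :=
    isNoetherian_span_of_finite R (Set.finite_singleton _)
  haveI : IsNoetherian R (integralClosure R K).toSubmodule := isNoetherian_of_le hle
  exact (Module.Finite.iff_fg (N := (integralClosure R K).toSubmodule)).mp inferInstance

end Groth.Agent.H13.N1CritGen
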