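import Mathlib
import Groth.Prelude.Def_Found
import Groth.Agent.H13.N1Crit
import Groth.Agent.H38.N2FracExt

/-!
# N-2 passes to localizations
-/

set_option autoImplicit false
set_option linter.style.haveILetI false
set_option linter.unusedSectionVars false
universe u

open nonZeroDivisors

namespace Groth.Agent.H13.N2Loc

theorem isFractionRing_of_isLocalization_fractionRing {D : Type u} [CommRing D] [IsDomain D]
    (M : Submonoid D) (Dm : Type u) [CommRing Dm] [IsDomain Dm] [Algebra D Dm]
    [IsLocalization M Dm] (hM : M ≤ D⁰) (F : Type u) [Field F] [Algebra Dm F] [IsFractionRing Dm F]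
    [Algebra D F] [IsScalarTower D Dm F] : IsFractionRing D F := by
  have hinj : Function.Injective (algebraMap D F) := by
    rw [IsScalarTower.algebraMap_eq D Dm F]
    exact (IsFractionRing.injective Dm F).comp (IsLocalization.injective Dm hM)
  haveI : FaithfulSMul D F := (faithfulSMul_iff_algebraMap_injective D F).2 hinj
  apply IsFractionRing.of_field
  intro z
  obtain ⟨a, b, hb, rfl⟩ := IsFractionRing.div_surjective (A := Dm) z
  obtain ⟨a₀, s, rfl⟩ := IsLocalization.exists_mk'_eq M a
  obtain ⟨b₀, t, rfl⟩ := IsLocalization.exists_mk'_eq M b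
  refine ⟨a₀ * t, b₀ * s, ?_⟩
  have hs : algebraMap Dm F (algebraMap D Dm s) ≠ 0 := by
    rw [← IsScalarTower.algebraMap_apply]
    exact (map_ne_zero_iff _ hinj).2 (nonZeroDivisors.ne_zero (hM s.2))
  have ht : algebraMap Dm F (algebraMap D Dm t) ≠ 0 := by
    rw [← IsScalarTower.algebraMap_apply]
    exact (map_ne_zero_iff _ hinj).2 (nonZeroDivisors.ne_zero (hM t.2))
  have hb0 : algebraMap Dm F (IsLocalization.mk' Dm b₀ t) ≠ 0 := by
    intro h0
    have := (map_eq_zero_iff _ (IsFractionRing.injective Dm F)).1 h0
    exact (nonZeroDivisors.ne_zero hb) this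
  have e1 : algebraMap Dm F (IsLocalization.mk' Dm a₀ s) * algebraMap Dm F (algebraMap D Dm s) =
      algebraMap D F a₀ := by
    rw [← map_mul, IsLocalization.mk'_spec, ← IsScalarTower.algebraMap_apply]
  have e2 : algebraMap Dm F (IsLocalization.mk' Dm b₀ t) * algebraMap Dm F (algebraMap D Dm t) =
      algebraMap D F b₀ := by
    rw [← map_mul, IsLocalization.mk'_spec, ← IsScalarTower.algebraMap_apply]
  rw [map_mul, map_mul, ← e1, ← e2, IsScalarTower.algebraMap_apply D Dm F s,
    IsScalarTower.algebraMap_apply D Dm F t]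
  field_simp

/-- N-2 localizes. -/
theorem isN2_of_isLocalization {D : Type u} [CommRing D] [IsDomain D] (M : Submonoid D)
    (Dm : Type u) [CommRing Dm] [IsDomain Dm] [Algebra D Dm] [IsLocalization M Dm] (hM : M ≤ D⁰)
    (h : CAlg.IsN2 D) : CAlg.IsN2 Dm := by
  intro L _ _ _ _ hfd
  haveI := hfd
  haveI : IsFractionRing D (FractionRing Dm) :=
    isFractionRing_of_isLocalization_fractionRing M Dm hM (FractionRing Dm)
  letI : Algebra D L := ((algebraMap Dm L).comp (algebraMap D Dm)).toAlgebra
  haveI : IsScalarTower D Dm L := IsScalarTower.of_algebraMap_eq (fun _ => rfl)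
  haveI : IsScalarTower D (FractionRing Dm) L := IsScalarTower.of_algebraMap_eq (fun d => by
    rw [IsScalarTower.algebraMap_apply D Dm L, IsScalarTower.algebraMap_apply Dm (FractionRing Dm) L,
      ← IsScalarTower.algebraMap_apply D Dm (FractionRing Dm)])
  have h1 : Module.Finite D (integralClosure D L) :=
    Groth.Agent.H38.finite_integralClosure_of_isN2_of_finite D (FractionRing Dm) L h
  exact Groth.Agent.H13.N1Crit.finite_integralClosure_localization M Dm L h1

end Groth.Agent.H13.N2Loc
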