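import Mathlib
import Groth.Prelude.Def_Found
import Groth.Agent.H13.N2Loc
import Groth.Agent.H13.N1CritGen
import Groth.Agent.H47.N2Equiv
import Groth.Agent.H47.N2ofN1
import Groth.Agent.H38.FieldNagata
import Groth.Agent.H38.N2Frac

/-!
# Local criterion for Nagata rings (helpers for S12125)
-/

set_option autoImplicit false
set_option linter.style.haveILetI false
set_option linter.unusedSectionVars false
universe u

open nonZeroDivisors

namespace Groth.Agent.H13.NagataLocCrit

/-- quotient of a localization by an extended prime is N-2 when the quotient of the ring is -/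
theorem isN2_quotient_map {A : Type u} [CommRing A] (M : Submonoid A) (S : Type u) [CommRing S]
    [Algebra A S] [IsLocalization M S] (p : Ideal A) [p.IsPrime]
    (hd : Disjoint (M : Set A) (p : Set A)) [(p.map (algebraMap A S)).IsPrime]
    (h : CAlg.IsN2 (A ⧸ p)) : CAlg.IsN2 (S ⧸ p.map (algebraMap A S)) := by
  refine Groth.Agent.H13.N2Loc.isN2_of_isLocalization (Algebra.algebraMapSubmonoid (A ⧸ p) M)
    (S ⧸ p.map (algebraMap A S)) ?_ h
  rintro _ ⟨a, ha, rfl⟩
  apply mem_nonZeroDivisors_of_ne_zero
  intro h0
  have : a ∈ p := Ideal.Quotient.eq_zero_iff_mem.mp h0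
  exact Set.disjoint_left.1 hd ha this

/-- quotients of a localization by primes are N-2 when the quotients of the ring are -/
theorem isN2_quotient_of_isLocalization {A : Type u} [CommRing A] (M : Submonoid A) (S : Type u)
    [CommRing S] [Algebra A S] [IsLocalization M S] (P : Ideal S) [hP : P.IsPrime]
    (h : ∀ (p : Ideal A) [p.IsPrime], CAlg.IsN2 (A ⧸ p)) : CAlg.IsN2 (S ⧸ P) := by
  let p : Ideal A := P.comap (algebraMap A S)
  haveI : p.IsPrime := Ideal.comap_isPrime _ P
  have hmap : p.map (algebraMap A S) = P := IsLocalization.map_under M S P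
  haveI : (p.map (algebraMap A S)).IsPrime := hmap.symm ▸ hP
  have hd : Disjoint (M : Set A) (p : Set A) :=
    ((IsLocalization.isPrime_iff_isPrime_disjoint M S P).mp hP).2
  have h1 := isN2_quotient_map M S p hd (h p)
  exact Groth.Agent.H47.isN2_of_ringEquiv (Ideal.quotEquivOfEq hmap) h1

/-- the integral closures of `D` and of a finite subalgebra `B'` in `K'` agree, so finiteness
passes from one to the other -/
theorem finite_integralClosure_subalgebra {D K' : Type u} [CommRing D] [Field K'] [Algebra D K']
    (B' : Subalgebra D K') [Module.Finite D B']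
    (h : Module.Finite D (integralClosure D K')) : Module.Finite B' (integralClosure B' K') := by
  haveI : Algebra.IsIntegral D B' := Algebra.IsIntegral.of_finite D B'
  have heq : ∀ x : K', x ∈ integralClosure B' K' ↔ x ∈ integralClosure D K' := by
    intro x
    constructor
    · intro hx
      exact isIntegral_trans (R := D) (A := B') x hx
    · intro hx
      exact IsIntegral.tower_top (A := B') hx
  rw [← Groth.Agent.H13.N1Crit.fg_iff_finite] at h ⊢
  obtain ⟨T, hT⟩ := h
  refine ⟨T, le_antisymm ?_ ?_⟩
  · rw [Submodule.span_le]
    intro t ht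
    have : t ∈ Subalgebra.toSubmodule (integralClosure D K') := by
      rw [← hT]
      exact Submodule.subset_span ht
    exact (heq t).2 this
  · intro x hx
    have hx' : x ∈ Subalgebra.toSubmodule (integralClosure D K') := (heq x).1 hx
    rw [← hT] at hx'
    exact Submodule.span_le_restrictScalars D B' (T : Set K') hx'

/-- (⟹)(2) of S12125 -/
theorem exists_away_of_isN2 (D : Type u) [CommRing D] [IsDomain D] [IsNoetherianRing D]
    (hD : CAlg.IsN2 D) (K' : Type u) [Field K'] [Algebra D K'] [Algebra (FractionRing D) K']
    [IsScalarTower D (FractionRing D) K'] [FiniteDimensional (FractionRing D) K']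
    (B' : Subalgebra D K') (hfin : Module.Finite D B') (hfr : IsFractionRing B' K') :
    ∃ f : B', f ≠ 0 ∧ IsIntegrallyClosed (Localization.Away f) := by
  haveI := hfin
  haveI := hfr
  haveI : IsNoetherianRing B' := Algebra.FiniteType.isNoetherianRing D B'
  have h1 : Module.Finite D (integralClosure D K') := hD K' inferInstance
  have h2 : Module.Finite B' (integralClosure B' K') := finite_integralClosure_subalgebra B' h1
  have h3 : CAlg.IsN1 B' := (Groth.Agent.H13.N1Crit.isN1_iff B' K').mpr h2
  exact Groth.Agent.H13.N1Crit.exists_away_isIntegrallyClosed B' h3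

/-- the local rings of `A ⧸ p` at maximal ideals are N-2 when the quotients of the local rings
of `A` at maximal ideals by primes are -/
theorem isN2_atPrime_quotient {A : Type u} [CommRing A] (p : Ideal A) [hp : p.IsPrime]
    (h1 : ∀ (m : Ideal A) [m.IsMaximal] (P : Ideal (Localization.AtPrime m)) [P.IsPrime],
      CAlg.IsN2 (Localization.AtPrime m ⧸ P))
    (m' : Ideal (A ⧸ p)) [hm' : m'.IsMaximal] : CAlg.IsN2 (Localization.AtPrime m') := by
  let m : Ideal A := m'.comap (Ideal.Quotient.mk p)
  haveI hm : m.IsMaximal := Ideal.comap_isMaximal_of_surjective _ Ideal.Quotient.mk_surjective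
  have hpm : p ≤ m := by
    intro a ha
    change Ideal.Quotient.mk p a ∈ m'
    rw [Ideal.Quotient.eq_zero_iff_mem.mpr ha]
    exact m'.zero_mem
  have hd : Disjoint (m.primeCompl : Set A) (p : Set A) := by
    rw [Set.disjoint_left]
    intro a ha hap
    exact ha (hpm hap)
  let P : Ideal (Localization.AtPrime m) := p.map (algebraMap A (Localization.AtPrime m))
  haveI hP : P.IsPrime := IsLocalization.isPrime_of_isPrime_disjoint m.primeCompl _ p hp hd
  have hN2 : CAlg.IsN2 (Localization.AtPrime m ⧸ P) := h1 m P
  have hsub : Algebra.algebraMapSubmonoid (A ⧸ p) m.primeCompl = m'.primeCompl := by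
    ext x
    constructor
    · rintro ⟨a, ha, rfl⟩
      exact ha
    · intro hx
      obtain ⟨a, rfl⟩ := Ideal.Quotient.mk_surjective x
      exact ⟨a, hx, rfl⟩
  haveI : IsLocalization m'.primeCompl (Localization.AtPrime m ⧸ P) := by
    rw [← hsub]
    infer_instance
  exact Groth.Agent.H47.isN2_of_ringEquiv
    (IsLocalization.algEquiv m'.primeCompl (Localization.AtPrime m ⧸ P)
      (Localization.AtPrime m')).toRingEquiv hN2

/-- local finiteness of the integral closure of a finite extension domain, from N-2 of the local
rings of the base -/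
theorem exists_localization_finite (D : Type u) [CommRing D] [IsDomain D]
    (hloc : ∀ (m' : Ideal D) [m'.IsMaximal], CAlg.IsN2 (Localization.AtPrime m'))
    (B : Type u) [CommRing B] [IsDomain B] [Algebra D B] [Module.Finite D B]
    (hinj : Function.Injective (algebraMap D B)) (Q : Ideal B) [hQ : Q.IsPrime] :
    ∃ (M : Submonoid B) (Rm : Type u) (_ : CommRing Rm)
      (_ : Algebra B Rm) (_ : IsLocalization M Rm) (_ : Algebra Rm (FractionRing B))
      (_ : IsScalarTower B Rm (FractionRing B)),
      Disjoint (M : Set B) (Q : Set B) ∧
        Module.Finite Rm (integralClosure Rm (FractionRing B)) := by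
  let q : Ideal D := Q.comap (algebraMap D B)
  haveI : q.IsPrime := Ideal.comap_isPrime _ Q
  obtain ⟨m', hm', hqm⟩ := Ideal.exists_le_maximal q (Ideal.IsPrime.ne_top inferInstance)
  haveI := hm'
  let M : Submonoid B := Algebra.algebraMapSubmonoid B m'.primeCompl
  have hdisj : Disjoint (M : Set B) (Q : Set B) := by
    rw [Set.disjoint_left]
    rintro _ ⟨a, ha, rfl⟩ haQ
    exact ha (hqm haQ)
  have hM : M ≤ B⁰ := by
    intro x hx
    apply mem_nonZeroDivisors_of_ne_zero
    rintro rfl
    exact Set.disjoint_left.1 hdisj hx Q.zero_mem
  haveI : IsDomain (Localization M) := IsLocalization.isDomain_localization hM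
  letI : Algebra (Localization M) (FractionRing B) :=
    IsLocalization.localizationAlgebraOfSubmonoidLe (Localization M) (FractionRing B) M B⁰ hM
  haveI : IsScalarTower B (Localization M) (FractionRing B) :=
    IsLocalization.localization_isScalarTower_of_submonoid_le (Localization M) (FractionRing B)
      M B⁰ hM
  haveI : IsFractionRing (Localization M) (FractionRing B) :=
    IsFractionRing.isFractionRing_of_isDomain_of_isLocalization M (Localization M) (FractionRing B)
  haveI : IsScalarTower D (Localization.AtPrime m') (Localization M) := inferInstance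
  haveI : Module.Finite (Localization.AtPrime m') (Localization M) :=
    Module.Finite.of_isLocalization D B m'.primeCompl
  haveI : FaithfulSMul (Localization.AtPrime m') (Localization M) :=
    (faithfulSMul_iff_algebraMap_injective _ _).mpr
      (localizationAlgebra_injective (Localization.AtPrime m') (Localization M) hinj)
  have hN2 : CAlg.IsN2 (Localization M) :=
    Groth.Agent.H38.FieldNagata.isN2_of_finite_injective (R := Localization.AtPrime m') (hloc m')
  exact ⟨M, Localization M, inferInstance, inferInstance, inferInstance, inferInstance,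
    inferInstance, hdisj,
    Groth.Agent.H38.finite_integralClosure_of_isN2 (Localization M) (FractionRing B) hN2⟩

end Groth.Agent.H13.NagataLocCrit
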