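import Mathlib
import Groth.Prelude.Def_Found
import Groth.Agent.H13.MonoDVR
import Groth.Agent.H13.AnUnramLemma
import Groth.Agent.H13.AnUnramN1
import Groth.Agent.H13.NagataLocCrit
import Groth.Agent.H26.ComplQuot
import Groth.Agent.S0576

/-!
# Monogenic birational extensions of a normal Nagata domain are analytically unramified at
primes containing the generator

`D` a normal Nagata domain with fraction field `K`, `S = D[t] ⊆ K`, `P` a prime of `S` containing
`t`.  Then the completion of `S_P` is reduced, hence `S_P` is N-1.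
-/

set_option autoImplicit false
set_option linter.style.haveILetI false
set_option linter.unusedSectionVars false
universe u

namespace Groth.Agent.H13.MonoAnUnram

open IsLocalRing Groth.Agent.H13.MonoDVR

variable {D : Type u} [CommRing D] {S : Type u} [CommRing S] [Algebra D S]

/-- `S ⧸ 𝔮 ≅ D ⧸ (𝔮 ∩ D)` is N-2 for primes `𝔮 ∋ t` of `S = D[t]`, when `D` is Nagata. -/
theorem isN2_quotient_of_mem (hD : CAlg.IsNagata D) (t : S) (hadj : Algebra.adjoin D {t} = ⊤)
    (𝔮 : Ideal S) [𝔮.IsPrime] (ht : t ∈ 𝔮) : CAlg.IsN2 (S ⧸ 𝔮) := by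
  let f : D →+* S ⧸ 𝔮 := (Ideal.Quotient.mk 𝔮).comp (algebraMap D S)
  have hsurj : Function.Surjective f := by
    intro x
    obtain ⟨s, rfl⟩ := Ideal.Quotient.mk_surjective x
    obtain ⟨d, s', rfl⟩ := exists_eq_add_mul t hadj s
    refine ⟨d, ?_⟩
    change Ideal.Quotient.mk 𝔮 (algebraMap D S d) = _
    rw [Ideal.Quotient.eq]
    have : algebraMap D S d - (algebraMap D S d + t * s') = -(t * s') := by ring
    rw [this]
    exact neg_mem (Ideal.mul_mem_right _ _ ht)
  haveI : (RingHom.ker f).IsPrime := RingHom.ker_isPrime f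
  exact Groth.Agent.H47.isN2_of_ringEquiv (RingHom.quotientKerEquivOfSurjective hsurj)
    (hD.2 (RingHom.ker f))

/-- Quotient of the localization `S_P` by the extension of a prime `𝔮 ∋ t`, `𝔮 ≤ P`, is Nagata. -/
theorem isNagata_quotient_map [IsNoetherianRing S] (hD : CAlg.IsNagata D) (t : S)
    (hadj : Algebra.adjoin D {t} = ⊤) (P : Ideal S) [P.IsPrime] (𝔮 : Ideal S) (ht : t ∈ 𝔮) :
    CAlg.IsNagata (Localization.AtPrime P ⧸ 𝔮.map (algebraMap S (Localization.AtPrime P))) := by
  set A := Localization.AtPrime P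
  set I : Ideal A := 𝔮.map (algebraMap S A) with hI
  haveI : IsNoetherianRing A := IsLocalization.isNoetherianRing P.primeCompl A inferInstance
  refine ⟨inferInstance, ?_⟩
  intro 𝔯 h𝔯
  set 𝔯' : Ideal A := 𝔯.comap (Ideal.Quotient.mk I) with h𝔯'
  haveI h𝔯'p : 𝔯'.IsPrime := Ideal.comap_isPrime _ _
  have hle : I ≤ 𝔯' := by
    intro a ha
    change Ideal.Quotient.mk I a ∈ 𝔯
    rw [Ideal.Quotient.eq_zero_iff_mem.mpr ha]
    exact zero_mem _
  have hmap𝔯 : 𝔯'.map (Ideal.Quotient.mk I) = 𝔯 :=
    Ideal.map_comap_of_surjective _ Ideal.Quotient.mk_surjective 𝔯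
  set 𝔮' : Ideal S := 𝔯'.comap (algebraMap S A) with h𝔮'
  haveI : 𝔮'.IsPrime := Ideal.comap_isPrime _ _
  have hmap : 𝔮'.map (algebraMap S A) = 𝔯' := IsLocalization.map_under P.primeCompl A 𝔯'
  haveI : (𝔮'.map (algebraMap S A)).IsPrime := hmap.symm ▸ h𝔯'p
  have hd : Disjoint (P.primeCompl : Set S) (𝔮' : Set S) :=
    ((IsLocalization.isPrime_iff_isPrime_disjoint P.primeCompl A 𝔯').mp h𝔯'p).2
  have ht' : t ∈ 𝔮' := by
    change algebraMap S A t ∈ 𝔯'
    exact hle (Ideal.mem_map_of_mem _ ht)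
  have h1 := Groth.Agent.H13.NagataLocCrit.isN2_quotient_map P.primeCompl A 𝔮' hd
    (isN2_quotient_of_mem hD t hadj 𝔮' ht')
  have h2 : CAlg.IsN2 (A ⧸ 𝔯') :=
    Groth.Agent.H47.isN2_of_ringEquiv (Ideal.quotEquivOfEq hmap) h1
  haveI : (𝔯'.map (Ideal.Quotient.mk I)).IsPrime := hmap𝔯.symm ▸ h𝔯
  have h3 : CAlg.IsN2 ((A ⧸ I) ⧸ 𝔯'.map (Ideal.Quotient.mk I)) :=
    Groth.Agent.H47.isN2_of_ringEquiv (DoubleQuot.quotQuotEquivQuotOfLE hle).symm h2
  exact Groth.Agent.H47.isN2_of_ringEquiv (Ideal.quotEquivOfEq hmap𝔯) h3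

variable [IsDomain D] [IsIntegrallyClosed D] [IsDomain S]
  (K : Type u) [Field K] [Algebra D K] [IsFractionRing D K] [Algebra S K] [IsScalarTower D S K]
  [FaithfulSMul S K] [IsNoetherianRing S]

include K

/-- **Analytic unramifiedness.** The completion of `S_P` is reduced, for `t ∈ P`. -/
theorem isReduced_adicCompletion (hD : CAlg.IsNagata D) (t : S)
    (hadj : Algebra.adjoin D {t} = ⊤) (ht : t ≠ 0) (P : Ideal S) [hP : P.IsPrime] (htP : t ∈ P) :
    IsReduced (AdicCompletion (maximalIdeal (Localization.AtPrime P)) (Localization.AtPrime P)) := by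
  haveI : IsNoetherianRing D := hD.1
  set A := Localization.AtPrime P
  set T := AdicCompletion (maximalIdeal A) A
  haveI : IsNoetherianRing A := IsLocalization.isNoetherianRing P.primeCompl A inferInstance
  haveI : IsNoetherianRing T := Groth.Agent.H72.FormalEquidim.isNoetherianRing_compl A
  haveI : IsLocalRing T := Groth.Agent.H72.FormalEquidim.isLocalRing_compl A
  haveI : IsLocalHom (algebraMap A T) := Groth.Agent.H72.FormalEquidim.isLocalHom_compl A
  haveI : IsScalarTower S A T := inferInstance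
  haveI : Module.Flat S A := IsLocalization.flat A P.primeCompl
  haveI : Module.Flat A T := inferInstance
  haveI : Module.Flat S T := Module.Flat.trans S A T
  refine Groth.Agent.H13.AnUnramLemma.isReduced_of_flat (R := S) (S := T) t ht ?_ ?_
  · -- `t` maps into the Jacobson radical
    rw [IsLocalRing.jacobson_eq_maximalIdeal ⊥ bot_ne_top, mem_maximalIdeal, mem_nonunits_iff]
    intro hu
    have hu' : IsUnit (algebraMap S A t) := isUnit_of_map_unit (algebraMap A T) _ hu
    have : algebraMap S A t ∈ maximalIdeal A :=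
      (IsLocalization.AtPrime.to_map_mem_maximal_iff A P t).mpr htP
    exact this hu'
  · intro 𝔮 h𝔮 h𝔮p
    refine ⟨isDiscreteValuationRing_atPrime K t hadj ht 𝔮 h𝔮, ?_⟩
    have ht𝔮 : t ∈ 𝔮 := by
      have h1 : Module.annihilator S (S ⧸ Ideal.span {t}) ≤ 𝔮 := by
        rw [← Submodule.annihilator_top]
        exact IsAssociatedPrime.annihilator_le h𝔮
      rw [Ideal.annihilator_quotient] at h1
      exact h1 (Ideal.mem_span_singleton_self t)
    by_cases h𝔮P : 𝔮 ≤ P
    · set I : Ideal A := 𝔮.map (algebraMap S A) with hI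
      have hdisj : Disjoint (P.primeCompl : Set S) (𝔮 : Set S) := by
        rw [Set.disjoint_left]
        intro x hx hxq
        exact hx (h𝔮P hxq)
      haveI hIp : I.IsPrime :=
        IsLocalization.isPrime_of_isPrime_disjoint P.primeCompl A 𝔮 h𝔮p hdisj
      haveI : Nontrivial (A ⧸ I) := Ideal.Quotient.nontrivial_iff.mpr hIp.ne_top
      haveI : IsLocalRing (A ⧸ I) :=
        IsLocalRing.of_surjective' (Ideal.Quotient.mk I) Ideal.Quotient.mk_surjective
      have hNag : CAlg.IsNagata (A ⧸ I) := isNagata_quotient_map hD t hadj P 𝔮 ht𝔮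
      have hred := Groth.Agent.S0576.result (A ⧸ I) hNag
      obtain ⟨e⟩ := Groth.Agent.H26.ComplQuot.nonempty_adicCompletion_quotient_equiv A I
      have h2 : IsReduced (T ⧸ I.map (algebraMap A T)) :=
        isReduced_of_injective e.symm e.symm.injective
      have hmap : 𝔮.map (algebraMap S T) = I.map (algebraMap A T) := by
        rw [hI, Ideal.map_map]
        rfl
      rw [hmap]
      exact h2
    · have htop : 𝔮.map (algebraMap S T) = ⊤ := by
        obtain ⟨q, hq, hqP⟩ := Set.not_subset.mp h𝔮P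
        refine Ideal.eq_top_of_isUnit_mem _ (Ideal.mem_map_of_mem _ hq) ?_
        have hu : IsUnit (algebraMap S A q) :=
          IsLocalization.map_units A (⟨q, hqP⟩ : P.primeCompl)
        exact hu.map (algebraMap A T)
      rw [htop]
      haveI : Subsingleton (T ⧸ (⊤ : Ideal T)) := Ideal.Quotient.subsingleton_iff.mpr rfl
      infer_instance

/-- `S_P` is N-1, for `t ∈ P`. -/
theorem isN1_atPrime (hD : CAlg.IsNagata D) (t : S)
    (hadj : Algebra.adjoin D {t} = ⊤) (ht : t ≠ 0) (P : Ideal S) [hP : P.IsPrime] (htP : t ∈ P) :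
    CAlg.IsN1 (Localization.AtPrime P) := by
  haveI : IsNoetherianRing (Localization.AtPrime P) :=
    IsLocalization.isNoetherianRing P.primeCompl _ inferInstance
  haveI := isReduced_adicCompletion K hD t hadj ht P htP
  exact Groth.Agent.H13.AnUnramN1.isN1_of_isReduced_completion (Localization.AtPrime P)

end Groth.Agent.H13.MonoAnUnram
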