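import Mathlib
import Groth.Prelude.Def_Found
import Groth.Agent.H13.MonoDVR
import Groth.Agent.H13.MonoAnUnram
import Groth.Agent.H13.IntegralScale
import Groth.Agent.H13.N1Crit

/-!
# Monogenic birational extensions of a normal Nagata domain are N-1

`D` a normal Nagata domain with fraction field `K`, `S = D[x] ⊆ K`.  Then `S` is N-1
(Stacks 0334, steps 6-8, with the splitting field replaced by a direct argument).
-/

set_option autoImplicit false
set_option linter.style.haveILetI false
set_option linter.unusedSectionVars false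
universe u

namespace Groth.Agent.H13.MonoN1

open Polynomial Groth.Agent.H13.MonoDVR

/-- An intermediate ring `D ⊆ S' ⊆ K = Frac D` has fraction field `K`. -/
theorem isFractionRing_of_tower (D S' K : Type*) [CommRing D] [CommRing S'] [Field K]
    [Algebra D S'] [Algebra D K] [Algebra S' K] [IsScalarTower D S' K] [IsFractionRing D K]
    [FaithfulSMul S' K] : IsFractionRing S' K := by
  apply IsFractionRing.of_field
  intro z
  obtain ⟨a, b, -, rfl⟩ := IsFractionRing.div_surjective (A := D) z
  exact ⟨algebraMap D S' a, algebraMap D S' b, by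
    rw [← IsScalarTower.algebraMap_apply, ← IsScalarTower.algebraMap_apply]⟩

variable {D : Type u} [CommRing D] [IsDomain D] [IsIntegrallyClosed D]
  {S : Type u} [CommRing S] [IsDomain S] [Algebra D S]
  (K : Type u) [Field K] [Algebra D K] [IsFractionRing D K] [Algebra S K] [IsScalarTower D S K]
  [FaithfulSMul S K]

include K in
/-- Generic normality: if `a x ∈ D` then integral elements over `S = D[x]` have denominators
powers of `a`. -/
theorem exists_pow_mul_eq_of_isIntegral (x : S) (hadj : Algebra.adjoin D {x} = ⊤) (a b : D)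
    (hab : algebraMap D S a * x = algebraMap D S b) (y : K) (hy : IsIntegral S y) :
    ∃ (n : ℕ) (d : D), algebraMap D K (a ^ n) * y = algebraMap D K d := by
  have h : ∀ r : S, ∃ k : ℕ, IsIntegral D (algebraMap D S (a ^ k) * r) := by
    intro r
    obtain ⟨n, d, hnd⟩ := exists_pow_mul_eq x hadj a b hab r
    exact ⟨n, by rw [hnd]; exact isIntegral_algebraMap⟩
  obtain ⟨k, hk⟩ := Groth.Agent.H13.IntegralScale.exists_pow_mul_isIntegral (R₁ := D) (R₂ := S)
    a h y hy
  obtain ⟨d, hd⟩ := IsIntegrallyClosed.isIntegral_iff.mp hk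
  exact ⟨k, d, hd.symm⟩

omit [IsDomain D] [IsIntegrallyClosed D] in
/-- For a maximal ideal `𝔪` of `S = D[x]`, some polynomial `g` with leading coefficient outside
`𝔪 ∩ D` satisfies `g(x) ∈ 𝔪`. -/
theorem exists_polynomial (x : S) (hadj : Algebra.adjoin D {x} = ⊤) (𝔪 : Ideal S)
    [h𝔪 : 𝔪.IsMaximal] :
    ∃ g : D[X], g.leadingCoeff ∉ 𝔪.comap (algebraMap D S) ∧ aeval x g ∈ 𝔪 := by
  set 𝔫 : Ideal D := 𝔪.comap (algebraMap D S) with h𝔫
  letI : Field (S ⧸ 𝔪) := Ideal.Quotient.field 𝔪
  set xb : S ⧸ 𝔪 := Ideal.Quotient.mk 𝔪 x with hxb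
  have hmk : ∀ P : D[X], aeval xb (P.map (algebraMap D (D ⧸ 𝔫))) =
      Ideal.Quotient.mk 𝔪 (aeval x P) := by
    intro P
    rw [aeval_map_algebraMap, hxb]
    exact (aeval_algHom_apply (Ideal.Quotient.mkₐ D 𝔪) x P)
  have hsurj : Function.Surjective (aeval xb : (D ⧸ 𝔫)[X] →ₐ[D ⧸ 𝔫] S ⧸ 𝔪) := by
    intro sb
    obtain ⟨s, rfl⟩ := Ideal.Quotient.mk_surjective sb
    have hs : s ∈ Algebra.adjoin D {x} := hadj ▸ Algebra.mem_top
    rw [Algebra.adjoin_singleton_eq_range_aeval] at hs
    obtain ⟨P, hP⟩ := hs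
    change aeval x P = s at hP
    exact ⟨P.map (algebraMap D (D ⧸ 𝔫)), by rw [hmk, hP]⟩
  have halg : IsAlgebraic (D ⧸ 𝔫) xb := by
    by_contra htr
    have hinj : Function.Injective (aeval xb : (D ⧸ 𝔫)[X] →ₐ[D ⧸ 𝔫] S ⧸ 𝔪) :=
      transcendental_iff_injective.mp htr
    let e : (D ⧸ 𝔫)[X] ≃+* S ⧸ 𝔪 :=
      RingEquiv.ofBijective (aeval xb : (D ⧸ 𝔫)[X] →ₐ[D ⧸ 𝔫] S ⧸ 𝔪) ⟨hinj, hsurj⟩
    exact Polynomial.not_isField (D ⧸ 𝔫) (e.toMulEquiv.isField (Field.toIsField (S ⧸ 𝔪)))
  obtain ⟨gb, hgb0, hgb⟩ := halg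
  have hlift : gb ∈ lifts (algebraMap D (D ⧸ 𝔫)) := by
    rw [mem_lifts]
    exact map_surjective _ Ideal.Quotient.mk_surjective gb
  obtain ⟨g, hg, hdeg⟩ := exists_degree_eq_of_mem_lifts hlift
  refine ⟨g, ?_, ?_⟩
  · intro hmem
    have h1 : gb.leadingCoeff = Ideal.Quotient.mk 𝔫 g.leadingCoeff := by
      rw [leadingCoeff, leadingCoeff, ← natDegree_eq_natDegree hdeg, ← hg, coeff_map]
      rfl
    rw [Ideal.Quotient.eq_zero_iff_mem.mpr hmem, leadingCoeff_eq_zero] at h1
    exact hgb0 h1
  · rw [← Ideal.Quotient.eq_zero_iff_mem, ← hmk, hg, hgb]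

include K in
/-- Local bound on denominators at a maximal ideal of `S = D[x]`. -/
theorem exists_local_bound (hD : CAlg.IsNagata D) (x : S) (hadj : Algebra.adjoin D {x} = ⊤)
    (a b : D) (hab : algebraMap D S a * x = algebraMap D S b)
    (𝔪 : Ideal S) [h𝔪 : 𝔪.IsMaximal] :
    ∃ N : ℕ, ∀ y : K, IsIntegral S y → ∃ s ∉ 𝔪, ∃ r : S,
      algebraMap S K s * (algebraMap S K (algebraMap D S a ^ N) * y) = algebraMap S K r := by
  haveI : IsNoetherianRing D := hD.1
  have hSK : Function.Injective (algebraMap S K) := FaithfulSMul.algebraMap_injective S K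
  obtain ⟨g, hgl, hgx⟩ := exists_polynomial x hadj 𝔪
  set c₀ : D := g.leadingCoeff with hc₀
  have hc₀𝔪 : algebraMap D S c₀ ∉ 𝔪 := hgl
  have hg0 : g ≠ 0 := by
    intro hg0
    apply hgl
    rw [hc₀, hg0, leadingCoeff_zero]
    exact zero_mem _
  have hdeg : 1 ≤ g.natDegree := by
    by_contra hlt
    have h0 : g.natDegree = 0 := by omega
    rw [eq_C_of_natDegree_eq_zero h0, aeval_C] at hgx
    apply hc₀𝔪
    rwa [hc₀, leadingCoeff, h0]
  set G : D[X] := integralNormalization g with hG
  have hGm : G.Monic := monic_integralNormalization hg0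
  have hGdeg : G.natDegree = g.natDegree := natDegree_integralNormalization
  set z : S := algebraMap D S c₀ * x with hz
  set t : S := aeval z G with ht
  have ht𝔪 : t ∈ 𝔪 := by
    have h1 := integralNormalization_eval₂_leadingCoeff_mul hdeg (algebraMap D S) x
    rw [ht, aeval_def, hz, hc₀, hG, h1]
    refine Ideal.mul_mem_left _ _ ?_
    rwa [← aeval_def]
  by_cases ht0 : t = 0
  · -- `z` is integral over `D`, hence lies in `D`
    have hzint : IsIntegral D z := ⟨G, hGm, by rw [← aeval_def]; exact ht0⟩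
    have hzK : IsIntegral D (algebraMap S K z) := hzint.map (IsScalarTower.toAlgHom D S K)
    obtain ⟨e, he⟩ := IsIntegrallyClosed.isIntegral_iff.mp hzK
    have hez : algebraMap D S c₀ * x = algebraMap D S e :=
      hSK (by rw [← IsScalarTower.algebraMap_apply, he])
    refine ⟨0, fun y hy => ?_⟩
    obtain ⟨n, d, hnd⟩ := exists_pow_mul_eq_of_isIntegral K x hadj c₀ e hez y hy
    refine ⟨algebraMap D S (c₀ ^ n), ?_, algebraMap D S d, ?_⟩
    · rw [map_pow]
      exact fun h => hc₀𝔪 (h𝔪.isPrime.mem_of_pow_mem _ h)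
    · rw [pow_zero, map_one, one_mul, ← IsScalarTower.algebraMap_apply,
        ← IsScalarTower.algebraMap_apply, hnd]
  · -- main case
    let S₁ : Subalgebra D S := Algebra.adjoin D {t}
    let t₁ : S₁ := ⟨t, Algebra.subset_adjoin (Set.mem_singleton t)⟩
    have hadj₁ : Algebra.adjoin D {t₁} = ⊤ := by
      apply Subalgebra.map_injective (f := S₁.val) Subtype.val_injective
      rw [AlgHom.map_adjoin_singleton, Algebra.map_top, Subalgebra.range_val]
      rfl
    haveI : FaithfulSMul S₁ K := by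
      rw [faithfulSMul_iff_algebraMap_injective]
      intro u v huv
      exact Subtype.ext (hSK huv)
    haveI : Algebra.FiniteType D S₁ :=
      ⟨⟨{t₁}, by rw [Finset.coe_singleton]; exact hadj₁⟩⟩
    haveI : IsNoetherianRing S₁ := Algebra.FiniteType.isNoetherianRing D S₁
    have ht₁0 : t₁ ≠ 0 := fun h => ht0 (congrArg Subtype.val h)
    let P : Ideal S₁ := 𝔪.comap (algebraMap S₁ S)
    haveI : P.IsPrime := Ideal.comap_isPrime _ _
    have htP : t₁ ∈ P := ht𝔪
    have hN1 := Groth.Agent.H13.MonoAnUnram.isN1_atPrime K hD t₁ hadj₁ ht₁0 P htP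
    haveI : IsFractionRing S₁ K := isFractionRing_of_tower D S₁ K
    have hunits : ∀ s : P.primeCompl, IsUnit (algebraMap S₁ K s) := by
      intro s
      apply IsUnit.mk0
      intro h0
      have : (s : S₁) = 0 := FaithfulSMul.algebraMap_injective S₁ K (by rw [h0, map_zero])
      exact s.2 (this ▸ zero_mem P)
    letI : Algebra (Localization.AtPrime P) K := (IsLocalization.lift hunits).toAlgebra
    haveI : IsScalarTower S₁ (Localization.AtPrime P) K :=
      IsScalarTower.of_algebraMap_eq (fun u => (IsLocalization.lift_eq hunits u).symm)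
    haveI : IsFractionRing (Localization.AtPrime P) K :=
      IsFractionRing.isFractionRing_of_isDomain_of_isLocalization P.primeCompl
        (Localization.AtPrime P) K
    have hfin : Module.Finite (Localization.AtPrime P)
        (integralClosure (Localization.AtPrime P) K) :=
      (Groth.Agent.H13.N1Crit.isN1_iff (Localization.AtPrime P) K).mp hN1
    -- generic denominators for `S₁`
    obtain ⟨n₁, d₁, hn₁⟩ := exists_pow_mul_eq x hadj a b hab t
    have hab₁ : algebraMap D S₁ (a ^ n₁) * t₁ = algebraMap D S₁ d₁ := Subtype.ext hn₁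
    have hf1 : ∀ y : K, IsIntegral S₁ y → ∃ (n : ℕ) (r : S₁),
        algebraMap S₁ K (algebraMap D S₁ (a ^ n₁) ^ n) * y = algebraMap S₁ K r := by
      intro y hy
      obtain ⟨n, d, hnd⟩ :=
        exists_pow_mul_eq_of_isIntegral K t₁ hadj₁ (a ^ n₁) d₁ hab₁ y hy
      refine ⟨n, algebraMap D S₁ d, ?_⟩
      rw [← map_pow, ← IsScalarTower.algebraMap_apply D S₁ K,
        ← IsScalarTower.algebraMap_apply D S₁ K, hnd]
    obtain ⟨N₁, hN₁⟩ := Groth.Agent.H13.N1Crit.exists_pow_denominator P.primeCompl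
      (Localization.AtPrime P) K hfin (algebraMap D S₁ (a ^ n₁)) hf1
    -- integrality of `z` over `S₁`
    have hzint : IsIntegral S₁ z := by
      let q : S₁[X] := G.map (algebraMap D S₁) - C t₁
      have hq : q.Monic := by
        apply Monic.sub_of_left (hGm.map _)
        rw [degree_C ht₁0, degree_eq_natDegree (hGm.map _).ne_zero, hGm.natDegree_map, hGdeg]
        exact_mod_cast hdeg
      refine ⟨q, hq, ?_⟩
      rw [eval₂_sub, eval₂_map, eval₂_C, ← IsScalarTower.algebraMap_eq D S₁ S, ← aeval_def]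
      exact sub_self _
    have hint : ∀ r : S, ∃ k : ℕ,
        IsIntegral S₁ (algebraMap S₁ S (algebraMap D S₁ c₀ ^ k) * r) := by
      intro r
      have hr : r ∈ Algebra.adjoin D {x} := hadj ▸ Algebra.mem_top
      induction hr using Algebra.adjoin_induction with
      | mem u hu =>
        rw [Set.mem_singleton_iff] at hu
        refine ⟨1, ?_⟩
        rw [hu, pow_one, ← IsScalarTower.algebraMap_apply D S₁ S]
        exact hzint
      | algebraMap d =>
        refine ⟨0, ?_⟩
        rw [pow_zero, map_one, one_mul, IsScalarTower.algebraMap_apply D S₁ S]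
        exact isIntegral_algebraMap
      | add u v _ _ hu hv =>
        obtain ⟨k₁, h₁⟩ := hu
        obtain ⟨k₂, h₂⟩ := hv
        refine ⟨k₁ + k₂, ?_⟩
        have : algebraMap S₁ S (algebraMap D S₁ c₀ ^ (k₁ + k₂)) * (u + v) =
            algebraMap S₁ S (algebraMap D S₁ c₀ ^ k₂) *
              (algebraMap S₁ S (algebraMap D S₁ c₀ ^ k₁) * u) +
            algebraMap S₁ S (algebraMap D S₁ c₀ ^ k₁) *
              (algebraMap S₁ S (algebraMap D S₁ c₀ ^ k₂) * v) := by
          rw [pow_add, map_mul]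
          ring
        rw [this]
        exact (isIntegral_algebraMap.mul h₁).add (isIntegral_algebraMap.mul h₂)
      | mul u v _ _ hu hv =>
        obtain ⟨k₁, h₁⟩ := hu
        obtain ⟨k₂, h₂⟩ := hv
        refine ⟨k₁ + k₂, ?_⟩
        have : algebraMap S₁ S (algebraMap D S₁ c₀ ^ (k₁ + k₂)) * (u * v) =
            (algebraMap S₁ S (algebraMap D S₁ c₀ ^ k₁) * u) *
            (algebraMap S₁ S (algebraMap D S₁ c₀ ^ k₂) * v) := by
          rw [pow_add, map_mul]
          ring
        rw [this]
        exact h₁.mul h₂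
    refine ⟨n₁ * N₁, fun y hy => ?_⟩
    obtain ⟨k, hk⟩ := Groth.Agent.H13.IntegralScale.exists_pow_mul_isIntegral (R₁ := S₁) (R₂ := S)
      (algebraMap D S₁ c₀) hint y hy
    obtain ⟨s₁, hs₁, r₁, hr₁⟩ := hN₁ _ hk
    refine ⟨(s₁ : S) * algebraMap D S (c₀ ^ k), ?_, (r₁ : S), ?_⟩
    · intro hmem
      rcases h𝔪.isPrime.mem_or_mem hmem with h | h
      · exact hs₁ h
      · rw [map_pow] at h
        exact hc₀𝔪 (h𝔪.isPrime.mem_of_pow_mem _ h)
    · have e1 : algebraMap S K (r₁ : S) = algebraMap S₁ K r₁ := rfl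
      have e2 : algebraMap S K (s₁ : S) = algebraMap S₁ K s₁ := rfl
      rw [e1, ← hr₁, map_mul, e2, ← map_pow, ← map_pow, ← map_pow,
        ← IsScalarTower.algebraMap_apply D S K, ← IsScalarTower.algebraMap_apply D S K,
        ← IsScalarTower.algebraMap_apply D S₁ K, ← IsScalarTower.algebraMap_apply D S₁ K,
        ← pow_mul]
      ring

/-- Variant of the local N-1 criterion, with hypotheses stated as bounds on denominators. -/
theorem isN1_of_bounds (R : Type u) [CommRing R] [IsDomain R] [IsNoetherianRing R] (f : R)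
    (hf : f ≠ 0)
    (hf1 : ∀ y : FractionRing R, IsIntegral R y → ∃ (n : ℕ) (r : R),
      algebraMap R (FractionRing R) (f ^ n) * y = algebraMap R (FractionRing R) r)
    (hden : ∀ (Q : Ideal R) [Q.IsPrime], ∃ N : ℕ, ∀ y : FractionRing R, IsIntegral R y →
      ∃ s ∉ Q, ∃ r : R, algebraMap R (FractionRing R) s *
        (algebraMap R (FractionRing R) (f ^ N) * y) = algebraMap R (FractionRing R) r) :
    CAlg.IsN1 R := by
  classical
  have hex : ∀ Q : Ideal R, ∃ N : ℕ, Q ∈ associatedPrimes R (R ⧸ Ideal.span {f}) →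
      ∀ y : FractionRing R, IsIntegral R y → ∃ s ∉ Q, ∃ r : R,
        algebraMap R (FractionRing R) s * (algebraMap R (FractionRing R) (f ^ N) * y) =
          algebraMap R (FractionRing R) r := by
    intro Q
    by_cases hQ : Q ∈ associatedPrimes R (R ⧸ Ideal.span {f})
    · haveI hQp : Q.IsPrime := hQ.isPrime
      obtain ⟨N, hN⟩ := hden Q
      exact ⟨N, fun _ => hN⟩
    · exact ⟨0, fun h => absurd h hQ⟩
  choose Nf hNf using hex
  let N : ℕ := (associatedPrimes.finite R (R ⧸ Ideal.span {f})).toFinset.sup Nf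
  have hbound : ∀ y : FractionRing R, IsIntegral R y →
      ∃ r : R, algebraMap R (FractionRing R) (f ^ N) * y = algebraMap R (FractionRing R) r := by
    intro y hy
    obtain ⟨n, r₀, hr₀⟩ := hf1 y hy
    refine Groth.Agent.H13.N1Crit.mem_of_forall_ass f hf n _ (f ^ N * r₀) ?_ ?_
    · rw [map_mul, ← hr₀]
      ring
    · intro Q hQ
      obtain ⟨s, hsQ, r, hr⟩ := hNf Q hQ y hy
      have hle : Nf Q ≤ N := Finset.le_sup (f := Nf)
        ((associatedPrimes.finite R (R ⧸ Ideal.span {f})).mem_toFinset.mpr hQ)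
      refine ⟨s, hsQ, f ^ (N - Nf Q) * r, ?_⟩
      rw [map_mul, ← hr, ← Nat.sub_add_cancel hle, pow_add, map_mul, Nat.sub_add_cancel hle]
      ring
  have hfN : algebraMap R (FractionRing R) (f ^ N) ≠ 0 := by
    simpa using pow_ne_zero N hf
  change Module.Finite R (integralClosure R (FractionRing R))
  rw [← Groth.Agent.H13.N1Crit.fg_iff_finite]
  have hle : (integralClosure R (FractionRing R)).toSubmodule ≤
      Submodule.span R {(algebraMap R (FractionRing R) (f ^ N))⁻¹} := by
    intro y hy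
    obtain ⟨r, hr⟩ := hbound y hy
    rw [Submodule.mem_span_singleton]
    refine ⟨r, ?_⟩
    rw [Algebra.smul_def, ← hr]
    field_simp
  haveI : IsNoetherian R (Submodule.span R
      ({(algebraMap R (FractionRing R) (f ^ N))⁻¹} : Set (FractionRing R))) :=
    isNoetherian_span_of_finite R (Set.finite_singleton _)
  haveI : IsNoetherian R (integralClosure R (FractionRing R)).toSubmodule :=
    isNoetherian_of_le hle
  exact (Module.Finite.iff_fg (N := (integralClosure R (FractionRing R)).toSubmodule)).mp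
    inferInstance

/-- **Main theorem.** `D` a normal Nagata domain, `S = D[x]` a monogenic `D`-algebra with the same
fraction field.  Then `S` is N-1. -/
theorem isN1_of_adjoin {D : Type u} [CommRing D] [IsDomain D] [IsIntegrallyClosed D]
    {S : Type u} [CommRing S] [IsDomain S] [Algebra D S] (hD : CAlg.IsNagata D) (x : S)
    (hadj : Algebra.adjoin D {x} = ⊤)
    [IsFractionRing D (FractionRing S)] : CAlg.IsN1 S := by
  haveI : IsNoetherianRing D := hD.1
  haveI : Algebra.FiniteType D S := ⟨⟨{x}, by rw [Finset.coe_singleton]; exact hadj⟩⟩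
  haveI : IsNoetherianRing S := Algebra.FiniteType.isNoetherianRing D S
  have hSK : Function.Injective (algebraMap S (FractionRing S)) := IsFractionRing.injective _ _
  have hDK : Function.Injective (algebraMap D (FractionRing S)) := IsFractionRing.injective _ _
  have hDS : Function.Injective (algebraMap D S) := by
    intro u v huv
    apply hDK
    rw [IsScalarTower.algebraMap_apply D S (FractionRing S), huv,
      ← IsScalarTower.algebraMap_apply D S (FractionRing S)]
  obtain ⟨⟨b, a⟩, hba⟩ := IsLocalization.surj (nonZeroDivisors D)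
    (algebraMap S (FractionRing S) x)
  have hab : algebraMap D S (a : D) * x = algebraMap D S b := by
    apply hSK
    rw [map_mul, ← IsScalarTower.algebraMap_apply D S (FractionRing S),
      ← IsScalarTower.algebraMap_apply D S (FractionRing S), mul_comm]
    exact hba
  have ha0 : (a : D) ≠ 0 := nonZeroDivisors.ne_zero a.2
  refine isN1_of_bounds S (algebraMap D S a) (fun h => ha0 (hDS (by rw [h, map_zero]))) ?_ ?_
  · intro y hy
    obtain ⟨n, d, hnd⟩ := exists_pow_mul_eq_of_isIntegral (FractionRing S) x hadj a b hab y hy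
    refine ⟨n, algebraMap D S d, ?_⟩
    rw [← map_pow, ← IsScalarTower.algebraMap_apply D S (FractionRing S),
      ← IsScalarTower.algebraMap_apply D S (FractionRing S), hnd]
  · intro Q hQ
    obtain ⟨𝔪, h𝔪, hQ𝔪⟩ := Ideal.exists_le_maximal Q hQ.ne_top
    obtain ⟨N, hN⟩ := exists_local_bound (FractionRing S) hD x hadj a b hab 𝔪
    refine ⟨N, fun y hy => ?_⟩
    obtain ⟨s, hs, r, hr⟩ := hN y hy
    exact ⟨s, fun h => hs (hQ𝔪 h), r, hr⟩

end Groth.Agent.H13.MonoN1
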