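import Mathlib
import Groth.Prelude.Def_Found
import Groth.Agent.H13.MonoN1
import Groth.Agent.H13.NagataDescent
import Groth.Agent.H38.PolyN2D
import Groth.Agent.H38.FieldNagata
import Groth.Agent.H47.N2ofN1
import Groth.Agent.H47.N2Equiv

/-!
# Monogenic extensions of Nagata domains are N-2

`D` a Nagata domain, `B = D[b] ⊇ D` a monogenic extension which is a domain.  Then `B` is N-2.
(Stacks 0334, steps 2-5.)
-/

set_option autoImplicit false
set_option linter.style.haveILetI false
set_option linter.unusedSectionVars false
universe u

namespace Groth.Agent.H13.MonoN2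

open Polynomial

/-- A Nagata domain is N-2. -/
theorem isN2_of_isNagata (D : Type u) [CommRing D] [IsDomain D] (hD : CAlg.IsNagata D) :
    CAlg.IsN2 D :=
  Groth.Agent.H47.isN2_of_ringEquiv (RingEquiv.quotientBot D) (hD.2 ⊥)

/-- A finite extension domain of a Nagata domain is Nagata. -/
theorem isNagata_of_finite (D C : Type u) [CommRing D] [CommRing C] [Algebra D C]
    [Module.Finite D C] (hD : CAlg.IsNagata D) : CAlg.IsNagata C := by
  haveI := hD.1
  refine ⟨Algebra.FiniteType.isNoetherianRing D C, fun q hq => ?_⟩
  haveI : (q.comap (algebraMap D C)).IsPrime := Ideal.comap_isPrime _ _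
  haveI : Module.Finite (D ⧸ q.comap (algebraMap D C)) (C ⧸ q) :=
    Module.Finite.of_restrictScalars_finite D _ _
  haveI : FaithfulSMul (D ⧸ q.comap (algebraMap D C)) (C ⧸ q) :=
    (faithfulSMul_iff_algebraMap_injective _ _).mpr (Ideal.algebraMap_quotient_injective)
  exact Groth.Agent.H38.FieldNagata.isN2_of_finite_injective (hD.2 (q.comap (algebraMap D C)))

/-- `MonoN1.isN1_of_adjoin` with an arbitrary model of the fraction field. -/
theorem isN1_of_adjoin' {D : Type u} [CommRing D] [IsDomain D] [IsIntegrallyClosed D]
    {S : Type u} [CommRing S] [IsDomain S] [Algebra D S] (hD : CAlg.IsNagata D)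
    (K : Type u) [Field K] [Algebra D K] [IsFractionRing D K] [Algebra S K] [IsScalarTower D S K]
    [FaithfulSMul S K] (x : S) (hadj : Algebra.adjoin D {x} = ⊤) : CAlg.IsN1 S := by
  have hSK : Function.Injective (algebraMap S K) := FaithfulSMul.algebraMap_injective S K
  have hDK : Function.Injective (algebraMap D K) := IsFractionRing.injective D K
  have hDS : Function.Injective (algebraMap D S) := by
    intro u v huv
    apply hDK
    rw [IsScalarTower.algebraMap_apply D S K, huv, ← IsScalarTower.algebraMap_apply D S K]
  have hfrac : ∀ s : S, ∃ (a d : D), a ≠ 0 ∧ s * algebraMap D S a = algebraMap D S d := by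
    intro s
    obtain ⟨⟨d, a⟩, hda⟩ := IsLocalization.surj (nonZeroDivisors D) (algebraMap S K s)
    refine ⟨a, d, nonZeroDivisors.ne_zero a.2, hSK ?_⟩
    rw [map_mul, ← IsScalarTower.algebraMap_apply D S K, ← IsScalarTower.algebraMap_apply D S K]
    exact hda
  haveI : FaithfulSMul D (FractionRing S) := by
    rw [faithfulSMul_iff_algebraMap_injective,
      IsScalarTower.algebraMap_eq D S (FractionRing S)]
    exact (IsFractionRing.injective S (FractionRing S)).comp hDS
  haveI : IsFractionRing D (FractionRing S) := by
    apply IsFractionRing.of_field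
    intro z
    obtain ⟨s₁, s₂, hs₂, rfl⟩ := IsFractionRing.div_surjective (A := S) z
    obtain ⟨a₁, d₁, ha₁, h₁⟩ := hfrac s₁
    obtain ⟨a₂, d₂, ha₂, h₂⟩ := hfrac s₂
    refine ⟨d₁ * a₂, d₂ * a₁, ?_⟩
    have hs₂0 : algebraMap S (FractionRing S) s₂ ≠ 0 := by
      intro h0
      have : s₂ = 0 := IsFractionRing.injective S (FractionRing S) (by rw [h0, map_zero])
      rw [this] at hs₂
      exact zero_notMem_nonZeroDivisors hs₂
    have hinjD := FaithfulSMul.algebraMap_injective D (FractionRing S)
    have ha₁0 : algebraMap D (FractionRing S) a₁ ≠ 0 := fun h0 =>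
      ha₁ (hinjD (by rw [h0, map_zero]))
    have ha₂0 : algebraMap D (FractionRing S) a₂ ≠ 0 := fun h0 =>
      ha₂ (hinjD (by rw [h0, map_zero]))
    have e₁ : algebraMap S (FractionRing S) s₁ * algebraMap D (FractionRing S) a₁ =
        algebraMap D (FractionRing S) d₁ := by
      rw [IsScalarTower.algebraMap_apply D S (FractionRing S),
        IsScalarTower.algebraMap_apply D S (FractionRing S), ← map_mul, h₁]
    have e₂ : algebraMap S (FractionRing S) s₂ * algebraMap D (FractionRing S) a₂ =
        algebraMap D (FractionRing S) d₂ := by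
      rw [IsScalarTower.algebraMap_apply D S (FractionRing S),
        IsScalarTower.algebraMap_apply D S (FractionRing S), ← map_mul, h₂]
    have hd₂0 : algebraMap D (FractionRing S) d₂ ≠ 0 := by
      rw [← e₂]
      exact mul_ne_zero hs₂0 ha₂0
    rw [map_mul, map_mul, div_eq_div_iff hs₂0 (mul_ne_zero hd₂0 ha₁0), ← e₁, ← e₂]
    ring
  exact Groth.Agent.H13.MonoN1.isN1_of_adjoin hD x hadj

/-- **Monogenic extensions.** `D` a Nagata domain, `B = D[b]` a domain containing `D`.  Then `B`
is N-2. -/
theorem isN2_of_adjoin (D : Type u) [CommRing D] [IsDomain D] (hD : CAlg.IsNagata D)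
    (B : Type u) [CommRing B] [IsDomain B] [Algebra D B] [FaithfulSMul D B] (b : B)
    (hadj : Algebra.adjoin D {b} = ⊤) : CAlg.IsN2 B := by
  classical
  haveI : IsNoetherianRing D := hD.1
  have hDB : Function.Injective (algebraMap D B) := FaithfulSMul.algebraMap_injective D B
  have hsurj : Function.Surjective (aeval b : D[X] →ₐ[D] B) := by
    intro β
    have hβ : β ∈ Algebra.adjoin D {b} := hadj ▸ Algebra.mem_top
    rw [Algebra.adjoin_singleton_eq_range_aeval] at hβ
    exact hβ
  by_cases halg : IsAlgebraic D b
  swap
  · -- transcendental case: `B ≅ D[X]`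
    have hinj : Function.Injective (aeval b : D[X] →ₐ[D] B) :=
      transcendental_iff_injective.mp halg
    let e : D[X] ≃+* B := RingEquiv.ofBijective (aeval b : D[X] →ₐ[D] B) ⟨hinj, hsurj⟩
    exact Groth.Agent.H47.isN2_of_ringEquiv e
      (Groth.Agent.H38.PolyN2.isN2_polynomial D (isN2_of_isNagata D hD))
  -- algebraic case
  intro L _ _ _ _ hfd
  haveI := hfd
  letI : Algebra D L := ((algebraMap B L).comp (algebraMap D B)).toAlgebra
  haveI : IsScalarTower D B L := IsScalarTower.of_algebraMap_eq (fun _ => rfl)
  have hBL : Function.Injective (algebraMap B L) := by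
    rw [IsScalarTower.algebraMap_eq B (FractionRing B) L]
    exact (algebraMap (FractionRing B) L).injective.comp (IsFractionRing.injective B _)
  have hDL : Function.Injective (algebraMap D L) := hBL.comp hDB
  haveI : IsScalarTower D (FractionRing B) L := by
    refine IsScalarTower.of_algebraMap_eq (fun d => ?_)
    rw [IsScalarTower.algebraMap_apply D B (FractionRing B),
      ← IsScalarTower.algebraMap_apply B (FractionRing B) L]
    rfl
  -- `L` is essentially of finite type and algebraic over `D`
  haveI : Algebra.FiniteType D B := ⟨⟨{b}, by rw [Finset.coe_singleton]; exact hadj⟩⟩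
  haveI : Algebra.EssFiniteType B (FractionRing B) :=
    Algebra.EssFiniteType.of_isLocalization (FractionRing B) (nonZeroDivisors B)
  haveI : Algebra.EssFiniteType B L := Algebra.EssFiniteType.comp B (FractionRing B) L
  haveI : Algebra.EssFiniteType D L := Algebra.EssFiniteType.comp D B L
  haveI hfinD'' : Module.Finite D (integralClosure D L) :=
    Groth.Agent.H13.NagataDescent.finite_integralClosure_of_essFiniteType D hD L
  haveI : FaithfulSMul D (FractionRing B) := by
    rw [faithfulSMul_iff_algebraMap_injective, IsScalarTower.algebraMap_eq D B (FractionRing B)]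
    exact (IsFractionRing.injective B (FractionRing B)).comp hDB
  haveI : Algebra.IsAlgebraic D B := by
    refine ⟨fun β => ?_⟩
    have hle : Algebra.adjoin D {b} ≤ Subalgebra.algebraicClosure D B :=
      Algebra.adjoin_le (Set.singleton_subset_iff.mpr halg)
    exact hle (hadj ▸ Algebra.mem_top)
  haveI : Algebra.IsAlgebraic D (FractionRing B) :=
    (IsFractionRing.isAlgebraic_iff' D B (FractionRing B)).mp inferInstance
  haveI : Algebra.IsAlgebraic (FractionRing B) L := Algebra.IsAlgebraic.of_finite _ _
  haveI : Algebra.IsAlgebraic D L := Algebra.IsAlgebraic.trans D (FractionRing B) L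
  -- the normalization `D''` of `D` in `L`
  haveI hfrD'' : IsFractionRing (integralClosure D L) L :=
    integralClosure.isFractionRing_of_algebraic (fun x hx => hDL (by rw [hx, map_zero]))
  haveI : IsIntegrallyClosed (integralClosure D L) :=
    (isIntegrallyClosed_iff_isIntegrallyClosedIn L).mpr inferInstance
  have hD'' : CAlg.IsNagata (integralClosure D L) := isNagata_of_finite D _ hD
  -- the ring `B'' = B[D'']`
  let B'' : Subalgebra B L := Algebra.adjoin B ((integralClosure D L : Subalgebra D L) : Set L)
  have hD''B'' : ∀ w : integralClosure D L, (w : L) ∈ B'' := fun w =>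
    Algebra.subset_adjoin w.2
  haveI : Module.Finite B B'' := by
    obtain ⟨T, hT⟩ := hfinD''.1
    -- generators of `D''` as a `D`-module, viewed in `L`
    let T' : Finset L := T.image (fun w : integralClosure D L => (w : L))
    have hT'int : ∀ l ∈ (T' : Set L), IsIntegral B l := by
      intro l hl
      obtain ⟨w, -, rfl⟩ := Finset.mem_image.mp (Finset.mem_coe.mp hl)
      exact (w.2 : IsIntegral D (w : L)).tower_top
    have hfg : (Algebra.adjoin B (T' : Set L)).toSubmodule.FG :=
      fg_adjoin_of_finite T'.finite_toSet hT'int
    have heq : B'' = Algebra.adjoin B (T' : Set L) := by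
      apply le_antisymm
      · apply Algebra.adjoin_le
        intro l hl
        -- `l ∈ D'' = span_D T`
        have hmem : (⟨l, hl⟩ : integralClosure D L) ∈ Submodule.span D (T : Set _) := by
          rw [hT]; exact Submodule.mem_top
        have h2 : l ∈ Submodule.span D ((fun w : integralClosure D L => (w : L)) '' (T : Set _)) := by
          have := Submodule.mem_map_of_mem (f := (integralClosure D L).val.toLinearMap) hmem
          rw [Submodule.map_span] at this
          exact this
        have h3 : Submodule.span D ((fun w : integralClosure D L => (w : L)) '' (T : Set _)) ≤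
            (Algebra.adjoin B (T' : Set L)).toSubmodule.restrictScalars D := by
          rw [Submodule.span_le]
          rintro _ ⟨w, hw, rfl⟩
          exact Algebra.subset_adjoin (Finset.mem_coe.mpr (Finset.mem_image_of_mem _ hw))
        exact h3 h2
      · apply Algebra.adjoin_mono
        intro l hl
        obtain ⟨w, -, rfl⟩ := Finset.mem_image.mp (Finset.mem_coe.mp hl)
        exact w.2
    rw [heq]
    exact Module.Finite.iff_fg.mpr hfg
  -- `B''` as a `D''`-algebra
  letI : Algebra (integralClosure D L) B'' :=
    (RingHom.codRestrict (algebraMap (integralClosure D L) L) B''.toSubring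
      (fun w => hD''B'' w)).toAlgebra
  haveI : IsScalarTower (integralClosure D L) B'' L :=
    IsScalarTower.of_algebraMap_eq (fun _ => rfl)
  haveI : FaithfulSMul B'' L :=
    (faithfulSMul_iff_algebraMap_injective _ _).mpr Subtype.val_injective
  haveI : IsFractionRing B'' L :=
    Groth.Agent.H13.MonoN1.isFractionRing_of_tower (integralClosure D L) B'' L
  let bL : L := algebraMap B L b
  let x'' : B'' := ⟨bL, B''.algebraMap_mem b⟩
  have hsub : ∀ l ∈ B'', l ∈ Algebra.adjoin (integralClosure D L) ({bL} : Set L) := by
    intro l hl
    induction hl using Algebra.adjoin_induction with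
    | mem w hw =>
      exact Subalgebra.algebraMap_mem _ (⟨w, hw⟩ : integralClosure D L)
    | algebraMap β =>
      obtain ⟨P, rfl⟩ := hsurj β
      have h1 : algebraMap B L (aeval b P) =
          aeval bL (P.map (algebraMap D (integralClosure D L))) := by
        rw [aeval_map_algebraMap, aeval_algebraMap_apply]
      rw [h1]
      exact aeval_mem_adjoin_singleton _ _
    | add u v _ _ hu hv => exact add_mem hu hv
    | mul u v _ _ hu hv => exact mul_mem hu hv
  have hadj'' : Algebra.adjoin (integralClosure D L) {x''} = ⊤ := by
    apply Subalgebra.map_injective (f := IsScalarTower.toAlgHom (integralClosure D L) B'' L)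
      Subtype.val_injective
    rw [AlgHom.map_adjoin_singleton, Algebra.map_top]
    apply le_antisymm
    · apply Algebra.adjoin_le
      rw [Set.singleton_subset_iff]
      exact ⟨x'', rfl⟩
    · rintro _ ⟨w, rfl⟩
      exact hsub _ w.2
  have hN1 : CAlg.IsN1 B'' := isN1_of_adjoin' hD'' L x'' hadj''
  exact Groth.Agent.H47.finite_integralClosure_of_subalgebra B'' hN1

end Groth.Agent.H13.MonoN2
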