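import Mathlib
import Groth.Prelude.Def_Found

/-!
# N-2 descends along finite injective extensions of domains

`A ⊆ B` finite extension of domains, `A` Noetherian and `B` N-2.  Then `A` is N-2.
-/

set_option autoImplicit false
set_option linter.style.haveILetI false
set_option linter.unusedSectionVars false
universe u

open TensorProduct

namespace Groth.Agent.H13.N2FiniteDescent

theorem isN2_of_finite_injective {A B : Type u} [CommRing A] [IsDomain A] [IsNoetherianRing A]
    [CommRing B] [IsDomain B] [Algebra A B] [Module.Finite A B] [FaithfulSMul A B]
    (hB : CAlg.IsN2 B) : CAlg.IsN2 A := by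
  intro L _ _ _ _ hfd
  haveI := hfd
  -- `Frac B` as an extension of `Frac A`
  haveI : FaithfulSMul A (FractionRing B) := (faithfulSMul_iff_algebraMap_injective A _).mpr (by
    rw [IsScalarTower.algebraMap_eq A B (FractionRing B)]
    exact (IsFractionRing.injective B _).comp (FaithfulSMul.algebraMap_injective A B))
  letI : Algebra (FractionRing A) (FractionRing B) := FractionRing.liftAlgebra A (FractionRing B)
  haveI : IsScalarTower A (FractionRing A) (FractionRing B) :=
    FractionRing.isScalarTower_liftAlgebra A (FractionRing B)
  -- a field `M` containing both `L` and `Frac B`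
  let T := FractionRing B ⊗[FractionRing A] L
  haveI : Nontrivial T := by
    have hinj : Function.Injective
        (Algebra.TensorProduct.includeRight : L →ₐ[FractionRing A] T) :=
      Algebra.TensorProduct.includeRight_injective (algebraMap (FractionRing A) (FractionRing B)).injective
    exact hinj.nontrivial
  obtain ⟨𝔐, h𝔐⟩ := Ideal.exists_maximal T
  haveI := h𝔐
  letI : Field (T ⧸ 𝔐) := Ideal.Quotient.field 𝔐
  let M := T ⧸ 𝔐
  haveI : Module.Finite (FractionRing B) T := inferInstance
  haveI : FiniteDimensional (FractionRing B) M := inferInstance
  haveI : IsScalarTower B (FractionRing B) M := inferInstance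
  have h1 : Module.Finite B (integralClosure B M) := hB M inferInstance
  -- the embedding `L → M`
  let ψ : L →ₐ[FractionRing A] M :=
    (Ideal.Quotient.mkₐ (FractionRing A) 𝔐).comp Algebra.TensorProduct.includeRight
  have hψ : Function.Injective ψ := ψ.toRingHom.injective
  have hψA : ∀ a : A, ψ (algebraMap A L a) = algebraMap A M a := by
    intro a
    rw [IsScalarTower.algebraMap_apply A (FractionRing A) L, ψ.commutes,
      ← IsScalarTower.algebraMap_apply A (FractionRing A) M]
  have hAB : ∀ a : A, algebraMap A M a = algebraMap B M (algebraMap A B a) := by
    intro a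
    rw [IsScalarTower.algebraMap_apply A (FractionRing A) M,
      IsScalarTower.algebraMap_apply (FractionRing A) (FractionRing B) M,
      ← IsScalarTower.algebraMap_apply A (FractionRing A) (FractionRing B),
      IsScalarTower.algebraMap_apply A B (FractionRing B),
      ← IsScalarTower.algebraMap_apply B (FractionRing B) M]
  -- `A`-linear injection of integral closures
  have hint : ∀ x : integralClosure A L, IsIntegral B (ψ x.1) := by
    intro x
    obtain ⟨p, hp, hpx⟩ := x.2
    refine ⟨p.map (algebraMap A B), hp.map _, ?_⟩
    rw [Polynomial.eval₂_map]
    have h2 : (algebraMap B M).comp (algebraMap A B) = ψ.toRingHom.comp (algebraMap A L) := by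
      ext a
      simp only [RingHom.comp_apply]
      rw [← hAB a]
      exact (hψA a).symm
    rw [h2]
    have h3 := Polynomial.hom_eval₂ p (algebraMap A L) ψ.toRingHom x.1
    change Polynomial.eval₂ (ψ.toRingHom.comp (algebraMap A L)) (ψ.toRingHom x.1) p = 0
    rw [← h3, hpx]
    exact map_zero _
  haveI : Module.Finite A (integralClosure B M) := Module.Finite.trans B _
  haveI : IsNoetherian A (integralClosure B M) := isNoetherian_of_isNoetherianRing_of_finite A _
  let l : integralClosure A L →ₗ[A] integralClosure B M :=
    { toFun := fun x => ⟨ψ x.1, hint x⟩
      map_add' := fun x y => Subtype.ext (by simp)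
      map_smul' := fun a x => by
        apply Subtype.ext
        change ψ (a • (x : L)) = a • ψ (x : L)
        rw [Algebra.smul_def, map_mul, hψA, Algebra.smul_def] }
  have hl : Function.Injective l := by
    intro x y hxy
    have := congrArg Subtype.val hxy
    exact Subtype.ext (hψ this)
  exact Module.Finite.of_injective l hl

end Groth.Agent.H13.N2FiniteDescent
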