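import Mathlib.RingTheory.Flat.FaithfullyFlat.Algebra
import Mathlib.RingTheory.RingHom.FaithfullyFlat
import Mathlib.AlgebraicGeometry.Noetherian
import Mathlib.AlgebraicGeometry.Morphisms.Flat
import Mathlib.AlgebraicGeometry.Morphisms.Descent
import Mathlib.AlgebraicGeometry.Morphisms.LocalIso

set_option autoImplicit false
universe u

open CategoryTheory AlgebraicGeometry CategoryTheory.Limits MorphismProperty

namespace Groth.Agent.H13

/-- Faithfully flat descent of the Noetherian property. -/
theorem isNoetherianRing_of_faithfullyFlat (A B : Type*) [CommRing A] [CommRing B] [Algebra A B]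
    [Module.FaithfullyFlat A B] [IsNoetherianRing B] : IsNoetherianRing A := by
  rw [isNoetherianRing_iff, isNoetherian_iff']
  have hmono : StrictMono (Ideal.map (algebraMap A B)) :=
    Monotone.strictMono_of_injective (fun _ _ h => Ideal.map_mono h)
      Ideal.map_injective_of_faithfullyFlat
  have : WellFoundedGT (Ideal B) := (isNoetherian_iff' (R := B) (M := B)).mp inferInstance
  exact hmono.wellFoundedGT

/-- Affine-target case of descent of local Noetherianity. -/
theorem isNoetherianRing_of_flat_surjective_quasiCompact {X : Scheme.{u}} {R : CommRingCat.{u}}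
    (f : X ⟶ Spec R)
    [Flat f] [Surjective f] [QuasiCompact f] [IsLocallyNoetherian X] : IsNoetherianRing R := by
  have : CompactSpace X := QuasiCompact.compactSpace_of_compactSpace f
  obtain ⟨T, p, hsurj, hP, hT⟩ := X.exists_hom_isAffine_of_isZariskiLocalAtSource @IsLocalIso
  have hpflat : Flat p := IsLocalIso.le_of_isZariskiLocalAtSource @Flat _ _ _ hP
  have hpft : LocallyOfFiniteType p :=
    IsLocalIso.le_of_isZariskiLocalAtSource @LocallyOfFiniteType _ _ _ hP
  have : IsLocallyNoetherian T := LocallyOfFiniteType.isLocallyNoetherian p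
  have hΓ : IsNoetherianRing Γ(T, ⊤) :=
    IsLocallyNoetherian.component_noetherian ⟨⊤, isAffineOpen_top T⟩
  let g : Spec Γ(T, ⊤) ⟶ Spec R := T.isoSpec.inv ≫ p ≫ f
  obtain ⟨φ, hφ⟩ := Spec.map_surjective g
  have hff : Flat (Spec.map φ) ∧ Surjective (Spec.map φ) := by
    rw [hφ]
    exact ⟨inferInstance, inferInstance⟩
  rw [flat_and_surjective_SpecMap_iff] at hff
  algebraize [φ.hom]
  have : Module.FaithfullyFlat R Γ(T, ⊤) := hff
  exact isNoetherianRing_of_faithfullyFlat R Γ(T, ⊤)

/-- Affine-target case, for an abstract affine scheme. -/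
theorem isNoetherianRing_of_flat_surjective_quasiCompact' {X Y : Scheme.{u}} [IsAffine Y]
    (f : X ⟶ Y)
    [Flat f] [Surjective f] [QuasiCompact f] [IsLocallyNoetherian X] :
    IsNoetherianRing Γ(Y, ⊤) :=
  isNoetherianRing_of_flat_surjective_quasiCompact (f ≫ Y.isoSpec.hom)

/-- Descent of local Noetherianity along a flat, surjective, quasi-compact morphism. -/
theorem isLocallyNoetherian_of_flat_surjective_quasiCompact {X Y : Scheme.{u}} (f : X ⟶ Y)
    [Flat f] [Surjective f] [QuasiCompact f] [IsLocallyNoetherian X] : IsLocallyNoetherian Y := by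
  rw [isLocallyNoetherian_iff_of_affine_openCover Y.affineCover]
  intro i
  have h1 : IsLocallyNoetherian (pullback f (Y.affineCover.f i)) :=
    isLocallyNoetherian_of_isOpenImmersion (pullback.fst f (Y.affineCover.f i))
  have hfl : Flat (pullback.snd f (Y.affineCover.f i)) :=
    MorphismProperty.pullback_snd _ _ inferInstance
  exact isNoetherianRing_of_flat_surjective_quasiCompact'
    (pullback.snd f (Y.affineCover.f i))

end Groth.Agent.H13
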