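import Mathlib
import Groth.Prelude.Def_Found
import Groth.Prelude.Def_EGA4b
import Groth.Agent.H13.LocalN2
import Groth.Agent.H13.NoethDescent
import Groth.Agent.H47.SmoothNormal
import Groth.Agent.H47.N2Equiv
import Groth.Agent.H48.TensorNormal

/-!
# The Nagata property descends along smooth ring maps surjective on spectra (Stacks 0BI?)
-/

set_option autoImplicit false
set_option linter.style.haveILetI false
set_option linter.unusedSectionVars false
universe u

open TensorProduct

namespace Groth.Agent.H13.NagataSmoothDescent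

/-- quotients of Nagata rings are Nagata -/
theorem isNagata_of_surjective {S C : Type u} [CommRing S] [CommRing C] (φ : S →+* C)
    (hφ : Function.Surjective φ) (hS : CAlg.IsNagata S) : CAlg.IsNagata C := by
  haveI := hS.1
  refine ⟨isNoetherianRing_of_surjective S C φ hφ, fun q hq => ?_⟩
  let ψ : S →+* C ⧸ q := (Ideal.Quotient.mk q).comp φ
  have hψ : Function.Surjective ψ := Ideal.Quotient.mk_surjective.comp hφ
  haveI : (RingHom.ker ψ).IsPrime := RingHom.ker_isPrime ψ
  have h := hS.2 (RingHom.ker ψ)
  exact Groth.Agent.H47.isN2_of_ringEquiv (RingHom.quotientKerEquivOfSurjective hψ) h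

/-- descent of N-2 for a domain along a faithfully flat smooth Nagata algebra -/
theorem isN2_of_smooth_faithfullyFlat (D C : Type u) [CommRing D] [IsDomain D] [CommRing C]
    [Algebra D C] [Algebra.Smooth D C] [Module.FaithfullyFlat D C] (hC : CAlg.IsNagata C) :
    CAlg.IsN2 D := by
  haveI := hC.1
  haveI : IsNoetherianRing D :=
    Groth.Agent.H13.isNoetherianRing_of_faithfullyFlat D C
  intro L _ _ _ _ hfd
  haveI := hfd
  obtain ⟨S', -, hfin, hfrac⟩ :=
    Groth.Agent.H47.exists_finite_subalgebra_isFractionRing D (FractionRing D) L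
  haveI := hfin
  haveI := hfrac
  have hred : IsReduced (C ⊗[D] L) := by
    have hL : EGA4.IsNormalRing L := Groth.Agent.H47.SN.isNormalRing_of_isIntegrallyClosed L
    have h1 : EGA4.IsNormalRing (L ⊗[D] C) := Groth.Agent.H47.SN.isNormalRing_of_smooth L _ hL
    have h2 : IsReduced (L ⊗[D] C) := Groth.Agent.H48.TensorNormal.isReduced_of_isNormalRing h1
    exact isReduced_of_injective (Algebra.TensorProduct.comm D C L).toRingEquiv.toRingHom
      (Algebra.TensorProduct.comm D C L).injective
  have hN1 : CAlg.IsN1 S' :=
    Groth.Agent.H13.LocalN2.isN1_of_faithfullyFlat_nagata' D C S' hC L hred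
  exact Groth.Agent.H47.finite_integralClosure_of_subalgebra S' hN1

/-- **The Nagata property descends along smooth ring maps that are surjective on spectra.** -/
theorem isNagata_of_smooth_surjective (R S : Type u) [CommRing R] [CommRing S] [Algebra R S]
    [Algebra.Smooth R S] (hs : Function.Surjective (PrimeSpectrum.comap (algebraMap R S)))
    (hS : CAlg.IsNagata S) : CAlg.IsNagata R := by
  haveI := hS.1
  haveI : Module.FaithfullyFlat R S := Module.FaithfullyFlat.of_comap_surjective hs
  haveI : IsNoetherianRing R :=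
    Groth.Agent.H13.isNoetherianRing_of_faithfullyFlat R S
  refine ⟨inferInstance, fun p hp => ?_⟩
  have hsurj : Function.Surjective
      (Algebra.TensorProduct.includeRight : S →ₐ[R] (R ⧸ p) ⊗[R] S) := by
    intro z
    induction z using TensorProduct.induction_on with
    | zero => exact ⟨0, map_zero _⟩
    | tmul d s =>
      obtain ⟨r, rfl⟩ := Ideal.Quotient.mk_surjective d
      refine ⟨r • s, ?_⟩
      rw [Algebra.TensorProduct.includeRight_apply, TensorProduct.tmul_smul,
        TensorProduct.smul_tmul', ← Algebra.algebraMap_eq_smul_one]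
      rfl
    | add x y hx hy =>
      obtain ⟨a, rfl⟩ := hx
      obtain ⟨b, rfl⟩ := hy
      exact ⟨a + b, map_add _ _ _⟩
  have hC : CAlg.IsNagata ((R ⧸ p) ⊗[R] S) :=
    isNagata_of_surjective
      (Algebra.TensorProduct.includeRight : S →ₐ[R] (R ⧸ p) ⊗[R] S).toRingHom hsurj hS
  exact isN2_of_smooth_faithfullyFlat (R ⧸ p) ((R ⧸ p) ⊗[R] S) hC

end Groth.Agent.H13.NagataSmoothDescent
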