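import Groth.Prelude.Def_EGA4b
import Groth.Agent.H14.NormalLocus.Open
import Groth.Agent.H14.NormalFlatAscent
import Groth.Agent.H14.RegularNormal
import Groth.Agent.H14.SerreNormal
import Groth.Agent.Lead.RegularLocal
import Mathlib.RingTheory.LocalProperties.IntegrallyClosed
import Mathlib.RingTheory.Ideal.MinimalPrime.Localization
import Mathlib.RingTheory.Spectrum.Prime.Topology

/-!
# Openness of the normal locus (EGA IV 6.13.4 / 6.13.5)

For a Noetherian ring `A`, the normal locus `Nor(A)` is open as soon as every minimal prime lying in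
`Nor(A)` has an open neighbourhood inside `Nor(A)`.  The proof reduces, around a point `p` of the
normal locus, to the domain `A_s` (where `s ∉ p` kills the kernel of `A → A_p`) and then uses
helper14's criterion `H14.NormalLocus.isOpen_normalLocus` (a Noetherian domain with some `R_g` normal
has open normal locus).
-/

set_option autoImplicit false
set_option linter.style.haveILetI false
universe u

namespace Groth.Agent.H13.NorLocus

open PrimeSpectrum

variable {A : Type u} [CommRing A]

/-- The normal locus is stable under generalization. -/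
theorem mem_norLocus_of_le {p q : PrimeSpectrum A} (h : q.asIdeal ≤ p.asIdeal)
    (hp : p ∈ EGA4.norLocus A) : q ∈ EGA4.norLocus A := by
  obtain ⟨h1, h2⟩ := hp
  haveI := h1
  haveI := h2
  exact Groth.Agent.H14.isDomain_isIntegrallyClosed_localization_of_le p.asIdeal q.asIdeal h

/-- The normal locus is compatible with localization at a submonoid. -/
theorem comap_mem_norLocus_iff (M : Submonoid A) (Q : PrimeSpectrum (Localization M)) :
    PrimeSpectrum.comap (algebraMap A (Localization M)) Q ∈ EGA4.norLocus A ↔
      Q ∈ EGA4.norLocus (Localization M) := by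
  let e : Localization.AtPrime (Q.asIdeal.comap (algebraMap A (Localization M))) ≃+*
      Localization.AtPrime Q.asIdeal :=
    (IsLocalization.localizationLocalizationAtPrimeIsoLocalization M Q.asIdeal).toRingEquiv
  constructor
  · rintro ⟨h1, h2⟩
    have h1' : IsDomain (Localization.AtPrime (Q.asIdeal.comap (algebraMap A (Localization M)))) :=
      h1
    have h2' : IsIntegrallyClosed
        (Localization.AtPrime (Q.asIdeal.comap (algebraMap A (Localization M)))) := h2
    haveI : IsDomain (Localization.AtPrime Q.asIdeal) := e.symm.toMulEquiv.isDomain _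
    exact ⟨inferInstance, IsIntegrallyClosed.of_equiv e⟩
  · rintro ⟨h1, h2⟩
    haveI hd : IsDomain
        (Localization.AtPrime (Q.asIdeal.comap (algebraMap A (Localization M)))) :=
      e.toMulEquiv.isDomain _
    have hi : IsIntegrallyClosed
        (Localization.AtPrime (Q.asIdeal.comap (algebraMap A (Localization M)))) :=
      IsIntegrallyClosed.of_equiv e.symm
    exact ⟨hd, hi⟩

/-- In a domain, the generic point lies in the normal locus. -/
theorem bot_mem_norLocus [IsDomain A] :
    (⟨⊥, Ideal.isPrime_bot⟩ : PrimeSpectrum A) ∈ EGA4.norLocus A := by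
  change IsDomain (Localization.AtPrime (⊥ : Ideal A)) ∧
    IsIntegrallyClosed (Localization.AtPrime (⊥ : Ideal A))
  let _ : Field (Localization.AtPrime (⊥ : Ideal A)) := IsField.toField <| by
    simp [IsLocalRing.isField_iff_maximalIdeal_eq, ← Localization.AtPrime.map_eq_maximalIdeal]
  exact ⟨inferInstance, inferInstance⟩

/-- If `A_p` is a domain (`A` Noetherian), some `A_s` with `s ∉ p` is a domain. -/
theorem exists_away_isDomain [IsNoetherianRing A] (p : Ideal A) [p.IsPrime]
    [IsDomain (Localization.AtPrime p)] : ∃ s ∉ p, IsDomain (Localization.Away s) := by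
  classical
  set K : Ideal A := RingHom.ker (algebraMap A (Localization.AtPrime p)) with hK
  obtain ⟨T, hT⟩ : K.FG := (isNoetherianRing_iff_ideal_fg A).mp inferInstance K
  have hex : ∀ x : A, ∃ t : A, x ∈ K → t ∉ p ∧ t * x = 0 := by
    intro x
    by_cases hx : x ∈ K
    · rw [hK, RingHom.mem_ker, IsLocalization.map_eq_zero_iff p.primeCompl] at hx
      obtain ⟨m, hm⟩ := hx
      exact ⟨m.1, fun _ => ⟨m.2, hm⟩⟩
    · exact ⟨0, fun h => absurd h hx⟩
  choose t ht using hex
  let s : A := ∏ x ∈ T, t x
  have hTK : ∀ x ∈ T, x ∈ K := fun x hx => hT ▸ Ideal.subset_span hx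
  have hs : s ∉ p := by
    intro hmem
    obtain ⟨x, hxT, hx⟩ := (Ideal.IsPrime.prod_mem_iff (hp := ‹p.IsPrime›)).mp hmem
    exact (ht x (hTK x hxT)).1 hx
  have hsK : ∀ y ∈ K, s * y = 0 := by
    intro y hy
    rw [← hT] at hy
    refine Submodule.span_induction (p := fun y _ => s * y = 0) ?_ ?_ ?_ ?_ hy
    · intro x hx
      obtain ⟨c, hc⟩ := Finset.dvd_prod_of_mem t hx
      change (∏ x ∈ T, t x) * x = 0
      rw [hc, mul_comm (t x) c, mul_assoc, (ht x (hTK x hx)).2, mul_zero]
    · exact mul_zero s
    · intro a b _ _ ha hb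
      rw [mul_add, ha, hb, add_zero]
    · intro a b _ hb
      rw [smul_eq_mul, mul_left_comm, hb, mul_zero]
  refine ⟨s, hs, ?_⟩
  have hunit : IsUnit (algebraMap A (Localization.AtPrime p) s) :=
    IsLocalization.map_units (Localization.AtPrime p) (⟨s, hs⟩ : p.primeCompl)
  let φ : Localization.Away s →+* Localization.AtPrime p := IsLocalization.Away.lift s hunit
  have hφ : ∀ a : A, φ (algebraMap A (Localization.Away s) a) =
      algebraMap A (Localization.AtPrime p) a := fun a => IsLocalization.Away.lift_eq s hunit a
  have hinj : Function.Injective φ := by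
    rw [injective_iff_map_eq_zero]
    intro z hz
    obtain ⟨a, m, rfl⟩ := IsLocalization.exists_mk'_eq (Submonoid.powers s) z
    have hm : IsUnit (algebraMap A (Localization.Away s) (m : A)) :=
      IsLocalization.map_units _ m
    have h1 : φ (algebraMap A (Localization.Away s) a) = 0 := by
      have h2 : algebraMap A (Localization.Away s) a =
          IsLocalization.mk' (Localization.Away s) a m * algebraMap A (Localization.Away s) m :=
        (IsLocalization.mk'_spec _ a m).symm
      rw [h2, map_mul, hz, zero_mul]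
    rw [hφ] at h1
    have haK : a ∈ K := h1
    have h3 : algebraMap A (Localization.Away s) a = 0 := by
      rw [IsLocalization.map_eq_zero_iff (Submonoid.powers s)]
      exact ⟨⟨s, Submonoid.mem_powers s⟩, hsK a haK⟩
    rw [IsLocalization.mk'_eq_zero_iff]
    exact ⟨⟨s, Submonoid.mem_powers s⟩, hsK a haK⟩
  haveI : Nontrivial (Localization.Away s) := by
    refine ⟨⟨0, 1, fun h01 => ?_⟩⟩
    have := congrArg φ h01
    rw [map_zero, map_one] at this
    exact zero_ne_one this
  exact hinj.isDomain φ

/-- Key reduction (EGA IV 6.13.4): around a point of the normal locus of a Noetherian ring, the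
normal locus contains an open neighbourhood as soon as the minimal primes in the normal locus do. -/
theorem exists_open_nhd [IsNoetherianRing A] (p : PrimeSpectrum A) (hp : p ∈ EGA4.norLocus A)
    (H : ∀ q : PrimeSpectrum A, q.asIdeal ∈ minimalPrimes A → q ∈ EGA4.norLocus A →
      ∃ U : Set (PrimeSpectrum A), IsOpen U ∧ q ∈ U ∧ U ⊆ EGA4.norLocus A) :
    ∃ U : Set (PrimeSpectrum A), IsOpen U ∧ p ∈ U ∧ U ⊆ EGA4.norLocus A := by
  haveI : IsDomain (Localization.AtPrime p.asIdeal) := hp.1
  obtain ⟨s, hs, hdom⟩ := exists_away_isDomain p.asIdeal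
  let R := Localization.Away s
  haveI : IsDomain R := hdom
  haveI : IsNoetherianRing R := IsLocalization.isNoetherianRing (Submonoid.powers s) _ inferInstance
  have hemb : Topology.IsOpenEmbedding (PrimeSpectrum.comap (algebraMap A R)) :=
    PrimeSpectrum.localization_away_isOpenEmbedding R s
  -- the point `P` of `Spec R` over `p`
  obtain ⟨P, hP⟩ : p ∈ Set.range (PrimeSpectrum.comap (algebraMap A R)) := by
    rw [PrimeSpectrum.localization_away_comap_range R s]
    exact hs
  -- the generic point of `Spec R` and its image `q0`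
  let η : PrimeSpectrum R := ⟨⊥, Ideal.isPrime_bot⟩
  let q0 : PrimeSpectrum A := PrimeSpectrum.comap (algebraMap A R) η
  have hq0min : q0.asIdeal ∈ minimalPrimes A := by
    have h1 := IsLocalization.minimalPrimes_map (Submonoid.powers s) R (⊥ : Ideal A)
    rw [Ideal.map_bot] at h1
    have h2 : (⊥ : Ideal R) ∈ (⊥ : Ideal R).minimalPrimes := by
      haveI : (⊥ : Ideal R).IsPrime := Ideal.isPrime_bot
      rw [Ideal.minimalPrimes_eq_subsingleton_self]
      exact Set.mem_singleton _
    rw [h1] at h2
    exact h2
  have hq0nor : q0 ∈ EGA4.norLocus A :=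
    (comap_mem_norLocus_iff (Submonoid.powers s) η).mpr bot_mem_norLocus
  obtain ⟨U, hUo, hq0U, hUsub⟩ := H q0 hq0min hq0nor
  -- pull back to `Spec R` and shrink to a basic open `D(g)`
  have hU' : IsOpen (PrimeSpectrum.comap (algebraMap A R) ⁻¹' U) :=
    hUo.preimage (PrimeSpectrum.continuous_comap _)
  obtain ⟨_, ⟨g, rfl⟩, hηg, hgU⟩ :=
    PrimeSpectrum.isTopologicalBasis_basic_opens.exists_subset_of_mem_open
      (show η ∈ PrimeSpectrum.comap (algebraMap A R) ⁻¹' U from hq0U) hU'
  have hg0 : g ≠ 0 := by
    rintro rfl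
    exact hηg (Ideal.zero_mem _)
  -- `R_g` is integrally closed
  have hle : Submonoid.powers g ≤ nonZeroDivisors R :=
    Submonoid.powers_le.mpr (mem_nonZeroDivisors_of_ne_zero hg0)
  haveI : IsDomain (Localization.Away g) := IsLocalization.isDomain_localization hle
  have hn : IsIntegrallyClosed (Localization.Away g) := by
    refine IsIntegrallyClosed.of_localization_maximal fun m _ hm => ?_
    let Qm : PrimeSpectrum (Localization.Away g) := ⟨m, hm.isPrime⟩
    have hmem : PrimeSpectrum.comap (algebraMap R (Localization.Away g)) Qm ∈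
        (PrimeSpectrum.basicOpen g : Set (PrimeSpectrum R)) := by
      rw [← PrimeSpectrum.localization_away_comap_range (Localization.Away g) g]
      exact Set.mem_range_self _
    have h1 : PrimeSpectrum.comap (algebraMap R (Localization.Away g)) Qm ∈ EGA4.norLocus R :=
      (comap_mem_norLocus_iff (Submonoid.powers s) _).mp (hUsub (hgU hmem))
    have h2 : Qm ∈ EGA4.norLocus (Localization.Away g) :=
      (comap_mem_norLocus_iff (Submonoid.powers g) Qm).mp h1
    exact h2.2
  have hW := Groth.Agent.H14.NormalLocus.isOpen_normalLocus R g hg0 hn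
  refine ⟨PrimeSpectrum.comap (algebraMap A R) ''
    {P : PrimeSpectrum R | IsIntegrallyClosed (Localization.AtPrime P.asIdeal)},
    hemb.isOpenMap _ hW, ⟨P, ?_, hP⟩, ?_⟩
  · have : P ∈ EGA4.norLocus R :=
      (comap_mem_norLocus_iff (Submonoid.powers s) P).mp (hP ▸ hp)
    exact this.2
  · rintro _ ⟨Q, hQ, rfl⟩
    refine (comap_mem_norLocus_iff (Submonoid.powers s) Q).mpr ⟨?_, hQ⟩
    exact IsLocalization.isDomain_localization Q.asIdeal.primeCompl_le_nonZeroDivisors

/-- EGA IV 6.13.4: for a Noetherian ring, the normal locus is open iff every minimal prime in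
the normal locus has an open neighbourhood contained in the normal locus. -/
theorem isOpen_norLocus_iff [IsNoetherianRing A] :
    IsOpen (EGA4.norLocus A) ↔
      ∀ p : PrimeSpectrum A, p.asIdeal ∈ minimalPrimes A → p ∈ EGA4.norLocus A →
        ∃ U : Set (PrimeSpectrum A), IsOpen U ∧ p ∈ U ∧ U ⊆ EGA4.norLocus A := by
  constructor
  · intro h p _ hp
    exact ⟨_, h, hp, subset_rfl⟩
  · intro H
    rw [isOpen_iff_forall_mem_open]
    intro p hp
    obtain ⟨U, hU, hpU, hsub⟩ := exists_open_nhd p hp H
    exact ⟨U, hsub, hU, hpU⟩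

/-- The regular locus is contained in the normal locus. -/
theorem regLocus_subset_norLocus : EGA4.regLocus A ⊆ EGA4.norLocus A := by
  intro p hp
  haveI : IsRegularLocalRing (Localization.AtPrime p.asIdeal) := hp
  exact ⟨Groth.Agent.Lead.RLR.isDomain _, Groth.Agent.H14.isIntegrallyClosed_of_isRegularLocalRing _⟩

/-- A minimal prime in the normal locus of a Noetherian ring lies in the regular locus. -/
theorem mem_regLocus_of_mem_minimalPrimes [IsNoetherianRing A] (q : PrimeSpectrum A)
    (hmin : q.asIdeal ∈ minimalPrimes A) (hq : q ∈ EGA4.norLocus A) : q ∈ EGA4.regLocus A := by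
  haveI : IsDomain (Localization.AtPrime q.asIdeal) := hq.1
  haveI : IsIntegrallyClosed (Localization.AtPrime q.asIdeal) := hq.2
  refine Groth.Agent.H14.isRegularLocalRing_of_isIntegrallyClosed_of_dim_le_one
    (Localization.AtPrime q.asIdeal) ?_
  rw [← IsLocalization.height_under q.asIdeal.primeCompl,
    IsLocalization.AtPrime.under_maximalIdeal (Localization.AtPrime q.asIdeal) q.asIdeal,
    Ideal.height_eq_zero_iff.mpr hmin]
  exact zero_le_one

/-- EGA IV 6.13.5: for a Noetherian ring, if the regular locus is open then so is the normal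
locus. -/
theorem isOpen_norLocus_of_isOpen_regLocus [IsNoetherianRing A] (h : IsOpen (EGA4.regLocus A)) :
    IsOpen (EGA4.norLocus A) := by
  rw [isOpen_norLocus_iff]
  intro q hqmin hq
  exact ⟨EGA4.regLocus A, h, mem_regLocus_of_mem_minimalPrimes q hqmin hq,
    regLocus_subset_norLocus⟩

end Groth.Agent.H13.NorLocus
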