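import Groth.Agent.H13.PBasisCore

/-!
# p-bases (EGA 0_IV 21.1): bridge between the Prelude definitions and `PBasisCore`
-/

set_option autoImplicit false
set_option linter.style.haveILetI false
set_option linter.unusedSectionVars false
universe u

namespace Groth.Agent.H13.PB

open EGA41

variable (p : ℕ) [Fact p.Prime] {A B : Type u} [CommRing A] [CommRing B] [Algebra A B] [CharP B p]

theorem pow_mem_pPower (b : B) : b ^ p ∈ pPowerSubalgebra p A B :=
  Algebra.subset_adjoin ⟨b, rfl⟩

/-- `x i ^ p` as an element of `A[B^p]`. -/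
def rC {ι : Type u} (x : ι → B) (i : ι) : pPowerSubalgebra p A B := ⟨x i ^ p, pow_mem_pPower p _⟩

theorem algebraMap_rC {ι : Type u} (x : ι → B) (i : ι) :
    algebraMap (pPowerSubalgebra p A B) B (rC (A := A) p x i) = x i ^ p := rfl

theorem cast_p_eq_zero : ((p : ℕ) : B) = 0 := CharP.cast_eq_zero B p

theorem isPIndependent_iff {ι : Type u} (x : ι → B) :
    IsPIndependent p A x ↔ LinearIndependent (pPowerSubalgebra p A B) (mono p x) := Iff.rfl

theorem isPGenerating_iff {ι : Type u} (x : ι → B) :
    IsPGenerating p A x ↔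
      Submodule.span (pPowerSubalgebra p A B) (Set.range (mono p x)) = ⊤ := Iff.rfl

/-- Every `A`-derivation of `B` kills `A[B^p]`. -/
theorem D_eq_zero_of_mem_pPower (a : B) (ha : a ∈ pPowerSubalgebra p A B) :
    KaehlerDifferential.D A B a = 0 := by
  unfold pPowerSubalgebra at ha
  induction ha using Algebra.adjoin_induction with
  | mem x hx =>
    obtain ⟨b, rfl⟩ := hx
    rw [Derivation.leibniz_pow, ← Nat.cast_smul_eq_nsmul B, cast_p_eq_zero, zero_smul]
  | algebraMap r => simp
  | add x y _ _ hx hy => simp [hx, hy]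
  | mul x y _ _ hx hy => simp [hx, hy]

/-- `Ω_{B/A} → Ω_{B/A[B^p]}` is bijective. -/
theorem bijective_map_kaehler :
    Function.Bijective (KaehlerDifferential.map A (pPowerSubalgebra p A B) B B) := by
  refine ⟨?_, KaehlerDifferential.map_surjective A (pPowerSubalgebra p A B) B⟩
  rw [← LinearMap.ker_eq_bot, ← KaehlerDifferential.range_mapBaseChange, LinearMap.range_eq_bot]
  ext t
  have := D_eq_zero_of_mem_pPower (A := A) p t.1 t.2
  simpa using this

/-- The `B`-linear equivalence `Ω_{B/A} ≃ Ω_{B/A[B^p]}`. -/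
noncomputable def kaehlerEquiv (A B : Type u) [CommRing A] [CommRing B] [Algebra A B] [CharP B p] :
    Ω[B⁄A] ≃ₗ[B] Ω[B⁄pPowerSubalgebra p A B] :=
  LinearEquiv.ofBijective (KaehlerDifferential.map A (pPowerSubalgebra p A B) B B)
    (bijective_map_kaehler p)

theorem kaehlerEquiv_D (b : B) :
    kaehlerEquiv p A B (KaehlerDifferential.D A B b) =
      KaehlerDifferential.D (pPowerSubalgebra p A B) B b := by
  simp [kaehlerEquiv]

/-- EGA 0_IV 21.2.5: a `p`-basis gives a basis of differentials. -/
theorem exists_basis_kaehler_of_isPBasis {ι : Type u} (x : ι → B) (hx : IsPBasis p A x) :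
    ∃ b : Module.Basis ι B (Ω[B⁄A]), ∀ i, b i = KaehlerDifferential.D A B (x i) := by
  obtain ⟨b, hb⟩ := exists_basis_kaehler (Fact.out : p.Prime).pos (cast_p_eq_zero p) x
    (rC (A := A) p x) (algebraMap_rC p x) hx.1 hx.2
  refine ⟨b.map (kaehlerEquiv p A B).symm, fun i => ?_⟩
  rw [Module.Basis.map_apply, hb, LinearEquiv.symm_apply_eq, kaehlerEquiv_D]

section InjPow

/-! ### The case `B^p ⊆ A ⊆ B` -/

variable {p}
variable (hinj : Function.Injective (algebraMap A B))
  (hpow : ∀ b : B, b ^ p ∈ Set.range (algebraMap A B))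

include hpow in
theorem algebraMap_pPower_surjective :
    Function.Surjective (algebraMap A (pPowerSubalgebra p A B)) := by
  intro c
  have hle : pPowerSubalgebra p A B ≤ ⊥ := by
    unfold pPowerSubalgebra
    rw [Algebra.adjoin_le_iff]
    rintro _ ⟨b, rfl⟩
    exact Algebra.mem_bot.mpr (hpow b)
  obtain ⟨a, ha⟩ := Algebra.mem_bot.mp (hle c.2)
  exact ⟨a, Subtype.ext ha⟩

include hinj in
theorem linearIndependent_of_isPIndependent {ι : Type u} (x : ι → B)
    (hx : IsPIndependent p A x) : LinearIndependent A (mono p x) := by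
  refine LinearIndependent.restrict_scalars (R := A) (K := pPowerSubalgebra p A B) ?_ hx
  intro a a' h
  apply hinj
  have := congrArg (algebraMap (pPowerSubalgebra p A B) B) h
  simpa [Algebra.smul_def] using this

include hpow in
theorem span_eq_top_of_isPGenerating {ι : Type u} (x : ι → B)
    (hx : IsPGenerating p A x) : Submodule.span A (Set.range (mono p x)) = ⊤ := by
  have h1 := Submodule.restrictScalars_span A (pPowerSubalgebra p A B)
    (algebraMap_pPower_surjective hpow) (Set.range (mono p x))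
  rw [(isPGenerating_iff p x).mp hx] at h1
  rw [← h1]
  rfl

include hinj in
theorem charP_of_algebra (E : Type*) [CommRing E] [Algebra A E] (q : E →+* B) : CharP E p := by
  have hpA : ((p : ℕ) : A) = 0 := by
    apply hinj
    rw [map_natCast, map_zero]
    exact cast_p_eq_zero p
  refine ⟨fun n => ⟨fun hn => ?_, fun hn => ?_⟩⟩
  · have : ((n : ℕ) : B) = 0 := by
      have := congrArg q hn
      simpa using this
    exact (CharP.cast_eq_zero_iff B p n).mp this
  · obtain ⟨m, rfl⟩ := hn
    have : ((p : ℕ) : E) = 0 := by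
      have := congrArg (algebraMap A E) hpA
      simpa using this
    rw [Nat.cast_mul, this, zero_mul]

include hinj hpow in
/-- EGA 0_IV 21.2.3 (the statement of S2464). -/
theorem section_theorem {ι : Type u} (x : ι → B) (hx : IsPBasis p A x)
    {E : Type u} [CommRing E] [Algebra A E] (q : E →ₐ[A] B) (hq : Function.Surjective q)
    (hK : RingHom.ker q.toRingHom ^ p = ⊥) :
    ((∃ v : B →ₐ[A] E, q.comp v = AlgHom.id A B) ↔
      ∀ (z : E) (a : A), algebraMap A B a = q z ^ p → algebraMap A E a = z ^ p) ∧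
    ((∀ (z : E) (a : A), algebraMap A B a = q z ^ p → algebraMap A E a = z ^ p) →
      ∀ z : ι → E, (∀ i, q (z i) = x i) →
        (∃! v : B →ₐ[A] E, ∀ i, v (x i) = z i) ∧
          ∀ v : B →ₐ[A] E, (∀ i, v (x i) = z i) → q.comp v = AlgHom.id A B) := by
  have hind := linearIndependent_of_isPIndependent hinj x hx.1
  have hgen := span_eq_top_of_isPGenerating hpow x hx.2
  choose r hr using fun i => hpow (x i)
  have hpos : 0 < p := (Fact.out : p.Prime).pos
  have part2 : (∀ (z : E) (a : A), algebraMap A B a = q z ^ p → algebraMap A E a = z ^ p) →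
      ∀ z : ι → E, (∀ i, q (z i) = x i) →
        (∃! v : B →ₐ[A] E, ∀ i, v (x i) = z i) ∧
          ∀ v : B →ₐ[A] E, (∀ i, v (x i) = z i) → q.comp v = AlgHom.id A B := by
    intro cond z hz
    have hzr : ∀ i, algebraMap A E (r i) = z i ^ p := fun i =>
      cond (z i) (r i) (by rw [hr i, hz i])
    obtain ⟨v, hv⟩ := exists_algHom hpos x r hr hind hgen z hzr
    refine ⟨⟨v, hv, fun v' hv' => algHom_ext x hgen fun i => by rw [hv' i, hv i]⟩, ?_⟩
    intro v' hv'
    apply algHom_ext x hgen
    intro i
    simp [hv' i, hz i]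
  refine ⟨⟨?_, ?_⟩, part2⟩
  · rintro ⟨v, hv⟩ z a ha
    haveI : CharP E p := charP_of_algebra hinj E q.toRingHom
    have hmem : z - v (q z) ∈ RingHom.ker q.toRingHom := by
      rw [RingHom.mem_ker]
      have : q (v (q z)) = q z := DFunLike.congr_fun hv (q z)
      simp [this]
    have h0 : (z - v (q z)) ^ p = 0 := by
      have := Ideal.pow_mem_pow hmem p
      rw [hK] at this
      exact this
    rw [sub_pow_char, sub_eq_zero] at h0
    rw [h0, ← map_pow, ← ha, AlgHom.commutes]
  · intro cond
    choose z hz using fun i => hq (x i)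
    obtain ⟨⟨v, hv, -⟩, h2⟩ := part2 cond z hz
    exact ⟨v, h2 v hv⟩

end InjPow

end Groth.Agent.H13.PB
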