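import Groth.Agent.H13.PBasisInter

/-!
# EGA 0_IV 21.8: admissible subfields (helper13)
-/

set_option autoImplicit false
set_option linter.style.haveILetI false
set_option linter.unusedSectionVars false
universe u

namespace Groth.Agent.H13.PB

open EGA41 KaehlerDifferential TensorProduct

section KerMap

/-- The kernel of `Ω[B⁄R] → Ω[B⁄A]` lies in any submodule containing the `d a`, `a ∈ A`. -/
theorem ker_map_le {R A B : Type*} [CommRing R] [CommRing A] [CommRing B] [Algebra R A]
    [Algebra A B] [Algebra R B] [IsScalarTower R A B] (N : Submodule B (Ω[B⁄R]))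
    (hN : ∀ a : A, D R B (algebraMap A B a) ∈ N) :
    LinearMap.ker (KaehlerDifferential.map R A B B) ≤ N := by
  rw [← KaehlerDifferential.range_mapBaseChange]
  rintro _ ⟨t, rfl⟩
  induction t using TensorProduct.induction_on with
  | zero => simp
  | add a b ha hb => rw [map_add]; exact add_mem ha hb
  | tmul c ω' =>
    rw [KaehlerDifferential.mapBaseChange_tmul]
    apply Submodule.smul_mem
    obtain ⟨x, rfl⟩ := KaehlerDifferential.linearCombination_surjective _ _ ω'
    induction x using Finsupp.induction_linear with
    | zero => simp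
    | add a b ha hb => rw [map_add, map_add]; exact add_mem ha hb
    | single a b =>
      simp only [Finsupp.linearCombination_single, map_smul, KaehlerDifferential.map_D]
      rw [algebra_compatible_smul B b]
      exact Submodule.smul_mem _ _ (hN a)

end KerMap

section Adm

variable (p : ℕ) [Fact p.Prime] {k₀ K L : Type u} [Field k₀] [Field K] [Field L]
    [Algebra k₀ K] [Algebra K L] [Algebra k₀ L] [IsScalarTower k₀ K L] [CharP K p]

/-- EGA 0_IV 21.8.? : existence of an admissible subfield of finite codegree. -/
theorem exists_admissible [Module.Finite L (EGA41.imperfection k₀ K L)] :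
    ∃ k : IntermediateField k₀ K, (∀ y : K, y ^ p ∈ k) ∧ Module.Finite k K ∧
      ∀ ω ∈ EGA41.imperfection k₀ K L,
        ((KaehlerDifferential.map k₀ k K K).restrictScalars K).baseChange L ω = 0 → ω = 0 := by
  classical
  obtain ⟨B, -, -, hB⟩ := exists_isPBasis_between (k := k₀) p (Set.univ : Set K) ∅
    (Set.empty_subset _) (isPGenerating_univ p) (isPIndependent_empty p)
  obtain ⟨β, hβ⟩ := exists_basis_kaehler_of_isPBasis p (Subtype.val : B → K) hB
  let βL : Module.Basis B L (L ⊗[K] Ω[K⁄k₀]) := β.baseChange L
  -- finite support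
  have hfg : (EGA41.imperfection k₀ K L).FG := Module.Finite.iff_fg.mp inferInstance
  obtain ⟨S, hS⟩ := hfg
  let J₀ : Finset B := S.biUnion fun ω => (βL.repr ω).support
  have hsupp : ∀ ω ∈ EGA41.imperfection k₀ K L, ((βL.repr ω).support : Set B) ⊆ J₀ := by
    intro ω hω
    rw [← Module.Basis.mem_span_image]
    rw [← hS] at hω
    refine Submodule.span_le.mpr ?_ hω
    intro ω' hω'
    rw [SetLike.mem_coe, Module.Basis.mem_span_image]
    intro b hb
    exact Finset.mem_biUnion.mpr ⟨ω', hω', hb⟩
  let T : Set K := {t | ∃ b : B, b ∉ J₀ ∧ b.1 = t}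
  let k : IntermediateField k₀ K :=
    IntermediateField.adjoin k₀ ((Set.range fun y : K => y ^ p) ∪ T)
  have hpow : ∀ y : K, y ^ p ∈ k := fun y =>
    IntermediateField.subset_adjoin _ _ (Or.inl ⟨y, rfl⟩)
  refine ⟨k, hpow, ?_, ?_⟩
  · -- finiteness
    let G : Set K := (fun b : B => b.1) '' (J₀ : Set B)
    have hGfin : G.Finite := (Finset.finite_toSet J₀).image _
    have hint : ∀ g ∈ G, IsIntegral k g := by
      intro g _
      have hp : 0 < p := (Fact.out : p.Prime).pos
      refine IsIntegral.of_pow hp ?_
      exact (isIntegral_algebraMap (x := (⟨g ^ p, hpow g⟩ : k)))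
    have htop : Algebra.adjoin k G = ⊤ := by
      rw [eq_top_iff]
      rintro z -
      have hz : z ∈ Algebra.adjoin (pPowerSubalgebra p k₀ K) (Set.range (Subtype.val : B → K)) := by
        rw [(adjoin_eq_top_iff_isPGenerating p _).mpr hB.2]
        exact Algebra.mem_top
      induction hz using Algebra.adjoin_induction with
      | mem y hy =>
        obtain ⟨b, rfl⟩ := hy
        by_cases hb : b ∈ J₀
        · exact Algebra.subset_adjoin ⟨b, hb, rfl⟩
        · have : b.1 ∈ k := IntermediateField.subset_adjoin _ _ (Or.inr ⟨b, hb, rfl⟩)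
          exact Subalgebra.algebraMap_mem _ (⟨b.1, this⟩ : k)
      | algebraMap r =>
        have h1 : (r : K) ∈ IntermediateField.adjoin k₀ (Set.range fun y : K => y ^ p) :=
          IntermediateField.algebra_adjoin_le_adjoin k₀ _ r.2
        have h2 : (r : K) ∈ k :=
          IntermediateField.adjoin.mono k₀ _ _ Set.subset_union_left h1
        exact Subalgebra.algebraMap_mem _ (⟨r.1, h2⟩ : k)
      | add a b _ _ ha hb => exact add_mem ha hb
      | mul a b _ _ ha hb => exact mul_mem ha hb
    have hfg := fg_adjoin_of_finite hGfin hint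
    rw [htop, Algebra.top_toSubmodule] at hfg
    exact ⟨hfg⟩
  · -- injectivity on the imperfection module
    intro ω hω hzero
    let f : Ω[K⁄k₀] →ₗ[K] Ω[K⁄k] := KaehlerDifferential.map k₀ k K K
    have hker : ∀ j : B, j ∈ J₀ → LinearMap.ker f ≤ LinearMap.ker (β.coord j) := by
      intro j hj
      apply ker_map_le
      intro c
      have hc : (c : K) ∈ Algebra.adjoin (pPowerSubalgebra p k₀ K) T := by
        have := coe_intermediateField_adjoin (k := k₀) p T
        exact (Set.ext_iff.mp this _).mp c.2
      have hD := D_mem_span_of_mem_adjoin p T _ hc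
      have hle : Submodule.span K (D k₀ K '' T) ≤ LinearMap.ker (β.coord j) := by
        rw [Submodule.span_le]
        rintro _ ⟨t, ⟨b, hb, rfl⟩, rfl⟩
        rw [SetLike.mem_coe, LinearMap.mem_ker, ← hβ, Module.Basis.coord_apply,
          Module.Basis.repr_self, Finsupp.single_apply, if_neg]
        rintro rfl
        exact hb hj
      exact hle hD
    have hcoord : ∀ j : B, j ∈ J₀ → βL.repr ω j = 0 := by
      intro j hj
      -- factor the coordinate through `f`
      let φ : Ω[K⁄k] →ₗ[K] K :=
        ((LinearMap.ker f).liftQ (β.coord j) (hker j hj)) ∘ₗ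
          (f.quotKerEquivOfSurjective (KaehlerDifferential.map_surjective k₀ k K)).symm.toLinearMap
      have hφ : ∀ m, φ (f m) = β.coord j m := by
        intro m
        simp only [φ, LinearMap.coe_comp, LinearEquiv.coe_coe, Function.comp_apply]
        have : (f.quotKerEquivOfSurjective (KaehlerDifferential.map_surjective k₀ k K)).symm (f m) =
            (LinearMap.ker f).mkQ m := by
          rw [LinearEquiv.symm_apply_eq]
          rfl
        rw [this]
        rfl
      let ψ : L ⊗[K] Ω[K⁄k₀] →ₗ[L] L :=
        (AlgebraTensorModule.rid K L L).toLinearMap ∘ₗ φ.baseChange L ∘ₗ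
          (f.restrictScalars K).baseChange L
      have hψ : ψ = βL.coord j := by
        apply βL.ext
        intro b
        simp only [ψ, βL, LinearMap.coe_comp, LinearEquiv.coe_coe, Function.comp_apply,
          Module.Basis.baseChange_apply, LinearMap.baseChange_tmul, LinearMap.coe_restrictScalars,
          hφ, AlgebraTensorModule.rid_tmul, Module.Basis.coord_apply, Module.Basis.repr_self]
        by_cases hbj : b = j
        · subst hbj; simp
        · simp [hbj]
      have : ψ ω = 0 := by
        simp only [ψ, LinearMap.coe_comp, LinearEquiv.coe_coe, Function.comp_apply]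
        rw [hzero, map_zero, map_zero]
      rw [hψ] at this
      exact this
    have hrepr : βL.repr ω = 0 := by
      ext j
      by_cases hj : j ∈ J₀
      · exact hcoord j hj
      · by_contra hne
        exact hj (hsupp ω hω (Finsupp.mem_support_iff.mpr hne))
    exact (LinearEquiv.map_eq_zero_iff _).mp hrepr

end Adm

end Groth.Agent.H13.PB
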