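import Groth.Prelude.Def_EGA41
import Mathlib.RingTheory.Kaehler.Polynomial
import Mathlib.RingTheory.MvPolynomial.Basic
import Mathlib.Algebra.CharP.Lemmas
import Mathlib.RingTheory.TensorProduct.Free

/-!
# p-bases: the structure lemma

Setting: `B` an `R`-algebra, `x : ι → B`, `r : ι → R` with `algebraMap R B (r i) = x i ^ p`.
If the reduced monomials in the `x i` form an `R`-basis of `B`, then
`B ≃ R[X_i] / (X_i ^ p - r_i)`.
-/

set_option autoImplicit false
set_option linter.style.haveILetI false
set_option linter.unusedSectionVars false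
universe u v w

namespace Groth.Agent.H13.PB

open MvPolynomial

variable (p : ℕ) {R : Type u} {B : Type v} [CommRing R] [CommRing B] [Algebra R B] {ι : Type w}

/-- The index type of reduced monomials. -/
abbrev Red (ι : Type w) (p : ℕ) := {e : ι →₀ ℕ // ∀ i, e i < p}

/-- The family of reduced monomials. -/
noncomputable def mono (x : ι → B) (e : Red ι p) : B := e.1.prod fun i n => x i ^ n

/-- The ideal of relations `X_i ^ p - r_i`. -/
noncomputable def relIdeal (r : ι → R) : Ideal (MvPolynomial ι R) :=
  Ideal.span (Set.range fun i => (X i : MvPolynomial ι R) ^ p - C (r i))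

variable {p}

theorem aeval_monomial_one (x : ι → B) (e : ι →₀ ℕ) :
    aeval x (monomial e (1 : R)) = e.prod fun i n => x i ^ n := by
  rw [aeval_monomial, map_one, one_mul]

theorem relIdeal_le_ker (x : ι → B) (r : ι → R) (h : ∀ i, algebraMap R B (r i) = x i ^ p) :
    relIdeal p r ≤ RingHom.ker (aeval x : MvPolynomial ι R →ₐ[R] B) := by
  rw [relIdeal, Ideal.span_le]
  rintro _ ⟨i, rfl⟩
  simp [RingHom.mem_ker, h]

/-- The `R`-span of the reduced monomials in the polynomial ring. -/
noncomputable def redSpan (ι : Type w) (p : ℕ) (R : Type u) [CommRing R] :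
    Submodule R (MvPolynomial ι R) :=
  Submodule.span R (Set.range fun e : Red ι p => monomial e.1 (1 : R))

theorem X_mul_mem (hp : 0 < p) (r : ι → R) (i : ι) (f : MvPolynomial ι R)
    (hf : f ∈ redSpan ι p R ⊔ (relIdeal p r).restrictScalars R) :
    X i * f ∈ redSpan ι p R ⊔ (relIdeal p r).restrictScalars R := by
  classical
  rw [Submodule.mem_sup] at hf
  obtain ⟨g, hg, h, hh, rfl⟩ := hf
  rw [mul_add]
  refine add_mem ?_ (Submodule.mem_sup_right ((relIdeal p r).mul_mem_left _ hh))
  clear hh h
  induction hg using Submodule.span_induction with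
  | mem g hg =>
    obtain ⟨e, rfl⟩ := hg
    by_cases hlt : e.1 i + 1 < p
    · apply Submodule.mem_sup_left
      apply Submodule.subset_span
      refine ⟨⟨e.1 + Finsupp.single i 1, fun j => ?_⟩, ?_⟩
      · by_cases hj : j = i
        · subst hj; simpa using hlt
        · simpa [Finsupp.single_apply, Ne.symm hj] using e.2 j
      · simp only
        rw [monomial_add_single, pow_one, mul_comm]
    · have hpe : e.1 i + 1 = p := by have := e.2 i; omega
      have key : X i * monomial e.1 (1 : R) =
          monomial (e.1.erase i) (1 : R) * ((X i : MvPolynomial ι R) ^ p - C (r i)) +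
            r i • monomial (e.1.erase i) (1 : R) := by
        have h0 : ∀ e' : ι →₀ ℕ, X i * monomial e' (1 : R) =
            monomial (e'.erase i) (1 : R) * X i ^ (e' i + 1) := by
          intro e'
          rw [← monomial_add_single, Finsupp.single_add, ← add_assoc,
            Finsupp.erase_add_single, monomial_add_single, pow_one, mul_comm]
        have h1 : X i * monomial e.1 (1 : R) = monomial (e.1.erase i) (1 : R) * X i ^ p := by
          rw [h0, hpe]
        rw [h1, mul_sub, MvPolynomial.smul_eq_C_mul, mul_comm (C (r i))]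
        ring
      rw [key]
      refine add_mem (Submodule.mem_sup_right ?_) (Submodule.mem_sup_left ?_)
      · exact (relIdeal p r).mul_mem_left _ (Ideal.subset_span ⟨i, rfl⟩)
      · refine Submodule.smul_mem _ _ (Submodule.subset_span ⟨⟨e.1.erase i, fun j => ?_⟩, rfl⟩)
        by_cases hj : j = i
        · subst hj; simpa using hp
        · simpa [Finsupp.erase_ne hj] using e.2 j
  | zero => simp
  | add f g _ _ hf hg => rw [mul_add]; exact add_mem hf hg
  | smul a f _ hf => rw [mul_smul_comm]; exact Submodule.smul_mem _ _ hf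

theorem mem_redSpan_sup (hp : 0 < p) (r : ι → R) (f : MvPolynomial ι R) :
    f ∈ redSpan ι p R ⊔ (relIdeal p r).restrictScalars R := by
  induction f using MvPolynomial.induction_on with
  | C a =>
    apply Submodule.mem_sup_left
    have : (C a : MvPolynomial ι R) = a • monomial (0 : ι →₀ ℕ) (1 : R) := by
      rw [MvPolynomial.smul_eq_C_mul]; simp
    rw [this]
    exact Submodule.smul_mem _ _ (Submodule.subset_span ⟨⟨0, fun _ => by simpa using hp⟩, rfl⟩)
  | add f g hf hg => exact add_mem hf hg
  | mul_X f i hf => rw [mul_comm]; exact X_mul_mem hp r i f hf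

theorem aeval_redSpan (x : ι → B) (l : Red ι p →₀ R) :
    aeval x (Finsupp.linearCombination R (fun e : Red ι p => monomial e.1 (1 : R)) l) =
      Finsupp.linearCombination R (mono p x) l := by
  rw [Finsupp.linearCombination_apply, Finsupp.linearCombination_apply, Finsupp.sum, Finsupp.sum,
    map_sum]
  refine Finset.sum_congr rfl fun e _ => ?_
  rw [map_smul, aeval_monomial_one]
  rfl

theorem aeval_redSpan' (x : ι → B) (l : Red ι p →₀ R) :
    aeval x (l.sum fun e a => a • monomial e.1 (1 : R)) = l.sum fun e a => a • mono p x e := by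
  have := aeval_redSpan x l
  rwa [Finsupp.linearCombination_apply, Finsupp.linearCombination_apply] at this

theorem ker_le_relIdeal (hp : 0 < p) (x : ι → B) (r : ι → R)
    (h : ∀ i, algebraMap R B (r i) = x i ^ p) (hind : LinearIndependent R (mono p x)) :
    RingHom.ker (aeval x : MvPolynomial ι R →ₐ[R] B) ≤ relIdeal p r := by
  intro f hf
  have hmem := mem_redSpan_sup hp r f
  rw [Submodule.mem_sup] at hmem
  obtain ⟨g, hg, j, hj, rfl⟩ := hmem
  have hj' : j ∈ relIdeal p r := hj
  have hg0 : aeval x g = 0 := by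
    have h1 : aeval x j = 0 := relIdeal_le_ker x r h hj'
    have h2 : aeval x (g + j) = 0 := hf
    rw [map_add, h1, add_zero] at h2
    exact h2
  rw [redSpan, Finsupp.mem_span_range_iff_exists_finsupp] at hg
  obtain ⟨l, rfl⟩ := hg
  have hl : l = 0 := by
    rw [linearIndependent_iff] at hind
    apply hind
    rw [← aeval_redSpan]
    exact hg0
  rw [hl]
  simpa using hj'

theorem range_aeval_eq (hp : 0 < p) (x : ι → B) (r : ι → R)
    (h : ∀ i, algebraMap R B (r i) = x i ^ p) :
    (LinearMap.range (aeval x : MvPolynomial ι R →ₐ[R] B).toLinearMap) =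
      Submodule.span R (Set.range (mono p x)) := by
  apply le_antisymm
  · rintro _ ⟨f, rfl⟩
    have hmem := mem_redSpan_sup hp r f
    rw [Submodule.mem_sup] at hmem
    obtain ⟨g, hg, j, hj, rfl⟩ := hmem
    have h1 : aeval x j = 0 := relIdeal_le_ker x r h hj
    rw [redSpan, Finsupp.mem_span_range_iff_exists_finsupp] at hg
    obtain ⟨l, rfl⟩ := hg
    rw [AlgHom.toLinearMap_apply, map_add, h1, add_zero, aeval_redSpan']
    exact Finsupp.mem_span_range_iff_exists_finsupp.mpr ⟨l, rfl⟩
  · rw [Submodule.span_le]
    rintro _ ⟨e, rfl⟩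
    exact ⟨monomial e.1 1, aeval_monomial_one x e.1⟩

theorem aeval_surjective (x : ι → B)
    (hgen : Submodule.span R (Set.range (mono p x)) = ⊤) :
    Function.Surjective (aeval x : MvPolynomial ι R →ₐ[R] B) := by
  intro b
  have hb : b ∈ Submodule.span R (Set.range (mono p x)) := by rw [hgen]; trivial
  rw [Finsupp.mem_span_range_iff_exists_finsupp] at hb
  obtain ⟨l, rfl⟩ := hb
  exact ⟨_, aeval_redSpan' x l⟩

theorem algHom_ext (x : ι → B) (hgen : Submodule.span R (Set.range (mono p x)) = ⊤)
    {E : Type*} [Semiring E] [Algebra R E] {v v' : B →ₐ[R] E} (h : ∀ i, v (x i) = v' (x i)) :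
    v = v' := by
  have h1 : v.comp (aeval x : MvPolynomial ι R →ₐ[R] B) = v'.comp (aeval x) := by
    apply MvPolynomial.algHom_ext
    intro i
    simp [h i]
  ext b
  obtain ⟨f, rfl⟩ := aeval_surjective x hgen b
  exact DFunLike.congr_fun h1 f

theorem exists_algHom (hp : 0 < p) (x : ι → B) (r : ι → R)
    (h : ∀ i, algebraMap R B (r i) = x i ^ p) (hind : LinearIndependent R (mono p x))
    (hgen : Submodule.span R (Set.range (mono p x)) = ⊤)
    {E : Type*} [CommRing E] [Algebra R E] (z : ι → E)
    (hz : ∀ i, algebraMap R E (r i) = z i ^ p) :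
    ∃ v : B →ₐ[R] E, ∀ i, v (x i) = z i := by
  have H : RingHom.ker (aeval x : MvPolynomial ι R →ₐ[R] B).toRingHom ≤
      RingHom.ker (aeval z : MvPolynomial ι R →ₐ[R] E).toRingHom :=
    (ker_le_relIdeal hp x r h hind).trans (relIdeal_le_ker z r hz)
  refine ⟨AlgHom.liftOfSurjective (aeval x) (aeval_surjective x hgen) (aeval z) H, fun i => ?_⟩
  have := AlgHom.liftOfSurjective_apply (aeval x) (aeval_surjective x hgen) (aeval z) H (X i)
  simpa using this

open KaehlerDifferential TensorProduct in
theorem exists_basis_kaehler (hp : 0 < p) (hpB : (p : B) = 0) (x : ι → B) (r : ι → R)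
    (h : ∀ i, algebraMap R B (r i) = x i ^ p) (hind : LinearIndependent R (mono p x))
    (hgen : Submodule.span R (Set.range (mono p x)) = ⊤) :
    ∃ b : Module.Basis ι B (Ω[B⁄R]), ∀ i, b i = KaehlerDifferential.D R B (x i) := by
  letI : Algebra (MvPolynomial ι R) B := (aeval x : MvPolynomial ι R →ₐ[R] B).toRingHom.toAlgebra
  haveI : IsScalarTower R (MvPolynomial ι R) B :=
    IsScalarTower.of_algebraMap_eq fun a => ((aeval x : MvPolynomial ι R →ₐ[R] B).commutes a).symm
  have hsurj : Function.Surjective (algebraMap (MvPolynomial ι R) B) := aeval_surjective x hgen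
  have hker : ∀ f : MvPolynomial ι R, algebraMap (MvPolynomial ι R) B f = 0 → f ∈ relIdeal p r :=
    fun f hf => ker_le_relIdeal hp x r h hind hf
  have hle : ∀ f ∈ relIdeal p r, algebraMap (MvPolynomial ι R) B f = 0 :=
    fun f hf => relIdeal_le_ker x r h hf
  have h0 : ∀ f ∈ relIdeal p r, (1 : B) ⊗ₜ[MvPolynomial ι R] D R (MvPolynomial ι R) f = 0 := by
    intro f hf
    induction hf using Submodule.span_induction with
    | mem f hf =>
      obtain ⟨i, rfl⟩ := hf
      have hC : D R (MvPolynomial ι R) (C (r i)) = 0 := by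
        rw [← MvPolynomial.algebraMap_eq]; exact Derivation.map_algebraMap _ _
      rw [map_sub, Derivation.leibniz_pow, hC, sub_zero, tmul_smul,
        ← Nat.cast_smul_eq_nsmul B, hpB, zero_smul]
    | zero => simp
    | add f g _ _ hf hg => rw [map_add, tmul_add, hf, hg, add_zero]
    | smul g f hf ih =>
      rw [smul_eq_mul, Derivation.leibniz, tmul_add, tmul_smul, ih, smul_zero, zero_add,
        ← smul_tmul, Algebra.smul_def, mul_one, hle f hf, zero_tmul]
  have hinj : Function.Injective (mapBaseChange R (MvPolynomial ι R) B) := by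
    rw [← LinearMap.ker_eq_bot, eq_bot_iff]
    intro y hy
    have hex := exact_kerCotangentToTensor_mapBaseChange R (MvPolynomial ι R) B hsurj
    obtain ⟨c, rfl⟩ := (hex y).mp hy
    obtain ⟨f, rfl⟩ := Ideal.toCotangent_surjective _ c
    rw [kerCotangentToTensor_toCotangent]
    exact h0 f.1 (hker f.1 f.2)
  let e : (B ⊗[MvPolynomial ι R] Ω[MvPolynomial ι R⁄R]) ≃ₗ[B] Ω[B⁄R] :=
    LinearEquiv.ofBijective (mapBaseChange R (MvPolynomial ι R) B)
      ⟨hinj, mapBaseChange_surjective R (MvPolynomial ι R) B hsurj⟩
  refine ⟨(Algebra.TensorProduct.basis B (mvPolynomialBasis R ι)).map e, fun i => ?_⟩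
  rw [Module.Basis.map_apply, Algebra.TensorProduct.basis_apply, mvPolynomialBasis_apply]
  change mapBaseChange R (MvPolynomial ι R) B _ = _
  rw [mapBaseChange_tmul, one_smul, map_D]
  congr 1
  exact aeval_X x i

end Groth.Agent.H13.PB
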