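import Groth.Agent.H13.PBasis
import Mathlib.Algebra.TrivSqZeroExt.Basic

/-!
# p-bases and derivations (EGA 0_IV 21.2.4)
-/

set_option autoImplicit false
set_option linter.style.haveILetI false
set_option linter.unusedSectionVars false
universe u
open EGA41 TrivSqZeroExt

namespace Groth.Agent.H13.PB

section Deriv

variable {A B : Type u} [CommRing A] [CommRing B] [Algebra A B]
  (L : Type u) [AddCommGroup L] [Module B L] [Module A L] [IsScalarTower A B L]

/-- A module over a commutative ring as an op-module. -/
@[reducible] def opModule : Module Bᵐᵒᵖ L :=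
  Module.compHom L ((RingHom.id B).fromOpposite fun _ _ => mul_comm _ _)

attribute [local instance] opModule

theorem isCentralScalar_opModule : IsCentralScalar B L := ⟨fun _ _ => rfl⟩

attribute [local instance] isCentralScalar_opModule

/-- The ring hom `a ↦ (a, D a)`. -/
noncomputable def twist (D : Derivation ℤ A L) : A →+* TrivSqZeroExt B L where
  toFun a := (algebraMap A B a, D a)
  map_one' := by
    ext <;> simp
  map_mul' a b := by
    ext
    · simp
    · simp [Derivation.leibniz]
  map_zero' := by ext <;> simp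
  map_add' a b := by ext <;> simp

@[simp] theorem fst_twist (D : Derivation ℤ A L) (a : A) :
    (twist (B := B) L D a).fst = algebraMap A B a := rfl
@[simp] theorem snd_twist (D : Derivation ℤ A L) (a : A) :
    (twist (B := B) L D a).snd = D a := rfl

/-- The derivation attached to a ring hom `v : B → B ⊕ L` with `fst ∘ v = id`. -/
noncomputable def derivOfHom (v : B →+* TrivSqZeroExt B L) (hv : ∀ b, (v b).fst = b) :
    Derivation ℤ B L :=
  Derivation.mk' (((TrivSqZeroExt.sndHom B L).toAddMonoidHom.comp v.toAddMonoidHom).toIntLinearMap)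
    (by
      intro a b
      simp [hv])

@[simp] theorem derivOfHom_apply (v : B →+* TrivSqZeroExt B L) (hv : ∀ b, (v b).fst = b) (b : B) :
    derivOfHom L v hv b = (v b).snd := rfl

theorem ker_fst_sq_le (I : Ideal (TrivSqZeroExt B L)) (hI : ∀ u ∈ I, u.fst = 0) (n : ℕ)
    (hn : 2 ≤ n) : I ^ n = ⊥ := by
  have h2 : I ^ 2 = ⊥ := by
    rw [eq_bot_iff, pow_two, Ideal.mul_le]
    intro u hu v hv
    rw [Ideal.mem_bot]
    ext
    · simp [hI u hu]
    · simp [hI u hu, hI v hv]
  exact eq_bot_iff.mpr ((Ideal.pow_le_pow_right hn).trans h2.le)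

variable (p : ℕ) [Fact p.Prime] [CharP B p]

/-- EGA 0_IV 21.2.4 (the statement of S2465). -/
theorem derivation_theorem (hinj : Function.Injective (algebraMap A B))
    (hpow : ∀ b : B, b ^ p ∈ Set.range (algebraMap A B))
    {ι : Type u} (x : ι → B) (hx : IsPBasis p A x) (D : Derivation ℤ A L) :
    ((∃ D' : Derivation ℤ B L, ∀ a : A, D' (algebraMap A B a) = D a) ↔
      ∀ (a : A) (b : B), algebraMap A B a = b ^ p → D a = 0) ∧
    ((∀ (a : A) (b : B), algebraMap A B a = b ^ p → D a = 0) →
      ∀ y : ι → L, ∃! D' : Derivation ℤ B L,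
        (∀ a : A, D' (algebraMap A B a) = D a) ∧ ∀ i, D' (x i) = y i) := by
  have hpB : ((p : ℕ) : B) = 0 := CharP.cast_eq_zero B p
  have part2 : (∀ (a : A) (b : B), algebraMap A B a = b ^ p → D a = 0) →
      ∀ y : ι → L, ∃! D' : Derivation ℤ B L,
        (∀ a : A, D' (algebraMap A B a) = D a) ∧ ∀ i, D' (x i) = y i := by
    intro cond y
    letI algE : Algebra A (TrivSqZeroExt B L) := (twist L D).toAlgebra
    have halg : ∀ a, algebraMap A (TrivSqZeroExt B L) a = twist L D a := fun _ => rfl
    let q : TrivSqZeroExt B L →ₐ[A] B :=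
      { toFun := TrivSqZeroExt.fst
        map_one' := TrivSqZeroExt.fst_one
        map_mul' := TrivSqZeroExt.fst_mul
        map_zero' := TrivSqZeroExt.fst_zero
        map_add' := TrivSqZeroExt.fst_add
        commutes' := fun a => rfl }
    have hqfst : ∀ u, q u = u.fst := fun _ => rfl
    have hq : Function.Surjective q := fun b => ⟨TrivSqZeroExt.inl b, rfl⟩
    have hK : RingHom.ker q.toRingHom ^ p = ⊥ :=
      ker_fst_sq_le L _ (fun u hu => hu) p (Fact.out : p.Prime).two_le
    have cond' : ∀ (z : TrivSqZeroExt B L) (a : A), algebraMap A B a = q z ^ p →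
        algebraMap A (TrivSqZeroExt B L) a = z ^ p := by
      intro z a ha
      rw [halg]
      ext
      · rw [fst_twist, TrivSqZeroExt.fst_pow]
        exact ha
      · rw [snd_twist, TrivSqZeroExt.snd_pow, cond a z.fst ha,
          ← Nat.cast_smul_eq_nsmul B, hpB, zero_smul]
    obtain ⟨⟨v, hv, hvuniq⟩, hqv⟩ := (section_theorem hinj hpow x hx q hq hK).2 cond'
      (fun i => (x i, y i)) (fun i => rfl)
    have hfst : ∀ b, (v b).fst = b := fun b => DFunLike.congr_fun (hqv v hv) b
    refine ⟨derivOfHom L v.toRingHom hfst, ⟨fun a => ?_, fun i => ?_⟩, ?_⟩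
    · rw [derivOfHom_apply]
      change (v (algebraMap A B a)).snd = _
      rw [v.commutes, halg, snd_twist]
    · rw [derivOfHom_apply]
      change (v (x i)).snd = _
      rw [hv i]
      rfl
    · rintro D'' ⟨h1, h2⟩
      let v'' : B →ₐ[A] TrivSqZeroExt B L :=
        { twist L D'' with
          commutes' := fun a => by
            rw [halg]
            ext
            · rfl
            · exact h1 a }
      have hv'' : v'' = v := hvuniq v'' (fun i => by
        ext
        · rfl
        · exact h2 i)
      ext b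
      rw [derivOfHom_apply]
      change _ = (v b).snd
      rw [← hv'']
      rfl
  refine ⟨⟨?_, fun cond => ?_⟩, part2⟩
  · rintro ⟨D', hD'⟩ a b hab
    rw [← hD', hab, Derivation.leibniz_pow, ← Nat.cast_smul_eq_nsmul B, hpB, zero_smul]
  · obtain ⟨D', ⟨h1, -⟩, -⟩ := part2 cond (fun _ => 0)
    exact ⟨D', h1⟩

end Deriv
end Groth.Agent.H13.PB
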