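import Groth.Agent.H13.PBasisSurj

/-!
# EGA 0_IV 21.1.8-ish: p-generators, adjoin and differentials (S2486)
-/

set_option autoImplicit false
set_option linter.style.haveILetI false
set_option linter.unusedSectionVars false
universe u

namespace Groth.Agent.H13.PB

open EGA41 MvPolynomial

variable (p : ℕ) [Fact p.Prime] {A B : Type u} [CommRing A] [CommRing B] [Algebra A B] [CharP B p]
  {ι : Type u} (x : ι → B)

theorem adjoin_eq_top_iff_isPGenerating :
    Algebra.adjoin (pPowerSubalgebra p A B) (Set.range x) = ⊤ ↔ IsPGenerating p A x := by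
  have hp : 0 < p := (Fact.out : p.Prime).pos
  rw [isPGenerating_iff, Algebra.adjoin_range_eq_range_aeval]
  constructor
  · intro h
    rw [← range_aeval_eq hp x (rC (A := A) p x) (algebraMap_rC p x), eq_top_iff]
    rintro b -
    have : b ∈ (aeval x : MvPolynomial ι (pPowerSubalgebra p A B) →ₐ[_] B).range :=
      h ▸ Algebra.mem_top
    obtain ⟨f, rfl⟩ := this
    exact ⟨f, rfl⟩
  · intro h
    rw [eq_top_iff]
    rintro b -
    exact aeval_surjective x h b

theorem D_mem_span_of_isPGenerating (hx : IsPGenerating p A x) (b : B) :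
    KaehlerDifferential.D A B b ∈
      Submodule.span B (Set.range fun i => KaehlerDifferential.D A B (x i)) := by
  obtain ⟨f, rfl⟩ := aeval_surjective x ((isPGenerating_iff p x).mp hx) b
  induction f using MvPolynomial.induction_on with
  | C c =>
    rw [aeval_C]
    have : KaehlerDifferential.D A B (algebraMap (pPowerSubalgebra p A B) B c) = 0 :=
      D_eq_zero_of_mem_pPower p _ c.2
    rw [this]
    exact Submodule.zero_mem _
  | add f g hf hg =>
    rw [map_add, map_add]; exact add_mem hf hg
  | mul_X f i hf =>
    rw [map_mul, aeval_X, Derivation.leibniz]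
    exact add_mem (Submodule.smul_mem _ _ (Submodule.subset_span ⟨i, rfl⟩))
      (Submodule.smul_mem _ _ hf)

theorem span_D_eq_top_of_isPGenerating (hx : IsPGenerating p A x) :
    Submodule.span B (Set.range fun i => KaehlerDifferential.D A B (x i)) = ⊤ := by
  rw [eq_top_iff, ← KaehlerDifferential.span_range_derivation A B, Submodule.span_le]
  rintro _ ⟨b, rfl⟩
  exact D_mem_span_of_isPGenerating p x hx b

theorem isPGenerating_of_span_D_eq_top [Algebra.FiniteType (pPowerSubalgebra p A B) B]
    (h : Submodule.span B (Set.range fun i => KaehlerDifferential.D A B (x i)) = ⊤) :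
    IsPGenerating p A x := by
  rw [← adjoin_eq_top_iff_isPGenerating]
  set C := pPowerSubalgebra p A B with hC
  set B' : Subalgebra C B := Algebra.adjoin C (Set.range x) with hB'
  haveI : Algebra.FiniteType B' B := Algebra.FiniteType.of_restrictScalars_finiteType C B' B
  -- the differentials of `B` over `C` are spanned by the `d x_i`
  have h1 : Submodule.span B (Set.range fun i => KaehlerDifferential.D C B (x i)) = ⊤ := by
    have := congrArg (Submodule.map (kaehlerEquiv p A B).toLinearMap) h
    rw [Submodule.map_span, Submodule.map_top, LinearMap.range_eq_top.mpr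
      (kaehlerEquiv p A B).surjective, ← Set.range_comp] at this
    rw [← this]
    congr 2
    funext i
    exact (kaehlerEquiv_D p (x i)).symm
  -- hence `Ω_{B/B'} = 0`
  haveI : Subsingleton (Ω[B⁄B']) := by
    have hsurj := KaehlerDifferential.map_surjective C B' B
    refine ⟨fun a b => ?_⟩
    suffices h0 : ∀ ω : Ω[B⁄B'], ω = 0 by rw [h0 a, h0 b]
    intro ω
    obtain ⟨η, rfl⟩ := hsurj ω
    have hη : η ∈ Submodule.span B (Set.range fun i => KaehlerDifferential.D C B (x i)) :=
      h1 ▸ Submodule.mem_top
    induction hη using Submodule.span_induction with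
    | mem η hη =>
      obtain ⟨i, rfl⟩ := hη
      rw [KaehlerDifferential.map_D]
      have : algebraMap B B (x i) = algebraMap B' B ⟨x i, Algebra.subset_adjoin ⟨i, rfl⟩⟩ := rfl
      rw [this, Derivation.map_algebraMap]
    | zero => simp
    | add a b _ _ ha hb => rw [map_add, ha, hb, add_zero]
    | smul c a _ ha => rw [map_smul, ha, smul_zero]
  have hpow : ∀ b : B, b ^ p ^ 1 ∈ Set.range (algebraMap B' B) := by
    intro b
    rw [pow_one]
    exact ⟨algebraMap C B' ⟨b ^ p, pow_mem_pPower p b⟩, rfl⟩
  have hs := surjective_of_pow_mem_of_subsingleton_kaehler (A := B') (B := B) p 1 hpow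
  rw [eq_top_iff]
  rintro b -
  obtain ⟨c, rfl⟩ := hs b
  exact c.2

end Groth.Agent.H13.PB
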