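import Groth.Agent.H13.PBasisImperf

/-!
# The imperfection module from p-bases (helper13)
-/

set_option autoImplicit false
set_option linter.style.haveILetI false
set_option linter.unusedSectionVars false
universe u

namespace Groth.Agent.H13.PB

open EGA41 TensorProduct

section absolute2

variable (p : ℕ) [Fact p.Prime]

variable {R A B : Type u} [CommRing R] [CommRing A] [CommRing B] [IsReduced B] [Algebra R A]
    [Algebra A B] [Algebra R B] [IsScalarTower R A B] [CharP B p]

/-- Absolute differentials of `A` for `B^p ⊆ A ⊆ B` with `p`-bases of `B/A` and `A/B^p`. -/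
theorem exists_basis_kaehler_int_frob (hinj : Function.Injective (algebraMap A B))
    (hpow : ∀ b : B, b ^ p ∈ Set.range (algebraMap A B))
    (hR : Set.range (algebraMap R B) = Set.range fun b : B => b ^ p)
    {Λ M : Type u} (x : Λ → B) (hx : IsPBasis p A x) (x' : Λ → A)
    (hx' : ∀ i, algebraMap A B (x' i) = x i ^ p) (y : M → A) (hy : IsPBasis p R y) :
    ∃ b : Module.Basis (Λ ⊕ M) A (Ω[A⁄ℤ]),
      (∀ i, b (Sum.inl i) = KaehlerDifferential.D ℤ A (x' i)) ∧
        ∀ j, b (Sum.inr j) = KaehlerDifferential.D ℤ A (y j) := by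
  haveI : CharP A p := (algebraMap A B).charP hinj p
  let φ := frobInto p hinj hpow
  letI algFA : Algebra (FrobBase A) A := (frobenius A p).toAlgebra
  letI algFB : Algebra (FrobBase A) B := inferInstanceAs (Algebra A B)
  letI algBA : Algebra B A := φ.toAlgebra
  haveI : IsScalarTower (FrobBase A) B A := IsScalarTower.of_algebraMap_eq (fun f => by
    apply hinj
    change algebraMap A B ((show A from f) ^ p) = algebraMap A B (φ (algebraMap A B (show A from f)))
    rw [algebraMap_frobInto, map_pow])
  have hxF : IsPBasis p (FrobBase A) x := hx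
  have hyB : IsPBasis p B y := by
    refine (isPBasis_iff_of_range_eq ?_ y).mp hy
    ext a
    constructor
    · rintro ⟨r, rfl⟩
      have : algebraMap R B r ∈ Set.range fun b : B => b ^ p := hR ▸ Set.mem_range_self r
      obtain ⟨b, hb⟩ := this
      refine ⟨b, hinj ?_⟩
      change algebraMap A B (φ b) = _
      rw [algebraMap_frobInto, ← IsScalarTower.algebraMap_apply]
      exact hb
    · rintro ⟨b, rfl⟩
      have : b ^ p ∈ Set.range (algebraMap R B) := hR ▸ Set.mem_range_self b
      obtain ⟨r, hr⟩ := this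
      refine ⟨r, hinj ?_⟩
      change _ = algebraMap A B (φ b)
      rw [algebraMap_frobInto, ← IsScalarTower.algebraMap_apply]
      exact hr
  obtain ⟨b, hb1, hb2⟩ := exists_basis_kaehler_int_tower p (T := FrobBase A) (C := B) (S := A)
    (frobInto_injective p hinj hpow) (fun a => ⟨a, rfl⟩) (fun f => ⟨f, rfl⟩) x y hxF hyB
  refine ⟨b, fun i => ?_, hb2⟩
  rw [hb1]
  congr 1
  apply hinj
  change algebraMap A B (φ (x i)) = _
  rw [algebraMap_frobInto, hx']

end absolute2

end Groth.Agent.H13.PB

namespace Groth.Agent.H13.PB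

theorem exists_basis_ker {S N P : Type*} [CommRing S] [AddCommGroup N] [Module S N]
    [AddCommGroup P] [Module S P]
    {Λ M K : Type*} (G : N →ₗ[S] P) (β' : Module.Basis (Λ ⊕ M) S N) (βP : Module.Basis K S P)
    (e : M → K) (he : Function.Injective e)
    (h1 : ∀ i, G (β' (Sum.inl i)) = 0) (h2 : ∀ j, G (β' (Sum.inr j)) = βP (e j)) :
    ∃ b : Module.Basis Λ S (LinearMap.ker G), ∀ i, (b i : N) = β' (Sum.inl i) := by
  classical
  let v : Λ → LinearMap.ker G := fun i => ⟨β' (Sum.inl i), h1 i⟩
  have hli : LinearIndependent S v := by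
    apply LinearIndependent.of_comp (LinearMap.ker G).subtype
    exact β'.linearIndependent.comp _ Sum.inl_injective
  have hcoord : ∀ (n : N), G n = 0 → ∀ j, β'.repr n (Sum.inr j) = 0 := by
    intro n hn j
    have : (βP.coord (e j)) ∘ₗ G = β'.coord (Sum.inr j) := by
      apply β'.ext
      rintro (i | j')
      · simp [h1]
      · simp [h2, Finsupp.single_apply, he.eq_iff]
    have h3 := LinearMap.congr_fun this n
    simp [hn] at h3
    exact h3.symm
  have hsp : ⊤ ≤ Submodule.span S (Set.range v) := by
    rintro ⟨n, hn⟩ -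
    have hmem : n ∈ Submodule.span S (β' '' (Set.range Sum.inl)) := by
      rw [Module.Basis.mem_span_image]
      intro k hk
      rcases k with i | j
      · exact ⟨i, rfl⟩
      · exfalso
        simp only [Finset.mem_coe, Finsupp.mem_support_iff] at hk
        exact hk (hcoord n hn j)
    have hset : (β' '' Set.range Sum.inl) = (LinearMap.ker G).subtype '' Set.range v := by
      ext z
      simp [v]
    rw [hset, ← Submodule.map_span] at hmem
    obtain ⟨n', hn', hnn'⟩ := hmem
    have : n' = ⟨n, hn⟩ := Subtype.ext hnn'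
    exact this ▸ hn'
  exact ⟨Module.Basis.mk hli hsp, fun i => by simp [v]⟩

end Groth.Agent.H13.PB

namespace Groth.Agent.H13.PB

open EGA41 TensorProduct

theorem imperfection_basis (p : ℕ) [Fact p.Prime] {R A B : Type u} [CommRing R] [CommRing A]
    [CommRing B] [IsReduced B] [Algebra R A] [Algebra A B] [Algebra R B] [IsScalarTower R A B]
    [CharP B p]
    (hinj : Function.Injective (algebraMap A B))
    (hpow : ∀ b : B, b ^ p ∈ Set.range (algebraMap A B))
    (hR : Set.range (algebraMap R B) = Set.range fun b : B => b ^ p)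
    {Λ M : Type u} (x : Λ → B) (hx : EGA41.IsPBasis p A x) (x' : Λ → A)
    (hx' : ∀ i, algebraMap A B (x' i) = x i ^ p)
    (y : M → A) (hy : EGA41.IsPBasis p R y) :
    ∃ b : Module.Basis Λ B (EGA41.imperfection ℤ A B),
      ∀ i, (b i : B ⊗[A] Ω[A⁄ℤ]) = (1 : B) ⊗ₜ[A] KaehlerDifferential.D ℤ A (x' i) := by
  obtain ⟨βA, hβA1, hβA2⟩ := exists_basis_kaehler_int_frob p hinj hpow hR x hx x' hx' y hy
  have hpowR : ∀ s : B, s ^ p ∈ Set.range (algebraMap R B) := fun s => by
    rw [hR]; exact ⟨s, rfl⟩
  have hT : ∀ t : R, ∃ s : B, algebraMap R B t = s ^ p := fun t => by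
    have : algebraMap R B t ∈ Set.range fun b : B => b ^ p := hR ▸ Set.mem_range_self t
    obtain ⟨s, hs⟩ := this
    exact ⟨s, hs.symm⟩
  obtain ⟨βB, hβB1, hβB2⟩ := exists_basis_kaehler_int_tower p (T := R) (C := A) (S := B)
    hinj hpowR hT y x hy hx
  obtain ⟨b, hb⟩ := exists_basis_ker (KaehlerDifferential.mapBaseChange ℤ A B)
    (βA.baseChange B) βB Sum.inl Sum.inl_injective (fun i => by
      rw [Module.Basis.baseChange_apply, hβA1, KaehlerDifferential.mapBaseChange_tmul, one_smul,
        KaehlerDifferential.map_D, hx', Derivation.leibniz_pow, ← Nat.cast_smul_eq_nsmul B,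
        cast_p_eq_zero, zero_smul]) (fun j => by
      rw [Module.Basis.baseChange_apply, hβA2, KaehlerDifferential.mapBaseChange_tmul, one_smul,
        KaehlerDifferential.map_D, hβB1])
  refine ⟨b, fun i => (hb i).trans ?_⟩
  rw [Module.Basis.baseChange_apply, hβA1]

end Groth.Agent.H13.PB
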