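import Groth.Agent.H13.PBasis
import Mathlib.RingTheory.AlgebraTower

/-!
# p-bases in towers (EGA 0_IV 21.1.9–10) (helper13)

Setting: rings `A → C → B` of characteristic `p` with `C → B` injective and `B^p ⊆ im(A → B)`.
-/

set_option autoImplicit false
set_option linter.style.haveILetI false
set_option linter.unusedSectionVars false
universe u

namespace Groth.Agent.H13.PB

open EGA41
open scoped Pointwise

section generalities

/-- Independence descends along a spanning family of scalars. -/
theorem linearIndependent_of_smul {R S M : Type*} [Ring R] [Ring S] [AddCommGroup M]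
    [Module R S] [Module S M] [Module R M] [IsScalarTower R S M] {α α' : Type*} (w : α' → S)
    (hw : Submodule.span R (Set.range w) = ⊤) (v : α → M)
    (h : LinearIndependent R (fun i : α × α' => w i.2 • v i.1)) : LinearIndependent S v := by
  rw [LinearIndependent, Finsupp.linearCombination_smul] at h
  have h1 : Function.Surjective (Finsupp.linearCombination R w) := by
    rw [← LinearMap.range_eq_top, Finsupp.range_linearCombination]
    exact hw
  have hsurj : ∀ l : α →₀ S, ∃ l' : α →₀ (α' →₀ R),
      Finsupp.mapRange.linearMap (Finsupp.linearCombination R w) l' = l := by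
    intro l
    induction l using Finsupp.induction_linear with
    | zero => exact ⟨0, map_zero _⟩
    | add f g hf hg =>
      obtain ⟨f', rfl⟩ := hf
      obtain ⟨g', rfl⟩ := hg
      exact ⟨f' + g', map_add _ _ _⟩
    | single a s =>
      obtain ⟨t, rfl⟩ := h1 s
      exact ⟨Finsupp.single a t, by simp⟩
  rw [LinearIndependent, injective_iff_map_eq_zero]
  intro l hl
  obtain ⟨l', rfl⟩ := hsurj l
  obtain ⟨l'', rfl⟩ := (Finsupp.curryLinearEquiv R).surjective l'
  have h0 : ((Finsupp.linearCombination S v).restrictScalars R ∘ₗ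
      Finsupp.mapRange.linearMap (Finsupp.linearCombination R w) ∘ₗ
      (Finsupp.curryLinearEquiv R).toLinearMap) l'' = 0 := hl
  have h2 := h (h0.trans (map_zero _).symm)
  rw [h2, map_zero, map_zero]

/-- Change of scalar ring along a bijection compatible with the actions: linear independence. -/
theorem linearIndependent_iff_of_bijective {R R' M : Type*} [Ring R] [Ring R'] [AddCommGroup M]
    [Module R M] [Module R' M] (i : R → R') (hi : Function.Bijective i) (hi0 : i 0 = 0)
    (hc : ∀ (r : R) (m : M), i r • m = r • m) {α : Type*} (v : α → M) :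
    LinearIndependent R v ↔ LinearIndependent R' v := by
  constructor
  · intro h
    exact h.map_of_surjective_injective i (AddMonoidHom.id M) hi.2 (fun m hm => hm)
      (fun r m => (hc r m).symm)
  · intro h
    exact h.map_of_injective_injective i (AddMonoidHom.id M)
      (fun r hr => hi.1 (hr.trans hi0.symm)) (fun m hm => hm) (fun r m => hc r m)

/-- Change of scalar ring along a surjection compatible with the actions: spans. -/
theorem span_eq_top_iff_of_surjective {R R' M : Type*} [Ring R] [Ring R'] [AddCommGroup M]
    [Module R M] [Module R' M] (i : R → R') (hi : Function.Surjective i)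
    (hc : ∀ (r : R) (m : M), i r • m = r • m) (s : Set M) :
    Submodule.span R s = ⊤ ↔ Submodule.span R' s = ⊤ := by
  have key : ∀ m : M, m ∈ Submodule.span R s ↔ m ∈ Submodule.span R' s := by
    intro m
    constructor
    · intro hm
      induction hm using Submodule.span_induction with
      | mem x hx => exact Submodule.subset_span hx
      | zero => exact Submodule.zero_mem _
      | add x y _ _ hx hy => exact Submodule.add_mem _ hx hy
      | smul r x _ hx => rw [← hc]; exact Submodule.smul_mem _ _ hx
    · intro hm
      induction hm using Submodule.span_induction with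
      | mem x hx => exact Submodule.subset_span hx
      | zero => exact Submodule.zero_mem _
      | add x y _ _ hx hy => exact Submodule.add_mem _ hx hy
      | smul r x _ hx =>
        obtain ⟨r', rfl⟩ := hi r
        rw [hc]; exact Submodule.smul_mem _ _ hx
  simp only [Submodule.eq_top_iff', key]

end generalities

section tower

variable (p : ℕ)

/-- If all `p`-th powers of `B` come from `A`, then `A[B^p]` is the image of `A`. -/
theorem mem_range_of_mem_pPower {A B : Type u} [CommRing A] [CommRing B] [Algebra A B]
    (hpow : ∀ b : B, b ^ p ∈ Set.range (algebraMap A B)) {r : B}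
    (hr : r ∈ pPowerSubalgebra p A B) : r ∈ Set.range (algebraMap A B) := by
  unfold pPowerSubalgebra at hr
  induction hr using Algebra.adjoin_induction with
  | mem x hx =>
    obtain ⟨b, rfl⟩ := hx
    exact hpow b
  | algebraMap a => exact ⟨a, rfl⟩
  | add x y _ _ hx hy =>
    obtain ⟨a, rfl⟩ := hx
    obtain ⟨b, rfl⟩ := hy
    exact ⟨a + b, map_add _ _ _⟩
  | mul x y _ _ hx hy =>
    obtain ⟨a, rfl⟩ := hx
    obtain ⟨b, rfl⟩ := hy
    exact ⟨a * b, map_mul _ _ _⟩

/-- Splitting reduced exponent vectors on a sum type. -/
noncomputable def redSumEquiv (ι κ : Type u) : Red (ι ⊕ κ) p ≃ Red ι p × Red κ p where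
  toFun e := (⟨e.1.comapDomain Sum.inl Sum.inl_injective.injOn, fun i => e.2 (Sum.inl i)⟩,
    ⟨e.1.comapDomain Sum.inr Sum.inr_injective.injOn, fun j => e.2 (Sum.inr j)⟩)
  invFun e := ⟨Finsupp.sumElim e.1.1 e.2.1, by
    rintro (i | j)
    · exact e.1.2 i
    · exact e.2.2 j⟩
  left_inv e := by
    apply Subtype.ext
    simp
  right_inv e := by
    apply Prod.ext <;> apply Subtype.ext <;> simp

variable {p}

theorem mono_sumElim {B : Type u} [CommRing B] {ι κ : Type u} (x : ι → B) (y : κ → B)
    (e : Red ι p × Red κ p) :
    mono p (Sum.elim x y) ((redSumEquiv p ι κ).symm e) = mono p x e.1 * mono p y e.2 := by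
  unfold mono
  change (Finsupp.sumElim e.1.1 e.2.1).prod _ = _
  rw [Finsupp.prod_sumElim]
  rfl

theorem mono_map {C B : Type u} [CommRing C] [CommRing B] [Algebra C B] {ι : Type u} (x : ι → C)
    (e : Red ι p) :
    mono p (fun i => algebraMap C B (x i)) e = algebraMap C B (mono p x e) := by
  unfold mono
  rw [map_finsuppProd]
  simp only [map_pow]

variable (p) [Fact p.Prime] {A C B : Type u} [CommRing A] [CommRing C]
    [CommRing B] [Algebra A C] [Algebra C B] [Algebra A B] [IsScalarTower A C B] [CharP B p]

include p in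
theorem pow_mem_range_AC (hinj : Function.Injective (algebraMap C B))
    (hpow : ∀ b : B, b ^ p ∈ Set.range (algebraMap A B)) (c : C) :
    c ^ p ∈ Set.range (algebraMap A C) := by
  obtain ⟨a, ha⟩ := hpow (algebraMap C B c)
  refine ⟨a, hinj ?_⟩
  rw [← IsScalarTower.algebraMap_apply, ha, map_pow]

theorem pow_mem_range_CB (hpow : ∀ b : B, b ^ p ∈ Set.range (algebraMap A B)) (b : B) :
    b ^ p ∈ Set.range (algebraMap C B) := by
  obtain ⟨a, ha⟩ := hpow b
  exact ⟨algebraMap A C a, by rw [← IsScalarTower.algebraMap_apply, ha]⟩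

/-- `C → C[B^p]`. -/
def iC : C → pPowerSubalgebra p C B := fun c => ⟨algebraMap C B c, Subalgebra.algebraMap_mem _ c⟩

theorem iC_bijective (hinj : Function.Injective (algebraMap C B))
    (hpow : ∀ b : B, b ^ p ∈ Set.range (algebraMap A B)) :
    Function.Bijective (iC p (C := C) (B := B)) := by
  constructor
  · intro c c' h
    exact hinj (congrArg Subtype.val h)
  · rintro ⟨r, hr⟩
    obtain ⟨c, rfl⟩ := mem_range_of_mem_pPower p (pow_mem_range_CB p (A := A) hpow) hr
    exact ⟨c, rfl⟩

/-- `A[C^p] → A[B^p]`. -/
def iA (hinj : Function.Injective (algebraMap C B))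
    (hpow : ∀ b : B, b ^ p ∈ Set.range (algebraMap A B)) :
    pPowerSubalgebra p A C → pPowerSubalgebra p A B := fun c =>
  ⟨algebraMap C B c.1, by
    obtain ⟨a, ha⟩ := mem_range_of_mem_pPower p (pow_mem_range_AC p hinj hpow) c.2
    rw [← ha, ← IsScalarTower.algebraMap_apply]
    exact Subalgebra.algebraMap_mem _ a⟩

theorem iA_bijective (hinj : Function.Injective (algebraMap C B))
    (hpow : ∀ b : B, b ^ p ∈ Set.range (algebraMap A B)) :
    Function.Bijective (iA p hinj hpow) := by
  constructor
  · intro c c' h
    exact Subtype.ext (hinj (congrArg Subtype.val h))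
  · rintro ⟨r, hr⟩
    obtain ⟨a, rfl⟩ := mem_range_of_mem_pPower p hpow hr
    refine ⟨⟨algebraMap A C a, Subalgebra.algebraMap_mem _ a⟩, Subtype.ext ?_⟩
    change algebraMap C B (algebraMap A C a) = algebraMap A B a
    rw [← IsScalarTower.algebraMap_apply]

theorem iC_smul (c : C) (b : B) : iC p (B := B) c • b = c • b := by
  rw [Algebra.smul_def, Algebra.smul_def]
  rfl

theorem iA_smul (hinj : Function.Injective (algebraMap C B))
    (hpow : ∀ b : B, b ^ p ∈ Set.range (algebraMap A B)) (c : pPowerSubalgebra p A C) (b : B) :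
    iA p hinj hpow c • b = c • b := by
  rw [Subalgebra.smul_def, Subalgebra.smul_def, smul_eq_mul, Algebra.smul_def]
  rfl

/-- the family of products of reduced monomials -/
theorem range_mono_sumElim {ι κ : Type u} (x : ι → C) (y : κ → B) :
    Set.range (mono p (Sum.elim (fun i => algebraMap C B (x i)) y)) =
      Set.range (mono p x) • Set.range (mono p y) := by
  ext b
  constructor
  · rintro ⟨e, rfl⟩
    obtain ⟨e, rfl⟩ := (redSumEquiv p ι κ).symm.surjective e
    rw [mono_sumElim, mono_map]
    exact ⟨_, ⟨e.1, rfl⟩, _, ⟨e.2, rfl⟩, (Algebra.smul_def _ _)⟩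
  · rintro ⟨_, ⟨e₁, rfl⟩, _, ⟨e₂, rfl⟩, rfl⟩
    refine ⟨(redSumEquiv p ι κ).symm (e₁, e₂), ?_⟩
    rw [mono_sumElim, mono_map]
    exact (Algebra.smul_def _ _).symm

/-- **Tower of `p`-generators** (EGA 0_IV 21.1.9 (i)). -/
theorem isPGenerating_sumElim (hinj : Function.Injective (algebraMap C B))
    (hpow : ∀ b : B, b ^ p ∈ Set.range (algebraMap A B)) {ι κ : Type u} (x : ι → C) (y : κ → B)
    (hx : IsPGenerating p A x) (hy : IsPGenerating p C y) :
    IsPGenerating p A (Sum.elim (fun i => algebraMap C B (x i)) y) := by
  have hx' : Submodule.span (pPowerSubalgebra p A C) (Set.range (mono p x)) = ⊤ := hx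
  have hy' : Submodule.span C (Set.range (mono p y)) = ⊤ :=
    (span_eq_top_iff_of_surjective (iC p (C := C) (B := B)) (iC_bijective p hinj hpow).2
      (iC_smul p) _).mpr hy
  have h1 := Submodule.span_smul_of_span_eq_top (A := B) hx' (Set.range (mono p y))
  rw [hy', Submodule.restrictScalars_top] at h1
  change Submodule.span (pPowerSubalgebra p A B)
    (Set.range (mono p (Sum.elim (fun i => algebraMap C B (x i)) y))) = ⊤
  rw [range_mono_sumElim]
  exact (span_eq_top_iff_of_surjective (iA p hinj hpow) (iA_bijective p hinj hpow).2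
      (iA_smul p hinj hpow) _).mp h1

/-- **Tower of `p`-independent families** (EGA 0_IV 21.1.9 (ii)). -/
theorem isPIndependent_sumElim_iff (hinj : Function.Injective (algebraMap C B))
    (hpow : ∀ b : B, b ^ p ∈ Set.range (algebraMap A B)) {ι κ : Type u} (x : ι → C) (y : κ → B)
    (hx : IsPBasis p A x) :
    IsPIndependent p C y ↔
      IsPIndependent p A (Sum.elim (fun i => algebraMap C B (x i)) y) := by
  have hxi : LinearIndependent (pPowerSubalgebra p A C) (mono p x) := hx.1
  have hxg : Submodule.span (pPowerSubalgebra p A C) (Set.range (mono p x)) = ⊤ := hx.2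
  have hyiff : IsPIndependent p C y ↔ LinearIndependent C (mono p y) :=
    (linearIndependent_iff_of_bijective (iC p (C := C) (B := B)) (iC_bijective p hinj hpow)
      (by apply Subtype.ext; simp [iC]) (iC_smul p) _).symm
  have hcomb : IsPIndependent p A (Sum.elim (fun i => algebraMap C B (x i)) y) ↔
      LinearIndependent (pPowerSubalgebra p A C)
        (fun e : Red κ p × Red ι p => mono p x e.2 • mono p y e.1) := by
    have h1 : IsPIndependent p A (Sum.elim (fun i => algebraMap C B (x i)) y) ↔
        LinearIndependent (pPowerSubalgebra p A C)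
          (mono p (Sum.elim (fun i => algebraMap C B (x i)) y)) :=
      (linearIndependent_iff_of_bijective (iA p hinj hpow) (iA_bijective p hinj hpow)
        (by apply Subtype.ext; simp [iA]) (iA_smul p hinj hpow) _).symm
    rw [h1]
    refine (linearIndependent_equiv' ((Equiv.prodComm _ _).trans (redSumEquiv p ι κ).symm) ?_).symm
    funext e
    change mono p _ ((redSumEquiv p ι κ).symm (e.2, e.1)) = _
    rw [mono_sumElim, mono_map]
    exact (Algebra.smul_def _ _).symm
  rw [hyiff, hcomb]
  constructor
  · intro hy
    have := linearIndependent_smul hxi hy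
    exact (linearIndependent_equiv' (Equiv.prodComm _ _) (by funext e; rfl)).mp this
  · intro h
    exact linearIndependent_of_smul (mono p x) hxg (mono p y) h

/-- **Tower of `p`-bases**. -/
theorem isPBasis_sumElim (hinj : Function.Injective (algebraMap C B))
    (hpow : ∀ b : B, b ^ p ∈ Set.range (algebraMap A B)) {ι κ : Type u} (x : ι → C) (y : κ → B)
    (hx : IsPBasis p A x) (hy : IsPBasis p C y) :
    IsPBasis p A (Sum.elim (fun i => algebraMap C B (x i)) y) :=
  ⟨(isPIndependent_sumElim_iff p hinj hpow x y hx).mp hy.1,
    isPGenerating_sumElim p hinj hpow x y hx.2 hy.2⟩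

end tower

end Groth.Agent.H13.PB
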