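import Mathlib

/-!
# Linear independence and filtered intersections of subfields (helper13)

If `v` is a finite family of elements of a field `K`, linearly independent over a subfield `E₀`
which is the intersection of a decreasing filtered family of subfields `E i`, then `v` is
already linearly independent over some `E i`.
-/

set_option autoImplicit false

namespace Groth.Agent.H13.SubfieldInter

variable {K : Type*} [Field K]

/-- restriction of scalars to a smaller subfield -/
theorem linearIndependent_of_le {E E' : Subfield K} (h : E ≤ E') {n : Type*} (v : n → K)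
    (hv : LinearIndependent E' v) : LinearIndependent E v :=
  hv.map_of_injective_injective (Subfield.inclusion h) (AddMonoidHom.id K)
    (fun r hr => by
      have := (Subfield.inclusion h).injective (hr.trans (map_zero _).symm)
      exact this) (fun m hm => hm) (fun r m => rfl)

variable {ι : Type*} [Preorder ι] [IsDirected ι (· ≤ ·)] [Nonempty ι]

theorem exists_linearIndependent_fin (E : ι → Subfield K) (hE : Antitone E) (E₀ : Subfield K)
    (h : ∀ z : K, (∀ i, z ∈ E i) → z ∈ E₀) :
    ∀ (m : ℕ) (v : Fin m → K), LinearIndependent E₀ v → ∃ i, LinearIndependent (E i) v := by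
  intro m
  induction m with
  | zero =>
    intro v _
    exact ⟨Classical.arbitrary ι, linearIndependent_empty_type⟩
  | succ m ih =>
    intro v hv
    rw [linearIndependent_finSucc] at hv
    obtain ⟨hv1, hv2⟩ := hv
    obtain ⟨i₀, hi₀⟩ := ih (Fin.tail v) hv1
    by_contra hcon
    push Not at hcon
    -- for all `i ≥ i₀`, `v 0` is in the span of the tail
    have hspan : ∀ i, i₀ ≤ i → ∃ c : Fin m → E i, ∑ j, c j • Fin.tail v j = v 0 := by
      intro i hi
      have h1 : LinearIndependent (E i) (Fin.tail v) := linearIndependent_of_le (hE hi) _ hi₀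
      have h2 := hcon i
      rw [linearIndependent_finSucc, not_and, not_not] at h2
      exact (Submodule.mem_span_range_iff_exists_fun _).mp (h2 h1)
    obtain ⟨c, hc⟩ := hspan i₀ le_rfl
    have hmem : ∀ j i, i₀ ≤ i → (c j : K) ∈ E i := by
      intro j i hi
      obtain ⟨c', hc'⟩ := hspan i hi
      have h3 : ∑ j, (c j - Subfield.inclusion (hE hi) (c' j)) • Fin.tail v j = 0 := by
        simp only [sub_smul, Finset.sum_sub_distrib, hc]
        rw [sub_eq_zero, ← hc']
        rfl
      have h4 := (Fintype.linearIndependent_iff.mp hi₀) _ h3 j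
      rw [sub_eq_zero] at h4
      rw [h4]
      exact (c' j).2
    have hmem' : ∀ j, (c j : K) ∈ E₀ := by
      intro j
      apply h
      intro i
      obtain ⟨i', hi1, hi2⟩ := exists_ge_ge i₀ i
      exact hE hi2 (hmem j i' hi1)
    apply hv2
    rw [Submodule.mem_span_range_iff_exists_fun]
    refine ⟨fun j => ⟨c j, hmem' j⟩, ?_⟩
    rw [← hc]
    rfl

/-- Linear independence over a filtered intersection of subfields is attained at a finite stage. -/
theorem exists_linearIndependent (E : ι → Subfield K) (hE : Antitone E) (E₀ : Subfield K)
    (h : ∀ z : K, (∀ i, z ∈ E i) → z ∈ E₀) {n : Type*} [Finite n] (v : n → K)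
    (hv : LinearIndependent E₀ v) : ∃ i, LinearIndependent (E i) v := by
  obtain ⟨m, ⟨e⟩⟩ := Finite.exists_equiv_fin n
  have h1 : LinearIndependent E₀ (v ∘ e.symm) := hv.comp _ e.symm.injective
  obtain ⟨i, hi⟩ := exists_linearIndependent_fin E hE E₀ h m _ h1
  refine ⟨i, ?_⟩
  have := hi.comp _ e.injective
  simpa [Function.comp_def] using this

end Groth.Agent.H13.SubfieldInter
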