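import Groth.Agent.H13.PBasisKaehler
import Groth.Agent.H13.PBasisTower
import Groth.Agent.H13.SubfieldInter

/-!
# EGA 0_IV 21.8: p-independence and filtered intersections of subfields (helper13)
-/

set_option autoImplicit false
set_option linter.style.haveILetI false
set_option linter.unusedSectionVars false
universe u

namespace Groth.Agent.H13.PB

open EGA41 KaehlerDifferential

section Inter

variable (p : ℕ) [Fact p.Prime] {K : Type u} [Field K] [CharP K p]

/-- `k'(K^p) = k'[K^p]` as a subfield of `K`. -/
def pSubfield (k' : Type u) [Field k'] [Algebra k' K] : Subfield K :=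
  { (pPowerSubalgebra p k' K).toSubring with
    inv_mem' := fun c hc =>
      inv_mem_of_pow_mem p (pPowerSubalgebra p k' K) (pow_mem_pPower p) c hc }

theorem mem_pSubfield (k' : Type u) [Field k'] [Algebra k' K] (z : K) :
    z ∈ pSubfield p k' (K := K) ↔ z ∈ pPowerSubalgebra p k' K := Iff.rfl

/-- the identification of the two coefficient rings -/
def iPS (k' : Type u) [Field k'] [Algebra k' K] :
    pPowerSubalgebra p k' K → pSubfield p k' (K := K) := fun r => ⟨r.1, r.2⟩

theorem iPS_bijective (k' : Type u) [Field k'] [Algebra k' K] :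
    Function.Bijective (iPS p k' (K := K)) :=
  ⟨fun _ _ h => Subtype.ext (congrArg Subtype.val h), fun r => ⟨⟨r.1, r.2⟩, rfl⟩⟩

theorem linearIndependent_pSubfield_iff (k' : Type u) [Field k'] [Algebra k' K] {α : Type*}
    (v : α → K) :
    LinearIndependent (pPowerSubalgebra p k' K) v ↔ LinearIndependent (pSubfield p k' (K := K)) v :=
  linearIndependent_iff_of_bijective (iPS p k') (iPS_bijective p k') rfl (fun _ _ => rfl) v

variable {k₀ : Type u} [Field k₀] [Algebra k₀ K]

/-- `k₀(K^p)` is `k₀[K^p]`. -/
theorem coe_adjoin_pow :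
    ((IntermediateField.adjoin k₀ (Set.range fun y : K => y ^ p) : IntermediateField k₀ K) : Set K) =
      (pPowerSubalgebra p k₀ K : Set K) := by
  apply Set.Subset.antisymm
  · let F : IntermediateField k₀ K :=
      Subalgebra.toIntermediateField (pPowerSubalgebra p k₀ K)
        (fun c hc => inv_mem_of_pow_mem p (pPowerSubalgebra p k₀ K) (pow_mem_pPower p) c hc)
    have hle : IntermediateField.adjoin k₀ (Set.range fun y : K => y ^ p) ≤ F := by
      rw [IntermediateField.adjoin_le_iff]
      rintro y ⟨b, rfl⟩
      exact pow_mem_pPower p b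
    exact hle
  · exact IntermediateField.algebra_adjoin_le_adjoin k₀ _

/-- `k'(K^p)` for an intermediate field `k'`. -/
theorem coe_sup_adjoin_pow (k' : IntermediateField k₀ K) :
    ((k' ⊔ IntermediateField.adjoin k₀ (Set.range fun y : K => y ^ p) :
      IntermediateField k₀ K) : Set K) = (pPowerSubalgebra p k' K : Set K) := by
  apply Set.Subset.antisymm
  · let F : IntermediateField k₀ K :=
      Subalgebra.toIntermediateField ((pPowerSubalgebra p k' K).restrictScalars k₀)
        (fun c hc => inv_mem_of_pow_mem p (pPowerSubalgebra p k' K) (pow_mem_pPower p) c hc)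
    have h1 : k' ≤ F := fun c hc =>
      Subalgebra.algebraMap_mem (pPowerSubalgebra p k' K) (⟨c, hc⟩ : k')
    have h2 : IntermediateField.adjoin k₀ (Set.range fun y : K => y ^ p) ≤ F := by
      rw [IntermediateField.adjoin_le_iff]
      rintro y ⟨b, rfl⟩
      exact pow_mem_pPower p b
    exact sup_le h1 h2
  · intro z hz
    have hz' : z ∈ pPowerSubalgebra p k' K := hz
    unfold pPowerSubalgebra at hz'
    induction hz' using Algebra.adjoin_induction with
    | mem y hy =>
      exact (le_sup_right : _ ≤ k' ⊔ IntermediateField.adjoin k₀ (Set.range fun y : K => y ^ p))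
        (IntermediateField.subset_adjoin _ _ hy)
    | algebraMap c =>
      exact (le_sup_left : k' ≤ k' ⊔ IntermediateField.adjoin k₀ (Set.range fun y : K => y ^ p))
        c.2
    | add a b _ _ ha hb => exact add_mem (ha (by assumption)) (hb (by assumption))
    | mul a b _ _ ha hb => exact mul_mem (ha (by assumption)) (hb (by assumption))

end Inter

section Main

variable (p : ℕ) [Fact p.Prime] {k₀ K : Type u} [Field k₀] [Field K] [Algebra k₀ K] [CharP K p]
  {ι : Type*} (k : ι → IntermediateField k₀ K)

theorem finite_red (α : Type*) [Finite α] : Finite (Red α p) := by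
  have hp : 0 < p := (Fact.out : p.Prime).pos
  let g : Red α p → (α → Fin p) := fun e i => ⟨e.1 i, e.2 i⟩
  apply Finite.of_injective g
  intro e e' h
  apply Subtype.ext
  ext i
  exact congrArg (fun f => ((f i : Fin p) : ℕ)) h

/-- If the differentials separate, then `⋂ k_α(K^p) = k₀(K^p)`. -/
theorem iInf_eq_of_separating
    (h : ∀ ω : Ω[K⁄k₀], (∀ i, KaehlerDifferential.map k₀ (k i) K K ω = 0) → ω = 0) :
    (⨅ i, k i ⊔ IntermediateField.adjoin k₀ (Set.range fun y : K => y ^ p)) =
      IntermediateField.adjoin k₀ (Set.range fun y : K => y ^ p) := by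
  apply le_antisymm
  · intro z hz
    have hD : D k₀ K z = 0 := by
      apply h
      intro i
      have hzi : z ∈ k i ⊔ IntermediateField.adjoin k₀ (Set.range fun y : K => y ^ p) :=
        (iInf_le (fun i => k i ⊔ IntermediateField.adjoin k₀ (Set.range fun y : K => y ^ p)) i) hz
      have hzi' : z ∈ pPowerSubalgebra p (k i) K := by
        have := coe_sup_adjoin_pow p (k i)
        exact (Set.ext_iff.mp this z).mp hzi
      rw [KaehlerDifferential.map_D]
      exact D_eq_zero_of_mem_pPower p z hzi'
    have h1 : z ∈ Algebra.adjoin (pPowerSubalgebra p k₀ K) (∅ : Set K) := by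
      rw [mem_adjoin_iff_D_mem_span, hD]
      exact Submodule.zero_mem _
    rw [Algebra.adjoin_empty, Algebra.mem_bot] at h1
    obtain ⟨r, rfl⟩ := h1
    have := coe_adjoin_pow p (k₀ := k₀) (K := K)
    exact (Set.ext_iff.mp this _).mpr r.2
  · exact le_iInf fun i => le_sup_right

variable {ι : Type*} [Preorder ι] [IsDirected ι (· ≤ ·)] [Nonempty ι]
  (k : ι → IntermediateField k₀ K)

/-- If `⋂ k_α(K^p) = k₀(K^p)`, every finite `p`-independent family over `k₀` is `p`-independent
over some `k_α`. -/
theorem exists_isPIndependent_of_iInf_eq (hk : Antitone k)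
    (h : (⨅ i, k i ⊔ IntermediateField.adjoin k₀ (Set.range fun y : K => y ^ p)) =
      IntermediateField.adjoin k₀ (Set.range fun y : K => y ^ p))
    {α : Type u} [Finite α] (x : α → K) (hx : IsPIndependent p k₀ x) :
    ∃ i, IsPIndependent p (k i) x := by
  have hfin := finite_red p α
  let E : ι → Subfield K := fun i => pSubfield p (k i)
  have hE : Antitone E := by
    intro i j hij z hz
    have h1 := coe_sup_adjoin_pow p (k i)
    have h2 := coe_sup_adjoin_pow p (k j)
    have hz' : z ∈ k j ⊔ IntermediateField.adjoin k₀ (Set.range fun y : K => y ^ p) :=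
      (Set.ext_iff.mp h2 z).mpr hz
    have hz'' : z ∈ k i ⊔ IntermediateField.adjoin k₀ (Set.range fun y : K => y ^ p) :=
      sup_le_sup_right (hk hij) _ hz'
    exact (Set.ext_iff.mp h1 z).mp hz''
  have hinter : ∀ z : K, (∀ i, z ∈ E i) → z ∈ pSubfield p k₀ (K := K) := by
    intro z hz
    have h1 : z ∈ ⨅ i, k i ⊔ IntermediateField.adjoin k₀ (Set.range fun y : K => y ^ p) := by
      rw [← SetLike.mem_coe, IntermediateField.coe_iInf, Set.mem_iInter]
      intro i
      exact (Set.ext_iff.mp (coe_sup_adjoin_pow p (k i)) z).mpr (hz i)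
    rw [h] at h1
    exact (Set.ext_iff.mp (coe_adjoin_pow p (k₀ := k₀) (K := K)) z).mp h1
  have hx' : LinearIndependent (pSubfield p k₀ (K := K)) (mono p x) :=
    (linearIndependent_pSubfield_iff p k₀ _).mp hx
  obtain ⟨i, hi⟩ := SubfieldInter.exists_linearIndependent E hE _ hinter (mono p x) hx'
  exact ⟨i, (linearIndependent_pSubfield_iff p (k i) _).mpr hi⟩

/-- If `⋂ k_α(K^p) = k₀(K^p)`, the differentials separate. -/
theorem separating_of_iInf_eq (hk : Antitone k)
    (h : (⨅ i, k i ⊔ IntermediateField.adjoin k₀ (Set.range fun y : K => y ^ p)) =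
      IntermediateField.adjoin k₀ (Set.range fun y : K => y ^ p))
    (ω : Ω[K⁄k₀]) (hω : ∀ i, KaehlerDifferential.map k₀ (k i) K K ω = 0) : ω = 0 := by
  classical
  obtain ⟨B, -, -, hB⟩ := exists_isPBasis_between (k := k₀) p (Set.univ : Set K) ∅
    (Set.empty_subset _) (isPGenerating_univ p) (isPIndependent_empty p)
  obtain ⟨β, hβ⟩ := exists_basis_kaehler_of_isPBasis p (Subtype.val : B → K) hB
  by_contra hω0
  have hrepr : β.repr ω ≠ 0 := fun h0 => hω0 (by
    have := β.linearCombination_repr ω
    rw [h0, map_zero] at this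
    exact this.symm)
  obtain ⟨b₀, hb₀⟩ := Finsupp.support_nonempty_iff.mpr hrepr
  let s : Finset B := (β.repr ω).support
  let f : ↥s ↪ B := Function.Embedding.subtype _
  have hxs : IsPIndependent p k₀ ((Subtype.val : B → K) ∘ f) :=
    linearIndependent_mono_comp (R := pPowerSubalgebra p k₀ K) (Subtype.val : B → K) f hB.1
  obtain ⟨i, hi⟩ := exists_isPIndependent_of_iInf_eq p k hk h _ hxs
  have hli := linearIndependent_D_of_isPIndependent p _ hi
  have hsum : ∑ b : ↥s, (β.repr ω b.1) • D (k i) K ((b.1 : B) : K) = 0 := by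
    rw [← hω i]
    conv_rhs => rw [← β.linearCombination_repr ω]
    rw [Finsupp.linearCombination_apply, Finsupp.sum, map_sum]
    rw [← Finset.sum_coe_sort (β.repr ω).support]
    refine Finset.sum_congr rfl fun b _ => ?_
    rw [map_smul, hβ, KaehlerDifferential.map_D]
    rfl
  have := (Fintype.linearIndependent_iff.mp hli) (fun b : ↥s => β.repr ω b.1) hsum ⟨b₀, hb₀⟩
  exact (Finsupp.mem_support_iff.mp hb₀) this

end Main

end Groth.Agent.H13.PB
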