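import Groth.Agent.H13.PBasisExtend
import Groth.Agent.H13.PBasisImperf2

/-!
# EGA 0_IV 21.8.3 (a) ⇔ (b): the extension `K(z^{1/p})` (helper13)
-/

set_option autoImplicit false
set_option linter.style.haveILetI false
set_option linter.unusedSectionVars false
universe u

namespace Groth.Agent.H13.PB

open EGA41 KaehlerDifferential TensorProduct Polynomial

section Root

variable (p : ℕ) [Fact p.Prime] {k₀ K : Type u} [Field k₀] [Field K] [Algebra k₀ K] [CharP K p]
  (z : K)

theorem root_pow : (AdjoinRoot.root (X ^ p - C z : K[X])) ^ p =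
    algebraMap K (AdjoinRoot (X ^ p - C z : K[X])) z := by
  have h := AdjoinRoot.eval₂_root (X ^ p - C z : K[X])
  simp only [eval₂_sub, eval₂_pow, eval₂_X, eval₂_C, sub_eq_zero] at h
  exact h

variable [Fact (Irreducible (X ^ p - C z : K[X]))]

instance charP_root : CharP (AdjoinRoot (X ^ p - C z : K[X])) p :=
  charP_of_injective_algebraMap (algebraMap K (AdjoinRoot (X ^ p - C z : K[X]))).injective p

/-- `p`-th powers in `K(z^{1/p})` lie in (the image of) any subfield of `K` containing `K^p`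
and `z`. -/
theorem pow_mem_map (E : IntermediateField k₀ K) (hE : ∀ c : K, c ^ p ∈ E) (hzE : z ∈ E)
    (y : AdjoinRoot (X ^ p - C z : K[X])) :
    y ^ p ∈ E.map (IsScalarTower.toAlgHom k₀ K (AdjoinRoot (X ^ p - C z : K[X]))) := by
  let E' := E.map (IsScalarTower.toAlgHom k₀ K (AdjoinRoot (X ^ p - C z : K[X])))
  let S : Subalgebra K (AdjoinRoot (X ^ p - C z : K[X])) :=
    { carrier := {y | y ^ p ∈ E'}
      mul_mem' := fun {a b} ha hb => by
        change (a * b) ^ p ∈ E'
        rw [mul_pow]; exact mul_mem ha hb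
      add_mem' := fun {a b} ha hb => by
        change (a + b) ^ p ∈ E'
        rw [add_pow_char]; exact add_mem ha hb
      algebraMap_mem' := fun c => by
        change (algebraMap K _ c) ^ p ∈ E'
        rw [← map_pow]
        exact (IntermediateField.mem_map _).mpr ⟨c ^ p, hE c, rfl⟩ }
  have hroot : AdjoinRoot.root (X ^ p - C z : K[X]) ∈ S := by
    change (AdjoinRoot.root (X ^ p - C z : K[X])) ^ p ∈ E'
    rw [root_pow]
    exact (IntermediateField.mem_map _).mpr ⟨z, hzE, rfl⟩
  have htop : (⊤ : Subalgebra K (AdjoinRoot (X ^ p - C z : K[X]))) ≤ S := by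
    rw [← AdjoinRoot.adjoinRoot_eq_top]
    exact Algebra.adjoin_le (Set.singleton_subset_iff.mpr hroot)
  exact htop Algebra.mem_top

/-- The rest of a `p`-independent set of `K` containing `z` stays `p`-independent in
`K(z^{1/p})`. -/
theorem isPIndependent_map_of_ne (B : Set K) (hB : IsPIndependent p k₀ (Subtype.val : B → K))
    (hzB : z ∈ B) :
    IsPIndependent p k₀ (fun b : {b : B // b.1 ≠ z} =>
      algebraMap K (AdjoinRoot (X ^ p - C z : K[X])) b.1.1) := by
  rw [isPIndependent_iff_notMem_adjoin]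
  intro a hmem
  let E : IntermediateField k₀ K := IntermediateField.adjoin k₀
    ((Set.range fun y : K => y ^ p) ∪ (Subtype.val : B → K) '' {b | b ≠ a.1})
  have hle : IntermediateField.adjoin k₀
      ((Set.range fun y : AdjoinRoot (X ^ p - C z : K[X]) => y ^ p) ∪
        (fun b : {b : B // b.1 ≠ z} => algebraMap K (AdjoinRoot (X ^ p - C z : K[X])) b.1.1) ''
          {b | b ≠ a}) ≤
      E.map (IsScalarTower.toAlgHom k₀ K (AdjoinRoot (X ^ p - C z : K[X]))) := by
    rw [IntermediateField.adjoin_le_iff]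
    rintro y (⟨y, rfl⟩ | ⟨b, hb, rfl⟩)
    · refine pow_mem_map p z E (fun c => IntermediateField.subset_adjoin _ _ (Or.inl ⟨c, rfl⟩)) ?_ y
      refine IntermediateField.subset_adjoin _ _ (Or.inr ⟨⟨z, hzB⟩, ?_, rfl⟩)
      intro h
      exact a.2 (congrArg Subtype.val h).symm
    · refine (IntermediateField.mem_map _).mpr ⟨b.1.1, ?_, rfl⟩
      refine IntermediateField.subset_adjoin _ _ (Or.inr ⟨b.1, ?_, rfl⟩)
      intro h
      exact hb (Subtype.ext h)
  obtain ⟨c, hc, hca⟩ := (IntermediateField.mem_map _).mp (hle hmem)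
  have hca' : c = a.1.1 :=
    (algebraMap K (AdjoinRoot (X ^ p - C z : K[X]))).injective hca
  rw [hca'] at hc
  exact (isPIndependent_iff_notMem_adjoin p _).mp hB a.1 hc

end Root

section RootImperf

variable (p : ℕ) [Fact p.Prime] {k₀ K : Type u} [Field k₀] [Field K] [Algebra k₀ K] [CharP K p]
  (z : K) [Fact (Irreducible (X ^ p - C z : K[X]))]

/-- The imperfection module of `K(z^{1/p})` over `K` relative to `k₀` is finite and contains the
nonzero element `1 ⊗ dz`, when `z ∉ k₀(K^p)`. -/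
theorem finite_imperfection_root (hz : z ∉ pPowerSubalgebra p k₀ K) :
    Module.Finite (AdjoinRoot (X ^ p - C z : K[X]))
        (EGA41.imperfection k₀ K (AdjoinRoot (X ^ p - C z : K[X]))) ∧
      ((1 : AdjoinRoot (X ^ p - C z : K[X])) ⊗ₜ[K] D k₀ K z ∈
        EGA41.imperfection k₀ K (AdjoinRoot (X ^ p - C z : K[X]))) ∧
      (1 : AdjoinRoot (X ^ p - C z : K[X])) ⊗ₜ[K] D k₀ K z ≠ 0 := by
  classical
  have hz' : z ∉ Algebra.adjoin (pPowerSubalgebra p k₀ K) (∅ : Set K) := by
    rw [Algebra.adjoin_empty, Algebra.mem_bot]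
    rintro ⟨r, rfl⟩
    exact hz r.2
  have h1 := isPIndependent_insert p ∅ (isPIndependent_empty (k := k₀) p) z hz'
  obtain ⟨B, hzB', -, hB⟩ := exists_isPBasis_between (k := k₀) p (Set.univ : Set K) (insert z ∅)
    (Set.subset_univ _) (isPGenerating_univ p) h1
  have hzB : z ∈ B := hzB' (Set.mem_insert z ∅)
  obtain ⟨β, hβ⟩ := exists_basis_kaehler_of_isPBasis p (Subtype.val : B → K) hB
  let βL := β.baseChange (AdjoinRoot (X ^ p - C z : K[X]))
  have hB' := isPIndependent_map_of_ne (k₀ := k₀) p z B hB.1 hzB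
  obtain ⟨BL, hsub, -, hBL⟩ := exists_isPBasis_between (k := k₀) p
    (Set.univ : Set (AdjoinRoot (X ^ p - C z : K[X]))) _ (Set.subset_univ _)
    (isPGenerating_univ p) (isPIndependent_range p _ hB')
  obtain ⟨βP, hβP⟩ := exists_basis_kaehler_of_isPBasis p
    (Subtype.val : BL → AdjoinRoot (X ^ p - C z : K[X])) hBL
  let e : {b : B // b.1 ≠ z} → BL := fun b => ⟨_, hsub ⟨b, rfl⟩⟩
  have he : Function.Injective e := fun b b' h =>
    injective_of_isPIndependent p _ hB' (congrArg Subtype.val h)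
  let β' := βL.reindex (Equiv.sumCompl (fun b : B => b.1 = z)).symm
  have hG1 : ∀ i : {b : B // b.1 = z},
      KaehlerDifferential.mapBaseChange k₀ K (AdjoinRoot (X ^ p - C z : K[X]))
        (β' (Sum.inl i)) = 0 := by
    intro i
    simp only [β', βL, Module.Basis.reindex_apply, Equiv.symm_symm, Equiv.sumCompl_apply_inl,
      Module.Basis.baseChange_apply, hβ, KaehlerDifferential.mapBaseChange_tmul, one_smul,
      KaehlerDifferential.map_D, i.2]
    rw [← root_pow, Derivation.leibniz_pow,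
      ← Nat.cast_smul_eq_nsmul (AdjoinRoot (X ^ p - C z : K[X])), cast_p_eq_zero, zero_smul]
  have hG2 : ∀ j : {b : B // ¬ b.1 = z},
      KaehlerDifferential.mapBaseChange k₀ K (AdjoinRoot (X ^ p - C z : K[X]))
        (β' (Sum.inr j)) = βP (e j) := by
    intro j
    simp only [β', βL, Module.Basis.reindex_apply, Equiv.symm_symm, Equiv.sumCompl_apply_inr,
      Module.Basis.baseChange_apply, hβ, KaehlerDifferential.mapBaseChange_tmul, one_smul,
      KaehlerDifferential.map_D, hβP, e]
  obtain ⟨b, hb⟩ := exists_basis_ker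
    (KaehlerDifferential.mapBaseChange k₀ K (AdjoinRoot (X ^ p - C z : K[X]))) β' βP e he hG1 hG2
  have hsubs : Subsingleton {b : B // b.1 = z} :=
    ⟨fun a a' => Subtype.ext (Subtype.ext (a.2.trans a'.2.symm))⟩
  refine ⟨Module.Finite.of_basis b, ?_, ?_⟩
  · have := hG1 ⟨⟨z, hzB⟩, rfl⟩
    simp only [β', βL, Module.Basis.reindex_apply, Equiv.symm_symm, Equiv.sumCompl_apply_inl,
      Module.Basis.baseChange_apply, hβ] at this
    exact this
  · have := βL.ne_zero ⟨z, hzB⟩
    simp only [βL, Module.Basis.baseChange_apply, hβ] at this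
    exact this

end RootImperf

section Iff

variable (p : ℕ) [Fact p.Prime] {k₀ K : Type u} [Field k₀] [Field K] [Algebra k₀ K] [CharP K p]
  {ι : Type*} [Preorder ι] [IsDirected ι (· ≤ ·)] [Nonempty ι] (k : ι → IntermediateField k₀ K)

/-- (a) ⟹ (b) of EGA 0_IV 21.8.3. -/
theorem exists_admissible_of_iInf_eq (hk : Antitone k)
    (h : (⨅ i, k i ⊔ IntermediateField.adjoin k₀ (Set.range fun y : K => y ^ p)) =
      IntermediateField.adjoin k₀ (Set.range fun y : K => y ^ p))
    (L : Type u) [Field L] [Algebra K L] [Algebra k₀ L] [IsScalarTower k₀ K L]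
    (hfin : Module.Finite L (EGA41.imperfection k₀ K L)) :
    ∃ i, ∀ ω ∈ EGA41.imperfection k₀ K L,
      ((KaehlerDifferential.map k₀ (k i) K K).restrictScalars K).baseChange L ω = 0 → ω = 0 := by
  classical
  obtain ⟨B, -, -, hB⟩ := exists_isPBasis_between (k := k₀) p (Set.univ : Set K) ∅
    (Set.empty_subset _) (isPGenerating_univ p) (isPIndependent_empty p)
  obtain ⟨β, hβ⟩ := exists_basis_kaehler_of_isPBasis p (Subtype.val : B → K) hB
  let βL : Module.Basis B L (L ⊗[K] Ω[K⁄k₀]) := β.baseChange L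
  have hfg : (EGA41.imperfection k₀ K L).FG := Module.Finite.iff_fg.mp hfin
  obtain ⟨S, hS⟩ := hfg
  let J₀ : Finset B := S.biUnion fun ω => (βL.repr ω).support
  have hsupp : EGA41.imperfection k₀ K L ≤ Submodule.span L (βL '' (J₀ : Set B)) := by
    rw [← hS]
    refine Submodule.span_le.mpr ?_
    intro ω' hω'
    rw [SetLike.mem_coe, Module.Basis.mem_span_image]
    intro b hb
    exact Finset.mem_biUnion.mpr ⟨ω', hω', hb⟩
  obtain ⟨i₀, hi₀⟩ := exists_injOn_span (L := L) p k hk h B hB β hβ J₀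
  exact ⟨i₀, fun ω hω hzero => hi₀ ω (hsupp hω) hzero⟩

/-- (b) ⟹ (a) of EGA 0_IV 21.8.3. -/
theorem iInf_eq_of_admissible
    (hb : ∀ (L : Type u) [Field L] [Algebra K L] [Algebra k₀ L] [IsScalarTower k₀ K L],
      Module.Finite L (EGA41.imperfection k₀ K L) →
        ∃ i, ∀ ω ∈ EGA41.imperfection k₀ K L,
          ((KaehlerDifferential.map k₀ (k i) K K).restrictScalars K).baseChange L ω = 0 → ω = 0) :
    (⨅ i, k i ⊔ IntermediateField.adjoin k₀ (Set.range fun y : K => y ^ p)) =
      IntermediateField.adjoin k₀ (Set.range fun y : K => y ^ p) := by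
  have hp : p.Prime := Fact.out
  apply le_antisymm _ (le_iInf fun i => le_sup_right)
  intro z hz
  by_contra hzF
  have hzP : z ∉ pPowerSubalgebra p k₀ K := fun hzP =>
    hzF ((Set.ext_iff.mp (coe_adjoin_pow p (k₀ := k₀) (K := K)) z).mpr hzP)
  have hzpow : ∀ b : K, b ^ p ≠ z := by
    rintro b rfl
    exact hzP (pow_mem_pPower p b)
  haveI : Fact (Irreducible (X ^ p - C z : K[X])) :=
    ⟨X_pow_sub_C_irreducible_of_prime hp hzpow⟩
  obtain ⟨hfin, hmem, hne⟩ := finite_imperfection_root (k₀ := k₀) p z hzP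
  obtain ⟨i, hi⟩ := hb (AdjoinRoot (X ^ p - C z : K[X])) hfin
  apply hne
  apply hi _ hmem
  have hzi : z ∈ k i ⊔ IntermediateField.adjoin k₀ (Set.range fun y : K => y ^ p) :=
    (iInf_le (fun i => k i ⊔ IntermediateField.adjoin k₀ (Set.range fun y : K => y ^ p)) i) hz
  have hzi' : z ∈ pPowerSubalgebra p (k i) K :=
    (Set.ext_iff.mp (coe_sup_adjoin_pow p (k i)) z).mp hzi
  have hD : D (k i) K z = 0 := D_eq_zero_of_mem_pPower p z hzi'
  rw [LinearMap.baseChange_tmul, LinearMap.coe_restrictScalars, KaehlerDifferential.map_D]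
  have : D (k i) K (algebraMap K K z) = D (k i) K z := rfl
  rw [this, hD, TensorProduct.tmul_zero]

end Iff

end Groth.Agent.H13.PB
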