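import Groth.Agent.H13.PBasis
import Mathlib.RingTheory.Nakayama
import Mathlib.RingTheory.Unramified.Field
import Mathlib.FieldTheory.PurelyInseparable.Basic

/-!
# EGA 0_IV 21.1.7: `Ω_{B/A} = 0`, `B` of finite type over `A`, `B^(p^s) ⊆ A` imply `A → B` surjective
-/

set_option autoImplicit false
set_option linter.style.haveILetI false
set_option linter.unusedSectionVars false
universe u

namespace Groth.Agent.H13.PB

open EGA41

/-- Global Nakayama: a finite module `M` with `M = 𝔪 M` for all maximal ideals is zero. -/
theorem subsingleton_of_forall_isMaximal_smul_top {R M : Type*} [CommRing R] [AddCommGroup M]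
    [Module R M] [Module.Finite R M]
    (h : ∀ m : Ideal R, m.IsMaximal → m • (⊤ : Submodule R M) = ⊤) : Subsingleton M := by
  by_contra hM
  rw [not_subsingleton_iff_nontrivial] at hM
  have hann : Module.annihilator R M ≠ ⊤ := by
    intro htop
    have h1 : (1 : R) ∈ Module.annihilator R M := htop ▸ Submodule.mem_top
    rw [Module.mem_annihilator] at h1
    obtain ⟨x, hx⟩ := exists_ne (0 : M)
    exact hx (by simpa using h1 x)
  obtain ⟨m, hm, hle⟩ := Ideal.exists_le_maximal _ hann
  obtain ⟨r, hr1, hr2⟩ := Submodule.exists_sub_one_mem_and_smul_eq_zero_of_fg_of_le_smul m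
    (⊤ : Submodule R M) Module.Finite.fg_top (h m hm).ge
  have hr : r ∈ m := hle (Module.mem_annihilator.mpr fun x => hr2 x Submodule.mem_top)
  have : (1 : R) ∈ m := by
    have := m.sub_mem hr hr1
    simpa using this
  exact hm.ne_top ((Ideal.eq_top_iff_one m).mpr this)

/-- A finite algebra map which is surjective modulo every maximal ideal is surjective. -/
theorem surjective_of_forall_isMaximal {C B : Type*} [CommRing C] [CommRing B] [Algebra C B]
    [Module.Finite C B]
    (h : ∀ m : Ideal C, m.IsMaximal →
      ∀ b : B, ∃ c : C, b - algebraMap C B c ∈ m.map (algebraMap C B)) :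
    Function.Surjective (algebraMap C B) := by
  let N : Submodule C B := LinearMap.range (Algebra.linearMap C B)
  haveI : Subsingleton (B ⧸ N) := by
    apply subsingleton_of_forall_isMaximal_smul_top (R := C)
    intro m hm
    rw [eq_top_iff]
    rintro y -
    obtain ⟨b, rfl⟩ := Submodule.Quotient.mk_surjective N y
    obtain ⟨c, hc⟩ := h m hm b
    have h1 : b - algebraMap C B c ∈ m • (⊤ : Submodule C B) := by
      rw [Ideal.smul_top_eq_map]; exact hc
    have h2 : N.mkQ (b - algebraMap C B c) ∈ m • (⊤ : Submodule C (B ⧸ N)) := by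
      have := Submodule.mem_map_of_mem (f := N.mkQ) h1
      rw [Submodule.map_smul''] at this
      exact Submodule.smul_mono le_rfl le_top this
    have h3 : N.mkQ (b - algebraMap C B c) = Submodule.Quotient.mk b := by
      rw [map_sub, Submodule.mkQ_apply, Submodule.mkQ_apply, sub_eq_self,
        Submodule.Quotient.mk_eq_zero]
      exact ⟨c, rfl⟩
    rwa [h3] at h2
  have hN : N = ⊤ := Submodule.Quotient.subsingleton_iff.mp inferInstance
  intro b
  have : b ∈ N := hN ▸ Submodule.mem_top
  obtain ⟨c, hc⟩ := this
  exact ⟨c, hc⟩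

/-- A finite type unramified algebra over a field of characteristic `p`, all of whose `p`-th
powers are scalars, is a quotient of the field. -/
theorem surjective_of_unramified_of_pow_mem (p : ℕ) [Fact p.Prime] (k : Type*) [Field k] [CharP k p]
    (S : Type*) [CommRing S] [Algebra k S] [Algebra.FiniteType k S]
    [Algebra.FormallyUnramified k S] (hpow : ∀ t : S, t ^ p ∈ Set.range (algebraMap k S)) :
    Function.Surjective (algebraMap k S) := by
  rcases subsingleton_or_nontrivial S with hS | hS
  · intro t; exact ⟨0, Subsingleton.elim _ _⟩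
  haveI : IsReduced S := Algebra.FormallyUnramified.isReduced_of_field k S
  have hfield : IsField S := by
    refine ⟨exists_pair_ne S, mul_comm, fun {t} ht => ?_⟩
    obtain ⟨c, hc⟩ := hpow t
    have hc0 : c ≠ 0 := by
      rintro rfl
      rw [map_zero] at hc
      exact ht (IsNilpotent.eq_zero ⟨p, hc.symm⟩)
    refine ⟨t ^ (p - 1) * algebraMap k S c⁻¹, ?_⟩
    have hp : p - 1 + 1 = p := Nat.sub_add_cancel (Fact.out : p.Prime).pos
    rw [← mul_assoc, ← pow_succ', hp, ← hc, ← map_mul, mul_inv_cancel₀ hc0, map_one]
  letI : Field S := hfield.toField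
  haveI : ExpChar k p := ExpChar.prime Fact.out
  haveI : IsPurelyInseparable k S := by
    rw [isPurelyInseparable_iff_pow_mem k p]
    intro t
    exact ⟨1, by simpa using hpow t⟩
  have := Algebra.FormallyUnramified.range_eq_top_of_isPurelyInseparable k S
  intro t
  have ht : t ∈ (algebraMap k S).range := this ▸ Subring.mem_top t
  exact ht

theorem charP_of_field_of_cast_eq_zero (p : ℕ) [Fact p.Prime] (k : Type*) [Field k]
    (h : ((p : ℕ) : k) = 0) : CharP k p := by
  have hdvd : ringChar k ∣ p := ringChar.dvd h
  rcases (Nat.dvd_prime (Fact.out : p.Prime)).mp hdvd with h1 | h1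
  · exact absurd h1 (CharP.ringChar_ne_one)
  · exact ringChar.of_eq h1

variable (p : ℕ) [Fact p.Prime] {A B : Type u} [CommRing A] [CommRing B] [Algebra A B] [CharP B p]

/-- `B` is integral over `A[B^p]`. -/
theorem isIntegral_pPower : Algebra.IsIntegral (pPowerSubalgebra p A B) B := by
  refine ⟨fun b => IsIntegral.of_pow (Fact.out : p.Prime).pos ?_⟩
  have : b ^ p = algebraMap (pPowerSubalgebra p A B) B ⟨b ^ p, pow_mem_pPower p b⟩ := rfl
  rw [this]
  exact isIntegral_algebraMap

/-- Key step of EGA 0_IV 21.1.7: if `B` is of finite type over `A` with `Ω_{B/A} = 0` then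
`B = A[B^p]`. -/
theorem pPower_eq_top [Algebra.FiniteType A B] [Subsingleton (Ω[B⁄A])] :
    pPowerSubalgebra p A B = ⊤ := by
  haveI : Algebra.FiniteType (pPowerSubalgebra p A B) B :=
    Algebra.FiniteType.of_restrictScalars_finiteType A (pPowerSubalgebra p A B) B
  haveI := isIntegral_pPower (A := A) (B := B) p
  haveI : Module.Finite (pPowerSubalgebra p A B) B := Algebra.IsIntegral.finite
  haveI : Subsingleton (Ω[B⁄pPowerSubalgebra p A B]) :=
    (kaehlerEquiv p A B).symm.toEquiv.subsingleton
  haveI : Algebra.FormallyUnramified (pPowerSubalgebra p A B) B := ⟨inferInstance⟩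
  have hsurj : Function.Surjective (algebraMap (pPowerSubalgebra p A B) B) := by
    apply surjective_of_forall_isMaximal
    intro m hm b
    letI : Field (pPowerSubalgebra p A B ⧸ m) := Ideal.Quotient.field m
    haveI : CharP (pPowerSubalgebra p A B ⧸ m) p := by
      apply charP_of_field_of_cast_eq_zero
      have h1 : ((p : ℕ) : pPowerSubalgebra p A B) = 0 := by
        apply Subtype.ext
        simpa using cast_p_eq_zero (B := B) p
      rw [← map_natCast (Ideal.Quotient.mk m), h1, map_zero]
    haveI : Algebra.FiniteType (pPowerSubalgebra p A B ⧸ m)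
        (B ⧸ m.map (algebraMap (pPowerSubalgebra p A B) B)) :=
      Algebra.FiniteType.of_restrictScalars_finiteType (pPowerSubalgebra p A B) _ _
    have hpow : ∀ t : B ⧸ m.map (algebraMap (pPowerSubalgebra p A B) B),
        t ^ p ∈ Set.range (algebraMap (pPowerSubalgebra p A B ⧸ m)
          (B ⧸ m.map (algebraMap (pPowerSubalgebra p A B) B))) := by
      intro t
      obtain ⟨b', rfl⟩ := Ideal.Quotient.mk_surjective t
      exact ⟨Ideal.Quotient.mk m ⟨b' ^ p, pow_mem_pPower p b'⟩, rfl⟩
    obtain ⟨c', hc'⟩ := surjective_of_unramified_of_pow_mem p (pPowerSubalgebra p A B ⧸ m)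
      (B ⧸ m.map (algebraMap (pPowerSubalgebra p A B) B)) hpow (Ideal.Quotient.mk _ b)
    obtain ⟨c, rfl⟩ := Ideal.Quotient.mk_surjective c'
    refine ⟨c, ?_⟩
    rw [← Ideal.Quotient.eq]
    exact hc'.symm
  rw [eq_top_iff]
  rintro b -
  obtain ⟨c, rfl⟩ := hsurj b
  exact c.2

/-- EGA 0_IV 21.1.7 (the statement of S2485). -/
theorem surjective_of_pow_mem_of_subsingleton_kaehler [Algebra.FiniteType A B]
    [Subsingleton (Ω[B⁄A])] (s : ℕ) (hpow : ∀ b : B, b ^ p ^ s ∈ Set.range (algebraMap A B)) :
    Function.Surjective (algebraMap A B) := by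
  induction s with
  | zero => intro b; simpa using hpow b
  | succ s ih =>
    apply ih
    let T : Subalgebra A B :=
      { carrier := {b | b ^ p ^ s ∈ (algebraMap A B).range}
        mul_mem' := fun {a b} ha hb => by
          simp only [Set.mem_ofPred_eq] at ha hb ⊢
          rw [mul_pow]; exact mul_mem ha hb
        add_mem' := fun {a b} ha hb => by
          simp only [Set.mem_ofPred_eq] at ha hb ⊢
          rw [add_pow_char_pow]; exact add_mem ha hb
        algebraMap_mem' := fun a => by
          simp only [Set.mem_ofPred_eq]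
          exact ⟨a ^ p ^ s, map_pow _ _ _⟩ }
    have hle : pPowerSubalgebra p A B ≤ T := by
      unfold pPowerSubalgebra
      rw [Algebra.adjoin_le_iff]
      rintro _ ⟨b, rfl⟩
      change (b ^ p) ^ p ^ s ∈ (algebraMap A B).range
      rw [← pow_mul, ← pow_succ']
      exact hpow b
    intro b
    have htop : pPowerSubalgebra p A B = ⊤ := pPower_eq_top p
    have : b ∈ T := hle (htop ▸ Algebra.mem_top)
    exact this

end Groth.Agent.H13.PB
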