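import Mathlib

/-!
# Power series over a finite algebra are finite over power series of the base
-/

set_option autoImplicit false
set_option linter.style.haveILetI false
set_option linter.unusedSectionVars false
universe u

open PowerSeries

namespace Groth.Agent.H13.PowerSeriesFinite

theorem finite_powerSeries (R A : Type*) [CommRing R] [CommRing A] [Algebra R A]
    [Module.Finite R A] : Module.Finite R⟦X⟧ A⟦X⟧ := by
  classical
  obtain ⟨n, s, hs⟩ := Module.Finite.exists_fin (R := R) (M := A)
  have hex : ∀ a : A, ∃ c : Fin n → R, ∑ i, c i • s i = a := by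
    intro a
    have : a ∈ Submodule.span R (Set.range s) := by rw [hs]; trivial
    exact (Submodule.mem_span_range_iff_exists_fun R).mp this
  choose c hc using hex
  refine ⟨Finset.univ.image (fun i => (C (s i) : A⟦X⟧)), ?_⟩
  rw [eq_top_iff]
  intro f _
  have hf : f = ∑ i, (PowerSeries.mk (fun j => c (coeff j f) i) : R⟦X⟧) • (C (s i) : A⟦X⟧) := by
    ext j
    rw [map_sum]
    have : ∀ i, coeff j ((PowerSeries.mk (fun j => c (coeff j f) i) : R⟦X⟧) • (C (s i) : A⟦X⟧)) =
        c (coeff j f) i • s i := by
      intro i
      rw [Algebra.smul_def, algebraMap_apply'', mul_comm, coeff_C_mul, coeff_map, coeff_mk,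
        mul_comm, ← Algebra.smul_def]
    simp only [this]
    exact (hc (coeff j f)).symm
  rw [hf]
  refine Submodule.sum_mem _ (fun i _ => Submodule.smul_mem _ _ (Submodule.subset_span ?_))
  simp

theorem map_injective {R A : Type*} [CommRing R] [CommRing A] (f : R →+* A)
    (hf : Function.Injective f) : Function.Injective (PowerSeries.map f) := by
  intro p q hpq
  ext j
  apply hf
  rw [← coeff_map, ← coeff_map, hpq]

end Groth.Agent.H13.PowerSeriesFinite
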