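import Mathlib
import Groth.Prelude.Def_Found
import Groth.Agent.S0569
import Groth.Agent.H26.NormalPowerSeries
import Groth.Agent.H47.N2Equiv

/-!
# Power series rings over normal N-2 domains are N-2 (via Tate's lemma)
-/

set_option autoImplicit false
set_option linter.style.haveILetI false
set_option linter.unusedSectionVars false
universe u

open PowerSeries

namespace Groth.Agent.H13.PowerSeriesN2

/-- `A⟦X⟧ ⧸ (X) ≃ A` -/
noncomputable def quotXEquiv (A : Type u) [CommRing A] :
    (A⟦X⟧ ⧸ Ideal.span ({X} : Set A⟦X⟧)) ≃+* A :=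
  (Ideal.quotEquivOfEq (Groth.Agent.H26.NormalPowerSeries.ker_constantCoeff A).symm).trans
    (RingHom.quotientKerEquivOfSurjective constantCoeff_surj)

/-- power series over a Noetherian normal N-2 domain are N-2 -/
theorem isN2_powerSeries (A : Type u) [CommRing A] [IsDomain A] [IsNoetherianRing A]
    [IsIntegrallyClosed A] (hA : CAlg.IsN2 A) : CAlg.IsN2 A⟦X⟧ := by
  haveI : IsIntegrallyClosed A⟦X⟧ :=
    Groth.Agent.H26.NormalPowerSeries.isIntegrallyClosed_powerSeries A
  haveI : (Ideal.span ({X} : Set A⟦X⟧)).IsPrime := span_X_isPrime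
  refine Groth.Agent.S0569.result A⟦X⟧ X ?_
  exact Groth.Agent.H47.isN2_of_ringEquiv (quotXEquiv A).symm hA

/-- transfer of "normal Noetherian N-2 domain" along a ring isomorphism -/
theorem transfer {B C : Type u} [CommRing B] [CommRing C] (e : B ≃+* C) [hd : IsDomain B]
    [IsIntegrallyClosed B] [IsNoetherianRing B] (hB : CAlg.IsN2 B) :
    ∃ (_ : IsDomain C), IsIntegrallyClosed C ∧ IsNoetherianRing C ∧ CAlg.IsN2 C := by
  haveI : IsDomain C := MulEquiv.isDomain B e.symm.toMulEquiv
  exact ⟨inferInstance, IsIntegrallyClosed.of_equiv e, isNoetherianRing_of_ringEquiv B e,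
    Groth.Agent.H47.isN2_of_ringEquiv e hB⟩

theorem mvPowerSeries_aux (A : Type u) [CommRing A] [IsDomain A] [IsNoetherianRing A]
    [IsIntegrallyClosed A] (hA : CAlg.IsN2 A) : ∀ r : ℕ,
    ∃ (_ : IsDomain (MvPowerSeries (Fin r) A)), IsIntegrallyClosed (MvPowerSeries (Fin r) A) ∧
      IsNoetherianRing (MvPowerSeries (Fin r) A) ∧ CAlg.IsN2 (MvPowerSeries (Fin r) A) := by
  intro r
  induction r with
  | zero =>
    exact transfer (MvPowerSeries.isEmptyEquiv (σ := Fin 0) (R := A)).symm.toRingEquiv hA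
  | succ r ih =>
    obtain ⟨hd, hic, hno, hN2⟩ := ih
    haveI := hd
    haveI := hic
    haveI := hno
    haveI : IsIntegrallyClosed (MvPowerSeries (Fin r) A)⟦X⟧ :=
      Groth.Agent.H26.NormalPowerSeries.isIntegrallyClosed_powerSeries _
    exact transfer (MvPowerSeries.finSuccEquiv A r).symm.toRingEquiv
      (isN2_powerSeries (MvPowerSeries (Fin r) A) hN2)

theorem isN2_mvPowerSeries (A : Type u) [CommRing A] [IsDomain A] [IsNoetherianRing A]
    [IsIntegrallyClosed A] (hA : CAlg.IsN2 A) (r : ℕ) [IsDomain (MvPowerSeries (Fin r) A)] :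
    CAlg.IsN2 (MvPowerSeries (Fin r) A) := by
  obtain ⟨_, -, -, h⟩ := mvPowerSeries_aux A hA r
  exact h

end Groth.Agent.H13.PowerSeriesN2
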