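import Mathlib.AlgebraicGeometry.Morphisms.QuasiCompact
import Mathlib.AlgebraicGeometry.Morphisms.UniversallyOpen
import Mathlib.AlgebraicGeometry.PullbackCarrier
import Mathlib.RingTheory.Spectrum.Prime.Topology

set_option autoImplicit false
universe u

open CategoryTheory AlgebraicGeometry CategoryTheory.Limits MorphismProperty

namespace Groth.Agent.H13

/-- Affine case: a point in the closure of the range of `Spec S ⟶ Spec R` is a specialization of a
point of the range. -/
theorem exists_specializes_of_mem_closure_range_comap {R S : Type*} [CommRing R] [CommRing S]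
    (φ : R →+* S) {y : PrimeSpectrum R} (hy : y ∈ closure (Set.range (PrimeSpectrum.comap φ))) :
    ∃ q : PrimeSpectrum S, PrimeSpectrum.comap φ q ⤳ y := by
  rw [PrimeSpectrum.closure_range_comap, PrimeSpectrum.mem_zeroLocus] at hy
  have hle : (⊥ : Ideal S).comap φ ≤ y.asIdeal := by
    intro r hr
    exact hy hr
  obtain ⟨Q, _, hQ, hQle⟩ := Ideal.exists_ideal_comap_le_prime y.asIdeal (⊥ : Ideal S) hle
  refine ⟨⟨Q, hQ⟩, ?_⟩
  rw [← PrimeSpectrum.le_iff_specializes]
  exact hQle

/-- For a quasi-compact morphism `h`, every point of the closure of the image of `h` is a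
specialization of a point of the image. -/
theorem exists_specializes_of_mem_closure_range {W Y : Scheme.{u}} (h : W ⟶ Y) [QuasiCompact h]
    {y : Y} (hy : y ∈ closure (Set.range h.base)) : ∃ w : W, h.base w ⤳ y := by
  obtain ⟨R, j, hj, y', rfl⟩ := Scheme.exists_Spec_apply_eq y
  let h' : pullback h j ⟶ Spec R := pullback.snd h j
  have hc : CompactSpace ↥(pullback h j) := QuasiCompact.compactSpace_of_compactSpace h'
  obtain ⟨S, g, hg⟩ := compactSpace_iff_exists.mp hc
  obtain ⟨φ, hφ⟩ := Spec.map_surjective (g ≫ h')
  have hrange : Set.range (g ≫ h').base = j.base ⁻¹' Set.range h.base := by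
    rw [Scheme.Hom.comp_base, TopCat.coe_comp, Set.range_comp, hg.range_eq, Set.image_univ]
    exact Scheme.Pullback.range_snd h j
  have hy' : y' ∈ closure (Set.range (g ≫ h').base) := by
    rw [hrange]
    exact j.isOpenEmbedding.isOpenMap.preimage_closure_subset_closure_preimage hy
  rw [← hφ] at hy'
  obtain ⟨q, hq⟩ := exists_specializes_of_mem_closure_range_comap φ.hom hy'
  refine ⟨(pullback.fst h j).base (g.base q), ?_⟩
  have h1 : h.base ((pullback.fst h j).base (g.base q)) = j.base (h'.base (g.base q)) := by
    rw [← Scheme.Hom.comp_apply, ← Scheme.Hom.comp_apply, pullback.condition]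
    rfl
  rw [h1]
  have h2 : h'.base (g.base q) = (Spec.map φ).base q := by
    rw [hφ]; rfl
  rw [h2]
  exact hq.map j.continuous

/-- For a generalizing map `f` (e.g. a flat morphism) and a quasi-compact `g`, taking the closure
of the image of `g` commutes with taking the preimage along `f`. -/
theorem preimage_closure_range_eq_of_generalizingMap {X Y Y' : Scheme.{u}} (f : X ⟶ Y)
    (hf : GeneralizingMap f.base) (g : Y' ⟶ Y) [QuasiCompact g] :
    f.base ⁻¹' closure (Set.range g.base) = closure (f.base ⁻¹' Set.range g.base) := by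
  apply Set.Subset.antisymm
  · intro x hx
    obtain ⟨w, hw⟩ := exists_specializes_of_mem_closure_range g hx
    obtain ⟨x', hx', hfx'⟩ := hf hw
    exact hx'.mem_closed isClosed_closure (subset_closure ⟨w, hfx'.symm⟩)
  · exact (isClosed_closure.preimage f.continuous).closure_subset_iff.mpr
      (Set.preimage_mono subset_closure)

end Groth.Agent.H13
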