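import Groth.Agent.H13.QuasiFlatAlg
import Groth.Agent.H13.QcClosure
import Groth.Agent.H44.FittSupport
import Groth.Prelude.Def_FDesc

/-!
# Quasi-flat morphisms are generalizing (helper13)
-/

set_option autoImplicit false
universe u
open CategoryTheory CategoryTheory.Limits AlgebraicGeometry TopologicalSpace Opposite

namespace Groth.Agent.H13

/-- The stalk at `x` of a quasi-coherent module of finite type is a finite module over the local
ring at `x`. -/
theorem finite_stalk_of_isCoh {X : Scheme.{u}} (M : X.Modules) (hM : Coh.IsCoh M) (x : X) :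
    Module.Finite (X.presheaf.stalk x) (M.presheaf.stalk x) := by
  obtain ⟨hqc, hft⟩ := hM
  haveI : M.IsQuasicoherent := hqc
  haveI : SheafOfModules.IsFiniteType (R := X.ringCatSheaf) M := hft
  obtain ⟨U, hU, hxU⟩ : ∃ U : X.Opens, IsAffineOpen U ∧ x ∈ U := by
    obtain ⟨_, ⟨U, hU, rfl⟩, hxU, -⟩ :=
      X.isBasis_affineOpens.exists_subset_of_mem_open (Set.mem_univ x) isOpen_univ
    exact ⟨U, hU, hxU⟩
  haveI : Module.Finite Γ(X, U) Γ(M, U) := Groth.Agent.H44.finite_sections_of_isFiniteType M hU
  let _ : Algebra Γ(X, U) (X.presheaf.stalk x) :=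
    TopCat.Presheaf.algebra_section_stalk X.presheaf ⟨x, hxU⟩
  have : IsLocalization.AtPrime (X.presheaf.stalk x) (hU.primeIdealOf ⟨x, hxU⟩).asIdeal :=
    hU.isLocalization_stalk ⟨x, hxU⟩
  let _ := Groth.Agent.H8.stalkModule M hxU
  have : IsScalarTower Γ(X, U) (X.presheaf.stalk x) (M.presheaf.stalk x) :=
    .of_algebraMap_smul fun _ _ => rfl
  have := Groth.Agent.H8.isLocalizedModule_germₗ M hU hxU
  exact Module.Finite.of_isLocalizedModule (hU.primeIdealOf ⟨x, hxU⟩).asIdeal.primeCompl
    (Groth.Agent.H8.germₗ M hxU)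

/-- For a quasi-flat morphism, the maps on spectra of local rings are surjective. -/
theorem comap_stalkMap_surjective_of_isQuasiFlat {X Y : Scheme.{u}} (f : X ⟶ Y)
    (hf : FDesc.IsQuasiFlat f) (x : X) :
    Function.Surjective (PrimeSpectrum.comap (f.stalkMap x).hom) := by
  obtain ⟨M, hcoh, hflat, hnt⟩ := hf
  letI : Algebra (Y.presheaf.stalk (f.base x)) (X.presheaf.stalk x) := (f.stalkMap x).hom.toAlgebra
  haveI : IsLocalHom (algebraMap (Y.presheaf.stalk (f.base x)) (X.presheaf.stalk x)) :=
    inferInstanceAs (IsLocalHom (f.stalkMap x).hom)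
  letI := FlatMod.moduleStalkOver f M x
  haveI : IsScalarTower (Y.presheaf.stalk (f.base x)) (X.presheaf.stalk x) (M.presheaf.stalk x) :=
    .of_algebraMap_smul fun _ _ => rfl
  haveI := finite_stalk_of_isCoh M hcoh x
  haveI := hnt x
  haveI : Module.Flat (Y.presheaf.stalk (f.base x)) (M.presheaf.stalk x) := hflat x
  exact comap_surjective_of_flat_of_finite_of_isLocalHom (X.presheaf.stalk x) (M.presheaf.stalk x)

/-- Quasi-flat morphisms are generalizing. -/
theorem generalizingMap_of_isQuasiFlat {X Y : Scheme.{u}} (f : X ⟶ Y) (hf : FDesc.IsQuasiFlat f) :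
    GeneralizingMap f.base := by
  intro x y' hy'
  have hy'' : y' ∈ Set.range (Y.fromSpecStalk (f.base x)) := by
    rw [Scheme.range_fromSpecStalk]; exact hy'
  obtain ⟨p, rfl⟩ := hy''
  obtain ⟨q, rfl⟩ := comap_stalkMap_surjective_of_isQuasiFlat f hf x p
  refine ⟨X.fromSpecStalk x q, ?_, ?_⟩
  · have : X.fromSpecStalk x q ∈ Set.range (X.fromSpecStalk x) := ⟨q, rfl⟩
    rw [Scheme.range_fromSpecStalk] at this
    exact this
  · have := Scheme.SpecMap_stalkMap_fromSpecStalk f (x := x)
    have h2 := congrArg (fun g => g.base q) this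
    exact h2.symm

/-- A quasi-compact surjective morphism of schemes along which generizations lift is a
topological quotient map. -/
theorem isQuotientMap_of_generalizingMap {X Y : Scheme.{u}} (f : X ⟶ Y) [Surjective f]
    [QuasiCompact f] (hf : GeneralizingMap f.base) : Topology.IsQuotientMap f.base := by
  rw [Topology.isQuotientMap_iff_isClosed]
  refine ⟨f.surjective, fun s => ⟨fun hs => hs.preimage f.continuous, fun hs => ?_⟩⟩
  let Z : Closeds X := ⟨f.base ⁻¹' s, hs⟩
  let I := Scheme.IdealSheafData.vanishingIdeal Z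
  let g : I.subscheme ⟶ Y := I.subschemeι ≫ f
  have hrange : Set.range g.base = s := by
    rw [Scheme.Hom.comp_base, TopCat.coe_comp, Set.range_comp]
    have : Set.range I.subschemeι.base = f.base ⁻¹' s := by
      rw [Scheme.IdealSheafData.range_subschemeι, Scheme.IdealSheafData.coe_support_vanishingIdeal]
      rfl
    rw [this, Set.image_preimage_eq _ f.surjective]
  rw [← closure_subset_iff_isClosed]
  intro y hy
  rw [← hrange] at hy
  obtain ⟨w, hw⟩ := exists_specializes_of_mem_closure_range g hy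
  have hws : g.base w ∈ s := hrange ▸ Set.mem_range_self w
  obtain ⟨x', rfl⟩ := f.surjective y
  obtain ⟨x0, hx0, hfx0⟩ := hf hw
  have hx0s : x0 ∈ f.base ⁻¹' s := by
    change f.base x0 ∈ s
    rw [hfx0]; exact hws
  exact hx0.mem_closed hs hx0s

end Groth.Agent.H13
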