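import Groth.Agent.H13.PrimChain
import Groth.Agent.H5.Stalk.Exact

/-!
# Uniqueness of the primary components at non-embedded associated points (helper13)
-/

set_option autoImplicit false
universe u

noncomputable section

namespace Groth.Agent.H13.PrimSub

open CategoryTheory CategoryTheory.Limits Opposite TopologicalSpace AlgebraicGeometry
open Groth.Agent.H18 Groth.Agent.H12.SubSheaf Groth.Agent.H12.QCohExt
  Groth.Agent.H12.QCohAbelian Groth.Agent.H8 Curv2

variable {X : Scheme.{u}}

section Joint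

variable {M : X.Modules} {ι : Type*} (G : ι → X.Modules) (q : ∀ i, M ⟶ G i)

/-- the common kernel of a family of morphisms, as a family of submodules of sections. -/
def kerFam : SubFam M where
  carrier W :=
    { carrier := {s | ∀ i, (q i).app W s = 0}
      add_mem' := fun {a b} ha hb i => by rw [map_add, ha i, hb i, add_zero]
      zero_mem' := fun i => map_zero _
      smul_mem' := fun r s hs i => by rw [Scheme.Modules.Hom.app_smul, hs i, smul_zero] }
  res := fun {W W'} h {s} hs i => by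
    rw [← app_mres, hs i, map_zero]

theorem isLocal_kerFam : (kerFam G q).IsLocal := by
  intro W s h i
  apply Groth.Agent.H12.QCohIso.modules_eq_of_locally_eq (G i)
  intro x hx
  obtain ⟨W', hW', hxW', hs⟩ := h x hx
  refine ⟨W', hW', hxW', ?_⟩
  rw [map_zero, app_mres]
  exact hs i

/-- a jointly monomorphic family of morphisms is jointly injective on sections. -/
theorem section_eq_zero_of_joint
    (hm : ∀ (T : X.Modules) (a b : T ⟶ M), (∀ i, a ≫ q i = b ≫ q i) → a = b)
    {U : X.Opens} (s : Γ(M, U)) (hs : ∀ i, (q i).app U s = 0) : s = 0 := by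
  have h0 : (kerFam G q).ι (isLocal_kerFam G q) = 0 := by
    apply hm
    intro i
    rw [zero_comp]
    apply Scheme.Modules.hom_ext
    intro W
    apply AddCommGrpCat.hom_ext
    apply AddMonoidHom.ext
    intro t
    have h1 : (q i).app W (((kerFam G q).ι (isLocal_kerFam G q)).app W t) = 0 :=
      (kerFam G q).ι_app_mem (isLocal_kerFam G q) W t i
    exact h1
  obtain ⟨t, ht⟩ := (kerFam G q).exists_ι_app_eq (isLocal_kerFam G q) U s hs
  rw [← ht, h0]
  rfl

end Joint

/-- sections of a quasi-coherent module vanish if their germs at all associated points vanish. -/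
theorem section_eq_zero_of_germ_eq_zero [IsLocallyNoetherian X] (G : X.Modules)
    [G.IsQuasicoherent] {U : X.Opens} (t : Γ(G, U))
    (h : ∀ y, IsAssPoint G y → ∀ hy : y ∈ U, G.presheaf.germ U y hy t = 0) : t = 0 :=
  section_eq_zero_of_forall_germ_mem G (fun _ => ⊥) (fun _ _ z hz _ => hz) t
    (fun y hy h' => by rw [Submodule.mem_bot]; exact h y hy h')

section OnePoint

variable [IsLocallyNoetherian X] (G : X.Modules) [G.IsQuasicoherent] (x : X)
  (hG : AssSch.Ass G = {x})

include hG in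
theorem section_eq_zero_of_notMem {U : X.Opens} (hx : x ∉ U) (t : Γ(G, U)) : t = 0 := by
  apply section_eq_zero_of_germ_eq_zero G t
  intro y hy hyU
  have h1 : y ∈ AssSch.Ass G := hy
  rw [hG, Set.mem_singleton_iff] at h1
  exact absurd (h1 ▸ hyU) hx

include hG in
theorem section_eq_zero_of_germ {U : X.Opens} (hx : x ∈ U) (t : Γ(G, U))
    (ht : G.presheaf.germ U x hx t = 0) : t = 0 := by
  apply section_eq_zero_of_germ_eq_zero G t
  intro y hy hyU
  have h1 : y ∈ AssSch.Ass G := hy
  rw [hG, Set.mem_singleton_iff] at h1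
  subst h1
  exact ht

include hG in
theorem exists_pow_smul_eq_zero_of_notMem_basicOpen {V : X.Opens} (hV : IsAffineOpen V)
    (a : Γ(X, V)) (ha : x ∉ X.basicOpen a) (t : Γ(G, V)) : ∃ k : ℕ, a ^ k • t = 0 :=
  exists_pow_smul_eq_zero_of_isQuasicoherent G hV a t
    (section_eq_zero_of_notMem G x hG ha _)

end OnePoint

set_option backward.isDefEq.respectTransparency false in
/-- a coherent module on a locally Noetherian scheme has finitely many associated points in an
affine open. -/
theorem finite_ass_inter_affine [IsLocallyNoetherian X] (M : X.Modules) (hM : Coh.IsCoh M)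
    {V : X.Opens} (hV : IsAffineOpen V) : (AssSch.Ass M ∩ (V : Set X)).Finite := by
  obtain ⟨hqc, hft⟩ := hM
  have : M.IsQuasicoherent := hqc
  have := hft
  have : IsNoetherianRing Γ(X, V) := IsLocallyNoetherian.component_noetherian ⟨V, hV⟩
  have hfin : Module.Finite Γ(X, V) Γ(M, V) :=
    Groth.Agent.H44.finite_sections_of_isFiniteType M hV
  have hS : {P : PrimeSpectrum Γ(X, V) |
      P.asIdeal ∈ associatedPrimes Γ(X, V) Γ(M, V)}.Finite :=
    Set.Finite.preimage (fun P _ Q _ h => PrimeSpectrum.ext h) (associatedPrimes.finite _ _)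
  refine (hS.image (fun P => hV.fromSpec P)).subset ?_
  rintro x ⟨hx, hxV⟩
  refine ⟨hV.primeIdealOf ⟨x, hxV⟩, ?_, hV.fromSpec_primeIdealOf ⟨x, hxV⟩⟩
  have hx' : IsAssPoint M x := hx
  rwa [isAssPoint_iff_isWeakAssPoint,
    Groth.Agent.H13.isWeakAssPoint_iff_mem_associatedPrimes M hV hxV] at hx'

section Unique

variable [IsLocallyNoetherian X] {M : X.Modules} (hM : Coh.IsCoh M) (hne : AssSch.NoEmbedded M)
  (G : ↥(AssSch.Ass M) → X.Modules) (q : ∀ x, M ⟶ G x) (hqc : ∀ x, (G x).IsQuasicoherent)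
  (hA : ∀ x, AssSch.Ass (G x) = {x.1})
  (hm : ∀ (T : X.Modules) (a b : T ⟶ M), (∀ x, a ≫ q x = b ≫ q x) → a = b)

include hM hne hqc hA hm in
/-- the primary component at a non-embedded associated point `x` is the kernel of `M → M_x`. -/
theorem app_eq_zero_iff (x : ↥(AssSch.Ass M)) {U : X.Opens} (s : Γ(M, U)) :
    (q x).app U s = 0 ↔ ∀ h : x.1 ∈ U, M.presheaf.germ U x.1 h s = 0 := by
  classical
  have := hqc
  constructor
  · intro hs hxU
    obtain ⟨_, ⟨V, hV, rfl⟩, hxV, hVU⟩ :=
      X.isBasis_affineOpens.exists_subset_of_mem_open (show x.1 ∈ (U : Set X) from hxU) U.2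
    have hV : IsAffineOpen V := hV
    have hVU : V ≤ U := hVU
    have hxV : x.1 ∈ V := hxV
    have hgs : M.presheaf.germ V x.1 hxV (mres M hVU s) = M.presheaf.germ U x.1 hxU s :=
      TopCat.Presheaf.germ_res_apply M.presheaf (homOfLE hVU) x.1 hxV s
    rw [← hgs]
    have hn : (q x).app V (mres M hVU s) = 0 := by rw [← app_mres, hs, map_zero]
    generalize mres M hVU s = n at hn ⊢
    have hpx : (hV.primeIdealOf ⟨x.1, hxV⟩).asIdeal.IsPrime := (hV.primeIdealOf ⟨x.1, hxV⟩).isPrime
    have hex : ∀ y : X, ∃ b : Γ(X, V), b ∉ (hV.primeIdealOf ⟨x.1, hxV⟩).asIdeal ∧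
        ∀ (hy : y ∈ AssSch.Ass M), y ∈ V → y ≠ x.1 → b • (q ⟨y, hy⟩).app V n = 0 := by
      intro y
      by_cases hc : y ∈ AssSch.Ass M ∧ y ∈ V ∧ y ≠ x.1
      · obtain ⟨hy, hyV, hyx⟩ := hc
        have hnle : ¬ ((hV.primeIdealOf ⟨y, hyV⟩).asIdeal ≤
            (hV.primeIdealOf ⟨x.1, hxV⟩).asIdeal) := by
          intro hle
          have h1 : hV.fromSpec (hV.primeIdealOf ⟨y, hyV⟩) ⤳
              hV.fromSpec (hV.primeIdealOf ⟨x.1, hxV⟩) := fromSpec_specializes hV hle
          rw [hV.fromSpec_primeIdealOf ⟨y, hyV⟩, hV.fromSpec_primeIdealOf ⟨x.1, hxV⟩] at h1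
          exact hyx (hne x.1 x.2 y hy h1).symm
        obtain ⟨a, hay, hax⟩ := SetLike.not_le_iff_exists.mp hnle
        have hya : y ∉ X.basicOpen a := by
          rw [Groth.Agent.H13.mem_basicOpen_iff_notMem_primeIdealOf hV a hyV]
          exact not_not.mpr hay
        obtain ⟨k, hk⟩ := exists_pow_smul_eq_zero_of_notMem_basicOpen (G ⟨y, hy⟩) y (hA ⟨y, hy⟩)
          hV a hya ((q ⟨y, hy⟩).app V n)
        exact ⟨a ^ k, fun h => hax (hpx.mem_of_pow_mem k h), fun _ _ _ => hk⟩
      · exact ⟨1, fun h => hpx.ne_top ((Ideal.eq_top_iff_one _).mpr h),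
          fun hy hyV hyx => absurd ⟨hy, hyV, hyx⟩ hc⟩
    choose b hb1 hb2 using hex
    set S : Finset X := (finite_ass_inter_affine M hM hV).toFinset with hS
    have ha : (∏ y ∈ S.erase x.1, b y) ∉ (hV.primeIdealOf ⟨x.1, hxV⟩).asIdeal := by
      rw [Ideal.IsPrime.prod_mem_iff]
      rintro ⟨y, -, hy⟩
      exact hb1 y hy
    have hall : ∀ y : ↥(AssSch.Ass M), (q y).app V ((∏ y ∈ S.erase x.1, b y) • n) = 0 := by
      intro y
      rw [Scheme.Modules.Hom.app_smul]
      by_cases hyV : y.1 ∈ V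
      · by_cases hyx : y.1 = x.1
        · have hyx' : y = x := Subtype.ext hyx
          subst hyx'
          rw [hn, smul_zero]
        · have hyS : y.1 ∈ S.erase x.1 :=
            Finset.mem_erase.mpr ⟨hyx, (Set.Finite.mem_toFinset _).mpr ⟨y.2, hyV⟩⟩
          obtain ⟨c, hc⟩ := Finset.dvd_prod_of_mem b hyS
          rw [hc, mul_comm, mul_smul, hb2 y.1 y.2 hyV hyx, smul_zero]
      · exact section_eq_zero_of_notMem (G y) y.1 (hA y) hyV _
    have h0 : (∏ y ∈ S.erase x.1, b y) • n = 0 := section_eq_zero_of_joint G q hm _ hall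
    have hu : IsUnit (X.presheaf.germ V x.1 hxV (∏ y ∈ S.erase x.1, b y)) := by
      rwa [mem_primeIdealOf_iff hV hxV, not_not] at ha
    have h1 := congrArg (M.presheaf.germ V x.1 hxV) h0
    rw [Groth.Agent.H5.Stalk.germ_smul, map_zero] at h1
    have h2 := congrArg (fun w => (↑hu.unit⁻¹ : X.presheaf.stalk x.1) • w) h1
    simp only [smul_zero] at h2
    rwa [smul_smul, IsUnit.val_inv_mul, one_smul] at h2
  · intro hs
    by_cases hxU : x.1 ∈ U
    · apply section_eq_zero_of_germ (G x) x.1 (hA x) hxU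
      rw [← Groth.Agent.H5.Stalk.stalkFunctor_map_germ, hs hxU]
      exact map_zero ((Groth.Agent.H5.Stalk.stalkFunctor x.1).map (q x)).hom
    · exact section_eq_zero_of_notMem (G x) x.1 (hA x) hxU _

end Unique

/-- two quotients of an `O_X`-module with the same kernel on sections are isomorphic. -/
theorem exists_iso_of_app_eq_zero_iff {M G G' : X.Modules} (q : M ⟶ G) (q' : M ⟶ G') [Epi q]
    [Epi q'] (h : ∀ (U : X.Opens) (s : Γ(M, U)), q.app U s = 0 ↔ q'.app U s = 0) :
    ∃ e : G ≅ G', q ≫ e.hom = q' := by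
  have key : ∀ {A B : X.Modules} (p : M ⟶ A) (p' : M ⟶ B),
      (∀ (U : X.Opens) (s : Γ(M, U)), p.app U s = 0 → p'.app U s = 0) →
        kernel.ι p ≫ p' = 0 := by
    intro A B p p' hp
    apply Scheme.Modules.hom_ext
    intro W
    apply AddCommGrpCat.hom_ext
    apply AddMonoidHom.ext
    intro t
    have h1 : p.app W ((kernel.ι p).app W t) = 0 := by
      have h2 : ((kernel.ι p ≫ p).app W).hom t = ((0 : kernel p ⟶ A).app W).hom t := by
        rw [kernel.condition]
      exact h2
    exact hp W _ h1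
  have hz : kernel.ι q ≫ q' = 0 := key q q' fun U s => (h U s).mp
  have hz' : kernel.ι q' ≫ q = 0 := key q' q fun U s => (h U s).mpr
  refine ⟨⟨Abelian.epiDesc q q' hz, Abelian.epiDesc q' q hz', ?_, ?_⟩, Abelian.comp_epiDesc q q' hz⟩
  · rw [← cancel_epi q, Abelian.comp_epiDesc_assoc, Abelian.comp_epiDesc, Category.comp_id]
  · rw [← cancel_epi q', Abelian.comp_epiDesc_assoc, Abelian.comp_epiDesc, Category.comp_id]

end Groth.Agent.H13.PrimSub
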