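import Mathlib
import Groth.Prelude.Def_Hensel
import Groth.Prelude.Def_CAlg2
import Groth.Agent.H14.HensProp.EtUniNR
import Groth.Agent.H14.HensProp.StrictUni3
import Groth.Agent.H14.HensProp.Strict
import Groth.Agent.H14.HensProp.LocUnionDomain
import Groth.Agent.H13.GUFlatDescent

/-!
# Geometric unibranchness and connectedness of the punctured spectrum of the strict henselization
(local ring-level part)
-/

set_option autoImplicit false
set_option linter.style.haveILetI false
universe u

namespace Groth.Agent.H13.PunctConn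

open IsLocalRing

section top

variable (S : Type u) [CommRing S] [IsLocalRing S]

/-- If `S` has a unique minimal prime which is not the maximal ideal, the punctured spectrum is
connected (even irreducible). -/
theorem connectedSpace_punct_of_isPrime_nilradical (h : (nilradical S).IsPrime)
    (hne : maximalIdeal S ≠ nilradical S) :
    ConnectedSpace ↥({closedPoint S}ᶜ : Set (PrimeSpectrum S)) := by
  rw [← isConnected_iff_connectedSpace]
  let Q₀ : PrimeSpectrum S := ⟨nilradical S, h⟩
  have hQ₀ : Q₀ ∈ ({closedPoint S}ᶜ : Set (PrimeSpectrum S)) := by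
    intro hh
    apply hne
    have := congrArg PrimeSpectrum.asIdeal (Set.mem_singleton_iff.mp hh)
    exact this.symm
  refine ⟨⟨Q₀, hQ₀⟩, ?_⟩
  refine IsPreconnected.subset_closure (isPreconnected_singleton (x := Q₀))
    (Set.singleton_subset_iff.mpr hQ₀) ?_
  intro Q _
  rw [← specializes_iff_mem_closure, ← PrimeSpectrum.le_iff_specializes]
  exact nilradical_le_prime Q.asIdeal

/-- If the punctured spectrum of a Noetherian local ring of positive dimension is connected and
every non-closed point lies on a unique irreducible component, the spectrum is irreducible. -/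
theorem isPrime_nilradical_of_connectedSpace_punct [IsNoetherianRing S]
    (hmin : maximalIdeal S ∉ minimalPrimes S)
    (hloc : ∀ Q : Ideal S, Q.IsPrime → Q ≠ maximalIdeal S → ∀ P₁ ∈ minimalPrimes S,
      ∀ P₂ ∈ minimalPrimes S, P₁ ≤ Q → P₂ ≤ Q → P₁ = P₂)
    (hconn : ConnectedSpace ↥({closedPoint S}ᶜ : Set (PrimeSpectrum S))) :
    (nilradical S).IsPrime := by
  classical
  rw [← Groth.Agent.H14.HensProp.UniqueMin.hasUniqueMinimalPrime_iff_isPrime_nilradical]
  obtain ⟨P₁, hP₁, -⟩ := Ideal.exists_minimalPrimes_le (J := maximalIdeal S)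
    (I := (⊥ : Ideal S)) bot_le
  have hP₁' : P₁ ∈ minimalPrimes S := hP₁
  refine ⟨P₁, hP₁', fun P₂ hP₂ => ?_⟩
  by_contra hne
  set U : Set (PrimeSpectrum S) := {closedPoint S}ᶜ with hU
  have hmemU : ∀ P ∈ minimalPrimes S, ∀ hP : P.IsPrime, (⟨P, hP⟩ : PrimeSpectrum S) ∈ U := by
    intro P hP hPp hh
    apply hmin
    have h1 : P = maximalIdeal S := congrArg PrimeSpectrum.asIdeal (Set.mem_singleton_iff.mp hh)
    rw [← h1]
    exact hP
  let Z₁ : Set ↥U := {Q | P₁ ≤ Q.1.asIdeal}
  let Z₂ : Set ↥U := {Q | ∃ P ∈ minimalPrimes S, P ≠ P₁ ∧ P ≤ Q.1.asIdeal}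
  have hZ₁ : IsClosed Z₁ := by
    have : Z₁ = Subtype.val ⁻¹' (PrimeSpectrum.zeroLocus (P₁ : Set S)) := by
      ext Q
      simp [Z₁, PrimeSpectrum.mem_zeroLocus]
    rw [this]
    exact (PrimeSpectrum.isClosed_zeroLocus _).preimage continuous_subtype_val
  have hfin : (minimalPrimes S).Finite := minimalPrimes.finite_of_isNoetherianRing S
  have hZ₂ : IsClosed Z₂ := by
    have : Z₂ = Subtype.val ⁻¹' (⋃ P ∈ (minimalPrimes S \ {P₁}),
        PrimeSpectrum.zeroLocus (P : Set S)) := by
      ext Q
      simp only [Z₂, Set.mem_ofPred_eq, Set.mem_preimage, Set.mem_iUnion, Set.mem_sdiff,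
        Set.mem_singleton_iff, PrimeSpectrum.mem_zeroLocus, SetLike.coe_subset_coe, exists_prop]
      constructor
      · rintro ⟨P, hP, hne, hle⟩
        exact ⟨P, ⟨hP, hne⟩, hle⟩
      · rintro ⟨P, ⟨hP, hne⟩, hle⟩
        exact ⟨P, hP, hne, hle⟩
    rw [this]
    refine IsClosed.preimage continuous_subtype_val ?_
    exact (hfin.subset Set.sdiff_subset).isClosed_biUnion
      (fun P _ => PrimeSpectrum.isClosed_zeroLocus _)
  have hcover : Z₁ ∪ Z₂ = Set.univ := by
    rw [Set.eq_univ_iff_forall]
    intro Q
    obtain ⟨P, hP, hPQ⟩ := Ideal.exists_minimalPrimes_le (J := Q.1.asIdeal)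
      (I := (⊥ : Ideal S)) bot_le
    by_cases hPP : P = P₁
    · left
      show P₁ ≤ Q.1.asIdeal
      rw [← hPP]
      exact hPQ
    · right
      exact ⟨P, hP, hPP, hPQ⟩
  have hdisj : Z₁ ∩ Z₂ = ∅ := by
    rw [Set.eq_empty_iff_forall_notMem]
    rintro Q ⟨h1, P, hP, hne', hPQ⟩
    have hQne : Q.1.asIdeal ≠ maximalIdeal S := by
      intro h
      exact Q.2 (PrimeSpectrum.ext h)
    exact hne' (hloc Q.1.asIdeal Q.1.isPrime hQne P hP P₁ hP₁' hPQ h1)
  have hclopen : IsClopen Z₁ := by
    refine ⟨hZ₁, ?_⟩
    have : Z₁ = Z₂ᶜ := by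
      ext Q
      constructor
      · intro h1 h2
        have : Q ∈ Z₁ ∩ Z₂ := ⟨h1, h2⟩
        rw [hdisj] at this
        exact this
      · intro h2
        have : Q ∈ Z₁ ∪ Z₂ := by rw [hcover]; trivial
        rcases this with h | h
        · exact h
        · exact absurd h h2
    rw [this]
    exact hZ₂.isOpen_compl
  haveI := hconn
  rcases isClopen_iff.mp hclopen with h | h
  · have : (⟨⟨P₁, hP₁'.1.1⟩, hmemU P₁ hP₁' _⟩ : ↥U) ∈ Z₁ := le_refl P₁
    rw [h] at this
    exact this
  · have h2 : (⟨⟨P₂, hP₂.1.1⟩, hmemU P₂ hP₂ _⟩ : ↥U) ∈ Z₁ := by rw [h]; trivial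
    have h3 : (⟨⟨P₂, hP₂.1.1⟩, hmemU P₂ hP₂ _⟩ : ↥U) ∈ Z₂ := ⟨P₂, hP₂, hne, le_refl P₂⟩
    have : (⟨⟨P₂, hP₂.1.1⟩, hmemU P₂ hP₂ _⟩ : ↥U) ∈ Z₁ ∩ Z₂ := ⟨h2, h3⟩
    rw [hdisj] at this
    exact this

end top

section loc

open Groth.Agent.H14.HensProp Groth.Agent.H14.HensProp.UniqueMin

variable (A S : Type u) [CommRing A] [IsLocalRing A] [CommRing S] [IsLocalRing S] [Algebra A S]
  [IsLocalHom (algebraMap A S)] [hS : Hensel.IsStrictHenselization A S]

omit [IsLocalHom (algebraMap A S)] in
lemma maximalIdeal_mem_minimalPrimes_of_le (h : maximalIdeal A ≤ nilradical A) :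
    maximalIdeal A ∈ minimalPrimes A :=
  ⟨⟨inferInstance, bot_le⟩, fun Q hQ _ => h.trans (nilradical_le_prime Q (H := hQ.1))⟩

include hS in
lemma maximalIdeal_le_nilradical_of_eq (h : maximalIdeal S = nilradical S) :
    maximalIdeal A ≤ nilradical A := by
  obtain ⟨hU, hff⟩ := Groth.Agent.H3.HensUnion.package (Or.inr hS)
  have hinj : Function.Injective (algebraMap A S) := FaithfulSMul.algebraMap_injective A S
  intro a ha
  have h2 : algebraMap A S a ∈ maximalIdeal S := by
    rw [mem_maximalIdeal] at ha ⊢
    exact fun hu => ha (isUnit_of_map_unit (algebraMap A S) a hu)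
  rw [h] at h2
  obtain ⟨n, hn⟩ := mem_nilradical.mp h2
  rw [mem_nilradical]
  exact ⟨n, hinj (by rw [map_pow, hn, map_zero])⟩

include hS in
/-- (⇒), local version. -/
theorem connectedSpace_punct_of_isGeomUnibranch (hA : CAlg2.IsGeomUnibranch A)
    (hmin : maximalIdeal A ∉ minimalPrimes A) :
    ConnectedSpace ↥({closedPoint S}ᶜ : Set (PrimeSpectrum S)) := by
  have h1 : (nilradical S).IsPrime := by
    rw [← hasUniqueMinimalPrime_iff_isPrime_nilradical]
    exact (StrictUni.isGeomUnibranch_iff_hasUniqueMinimalPrime (A := A) (Ash := S)).mp hA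
  refine connectedSpace_punct_of_isPrime_nilradical S h1 ?_
  intro h
  exact hmin (maximalIdeal_mem_minimalPrimes_of_le A (maximalIdeal_le_nilradical_of_eq A S h))

include hS in
/-- (⇐), local induction step. -/
theorem isGeomUnibranch_of_connectedSpace_punct [IsNoetherianRing A]
    (hIH : ∀ (P : Ideal A) [P.IsPrime], P ≠ maximalIdeal A →
      CAlg2.IsGeomUnibranch (Localization.AtPrime P))
    (hconn : maximalIdeal A ∉ minimalPrimes A →
      ConnectedSpace ↥({closedPoint S}ᶜ : Set (PrimeSpectrum S))) :
    CAlg2.IsGeomUnibranch A := by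
  rw [StrictUni.isGeomUnibranch_iff_hasUniqueMinimalPrime (A := A) (Ash := S),
    hasUniqueMinimalPrime_iff_isPrime_nilradical]
  obtain ⟨hU, hff⟩ := Groth.Agent.H3.HensUnion.package (Or.inr hS)
  have hm : (maximalIdeal A).map (algebraMap A S) = maximalIdeal S :=
    Groth.Agent.H3.SH.map_maximalIdeal_eq_of_isStrictHenselization A hS
  haveI : IsNoetherianRing S := (strict_package A S).1
  by_cases hmin : maximalIdeal A ∈ minimalPrimes A
  · have h1 : maximalIdeal A = nilradical A := by
      refine le_antisymm ?_ (nilradical_le_prime _)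
      rw [nilradical_eq_sInf, le_sInf_iff]
      intro Q hQ
      exact hmin.2 ⟨hQ, bot_le⟩ (le_maximalIdeal hQ.ne_top)
    have h2 : nilradical S = maximalIdeal S := by
      rw [← Groth.Agent.H3.HensUnion.map_nilradical (Or.inr hS), ← h1, hm]
    rw [h2]
    infer_instance
  · refine isPrime_nilradical_of_connectedSpace_punct S ?_ ?_ (hconn hmin)
    · intro h
      apply hmin
      apply maximalIdeal_mem_minimalPrimes_of_le A
      apply maximalIdeal_le_nilradical_of_eq A S
      refine le_antisymm ?_ (nilradical_le_prime _)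
      rw [nilradical_eq_sInf, le_sInf_iff]
      intro Q hQ
      exact h.2 ⟨hQ, bot_le⟩ (le_maximalIdeal hQ.ne_top)
    · intro Q hQ hQne P₁ hP₁ P₂ hP₂ h1 h2
      haveI := hQ
      let P : Ideal A := Q.under A
      haveI : P.IsPrime := Ideal.IsPrime.under A Q
      haveI : Q.LiesOver P := ⟨rfl⟩
      have hPne : P ≠ maximalIdeal A := by
        intro h
        apply hQne
        have h3 : maximalIdeal S ≤ Q := by
          rw [← hm, Ideal.map_le_iff_le_comap, ← h]
        exact le_antisymm (le_maximalIdeal hQ.ne_top) h3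
      letI := Localization.AtPrime.algebraOfLiesOver P Q
      haveI : IsLocalHom (algebraMap (Localization.AtPrime P) (Localization.AtPrime Q)) := by
        rw [RingHom.algebraMap_toAlgebra]
        infer_instance
      haveI : Module.Flat A S := inferInstance
      haveI : Module.Flat A (Localization.AtPrime Q) := Module.Flat.trans A S _
      haveI : Module.Flat (Localization.AtPrime P) (Localization.AtPrime Q) :=
        (Module.flat_iff_of_isLocalization (Localization.AtPrime P) P.primeCompl
          (Localization.AtPrime Q)).mpr inferInstance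
      have hUloc : Groth.Agent.H3.UnionEtale.IsUnion (Localization.AtPrime P)
          (Localization.AtPrime Q) :=
        LocUnionDomain.isUnion_localization A (Localization.AtPrime P) S
          (Localization.AtPrime Q) Q.primeCompl hU
      have hnil : (nilradical (Localization.AtPrime Q)).IsPrime :=
        EtUniNR.isPrime_nilradical (Localization.AtPrime P) (Localization.AtPrime Q)
          (hIH P hPne) hUloc
      -- both `P₁` and `P₂` are the contraction of the nilradical of `S_Q`
      have key : ∀ P' ∈ minimalPrimes S, P' ≤ Q →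
          P' = (nilradical (Localization.AtPrime Q)).comap
            (algebraMap S (Localization.AtPrime Q)) := by
        intro P' hP' hle
        haveI hP'p : P'.IsPrime := hP'.1.1
        have hdisj : Disjoint (Q.primeCompl : Set S) (P' : Set S) := by
          rw [Set.disjoint_left]
          intro x hx hx'
          exact hx (hle hx')
        have hcm : (P'.map (algebraMap S (Localization.AtPrime Q))).comap
            (algebraMap S (Localization.AtPrime Q)) = P' :=
          IsLocalization.under_map_of_isPrime_disjoint Q.primeCompl (Localization.AtPrime Q)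
            hP'p hdisj
        haveI : (P'.map (algebraMap S (Localization.AtPrime Q))).IsPrime :=
          IsLocalization.isPrime_of_isPrime_disjoint Q.primeCompl (Localization.AtPrime Q) P'
            hP'p hdisj
        have h3 : (nilradical (Localization.AtPrime Q)).comap
            (algebraMap S (Localization.AtPrime Q)) ≤ P' := by
          rw [← hcm]
          exact Ideal.comap_mono (nilradical_le_prime _)
        haveI : ((nilradical (Localization.AtPrime Q)).comap
            (algebraMap S (Localization.AtPrime Q))).IsPrime := Ideal.comap_isPrime _ _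
        exact le_antisymm (hP'.2 ⟨inferInstance, bot_le⟩ h3) h3
      rw [key P₁ hP₁ h1, ← key P₂ hP₂ h2]

end loc

end Groth.Agent.H13.PunctConn
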