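import Mathlib
import Groth.Prelude.Def_Hensel
import Groth.Prelude.Def_CAlg2
import Groth.Agent.H13.PunctConn
import Groth.Agent.H3.StrictHensMain

/-!
# Geometric unibranchness of all localizations of a Noetherian ring from connectedness of the
punctured spectra of the strict henselizations (induction on the height)
-/

set_option autoImplicit false
set_option linter.style.haveILetI false
universe u

namespace Groth.Agent.H13.PunctRing

open IsLocalRing

theorem isGeomUnibranch_localization_of_connected (R : Type u) [CommRing R] [IsNoetherianRing R]
    (H : ∀ (p : Ideal R) [p.IsPrime], p ∉ minimalPrimes R →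
      ∀ (S : Type u) [CommRing S] [IsLocalRing S] [Algebra (Localization.AtPrime p) S]
        [IsLocalHom (algebraMap (Localization.AtPrime p) S)]
        [Hensel.IsStrictHenselization (Localization.AtPrime p) S],
        ConnectedSpace ↥({closedPoint S}ᶜ : Set (PrimeSpectrum S)))
    (p : Ideal R) [hp : p.IsPrime] : CAlg2.IsGeomUnibranch (Localization.AtPrime p) := by
  induction' hn : p.height.toNat using Nat.strong_induction_on with n ih generalizing p
  haveI : IsNoetherianRing (Localization.AtPrime p) :=
    IsLocalization.isNoetherianRing p.primeCompl _ inferInstance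
  haveI hSH := Groth.Agent.H3.SH.isStrictHenselization (Localization.AtPrime p)
  have hcm : (maximalIdeal (Localization.AtPrime p)).comap
      (algebraMap R (Localization.AtPrime p)) = p :=
    Localization.AtPrime.under_maximalIdeal
  have hmc : ∀ Q : Ideal (Localization.AtPrime p),
      (Q.comap (algebraMap R (Localization.AtPrime p))).map
        (algebraMap R (Localization.AtPrime p)) = Q :=
    fun Q => IsLocalization.map_under p.primeCompl (Localization.AtPrime p) Q
  refine Groth.Agent.H13.PunctConn.isGeomUnibranch_of_connectedSpace_punct
    (Localization.AtPrime p) (Groth.Agent.H3.SH.S (Localization.AtPrime p)) ?_ ?_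
  · intro P hP hPne
    let p' : Ideal R := P.comap (algebraMap R (Localization.AtPrime p))
    haveI : p'.IsPrime := Ideal.comap_isPrime _ P
    have hle : p' ≤ p := by
      have h1 : P ≤ maximalIdeal (Localization.AtPrime p) := le_maximalIdeal hP.ne_top
      have h2 := Ideal.comap_mono (f := algebraMap R (Localization.AtPrime p)) h1
      rwa [hcm] at h2
    have hne : p' ≠ p := by
      intro h
      apply hPne
      have h1 : P = p'.map (algebraMap R (Localization.AtPrime p)) := (hmc P).symm
      rw [h1, h, Localization.AtPrime.map_eq_maximalIdeal]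
    have hlt : p' < p := lt_of_le_of_ne hle hne
    have hht : p'.height < p.height := Ideal.height_strict_mono_of_isPrime hlt
    have hht' : p'.height.toNat < n := by
      have h1 : p'.height ≠ ⊤ := Ideal.height_ne_top_of_isPrime
      have h2 : p.height ≠ ⊤ := Ideal.height_ne_top_of_isPrime
      obtain ⟨a, ha⟩ := ENat.ne_top_iff_exists.mp h1
      obtain ⟨b, hb⟩ := ENat.ne_top_iff_exists.mp h2
      rw [← ha, ← hb, Nat.cast_lt] at hht
      rw [← hn, ← ha, ← hb, ENat.toNat_natCast, ENat.toNat_natCast]
      exact hht
    have hGU := ih _ hht' p' rfl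
    let e : Localization.AtPrime p' ≃ₐ[R] Localization.AtPrime P :=
      IsLocalization.localizationLocalizationAtPrimeIsoLocalization p.primeCompl P
    exact Groth.Agent.H13.GUFlatDescent.isGeomUnibranch_of_ringEquiv e.symm.toRingEquiv hGU
  · intro hmin
    refine H p ?_ (Groth.Agent.H3.SH.S (Localization.AtPrime p))
    intro hpmin
    apply hmin
    refine ⟨⟨inferInstance, bot_le⟩, fun Q hQ _ => ?_⟩
    haveI := hQ.1
    have h1 : Q.comap (algebraMap R (Localization.AtPrime p)) ≤ p := by
      have h2 := Ideal.comap_mono (f := algebraMap R (Localization.AtPrime p))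
        (le_maximalIdeal hQ.1.ne_top)
      rwa [hcm] at h2
    have h3 : p ≤ Q.comap (algebraMap R (Localization.AtPrime p)) :=
      hpmin.2 ⟨Ideal.comap_isPrime _ Q, bot_le⟩ h1
    rw [← Localization.AtPrime.map_eq_maximalIdeal, ← hmc Q]
    exact Ideal.map_mono h3

end Groth.Agent.H13.PunctRing
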