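import Mathlib
import Groth.Prelude.Def_Hensel
import Groth.Prelude.Def_CAlg2
import Groth.Agent.H13.PunctRing
import Groth.Agent.H3.StrictHensBaseEquiv
import Groth.Agent.H51.TopIrred

/-!
# A Noetherian scheme is geometrically unibranch iff the punctured spectra of the strict
henselizations of its local rings at non-generic points are connected
-/

set_option autoImplicit false
set_option linter.style.haveILetI false
universe u
open CategoryTheory AlgebraicGeometry TopologicalSpace IsLocalRing

namespace Groth.Agent.H13.PunctScheme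

/-- If the maximal ideal of the local ring at `x` is a minimal prime, `x` is a generic point. -/
lemma mem_genericPoints_of_maximalIdeal_mem_minimalPrimes (X : Scheme.{u}) (x : X)
    (h : maximalIdeal (X.presheaf.stalk x) ∈ minimalPrimes (X.presheaf.stalk x)) :
    x ∈ genericPoints X := by
  rw [Groth.Agent.H51.mem_genericPoints_iff]
  intro y hy
  have hy' : y ∈ Set.range (X.fromSpecStalk x) := by
    rw [Scheme.range_fromSpecStalk]
    exact hy
  obtain ⟨P, rfl⟩ := hy'
  have h1 : maximalIdeal (X.presheaf.stalk x) ≤ P.asIdeal :=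
    h.2 ⟨P.isPrime, bot_le⟩ (le_maximalIdeal P.isPrime.ne_top)
  have h2 : P = closedPoint (X.presheaf.stalk x) :=
    PrimeSpectrum.ext (le_antisymm (le_maximalIdeal P.isPrime.ne_top) h1)
  rw [h2, Scheme.fromSpecStalk_closedPoint]

/-- A prime of an affine open whose point is generic in `X` is a minimal prime. -/
lemma mem_minimalPrimes_of_mem_genericPoints {X : Scheme.{u}} {U : X.Opens} (hU : IsAffineOpen U)
    (y : PrimeSpectrum Γ(X, U)) (h : hU.fromSpec y ∈ genericPoints X) :
    y.asIdeal ∈ minimalPrimes Γ(X, U) := by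
  rw [Groth.Agent.H51.mem_genericPoints_iff] at h
  refine ⟨⟨y.isPrime, bot_le⟩, fun Q hQ hle => ?_⟩
  let z : PrimeSpectrum Γ(X, U) := ⟨Q, hQ.1⟩
  have h1 : z ⤳ y := (PrimeSpectrum.le_iff_specializes z y).mp hle
  have h2 : hU.fromSpec z ⤳ hU.fromSpec y := h1.map hU.fromSpec.continuous
  have h3 : hU.fromSpec y ⤳ hU.fromSpec z := h _ h2
  have h4 : y ⤳ z := hU.fromSpec.isOpenEmbedding.toIsInducing.specializes_iff.mp h3
  exact (PrimeSpectrum.le_iff_specializes y z).mpr h4

theorem main (X : Scheme.{u}) [IsNoetherian X] :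
    (∀ x : X, CAlg2.IsGeomUnibranch (X.presheaf.stalk x)) ↔
      ∀ (x : X), closure ({x} : Set X) ∉ irreducibleComponents X →
        ∀ (Ash : Type u) [CommRing Ash] [IsLocalRing Ash] [Algebra (X.presheaf.stalk x) Ash]
          [IsLocalHom (algebraMap (X.presheaf.stalk x) Ash)]
          [Hensel.IsStrictHenselization (X.presheaf.stalk x) Ash],
          ConnectedSpace ↥({IsLocalRing.closedPoint Ash}ᶜ : Set (PrimeSpectrum Ash)) := by
  constructor
  · intro h x hx Ash _ _ _ _ _
    refine Groth.Agent.H13.PunctConn.connectedSpace_punct_of_isGeomUnibranch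
      (X.presheaf.stalk x) Ash (h x) ?_
    intro hmin
    exact hx (mem_genericPoints_of_maximalIdeal_mem_minimalPrimes X x hmin)
  · intro H x
    obtain ⟨U, hU, hxU, -⟩ := exists_isAffineOpen_mem_and_subset (x := x) (U := ⊤) trivial
    haveI : IsNoetherianRing Γ(X, U) := IsLocallyNoetherian.component_noetherian ⟨U, hU⟩
    have hring := Groth.Agent.H13.PunctRing.isGeomUnibranch_localization_of_connected Γ(X, U) (by
      intro p hp hpmin S _ _ _ _ hS
      let y : PrimeSpectrum Γ(X, U) := ⟨p, hp⟩
      have hy : hU.fromSpec y ∈ U := by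
        have : hU.fromSpec y ∈ Set.range hU.fromSpec := ⟨y, rfl⟩
        rwa [hU.range_fromSpec] at this
      letI := X.presheaf.algebra_section_stalk ⟨hU.fromSpec y, hy⟩
      haveI hloc : IsLocalization.AtPrime (X.presheaf.stalk (hU.fromSpec y)) p :=
        hU.isLocalization_stalk' y hy
      let e : X.presheaf.stalk (hU.fromSpec y) ≃ₐ[Γ(X, U)] Localization.AtPrime p :=
        IsLocalization.algEquiv p.primeCompl _ _
      letI : Algebra (X.presheaf.stalk (hU.fromSpec y)) S :=
        ((algebraMap (Localization.AtPrime p) S).comp e.toRingEquiv.toRingHom).toAlgebra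
      haveI : IsLocalHom (algebraMap (X.presheaf.stalk (hU.fromSpec y)) S) := by
        rw [RingHom.algebraMap_toAlgebra]
        haveI : IsLocalHom e.toRingEquiv.toRingHom := by
          refine ⟨fun a ha => ?_⟩
          have := ha.map e.symm.toRingEquiv.toRingHom
          simpa using this
        exact RingHom.isLocalHom_comp _ _
      haveI : Hensel.IsStrictHenselization (X.presheaf.stalk (hU.fromSpec y)) S :=
        Groth.Agent.H3.StrictHensBaseEquiv.isStrictHenselization_of_base_ringEquiv
          e.toRingEquiv (fun _ => rfl) hS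
      refine H (hU.fromSpec y) ?_ S
      intro hgen
      exact hpmin (mem_minimalPrimes_of_mem_genericPoints hU y hgen))
    letI := X.presheaf.algebra_section_stalk ⟨x, hxU⟩
    haveI hloc : IsLocalization.AtPrime (X.presheaf.stalk x)
        (hU.primeIdealOf ⟨x, hxU⟩).asIdeal := hU.isLocalization_stalk ⟨x, hxU⟩
    let e : X.presheaf.stalk x ≃ₐ[Γ(X, U)]
        Localization.AtPrime (hU.primeIdealOf ⟨x, hxU⟩).asIdeal :=
      IsLocalization.algEquiv (hU.primeIdealOf ⟨x, hxU⟩).asIdeal.primeCompl _ _
    exact Groth.Agent.H13.GUFlatDescent.isGeomUnibranch_of_ringEquiv e.toRingEquiv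
      (hring (hU.primeIdealOf ⟨x, hxU⟩).asIdeal)

end Groth.Agent.H13.PunctScheme
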