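import Mathlib
import Groth.Prelude.Def_Found
import Groth.Prelude.Def_EGA4b
import Groth.Agent.H13.GRingNagata
import Groth.Agent.H13.N1CritGen
import Groth.Agent.H13.NorLocus
import Groth.Agent.H13.NagataCrit
import Groth.Agent.H47.N2ofN1

/-!
# Quasi-excellent rings are Nagata (EGA IV 7.7.2 / Stacks 07QV)
-/

set_option autoImplicit false
set_option linter.style.haveILetI false
set_option linter.unusedSectionVars false
universe u

open TensorProduct IsLocalRing nonZeroDivisors

namespace Groth.Agent.H13.QENagata

/-- a domain with open regular locus has a normal principal open -/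
theorem exists_away_isIntegrallyClosed_of_isOpen_regLocus (R : Type u) [CommRing R] [IsDomain R]
    (h : IsOpen (EGA4.regLocus R)) :
    ∃ f : R, f ≠ 0 ∧ IsIntegrallyClosed (Localization.Away f) := by
  have hbot := Groth.Agent.H13.NagataCrit.bot_mem_regLocus (R := R)
  obtain ⟨v, ⟨f, rfl⟩, hfv, hsub⟩ :=
    PrimeSpectrum.isTopologicalBasis_basic_opens.exists_subset_of_mem_open hbot h
  have hf : f ≠ 0 := by
    intro h0
    apply hfv
    show f ∈ (⊥ : Ideal R)
    rw [h0]; exact zero_mem _
  refine ⟨f, hf, ?_⟩
  have hpowers : Submonoid.powers f ≤ R⁰ :=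
    Submonoid.powers_le.mpr (mem_nonZeroDivisors_of_ne_zero hf)
  haveI : IsDomain (Localization.Away f) := IsLocalization.isDomain_localization hpowers
  apply IsIntegrallyClosed.of_localization_maximal
  intro Q _ hQ
  haveI : Q.IsPrime := hQ.isPrime
  let Q' : PrimeSpectrum (Localization (Submonoid.powers f)) := ⟨Q, inferInstance⟩
  have h1 : PrimeSpectrum.comap (algebraMap R (Localization (Submonoid.powers f))) Q' ∈
      EGA4.norLocus R := by
    apply Groth.Agent.H13.NorLocus.regLocus_subset_norLocus
    apply hsub
    show f ∉ (PrimeSpectrum.comap (algebraMap R (Localization (Submonoid.powers f))) Q').asIdeal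
    intro hfQ
    have hu : IsUnit (algebraMap R (Localization (Submonoid.powers f)) f) :=
      IsLocalization.map_units _ (⟨f, Submonoid.mem_powers f⟩ : Submonoid.powers f)
    exact Q'.2.ne_top (Ideal.eq_top_of_isUnit_mem _ hfQ hu)
  exact ((Groth.Agent.H13.NorLocus.comap_mem_norLocus_iff (Submonoid.powers f) Q').mp h1).2

/-- a finite domain over a quasi-excellent ring is N-1 -/
theorem isN1_of_finite_domain (A₀ : Type u) [CommRing A₀] (hA : EGA4.IsQuasiExcellent A₀)
    (B : Type u) [CommRing B] [IsDomain B] [Algebra A₀ B] [Module.Finite A₀ B] : CAlg.IsN1 B := by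
  haveI : IsNoetherianRing A₀ := hA.1
  haveI : IsNoetherianRing B := Algebra.FiniteType.isNoetherianRing A₀ B
  have hopen : IsOpen (EGA4.regLocus B) := hA.2.2 B inferInstance
  obtain ⟨f, hf, hn⟩ := exists_away_isIntegrallyClosed_of_isOpen_regLocus B hopen
  refine Groth.Agent.H13.N1CritGen.isN1_of_local' B f hf hn ?_
  intro Q _
  let 𝔭 : Ideal A₀ := Q.comap (algebraMap A₀ B)
  haveI : 𝔭.IsPrime := Ideal.comap_isPrime _ Q
  have hreg := hA.2.1.2 𝔭
  let M : Submonoid B := Algebra.algebraMapSubmonoid B 𝔭.primeCompl
  have hdisj : Disjoint (M : Set B) (Q : Set B) := by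
    rw [Set.disjoint_left]
    rintro _ ⟨a, ha, rfl⟩ haQ
    exact ha haQ
  have hM : M ≤ B⁰ := by
    intro x hx
    apply mem_nonZeroDivisors_of_ne_zero
    rintro rfl
    exact Set.disjoint_left.1 hdisj hx Q.zero_mem
  haveI : IsDomain (Localization M) := IsLocalization.isDomain_localization hM
  letI : Algebra (Localization M) (FractionRing B) :=
    IsLocalization.localizationAlgebraOfSubmonoidLe (Localization M) (FractionRing B) M B⁰ hM
  haveI : IsScalarTower B (Localization M) (FractionRing B) :=
    IsLocalization.localization_isScalarTower_of_submonoid_le (Localization M) (FractionRing B)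
      M B⁰ hM
  haveI : IsFractionRing (Localization M) (FractionRing B) :=
    IsFractionRing.isFractionRing_of_isDomain_of_isLocalization M (Localization M) (FractionRing B)
  haveI : IsScalarTower A₀ (Localization.AtPrime 𝔭) (Localization M) := inferInstance
  haveI : Module.Finite (Localization.AtPrime 𝔭) (Localization M) :=
    Module.Finite.of_isLocalization A₀ B 𝔭.primeCompl
  have hN1 : CAlg.IsN1 (Localization M) :=
    Groth.Agent.H13.GRingNagata.isN1_of_finite_of_local (Localization.AtPrime 𝔭) hreg
      (Localization M)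
  exact ⟨M, Localization M, inferInstance, inferInstance, inferInstance, inferInstance,
    inferInstance, hdisj,
    (Groth.Agent.H13.N1Crit.isN1_iff (Localization M) (FractionRing B)).mp hN1⟩

/-- a finite domain over a quasi-excellent ring is N-2 -/
theorem isN2_of_finite_domain (A₀ : Type u) [CommRing A₀] (hA : EGA4.IsQuasiExcellent A₀)
    (D : Type u) [CommRing D] [IsDomain D] [Algebra A₀ D] [Module.Finite A₀ D] : CAlg.IsN2 D := by
  intro L _ _ _ _ hfd
  haveI := hfd
  obtain ⟨S', -, hfin, hfrac⟩ :=
    Groth.Agent.H47.exists_finite_subalgebra_isFractionRing D (FractionRing D) L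
  haveI := hfin
  haveI := hfrac
  letI : Algebra A₀ L := ((algebraMap D L).comp (algebraMap A₀ D)).toAlgebra
  haveI : IsScalarTower A₀ D L := IsScalarTower.of_algebraMap_eq (fun _ => rfl)
  haveI : IsScalarTower A₀ D S' := inferInstance
  haveI : Module.Finite A₀ S' := Module.Finite.trans D S'
  have hN1 : CAlg.IsN1 S' := isN1_of_finite_domain A₀ hA S'
  exact Groth.Agent.H47.finite_integralClosure_of_subalgebra S' hN1

/-- **A quasi-excellent ring is a Nagata ring.** -/
theorem isNagata_of_isQuasiExcellent (A : Type u) [CommRing A] (hA : EGA4.IsQuasiExcellent A) :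
    CAlg.IsNagata A := by
  haveI : IsNoetherianRing A := hA.1
  refine ⟨hA.1, fun p hp => ?_⟩
  exact isN2_of_finite_domain A hA (A ⧸ p)

end Groth.Agent.H13.QENagata
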