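import Mathlib.RingTheory.Flat.FaithfullyFlat.Algebra
import Mathlib.RingTheory.Spectrum.Prime.RingHom
import Mathlib.RingTheory.Nakayama
import Mathlib.RingTheory.LocalRing.ResidueField.Ideal

/-!
# Algebra behind quasi-flat morphisms (helper13)

If `A → B` is a local homomorphism of local rings and `M` is a nonzero finite `B`-module which is
flat over `A`, then `M` is faithfully flat over `A` and `Spec B → Spec A` is surjective.
-/

set_option autoImplicit false

namespace Groth.Agent.H13

open TensorProduct

/-- A nonzero finite module over the target of a local homomorphism, flat over the source, is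
faithfully flat over the source. -/
theorem faithfullyFlat_of_flat_of_finite_of_isLocalHom {A : Type*} (B : Type*) {M : Type*}
    [CommRing A] [CommRing B] [IsLocalRing A] [IsLocalRing B] [Algebra A B]
    [IsLocalHom (algebraMap A B)] [AddCommGroup M] [Module A M] [Module B M] [IsScalarTower A B M]
    [Module.Finite B M] [Nontrivial M] [Module.Flat A M] :
    Module.FaithfullyFlat A M := by
  refine ⟨fun m hm h => ?_⟩
  rw [IsLocalRing.eq_maximalIdeal hm] at h
  have hle : (⊤ : Submodule B M) ≤ IsLocalRing.maximalIdeal B • (⊤ : Submodule B M) := by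
    intro x _
    have hx : x ∈ IsLocalRing.maximalIdeal A • (⊤ : Submodule A M) := by rw [h]; exact Submodule.mem_top
    refine Submodule.smul_induction_on hx (fun a ha y _ => ?_) (fun y z hy hz => ?_)
    · rw [← algebraMap_smul B a y]
      refine Submodule.smul_mem_smul ?_ Submodule.mem_top
      have h02 : (IsLocalRing.maximalIdeal A).map (algebraMap A B) ≤ IsLocalRing.maximalIdeal B :=
        ((IsLocalRing.local_hom_TFAE (algebraMap A B)).out 0 2).mp ‹_›
      exact h02 (Ideal.mem_map_of_mem _ ha)
    · exact Submodule.add_mem _ hy hz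
  have := Submodule.eq_bot_of_le_smul_of_le_jacobson_bot (IsLocalRing.maximalIdeal B) ⊤
    Module.Finite.fg_top hle (IsLocalRing.maximalIdeal_le_jacobson ⊥)
  exact top_ne_bot this

/-- If a nonzero finite `B`-module is flat over `A` (for a local homomorphism `A → B` of local
rings), every prime of `A` is the contraction of a prime of `B`. -/
theorem comap_surjective_of_flat_of_finite_of_isLocalHom {A : Type*} (B : Type*) (M : Type*)
    [CommRing A] [CommRing B] [IsLocalRing A] [IsLocalRing B] [Algebra A B]
    [IsLocalHom (algebraMap A B)] [AddCommGroup M] [Module A M] [Module B M] [IsScalarTower A B M]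
    [Module.Finite B M] [Nontrivial M] [Module.Flat A M] :
    Function.Surjective (PrimeSpectrum.comap (algebraMap A B)) := by
  intro p
  have : Module.FaithfullyFlat A M := faithfullyFlat_of_flat_of_finite_of_isLocalHom B
  rw [← Set.mem_range, ← PrimeSpectrum.nontrivial_iff_mem_rangeComap]
  by_contra hnt
  rw [not_nontrivial_iff_subsingleton] at hnt
  -- `M ⊗[A] κ(p)` is nontrivial by faithful flatness
  have h1 : Nontrivial (M ⊗[A] p.asIdeal.ResidueField) :=
    (Module.FaithfullyFlat.nontrivial_tensorProduct_iff_right A M).mpr inferInstance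
  -- but it is `M ⊗[B] (B ⊗[A] κ(p))`
  have e : M ⊗[B] (B ⊗[A] p.asIdeal.ResidueField) ≃ₗ[B] M ⊗[A] p.asIdeal.ResidueField :=
    TensorProduct.AlgebraTensorModule.cancelBaseChange A B B M p.asIdeal.ResidueField
  have : Subsingleton (B ⊗[A] p.asIdeal.ResidueField) :=
    (Algebra.TensorProduct.comm A B p.asIdeal.ResidueField).toEquiv.subsingleton_congr.mpr hnt
  have : Subsingleton (M ⊗[B] (B ⊗[A] p.asIdeal.ResidueField)) := inferInstance
  exact not_subsingleton _ (e.symm.toEquiv.subsingleton_congr.mpr this)

end Groth.Agent.H13
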