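import Mathlib
import Groth.Prelude.Def_CAlg2
import Groth.Agent.H13.GUCrit
import Groth.Agent.H14.HensProp.EtUni

/-!
# Ring-level core of EGA IV 6.15.5 / 6.15.3 (integral birational maps and geometric unibranchness)

`A` is a local ring, `φ : A →+* B` an integral ring map.

* `isGeomUnibranch_of_radicial`: if `ker φ` is nil, `B` is local and geometrically unibranch and
  the residue field extension is purely inseparable, then `A` is geometrically unibranch.
* `radicial_of_isGeomUnibranch`: if `A` is geometrically unibranch, `nil B` is a prime lying over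
  `nil A`, and `B/nil B` is birational over `A/nil A`, then `B` is local, geometrically unibranch,
  and its residue field is purely inseparable over that of `A`.
-/

set_option autoImplicit false
set_option linter.style.haveILetI false
universe u

namespace Groth.Agent.H13.RadPtRing

open IsLocalRing

lemma pow_sub_pow_mem {R : Type*} [CommRing R] (I : Ideal R) {u v : R} (h : u - v ∈ I) (k : ℕ) :
    u ^ k - v ^ k ∈ I := by
  rw [← Ideal.Quotient.eq] at h ⊢
  rw [map_pow, map_pow, h]

/-- the kernel of `A → normRed A` is the nilradical (when `A_red` is a domain) -/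
lemma ker_algebraMap_normRed (A : Type u) [CommRing A] [IsDomain (CAlg2.red A)] :
    RingHom.ker (algebraMap A (CAlg2.normRed A)) ≤ nilradical A := by
  have hinjR := Groth.Agent.H14.HensProp.UniqueMin.algebraMap_red_normRed_injective A
  intro b hb
  rw [RingHom.mem_ker, IsScalarTower.algebraMap_apply A (CAlg2.red A) (CAlg2.normRed A)] at hb
  have h1 : algebraMap A (CAlg2.red A) b = 0 := hinjR (by rw [hb, map_zero])
  exact Ideal.Quotient.eq_zero_iff_mem.mp h1

lemma algebraMap_normRed_isIntegral (A : Type u) [CommRing A] :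
    (algebraMap A (CAlg2.normRed A)).IsIntegral := by
  rw [IsScalarTower.algebraMap_eq A (CAlg2.red A) (CAlg2.normRed A)]
  exact RingHom.IsIntegral.trans _ _
    (RingHom.isIntegral_of_surjective _ Ideal.Quotient.mk_surjective)
    (algebraMap_isIntegral_iff.mpr inferInstance)

/-- For an integral ring map into a local ring, the preimage of the maximal ideal of the target
is the maximal ideal of the (local) source. -/
lemma comap_maximalIdeal_of_isIntegral {R S : Type*} [CommRing R] [CommRing S] [IsLocalRing R]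
    [IsLocalRing S] (f : R →+* S) (hf : f.IsIntegral) :
    (maximalIdeal S).comap f = maximalIdeal R := by
  haveI : ((maximalIdeal S).comap f).IsMaximal :=
    Ideal.isMaximal_comap_of_isIntegral_of_isMaximal' f hf (maximalIdeal S)
  exact IsLocalRing.eq_maximalIdeal inferInstance

theorem isGeomUnibranch_of_radicial (A B : Type u) [CommRing A] [CommRing B] [IsLocalRing A]
    [IsLocalRing B] (φ : A →+* B) (hint : φ.IsIntegral) (hker : RingHom.ker φ ≤ nilradical A)
    (hB : CAlg2.IsGeomUnibranch B) (p : ℕ) (hp : p = 1 ∨ (p.Prime ∧ (p : B) ∈ maximalIdeal B))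
    (hpi : ∀ b : B, ∃ (n : ℕ) (a : A), b ^ p ^ n - φ a ∈ maximalIdeal B) :
    CAlg2.IsGeomUnibranch A := by
  obtain ⟨⟨hdom, hloc⟩, -⟩ := id hB
  haveI := hdom
  haveI := hloc
  haveI : IsIntegrallyClosed (CAlg2.normRed B) :=
    Groth.Agent.H14.HensProp.isIntegrallyClosed_normRed B
  obtain ⟨p', hp', hpi'⟩ := Groth.Agent.H14.HensProp.EtUni.exists_pi_data B hB
  set ψ : B →+* CAlg2.normRed B := algebraMap B (CAlg2.normRed B) with hψ
  have hψint : ψ.IsIntegral := algebraMap_normRed_isIntegral B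
  have hψker : RingHom.ker ψ ≤ nilradical B := ker_algebraMap_normRed B
  have hψm : ∀ b : B, b ∈ maximalIdeal B → ψ b ∈ maximalIdeal (CAlg2.normRed B) := by
    intro b hb
    rw [← comap_maximalIdeal_of_isIntegral ψ hψint] at hb
    exact hb
  -- the common exponent
  obtain ⟨P, hP, hpow⟩ : ∃ P : ℕ,
      (P = 1 ∨ (P.Prime ∧ (P : CAlg2.normRed B) ∈ maximalIdeal (CAlg2.normRed B))) ∧
      ∀ n₁ n₂ : ℕ, ∃ N : ℕ, p' ^ n₁ * p ^ n₂ = P ^ N := by
    rcases hp with rfl | ⟨hpp, hpm⟩
    · exact ⟨p', hp', fun n₁ n₂ => ⟨n₁, by simp⟩⟩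
    · have hpm' : (p : CAlg2.normRed B) ∈ maximalIdeal (CAlg2.normRed B) := by
        have := hψm _ hpm
        rwa [map_natCast] at this
      refine ⟨p, Or.inr ⟨hpp, hpm'⟩, ?_⟩
      rcases hp' with rfl | ⟨hpp', hpm''⟩
      · exact fun n₁ n₂ => ⟨n₂, by simp⟩
      · have : p' = p := by
          by_contra hne
          have hcop : Nat.Coprime p' p := (Nat.coprime_primes hpp' hpp).mpr hne
          have h1 : ((1 : ℕ) : CAlg2.normRed B) ∈ maximalIdeal (CAlg2.normRed B) := by
            have hcop' : IsCoprime (p' : ℤ) (p : ℤ) := Nat.isCoprime_iff_coprime.mpr hcop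
            obtain ⟨a, b, hab⟩ := hcop'
            have h2 : ((a * p' + b * p : ℤ) : CAlg2.normRed B) ∈
                maximalIdeal (CAlg2.normRed B) := by
              push_cast
              exact Ideal.add_mem _ (Ideal.mul_mem_left _ _ hpm'') (Ideal.mul_mem_left _ _ hpm')
            rw [hab] at h2
            simp at h2
          rw [Nat.cast_one] at h1
          exact (Ideal.ne_top_iff_one _).mp (maximalIdeal.isMaximal _).ne_top h1
        subst this
        exact fun n₁ n₂ => ⟨n₁ + n₂, by rw [pow_add]⟩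
  refine Groth.Agent.H13.GUCrit.isGeomUnibranch_of_pi_normal A (CAlg2.normRed B) (ψ.comp φ)
    (RingHom.IsIntegral.trans _ _ hint hψint) ?_ P hP ?_
  · intro a ha
    have h1 : φ a ∈ RingHom.ker ψ := ha
    obtain ⟨j, hj⟩ := mem_nilradical.mp (hψker h1)
    have h2 : a ^ j ∈ RingHom.ker φ := by rw [RingHom.mem_ker, map_pow, hj]
    obtain ⟨i, hi⟩ := mem_nilradical.mp (hker h2)
    rw [mem_nilradical]
    exact ⟨j * i, by rw [pow_mul, hi]⟩
  · intro x
    obtain ⟨n₁, b, hb⟩ := hpi' x
    obtain ⟨n₂, a, ha⟩ := hpi b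
    obtain ⟨N, hN⟩ := hpow n₁ n₂
    refine ⟨N, a, ?_⟩
    have h1 : (x ^ p' ^ n₁) ^ p ^ n₂ - (ψ b) ^ p ^ n₂ ∈ maximalIdeal (CAlg2.normRed B) :=
      pow_sub_pow_mem _ hb _
    have h2 : ψ (b ^ p ^ n₂ - φ a) ∈ maximalIdeal (CAlg2.normRed B) := hψm _ ha
    have h3 : x ^ P ^ N - (ψ.comp φ) a =
        ((x ^ p' ^ n₁) ^ p ^ n₂ - (ψ b) ^ p ^ n₂) + ψ (b ^ p ^ n₂ - φ a) := by
      rw [← hN, pow_mul, map_sub, map_pow, RingHom.comp_apply]
      ring
    rw [h3]
    exact Ideal.add_mem _ h1 h2

/-- **Ring-level (⇒).** -/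
theorem radicial_of_isGeomUnibranch (A B : Type u) [CommRing A] [CommRing B] [IsLocalRing A]
    (φ : A →+* B) (hint : φ.IsIntegral) (hA : CAlg2.IsGeomUnibranch A)
    (hnil : (nilradical B).IsPrime) (hcomap : (nilradical B).comap φ = nilradical A)
    (hbir : ∀ b : B, ∃ (a s : A), s ∉ nilradical A ∧ φ s * b - φ a ∈ nilradical B) :
    ∃ (_ : IsLocalRing B), IsLocalHom φ ∧ CAlg2.IsGeomUnibranch B ∧
      ∃ p : ℕ, (p = 1 ∨ (p.Prime ∧ (p : B) ∈ maximalIdeal B)) ∧
        ∀ b : B, ∃ (n : ℕ) (a : A), b ^ p ^ n - φ a ∈ maximalIdeal B := by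
  obtain ⟨⟨hdom, hloc⟩, -⟩ := id hA
  haveI := hdom
  haveI := hloc
  haveI := hnil
  haveI : IsIntegrallyClosed (CAlg2.normRed A) :=
    Groth.Agent.H14.HensProp.isIntegrallyClosed_normRed A
  obtain ⟨p, hp, hpi⟩ := Groth.Agent.H14.HensProp.EtUni.exists_pi_data A hA
  -- the fraction field of `B_red`, as an `A_red`-algebra
  let Bred := B ⧸ nilradical B
  let L := FractionRing Bred
  have hφnil : ∀ a ∈ nilradical A, (Ideal.Quotient.mk (nilradical B)).comp φ a = 0 := by
    intro a ha
    rw [RingHom.comp_apply, Ideal.Quotient.eq_zero_iff_mem]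
    rw [← hcomap] at ha
    exact ha
  let ι : CAlg2.red A →+* Bred :=
    Ideal.Quotient.lift (nilradical A) ((Ideal.Quotient.mk (nilradical B)).comp φ) hφnil
  have hι : ∀ a : A, ι (Ideal.Quotient.mk (nilradical A) a) =
      Ideal.Quotient.mk (nilradical B) (φ a) := fun a => by simp [ι]
  have hιinj : Function.Injective ι := by
    rw [injective_iff_map_eq_zero]
    intro r hr
    obtain ⟨a, rfl⟩ := Ideal.Quotient.mk_surjective r
    rw [hι, Ideal.Quotient.eq_zero_iff_mem] at hr
    rw [Ideal.Quotient.eq_zero_iff_mem, ← hcomap]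
    exact hr
  letI : Algebra (CAlg2.red A) L := ((algebraMap Bred L).comp ι).toAlgebra
  have halgL : ∀ r : CAlg2.red A, algebraMap (CAlg2.red A) L r = algebraMap Bred L (ι r) :=
    fun _ => rfl
  have hLinj : Function.Injective (algebraMap (CAlg2.red A) L) :=
    (IsFractionRing.injective Bred L).comp hιinj
  haveI : FaithfulSMul (CAlg2.red A) L := (faithfulSMul_iff_algebraMap_injective _ _).mpr hLinj
  -- every element of `B_red` is a fraction of elements of `A_red`
  have hfrac : ∀ b : B, ∃ x y : CAlg2.red A, y ≠ 0 ∧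
      algebraMap Bred L (Ideal.Quotient.mk _ b) =
        algebraMap (CAlg2.red A) L x / algebraMap (CAlg2.red A) L y := by
    intro b
    obtain ⟨a, s, hs, hab⟩ := hbir b
    refine ⟨Ideal.Quotient.mk _ a, Ideal.Quotient.mk _ s, ?_, ?_⟩
    · rwa [Ne, Ideal.Quotient.eq_zero_iff_mem]
    · have hs0 : algebraMap (CAlg2.red A) L (Ideal.Quotient.mk _ s) ≠ 0 := by
        rw [Ne, map_eq_zero_iff _ hLinj, Ideal.Quotient.eq_zero_iff_mem]
        exact hs
      rw [eq_div_iff hs0, halgL, halgL, hι, hι, ← map_mul, ← map_mul]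
      congr 1
      rw [mul_comm, Ideal.Quotient.eq]
      exact hab
  haveI : IsFractionRing (CAlg2.red A) L := by
    refine IsFractionRing.of_field (CAlg2.red A) L (fun z => ?_)
    obtain ⟨u, v, -, rfl⟩ := IsFractionRing.div_surjective (A := Bred) z
    obtain ⟨b₁, rfl⟩ := Ideal.Quotient.mk_surjective u
    obtain ⟨b₂, rfl⟩ := Ideal.Quotient.mk_surjective v
    obtain ⟨x₁, y₁, hy₁, h₁⟩ := hfrac b₁
    obtain ⟨x₂, y₂, hy₂, h₂⟩ := hfrac b₂
    refine ⟨x₁ * y₂, y₁ * x₂, ?_⟩
    rw [h₁, h₂, map_mul, map_mul]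
    have hy₁' : algebraMap (CAlg2.red A) L y₁ ≠ 0 := by rwa [Ne, map_eq_zero_iff _ hLinj]
    have hy₂' : algebraMap (CAlg2.red A) L y₂ ≠ 0 := by rwa [Ne, map_eq_zero_iff _ hLinj]
    rw [div_div_div_eq]
  let e : FractionRing (CAlg2.red A) ≃ₐ[CAlg2.red A] L := FractionRing.algEquiv (CAlg2.red A) L
  -- the map `B → K`
  let ψ₀ : B →+* FractionRing (CAlg2.red A) :=
    (e.symm : L →+* FractionRing (CAlg2.red A)).comp
      ((algebraMap Bred L).comp (Ideal.Quotient.mk (nilradical B)))
  have hψ₀φ : ∀ a : A, ψ₀ (φ a) =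
      algebraMap (CAlg2.red A) (FractionRing (CAlg2.red A)) (Ideal.Quotient.mk _ a) := by
    intro a
    have h1 : algebraMap Bred L (Ideal.Quotient.mk (nilradical B) (φ a)) =
        algebraMap (CAlg2.red A) L (Ideal.Quotient.mk _ a) := by rw [halgL, hι]
    show e.symm (algebraMap Bred L (Ideal.Quotient.mk (nilradical B) (φ a))) = _
    rw [h1, AlgEquiv.commutes]
  have hψ₀mem : ∀ b : B, ψ₀ b ∈ integralClosure (CAlg2.red A) (FractionRing (CAlg2.red A)) := by
    intro b
    obtain ⟨P, hPm, hPe⟩ := hint b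
    refine ⟨P.map (Ideal.Quotient.mk (nilradical A)), hPm.map _, ?_⟩
    rw [Polynomial.eval₂_map]
    have h1 : (algebraMap (CAlg2.red A) (FractionRing (CAlg2.red A))).comp
        (Ideal.Quotient.mk (nilradical A)) = ψ₀.comp φ := by
      ext a
      exact (hψ₀φ a).symm
    rw [h1, ← Polynomial.hom_eval₂, hPe, map_zero]
  let ψ : B →+* CAlg2.normRed A :=
    RingHom.codRestrict ψ₀ (integralClosure (CAlg2.red A) (FractionRing (CAlg2.red A))) hψ₀mem
  have hψφ : ∀ a : A, ψ (φ a) = algebraMap A (CAlg2.normRed A) a := by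
    intro a
    apply Subtype.ext
    show ψ₀ (φ a) = _
    rw [hψ₀φ]
    rfl
  have hψφ' : ψ.comp φ = algebraMap A (CAlg2.normRed A) := RingHom.ext hψφ
  have hψint : ψ.IsIntegral := by
    have h1 : (ψ.comp φ).IsIntegral := by rw [hψφ']; exact algebraMap_normRed_isIntegral A
    exact RingHom.IsIntegral.tower_top φ ψ h1
  have hψker : RingHom.ker ψ = nilradical B := by
    ext b
    rw [RingHom.mem_ker]
    constructor
    · intro hb
      have h1 : ψ₀ b = 0 := congrArg Subtype.val hb
      have h2 : algebraMap Bred L (Ideal.Quotient.mk (nilradical B) b) = 0 := by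
        have : e.symm (algebraMap Bred L (Ideal.Quotient.mk (nilradical B) b)) = 0 := h1
        simpa using this
      rw [map_eq_zero_iff _ (IsFractionRing.injective Bred L), Ideal.Quotient.eq_zero_iff_mem] at h2
      exact h2
    · intro hb
      apply Subtype.ext
      show e.symm (algebraMap Bred L (Ideal.Quotient.mk (nilradical B) b)) = 0
      rw [Ideal.Quotient.eq_zero_iff_mem.mpr hb, map_zero, map_zero]
  -- `B` is local
  set mB : Ideal B := (maximalIdeal (CAlg2.normRed A)).comap ψ with hmB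
  haveI hmBmax : mB.IsMaximal :=
    Ideal.isMaximal_comap_of_isIntegral_of_isMaximal' ψ hψint (maximalIdeal (CAlg2.normRed A))
  have huniq : ∀ n : Ideal B, n.IsMaximal → n = mB := by
    intro n hn
    letI : Algebra B (CAlg2.normRed A) := ψ.toAlgebra
    haveI : Algebra.IsIntegral B (CAlg2.normRed A) := ⟨hψint⟩
    have hkn : RingHom.ker (algebraMap B (CAlg2.normRed A)) ≤ n := by
      show RingHom.ker ψ ≤ n
      rw [hψker]
      exact nilradical_le_prime n
    obtain ⟨Q, hQmax, hQ⟩ := Ideal.exists_ideal_over_maximal_of_isIntegral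
      (S := CAlg2.normRed A) n hkn
    have hQ' : Q = maximalIdeal (CAlg2.normRed A) := IsLocalRing.eq_maximalIdeal hQmax
    rw [← hQ, hQ']
    rfl
  have hlocB : IsLocalRing B := IsLocalRing.of_unique_max_ideal ⟨mB, hmBmax, huniq⟩
  refine ⟨hlocB, ?_⟩
  have hmB' : maximalIdeal B = mB := huniq _ (maximalIdeal.isMaximal B)
  have hmem : ∀ b : B, b ∈ maximalIdeal B ↔ ψ b ∈ maximalIdeal (CAlg2.normRed A) := by
    intro b
    rw [hmB']
    rfl
  refine ⟨?_, ?_, p, ?_, ?_⟩
  · -- `φ` is local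
    have hcm : (maximalIdeal B).comap φ = maximalIdeal A :=
      comap_maximalIdeal_of_isIntegral φ hint
    refine ⟨fun a ha => ?_⟩
    by_contra hnu
    have h1 : a ∈ maximalIdeal A := (mem_maximalIdeal a).mpr hnu
    rw [← hcm] at h1
    exact (mem_maximalIdeal _).mp h1 ha
  · -- `B` is geometrically unibranch
    refine Groth.Agent.H13.GUCrit.isGeomUnibranch_of_pi_normal B (CAlg2.normRed A) ψ hψint
      (le_of_eq hψker) p hp ?_
    intro x
    obtain ⟨n, a, ha⟩ := hpi x
    exact ⟨n, φ a, by rw [hψφ]; exact ha⟩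
  · rcases hp with h | ⟨h1, h2⟩
    · exact Or.inl h
    · refine Or.inr ⟨h1, ?_⟩
      rw [hmem, map_natCast]
      exact h2
  · intro b
    obtain ⟨n, a, ha⟩ := hpi (ψ b)
    refine ⟨n, a, ?_⟩
    rw [hmem, map_sub, map_pow, hψφ]
    exact ha

end Groth.Agent.H13.RadPtRing
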