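import Mathlib
import Groth.Prelude.Def_EGA4Misc
import Groth.Prelude.Def_CAlg2
import Groth.Agent.H13.RadPtRing
import Groth.Agent.H13.GUFlatDescent
import Groth.Agent.H51.TopIrred
import Groth.Agent.H54.OneDimTop

/-!
# EGA IV 6.15.5 for `Spec B ⟶ Spec A` with `A` local

Dictionary between `RadPt.IsBirational`, `RadPt.IsRadicialAt` for `Spec.map φ` and ring-level
statements, and the resulting criterion for geometric unibranchness.
-/

set_option autoImplicit false
set_option linter.style.haveILetI false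
universe u
open CategoryTheory AlgebraicGeometry IsLocalRing

namespace Groth.Agent.H13.RadPtSpec

section ev
variable (R : CommRingCat.{u}) (x : Spec R)

/-- evaluation of an element of `R` at a point of `Spec R` -/
noncomputable def ev : R →+* (Spec R).residueField x :=
  ((Scheme.ΓSpecIso R).inv ≫ (Spec R).Γevaluation x).hom

lemma ev_eq (r : R) : ev R x r =
    (Scheme.Spec.residueFieldIso R x).inv (algebraMap R x.asIdeal.ResidueField r) := by
  have h := Scheme.Spec.algebraMap_residueFieldIso_inv R x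
  have h2 := congrArg (fun f => f.hom r) h
  simp only [CommRingCat.hom_comp, RingHom.coe_comp, Function.comp_apply,
    CommRingCat.hom_ofHom] at h2
  rw [h2]
  rfl

lemma ev_eq_zero_iff (r : R) : ev R x r = 0 ↔ r ∈ x.asIdeal := by
  rw [ev_eq]
  have hinj : Function.Injective (Scheme.Spec.residueFieldIso R x).inv.hom :=
    (Scheme.Spec.residueFieldIso R x).symm.commRingCatIsoToRingEquiv.injective
  constructor
  · intro h
    have h1 : algebraMap R x.asIdeal.ResidueField r = 0 := hinj (by rw [map_zero]; exact h)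
    exact Ideal.algebraMap_residueField_eq_zero.mp h1
  · intro h
    rw [Ideal.algebraMap_residueField_eq_zero.mpr h, map_zero]

lemma exists_ev_div (β : (Spec R).residueField x) :
    ∃ r s : R, s ∉ x.asIdeal ∧ β = ev R x r / ev R x s := by
  let e := (Scheme.Spec.residueFieldIso R x).commRingCatIsoToRingEquiv
  obtain ⟨t, ht⟩ := IsLocalRing.residue_surjective (R := Localization.AtPrime x.asIdeal) (e β)
  obtain ⟨r, s, rfl⟩ := IsLocalization.exists_mk'_eq x.asIdeal.primeCompl t
  refine ⟨r, s, s.2, ?_⟩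
  have hs0 : algebraMap R x.asIdeal.ResidueField s ≠ 0 := by
    rw [Ne, Ideal.algebraMap_residueField_eq_zero]
    exact s.2
  have h1 : e β =
      algebraMap R x.asIdeal.ResidueField r / algebraMap R x.asIdeal.ResidueField s := by
    rw [eq_div_iff hs0, ← ht]
    show residue _ _ * residue _ (algebraMap R (Localization.AtPrime x.asIdeal) s) =
      residue _ (algebraMap R (Localization.AtPrime x.asIdeal) r)
    rw [← map_mul, IsLocalization.mk'_spec]
  have h2 : β = e.symm (e β) := (e.symm_apply_apply β).symm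
  rw [h2, h1, map_div₀, ev_eq, ev_eq]
  rfl

lemma ev_surjective [hx : x.asIdeal.IsMaximal] : Function.Surjective (ev R x) := by
  intro β
  let e := (Scheme.Spec.residueFieldIso R x).commRingCatIsoToRingEquiv
  obtain ⟨r, hr⟩ := Ideal.algebraMap_residueField_surjective x.asIdeal (e β)
  refine ⟨r, ?_⟩
  rw [ev_eq, hr]
  exact e.symm_apply_apply β

lemma residueFieldMap_ev {A B : CommRingCat.{u}} (φ : A ⟶ B) (x : Spec B) (a : A) :
    (Spec.map φ).residueFieldMap x (ev A (Spec.map φ x) a) = ev B x (φ.hom a) := by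
  unfold ev
  have h := Scheme.Γevaluation_naturality_apply (Spec.map φ) x ((Scheme.ΓSpecIso A).inv a)
  simp only [CommRingCat.hom_comp, RingHom.coe_comp, Function.comp_apply]
  rw [h]
  congr 1
  have h2 := Scheme.ΓSpecIso_inv_naturality φ
  exact (congrArg (fun f => f.hom a) h2).symm

end ev

lemma map_asIdeal {A B : CommRingCat.{u}} (φ : A ⟶ B) (x : Spec B) :
    ((Spec.map φ) x).asIdeal = x.asIdeal.comap φ.hom := rfl

lemma specializes_iff {R : CommRingCat.{u}} (x y : Spec R) : x ⤳ y ↔ x.asIdeal ≤ y.asIdeal :=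
  (PrimeSpectrum.le_iff_specializes x y).symm

lemma mem_genericPoints_iff {R : CommRingCat.{u}} (x : Spec R) :
    x ∈ genericPoints (Spec R) ↔ x.asIdeal ∈ minimalPrimes R := by
  rw [Groth.Agent.H51.mem_genericPoints_iff]
  constructor
  · intro h
    refine ⟨⟨x.isPrime, bot_le⟩, fun Q hQ hQx => ?_⟩
    have := h ⟨Q, hQ.1⟩ ((specializes_iff _ _).mpr hQx)
    exact (specializes_iff _ _).mp this
  · intro h y hy
    rw [specializes_iff] at hy ⊢
    exact h.2 ⟨y.isPrime, bot_le⟩ hy

/-- birational ⇒ the kernel is nil -/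
lemma ker_le_nilradical {A B : CommRingCat.{u}} (φ : A ⟶ B)
    (hbir : RadPt.IsBirational (Spec.map φ)) : RingHom.ker φ.hom ≤ nilradical A := by
  intro a ha
  have h1 : nilradical A = sInf (minimalPrimes A) := (Ideal.sInf_minimalPrimes (I := ⊥)).symm
  rw [h1, Ideal.mem_sInf]
  intro P hP
  let y : Spec A := ⟨P, hP.1.1⟩
  have hy : y ∈ genericPoints (Spec A) := (mem_genericPoints_iff y).mpr hP
  obtain ⟨x, -, hx⟩ := hbir.1.surjOn hy
  have h2 : a ∈ ((Spec.map φ) x).asIdeal := by
    rw [map_asIdeal, Ideal.mem_comap, (RingHom.mem_ker).mp ha]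
    exact Ideal.zero_mem _
  rw [hx] at h2
  exact h2

/-- birational + unique minimal prime downstairs ⇒ unique minimal prime upstairs + birational
in the ring-theoretic sense -/
lemma birational_data {A B : CommRingCat.{u}} (φ : A ⟶ B)
    (hbir : RadPt.IsBirational (Spec.map φ)) (hnil : (nilradical A).IsPrime) :
    (nilradical B).IsPrime ∧ (nilradical B).comap φ.hom = nilradical A ∧
      ∀ b : B, ∃ a s : A, s ∉ nilradical A ∧ φ.hom s * b - φ.hom a ∈ nilradical B := by
  let y₀ : Spec A := ⟨nilradical A, hnil⟩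
  have hy₀ : y₀ ∈ genericPoints (Spec A) := by
    rw [mem_genericPoints_iff]
    exact ⟨⟨hnil, bot_le⟩, fun Q hQ _ => nilradical_le_prime Q (H := hQ.1)⟩
  obtain ⟨x₀, hx₀gen, hx₀⟩ := hbir.1.surjOn hy₀
  have hle : ∀ z : Spec B, x₀.asIdeal ≤ z.asIdeal := by
    intro z
    obtain ⟨η, hη, hηz⟩ := Groth.Agent.H54.OneDimTop.exists_generic_specializes z
    have h1 : (Spec.map φ) η ∈ genericPoints (Spec A) := hbir.1.mapsTo hη
    rw [mem_genericPoints_iff] at h1
    have h2 : ((Spec.map φ) η).asIdeal ≤ nilradical A :=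
      h1.2 ⟨hnil, bot_le⟩ (nilradical_le_prime _)
    have h3 : (Spec.map φ) η = y₀ :=
      PrimeSpectrum.ext (le_antisymm h2 (nilradical_le_prime _))
    have h4 : η = x₀ := (hbir.2 y₀ hy₀).1 η x₀ h3 hx₀
    rw [← h4]
    exact (specializes_iff _ _).mp hηz
  have hx₀nil : x₀.asIdeal = nilradical B := by
    refine le_antisymm ?_ (nilradical_le_prime _)
    rw [nilradical_eq_sInf, le_sInf_iff]
    intro Q hQ
    exact hle ⟨Q, hQ⟩
  have hcomap : (nilradical B).comap φ.hom = nilradical A := by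
    rw [← hx₀nil, ← map_asIdeal, hx₀]
  refine ⟨hx₀nil ▸ x₀.isPrime, hcomap, ?_⟩
  intro b
  have hbij := (hbir.2 y₀ hy₀).2 x₀ hx₀
  obtain ⟨α, hα⟩ := hbij.2 (ev B x₀ b)
  obtain ⟨a, s, hs, rfl⟩ := exists_ev_div A ((Spec.map φ) x₀) α
  have hs' : s ∉ nilradical A := by
    rw [hx₀] at hs
    exact hs
  refine ⟨a, s, hs', ?_⟩
  rw [← hx₀nil, ← ev_eq_zero_iff]
  have hφs : ev B x₀ (φ.hom s) ≠ 0 := by
    rw [Ne, ev_eq_zero_iff]
    intro h
    apply hs'
    rw [← hcomap, ← hx₀nil]
    exact h
  rw [map_div₀] at hα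
  erw [residueFieldMap_ev φ x₀ a, residueFieldMap_ev φ x₀ s] at hα
  rw [div_eq_iff hφs] at hα
  rw [map_sub, map_mul, hα]
  ring

/-- purely inseparable residue field extension ⇒ ring-level radicial data -/
lemma pi_data_of_isPurelyInseparable {A B : CommRingCat.{u}} (φ : A ⟶ B) (x : Spec B)
    [hmax : (x.asIdeal.comap φ.hom).IsMaximal]
    (h : ((Spec.map φ).residueFieldMap x).hom.IsPurelyInseparable) :
    ∃ p : ℕ, (p = 1 ∨ (p.Prime ∧ (p : B) ∈ x.asIdeal)) ∧
      ∀ b : B, ∃ (n : ℕ) (a : A), b ^ p ^ n - φ.hom a ∈ x.asIdeal := by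
  set f := ((Spec.map φ).residueFieldMap x).hom with hf
  algebraize [f]
  obtain ⟨p, hpdef⟩ : ∃ p : ℕ, p = ringExpChar ((Spec A).residueField ((Spec.map φ) x)) :=
    ⟨_, rfl⟩
  haveI hE : ExpChar ((Spec A).residueField ((Spec.map φ) x)) p := hpdef ▸ ringExpChar.expChar _
  haveI : (((Spec.map φ) x).asIdeal).IsMaximal := hmax
  refine ⟨p, ?_, ?_⟩
  · cases hE with
    | zero => exact Or.inl rfl
    | prime hprime =>
      refine Or.inr ⟨hprime, ?_⟩
      rw [← ev_eq_zero_iff, map_natCast]
      have h1 : ((p : ℕ) : (Spec A).residueField ((Spec.map φ) x)) = 0 := CharP.cast_eq_zero _ p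
      have h2 := congrArg f h1
      rw [map_natCast, map_zero] at h2
      exact h2
  · intro b
    obtain ⟨n, α, hα⟩ := (isPurelyInseparable_iff_pow_mem
      ((Spec A).residueField ((Spec.map φ) x)) p).mp h (ev B x b)
    obtain ⟨a, rfl⟩ := ev_surjective A ((Spec.map φ) x) α
    refine ⟨n, a, ?_⟩
    rw [← ev_eq_zero_iff, map_sub, map_pow, ← hα, sub_eq_zero]
    exact residueFieldMap_ev φ x a

/-- ring-level radicial data ⇒ purely inseparable residue field extension -/
lemma isPurelyInseparable_of_pi_data {A B : CommRingCat.{u}} (φ : A ⟶ B) (x : Spec B)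
    [hmax : x.asIdeal.IsMaximal] (p : ℕ) (hp : p = 1 ∨ (p.Prime ∧ (p : B) ∈ x.asIdeal))
    (hpi : ∀ b : B, ∃ (n : ℕ) (a : A), b ^ p ^ n - φ.hom a ∈ x.asIdeal) :
    ((Spec.map φ).residueFieldMap x).hom.IsPurelyInseparable := by
  set f := ((Spec.map φ).residueFieldMap x).hom with hf
  algebraize [f]
  show IsPurelyInseparable ((Spec A).residueField ((Spec.map φ) x)) ((Spec B).residueField x)
  have key : ∀ β : (Spec B).residueField x, ∃ n : ℕ,
      ∃ α : (Spec A).residueField ((Spec.map φ) x), f α = β ^ p ^ n := by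
    intro β
    obtain ⟨b, rfl⟩ := ev_surjective B x β
    obtain ⟨n, a, ha⟩ := hpi b
    refine ⟨n, ev A ((Spec.map φ) x) a, ?_⟩
    rw [← ev_eq_zero_iff, map_sub, map_pow, sub_eq_zero] at ha
    rw [ha]
    exact residueFieldMap_ev φ x a
  rcases hp with rfl | ⟨hprime, hpm⟩
  · obtain ⟨q, hqdef⟩ : ∃ q : ℕ, q = ringExpChar ((Spec A).residueField ((Spec.map φ) x)) :=
      ⟨_, rfl⟩
    haveI hE : ExpChar ((Spec A).residueField ((Spec.map φ) x)) q :=
      hqdef ▸ ringExpChar.expChar _
    rw [isPurelyInseparable_iff_pow_mem _ q]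
    intro β
    obtain ⟨n, α, hα⟩ := key β
    rw [one_pow, pow_one] at hα
    exact ⟨0, α, by rw [pow_zero, pow_one]; exact hα⟩
  · have h0 : ((p : ℕ) : (Spec A).residueField ((Spec.map φ) x)) = 0 := by
      have h1 : ev B x ((p : ℕ) : B) = 0 := (ev_eq_zero_iff B x _).mpr hpm
      rw [map_natCast] at h1
      have h2 : f ((p : ℕ) : (Spec A).residueField ((Spec.map φ) x)) = 0 := by
        rw [map_natCast]; exact h1
      exact (map_eq_zero f).mp h2
    haveI : CharP ((Spec A).residueField ((Spec.map φ) x)) p :=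
      (CharP.charP_iff_prime_eq_zero hprime).mpr h0
    haveI : ExpChar ((Spec A).residueField ((Spec.map φ) x)) p := ExpChar.prime hprime
    rw [isPurelyInseparable_iff_pow_mem _ p]
    intro β
    obtain ⟨n, α, hα⟩ := key β
    exact ⟨n, α, hα⟩

lemma gu_stalk_closedPoint_iff (B : CommRingCat.{u}) [IsLocalRing B] :
    CAlg2.IsGeomUnibranch ((Spec B).presheaf.stalk (closedPoint B)) ↔
      CAlg2.IsGeomUnibranch B := by
  let e : (Spec B).presheaf.stalk (closedPoint B) ≃+* B :=
    (stalkClosedPointIso B).commRingCatIsoToRingEquiv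
  exact ⟨fun h => Groth.Agent.H13.GUFlatDescent.isGeomUnibranch_of_ringEquiv e.symm h,
    fun h => Groth.Agent.H13.GUFlatDescent.isGeomUnibranch_of_ringEquiv e h⟩

/-- **EGA IV 6.15.5 over a local base `Spec A`.** -/
theorem spec_main {A B : CommRingCat.{u}} [IsLocalRing A] (φ : A ⟶ B) (hint : φ.hom.IsIntegral)
    (hbir : RadPt.IsBirational (Spec.map φ)) :
    CAlg2.IsGeomUnibranch A ↔
      (RadPt.IsRadicialAt (Spec.map φ) (closedPoint A) ∧
        ∀ x : Spec B, (Spec.map φ) x = closedPoint A →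
          CAlg2.IsGeomUnibranch ((Spec B).presheaf.stalk x)) := by
  have hcm : ∀ n' : Ideal B, n'.IsMaximal → n'.comap φ.hom = maximalIdeal A := fun n' hn' => by
    haveI := Ideal.isMaximal_comap_of_isIntegral_of_isMaximal' φ.hom hint n'
    exact IsLocalRing.eq_maximalIdeal inferInstance
  constructor
  · intro hA
    have hnil : (nilradical A).IsPrime := by
      obtain ⟨⟨hdom, -⟩, -⟩ := id hA
      exact (Ideal.Quotient.isDomain_iff_prime _).mp hdom
    obtain ⟨hnB, hcomap, hb⟩ := birational_data φ hbir hnil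
    obtain ⟨hlocB, -, hGUB, p, hp, hpi⟩ :=
      Groth.Agent.H13.RadPtRing.radicial_of_isGeomUnibranch A B φ.hom hint hA hnB hcomap hb
    haveI := hlocB
    have hpt : ∀ x : Spec B, (Spec.map φ) x = closedPoint A → x = closedPoint B := by
      intro x hx
      have h1 : x.asIdeal.comap φ.hom = maximalIdeal A := congrArg PrimeSpectrum.asIdeal hx
      have h2 : x.asIdeal.IsMaximal :=
        Ideal.isMaximal_of_isIntegral_of_isMaximal_comap' φ.hom hint x.asIdeal
          (h1 ▸ maximalIdeal.isMaximal A)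
      exact PrimeSpectrum.ext (IsLocalRing.eq_maximalIdeal h2)
    refine ⟨⟨fun x x' hx hx' => (hpt x hx).trans (hpt x' hx').symm, fun x hx => ?_⟩,
      fun x hx => ?_⟩
    · obtain rfl := hpt x hx
      haveI : (closedPoint B).asIdeal.IsMaximal := maximalIdeal.isMaximal B
      exact isPurelyInseparable_of_pi_data φ (closedPoint B) p hp hpi
    · obtain rfl := hpt x hx
      exact (gu_stalk_closedPoint_iff B).mpr hGUB
  · rintro ⟨⟨huniq, hpi⟩, hGU⟩
    have hker := ker_le_nilradical φ hbir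
    have hBnt : Nontrivial B := by
      by_contra h
      rw [not_nontrivial_iff_subsingleton] at h
      have h1 : (1 : A) ∈ RingHom.ker φ.hom := by
        rw [RingHom.mem_ker]; exact Subsingleton.elim _ _
      obtain ⟨j, hj⟩ := mem_nilradical.mp (hker h1)
      rw [one_pow] at hj
      exact one_ne_zero hj
    obtain ⟨n, hn⟩ := Ideal.exists_maximal B
    let x : Spec B := ⟨n, hn.isPrime⟩
    have hx : (Spec.map φ) x = closedPoint A := PrimeSpectrum.ext (hcm n hn)
    have hlocB : IsLocalRing B := IsLocalRing.of_unique_max_ideal ⟨n, hn, fun n' hn' => by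
      have := huniq ⟨n', hn'.isPrime⟩ x (PrimeSpectrum.ext (hcm n' hn')) hx
      exact congrArg PrimeSpectrum.asIdeal this⟩
    haveI := hlocB
    have hxc : x = closedPoint B := PrimeSpectrum.ext (IsLocalRing.eq_maximalIdeal hn)
    have hGUB : CAlg2.IsGeomUnibranch B := by
      have := hGU x hx
      rw [hxc] at this
      exact (gu_stalk_closedPoint_iff B).mp this
    haveI : (x.asIdeal.comap φ.hom).IsMaximal := (hcm n hn) ▸ maximalIdeal.isMaximal A
    obtain ⟨p, hp, hpi'⟩ := pi_data_of_isPurelyInseparable φ x (hpi x hx)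
    have hnm : x.asIdeal = maximalIdeal B := IsLocalRing.eq_maximalIdeal hn
    rw [hnm] at hp hpi'
    exact Groth.Agent.H13.RadPtRing.isGeomUnibranch_of_radicial A B φ.hom hint hker hGUB p hp hpi'

end Groth.Agent.H13.RadPtSpec
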