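import Mathlib
import Groth.Prelude.Def_EGA4Misc
import Groth.Prelude.Def_CAlg2
import Groth.Agent.H13.RadPtSpec
import Groth.Agent.H20.BiratBC
import Groth.Agent.H20.RadicialFibre
import Groth.Agent.H24.FlatMono
import Groth.Agent.H51.FlatValLift

/-!
# EGA IV 6.15.5: integral birational morphisms and geometric unibranchness
-/

set_option autoImplicit false
set_option linter.style.haveILetI false
universe u
open CategoryTheory CategoryTheory.Limits AlgebraicGeometry IsLocalRing

namespace Groth.Agent.H13.RadPtMain

theorem main {X Y : Scheme.{u}} (f : X ⟶ Y) [IsIntegralHom f] (hf : RadPt.IsBirational f)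
    (y : Y) :
    CAlg2.IsGeomUnibranch (Y.presheaf.stalk y) ↔
      (RadPt.IsRadicialAt f y ∧
        ∀ x : X, f x = y → CAlg2.IsGeomUnibranch (X.presheaf.stalk x)) := by
  let A : CommRingCat.{u} := Y.presheaf.stalk y
  let g : Spec A ⟶ Y := Y.fromSpecStalk y
  haveI : Flat g := Groth.Agent.H51.flat_fromSpecStalk Y y
  haveI : Mono g := inferInstance
  let X' := pullback f g
  haveI : IsAffine X' := isAffine_of_isAffineHom (pullback.snd f g)
  let B : CommRingCat.{u} := Γ(X', ⊤)
  let e : X' ≅ Spec B := X'.isoSpec
  let F : Spec B ⟶ Spec A := e.inv ≫ pullback.snd f g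
  let H : Spec B ⟶ X := e.inv ≫ pullback.fst f g
  have sq : IsPullback H F f g := by
    refine IsPullback.of_iso (IsPullback.of_hasPullback f g) e (Iso.refl _) (Iso.refl _)
      (Iso.refl _) ?_ ?_ ?_ ?_
    · simp [H]
    · simp [F]
    · simp
    · simp
  haveI : Flat H := by
    haveI : Flat (pullback.fst f g) := inferInstance
    infer_instance
  haveI : Mono H := by
    haveI : Mono (pullback.fst f g) := inferInstance
    infer_instance
  haveI : IsIntegralHom F := by
    haveI : IsIntegralHom (pullback.snd f g) := inferInstance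
    infer_instance
  let φ : A ⟶ B := Spec.preimage F
  have hφ : Spec.map φ = F := Spec.map_preimage F
  have hint : φ.hom.IsIntegral := by
    rw [← IsIntegralHom.SpecMap_iff, hφ]
    infer_instance
  have hbir : RadPt.IsBirational (Spec.map φ) := by
    rw [hφ]
    exact Groth.Agent.H20.BiratBC.isBirational_of_isPullback sq hf
  have hgc : g (closedPoint A) = y := Scheme.fromSpecStalk_closedPoint
  have hrad : RadPt.IsRadicialAt f y ↔ RadPt.IsRadicialAt (Spec.map φ) (closedPoint A) := by
    rw [hφ, ← Groth.Agent.H20.RadicialFibre.isRadicialAt_iff_of_isPullback sq (closedPoint A), hgc]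
  have hstalk : ∀ x' : Spec B, CAlg2.IsGeomUnibranch (X.presheaf.stalk (H x')) ↔
      CAlg2.IsGeomUnibranch ((Spec B).presheaf.stalk x') := by
    intro x'
    haveI := Groth.Agent.H24.isIso_stalkMap_of_flat_of_mono H x'
    let ε : X.presheaf.stalk (H x') ≃+* (Spec B).presheaf.stalk x' :=
      (asIso (H.stalkMap x')).commRingCatIsoToRingEquiv
    exact ⟨fun h => Groth.Agent.H13.GUFlatDescent.isGeomUnibranch_of_ringEquiv ε.symm h,
      fun h => Groth.Agent.H13.GUFlatDescent.isGeomUnibranch_of_ringEquiv ε h⟩
  have hpts : (∀ x : X, f x = y → CAlg2.IsGeomUnibranch (X.presheaf.stalk x)) ↔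
      (∀ x' : Spec B, (Spec.map φ) x' = closedPoint A →
        CAlg2.IsGeomUnibranch ((Spec B).presheaf.stalk x')) := by
    constructor
    · intro h x' hx'
      rw [← hstalk]
      apply h
      have h1 : f (H x') = g (F x') := by
        rw [← Scheme.Hom.comp_apply, ← Scheme.Hom.comp_apply, sq.w]
      rw [h1, ← hφ, hx', hgc]
    · intro h x hx
      obtain ⟨z, hz1, hz2⟩ := Scheme.Pullback.exists_preimage_pullback (f := f) (g := g) x
        (closedPoint A) (hx.trans hgc.symm)
      let x' : Spec B := e.hom z
      have hH : H x' = x := by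
        show (e.inv ≫ pullback.fst f g) (e.hom z) = x
        rw [← Scheme.Hom.comp_apply, Iso.hom_inv_id_assoc]
        exact hz1
      have hF : (Spec.map φ) x' = closedPoint A := by
        rw [hφ]
        show (e.inv ≫ pullback.snd f g) (e.hom z) = _
        rw [← Scheme.Hom.comp_apply, Iso.hom_inv_id_assoc]
        exact hz2
      have := (hstalk x').mpr (h x' hF)
      rw [hH] at this
      exact this
  rw [hrad, hpts]
  exact Groth.Agent.H13.RadPtSpec.spec_main φ hint hbir

end Groth.Agent.H13.RadPtMain
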