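import Groth.Agent.H13.AlgClosedTensor
import Mathlib.RingTheory.TensorProduct.Pi
import Mathlib.RingTheory.Ideal.MinimalPrime.Noetherian

/-!
# Reduced ⊗ separable field extension is reduced (helper13)

If `A` is a reduced algebra over a field `k` and `K` is a geometrically reduced (`= separable` in
the sense of EGA) extension field of `k`, then `K ⊗[k] A` is reduced.
-/

set_option autoImplicit false
universe u v w

open TensorProduct

namespace Groth.Agent.H13

section

variable (k : Type u) [Field k]

/-- A reduced Noetherian ring embeds in a finite product of fields. -/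
theorem exists_injective_algHom_pi_field (D : Type v) [CommRing D] [Algebra k D]
    [IsNoetherianRing D] [IsReduced D] :
    ∃ (ι : Type v) (_ : Fintype ι) (_ : DecidableEq ι) (L : ι → Type v) (_ : ∀ i, Field (L i))
      (_ : ∀ i, Algebra k (L i)) (φ : D →ₐ[k] (∀ i, L i)), Function.Injective φ := by
  classical
  have hfin : (minimalPrimes D).Finite := minimalPrimes.finite_of_isNoetherianRing D
  haveI : Fintype (minimalPrimes D) := hfin.fintype
  haveI : ∀ p : minimalPrimes D, p.1.IsPrime := fun p => p.2.1.1
  refine ⟨minimalPrimes D, inferInstance, inferInstance,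
    fun p => FractionRing (D ⧸ p.1), fun p => inferInstance, fun p => inferInstance,
    AlgHom.pi (fun p => (IsScalarTower.toAlgHom k (D ⧸ p.1) (FractionRing (D ⧸ p.1))).comp
      (Ideal.Quotient.mkₐ k p.1)), ?_⟩
  rw [injective_iff_map_eq_zero]
  intro x hx
  have hmem : ∀ p ∈ minimalPrimes D, x ∈ p := by
    intro p hp
    have h1 := congrFun hx ⟨p, hp⟩
    simp only [AlgHom.pi_apply, AlgHom.comp_apply, Ideal.Quotient.mkₐ_eq_mk, Pi.zero_apply,
      IsScalarTower.coe_toAlgHom'] at h1
    haveI : p.IsPrime := hp.1.1
    have h2 : (Ideal.Quotient.mk p x) = 0 :=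
      (IsFractionRing.injective (D ⧸ p) (FractionRing (D ⧸ p))) (h1.trans (map_zero _).symm)
    exact Ideal.Quotient.eq_zero_iff_mem.mp h2
  have h3 : x ∈ sInf (minimalPrimes D) := by
    rw [Submodule.mem_sInf]
    exact hmem
  have h4 : sInf (minimalPrimes D) = (⊥ : Ideal D).radical := Ideal.sInf_minimalPrimes
  rw [h4] at h3
  have h5 : x ∈ nilradical D := h3
  rw [nilradical_eq_zero] at h5
  exact h5

/-- `K ⊗[k] D` is reduced for `D` reduced Noetherian and `K/k` a geometrically reduced field
extension. -/
theorem isReduced_tensorProduct_of_isNoetherianRing (K : Type w) [Field K] [Algebra k K]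
    [Algebra.IsGeometricallyReduced k K] (D : Type v) [CommRing D] [Algebra k D]
    [IsNoetherianRing D] [IsReduced D] : IsReduced (K ⊗[k] D) := by
  obtain ⟨ι, _, _, L, _, _, φ, hφ⟩ := exists_injective_algHom_pi_field k D
  have hinj : Function.Injective (Algebra.TensorProduct.map (AlgHom.id K K) φ) :=
    Module.Flat.lTensor_preserves_injective_linearMap (M := K) φ.toLinearMap hφ
  haveI : ∀ i, IsReduced (K ⊗[k] L i) := fun i => by
    haveI : IsReduced (L i ⊗[k] K) := isReduced_tensorProduct_of_isGeometricallyReduced k K (L i)
    exact isReduced_of_injective (Algebra.TensorProduct.comm k K (L i))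
      (Algebra.TensorProduct.comm k K (L i)).injective
  haveI : IsReduced (∀ i, K ⊗[k] L i) := inferInstance
  haveI : IsReduced (K ⊗[k] (∀ i, L i)) :=
    isReduced_of_injective (Algebra.TensorProduct.piRight k k K L)
      (Algebra.TensorProduct.piRight k k K L).injective
  exact isReduced_of_injective _ hinj

/-- **Reduced ⊗ separable is reduced**: if `A` is a reduced `k`-algebra and `K` a geometrically
reduced field extension of `k`, then `K ⊗[k] A` is reduced. -/
theorem isReduced_tensorProduct_of_isReduced_of_isGeometricallyReduced (K : Type w) [Field K]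
    [Algebra k K] [Algebra.IsGeometricallyReduced k K] (A : Type v) [CommRing A] [Algebra k A]
    [IsReduced A] : IsReduced (K ⊗[k] A) := by
  apply IsReduced.tensorProduct_of_flat_of_forall_fg
  intro D hD
  haveI : Algebra.FiniteType k D := (Subalgebra.fg_iff_finiteType D).mp hD
  haveI : IsNoetherianRing D := Algebra.FiniteType.isNoetherianRing k D
  haveI : IsReduced D := isReduced_of_injective D.val Subtype.val_injective
  exact isReduced_tensorProduct_of_isNoetherianRing k K D

end

end Groth.Agent.H13
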