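import Groth.Agent.H15.StalkLoc
import Groth.Agent.Lead.RegularLocalization
import Groth.Agent.H53.RegularFppf

/-!
# Regularity of local rings of a scheme passes to generizations (helper13; light imports)
-/

set_option autoImplicit false
universe u
open CategoryTheory AlgebraicGeometry

namespace Groth.Agent.H13.RegSpec

/-- Regularity passes to generizations. -/
theorem isRegularLocalRing_stalk_of_specializes {X : Scheme.{u}} {x x' : X} (h : x' ⤳ x)
    (hx : IsRegularLocalRing (X.presheaf.stalk x)) : IsRegularLocalRing (X.presheaf.stalk x') := by
  let _ := (X.presheaf.stalkSpecializes h).hom.toAlgebra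
  have := Groth.Agent.H15.StalkLoc.isLocalization_stalkSpecializes h
  have := Groth.Agent.Lead.RLR.isRegularLocalRing_localization (X.presheaf.stalk x)
    (Groth.Agent.H15.StalkLoc.genPrime h)
  exact IsRegularLocalRing.of_ringEquiv
    (IsLocalization.algEquiv (Groth.Agent.H15.StalkLoc.genPrime h).primeCompl
      (Localization.AtPrime (Groth.Agent.H15.StalkLoc.genPrime h))
      (X.presheaf.stalk x')).toRingEquiv

end Groth.Agent.H13.RegSpec
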