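import Groth.Agent.H13.GenSub
import Groth.Agent.H79.SuppGenericAss
import Groth.Agent.H71.QCoh.SupportProper

/-!
# Removing embedded components of a coherent module (helper13, for S8908)

`K F` is the submodule of sections of `F` whose germs vanish at all generic points of `Supp F`.
It is the largest coherent submodule with support nowhere dense in `Supp F`; the quotient
`G F = F / K F` has the same support, no embedded associated points, and `F → G F` is an
isomorphism over the dense open complement of `Supp (K F)`.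
-/

set_option autoImplicit false
universe u

noncomputable section

namespace Groth.Agent.H13.RemoveEmb

open CategoryTheory CategoryTheory.Limits Opposite TopologicalSpace AlgebraicGeometry
open Groth.Agent.H18 Groth.Agent.H12.SubSheaf Groth.Agent.H12.QCohExt
  Groth.Agent.H12.QCohAbelian Groth.Agent.H13.PrimSub Groth.Agent.H13.GenSub Groth.Agent.H8 Curv2
  Groth.Agent.H5.Stalk

variable {X : Scheme.{u}}

/-- the generic points of the support of `F`. -/
def genPts (F : X.Modules) : Set X :=
  {x | Nontrivial (F.presheaf.stalk x) ∧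
    ∀ y : X, Nontrivial (F.presheaf.stalk y) → y ⤳ x → y = x}

theorem genPts_subset_ass (F : X.Modules) [F.IsQuasicoherent] : genPts F ⊆ AssSch.Ass F :=
  fun x hx => Groth.Agent.H79.SuppGeneric.isAssPoint_of_generic F x hx.1 hx.2

theorem finite_genPts_inter_affine [IsLocallyNoetherian X] (F : X.Modules) (hF : Coh.IsCoh F)
    (U : X.affineOpens) : (genPts F ∩ (U.1 : Set X)).Finite := by
  have : F.IsQuasicoherent := hF.1
  exact (finite_ass_inter_affine F hF U.2).subset
    (Set.inter_subset_inter_left _ (genPts_subset_ass F))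

/-- the stalk at a generic point of the support has finite length: it is killed by a power of the
maximal ideal. -/
theorem exists_pow_smul_top_eq_bot [IsLocallyNoetherian X] (F : X.Modules) (hF : Coh.IsCoh F)
    (x : X) (hgen : ∀ y : X, Nontrivial (F.presheaf.stalk y) → y ⤳ x → y = x) :
    ∃ n : ℕ, (IsLocalRing.maximalIdeal (X.presheaf.stalk x)) ^ n •
      (⊤ : Submodule (X.presheaf.stalk x) (F.presheaf.stalk x)) = ⊥ := by
  have : F.IsQuasicoherent := hF.1
  have hfin : Module.Finite (X.presheaf.stalk x) (F.presheaf.stalk x) :=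
    Groth.Agent.H13.finite_stalk_of_isCoh F hF x
  set R := X.presheaf.stalk x
  set I := Module.annihilator R (F.presheaf.stalk x) with hI
  have hle : IsLocalRing.maximalIdeal R ≤ I.radical := by
    rw [Ideal.radical_eq_sInf]
    refine le_sInf ?_
    rintro q ⟨hIq, hq⟩
    let Q : PrimeSpectrum R := ⟨q, hq⟩
    have hQ : Q ∈ Module.support R (F.presheaf.stalk x) := by
      rw [Module.mem_support_iff_of_finite]
      exact hIq
    have hnt := (Groth.Agent.H79.SuppGeneric.mem_support_stalk_iff F x Q).mp hQ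
    have h1 := hgen _ hnt (fromSpecStalk_specializes x Q)
    have h2 : X.fromSpecStalk x Q = X.fromSpecStalk x (IsLocalRing.closedPoint R) := by
      rw [h1, Scheme.fromSpecStalk_closedPoint]
    have h3 : Q = IsLocalRing.closedPoint R := (X.fromSpecStalk x).isEmbedding.injective h2
    have h4 : q = IsLocalRing.maximalIdeal R := congrArg PrimeSpectrum.asIdeal h3
    rw [h4]
  have hnoeth : IsNoetherianRing R := inferInstance
  obtain ⟨n, hn⟩ := Ideal.exists_pow_le_of_le_radical_of_fg hle
    (IsNoetherian.noetherian (IsLocalRing.maximalIdeal R))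
  refine ⟨n, ?_⟩
  rw [eq_bot_iff, Submodule.smul_le]
  intro r hr z _
  rw [Submodule.mem_bot]
  exact Module.mem_annihilator.mp (hn hr) z


section Main

variable [IsLocallyNoetherian X] (F : X.Modules) (hF : Coh.IsCoh F)

/-- the largest subsheaf with nowhere dense support: sections vanishing at the generic points of
the support. -/
abbrev K : X.Modules := subT F (genPts F)

/-- the inclusion. -/
abbrev Kι : K F ⟶ F := subTι F (genPts F)

/-- the quotient. -/
abbrev G : X.Modules := quotT F (genPts F)

/-- the quotient map. -/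
abbrev Gπ : F ⟶ G F := quotTπ F (genPts F)

include hF in
theorem isQuasicoherent_K : (K F).IsQuasicoherent := by
  have : F.IsQuasicoherent := hF.1
  exact isQuasicoherent_subT F (genPts F) (finite_genPts_inter_affine F hF)
    (fun x hx => exists_pow_smul_top_eq_bot F hF x hx.2)

include hF in
theorem isCoh_K : Coh.IsCoh (K F) := by
  have : F.IsQuasicoherent := hF.1
  have := isQuasicoherent_K F hF
  exact ⟨this, isFiniteType_of_mono (Kι F) hF.2⟩

include hF in
theorem isCoh_G : Coh.IsCoh (G F) := by
  have : F.IsQuasicoherent := hF.1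
  have := isQuasicoherent_K F hF
  have hG : (G F).IsQuasicoherent := isQuasicoherent_cokernel (Kι F)
  exact ⟨hG, Groth.Agent.H12.QCohEpi.isFiniteType_of_epi (Gπ F) hF.2⟩

/-- the stalk of `K` at a generic point of the support vanishes. -/
theorem subsingleton_stalk_K (x : X) (hx : x ∈ genPts F) :
    Subsingleton ((K F).presheaf.stalk x) := by
  refine ⟨fun a b => ?_⟩
  apply stalkFunctor_map_injective_of_mono x (Kι F)
  obtain ⟨U, hxU, s, rfl⟩ := TopCat.Presheaf.exists_germ_eq (K F).presheaf a
  obtain ⟨V, hxV, t, rfl⟩ := TopCat.Presheaf.exists_germ_eq (K F).presheaf b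
  erw [stalkFunctor_map_germ x (Kι F) U hxU s, stalkFunctor_map_germ x (Kι F) V hxV t]
  rw [subTι_app_germ F (genPts F) s x hx hxU, subTι_app_germ F (genPts F) t x hx hxV]

include hF in
theorem exists_genPt_specializes (y : X) (hy : y ∈ CohB1.support F) :
    ∃ x ∈ genPts F, x ⤳ y := by
  obtain ⟨x, hx1, hx2, hx3⟩ := Groth.Agent.H79.SuppGeneric.exists_generic_specializes F hF y
    (not_subsingleton_iff_nontrivial.mp hy)
  exact ⟨x, ⟨hx1, hx3⟩, hx2⟩

theorem genPts_subset_support : genPts F ⊆ CohB1.support F :=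
  fun _ hx => not_subsingleton_iff_nontrivial.mpr hx.1

theorem genPts_disjoint_support_K (x : X) (hx : x ∈ genPts F) : x ∉ CohB1.support (K F) :=
  fun h => h (subsingleton_stalk_K F x hx)

theorem support_eq_union : CohB1.support F = CohB1.support (K F) ∪ CohB1.support (G F) :=
  Groth.Agent.H71.QCoh.support_eq_union_of_shortExact (seqT F (genPts F))
    (seqT_shortExact F (genPts F))

include hF in
theorem support_G : CohB1.support (G F) = CohB1.support F := by
  apply le_antisymm
  · rw [support_eq_union F]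
    exact Set.subset_union_right
  · intro y hy
    obtain ⟨x, hx, hxy⟩ := exists_genPt_specializes F hF y hy
    have h1 : x ∈ CohB1.support F := genPts_subset_support F hx
    rw [support_eq_union F] at h1
    have h2 : x ∈ CohB1.support (G F) := h1.resolve_left (genPts_disjoint_support_K F x hx)
    have hG := isCoh_G F hF
    have : (G F).IsQuasicoherent := hG.1
    have : SheafOfModules.IsFiniteType (R := X.ringCatSheaf) (G F) := hG.2
    exact hxy.mem_closed (Groth.Agent.H71.QCoh.isClosed_support (G F)) h2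

include hF in
/-- the support of `K` is nowhere dense in the support of `F`. -/
theorem nowhereDense_K (U : X.Opens)
    (h : (U : Set X) ∩ CohB1.support F ⊆ CohB1.support (K F)) :
    (U : Set X) ∩ CohB1.support F = ∅ := by
  rw [Set.eq_empty_iff_forall_notMem]
  rintro y ⟨hyU, hyF⟩
  obtain ⟨x, hx, hxy⟩ := exists_genPt_specializes F hF y hyF
  have hxU : x ∈ (U : Set X) := hxy.mem_open U.isOpen hyU
  exact genPts_disjoint_support_K F x hx (h ⟨hxU, genPts_subset_support F hx⟩)

include hF in
/-- a coherent module whose support is nowhere dense in `Supp F` has zero stalks at the generic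
points of `Supp F`. -/
theorem subsingleton_stalk_of_nowhereDense (K' : X.Modules) (hK' : Coh.IsCoh K')
    (hnd : ∀ U : X.Opens, (U : Set X) ∩ CohB1.support F ⊆ CohB1.support K' →
      (U : Set X) ∩ CohB1.support F = ∅)
    (x : X) (hx : x ∈ genPts F) : Subsingleton (K'.presheaf.stalk x) := by
  by_contra hns
  have hxK' : x ∈ CohB1.support K' := hns
  have : K'.IsQuasicoherent := hK'.1
  have : SheafOfModules.IsFiniteType (R := X.ringCatSheaf) K' := hK'.2
  have hcl : IsClosed (CohB1.support K') := Groth.Agent.H71.QCoh.isClosed_support K'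
  obtain ⟨_, ⟨V, hV, rfl⟩, hxV, -⟩ :=
    X.isBasis_affineOpens.exists_subset_of_mem_open (Set.mem_univ x) isOpen_univ
  have hV : IsAffineOpen V := hV
  have hxV : x ∈ V := hxV
  have hfin : ((genPts F ∩ (V : Set X)) \ {x}).Finite :=
    (finite_genPts_inter_affine F hF ⟨V, hV⟩).subset Set.sdiff_subset
  let Z : Set X := ⋃ x' ∈ (genPts F ∩ (V : Set X)) \ {x}, closure {x'}
  have hZ : IsClosed Z := hfin.isClosed_biUnion (fun _ _ => isClosed_closure)
  let U : X.Opens := ⟨(V : Set X) ∩ Zᶜ, V.isOpen.inter hZ.isOpen_compl⟩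
  have hxU : x ∈ (U : Set X) := by
    refine ⟨hxV, ?_⟩
    intro hxZ
    simp only [Z, Set.mem_iUnion] at hxZ
    obtain ⟨x', ⟨⟨hx'g, -⟩, hx'ne⟩, hx'cl⟩ := hxZ
    have h1 : x' ⤳ x := specializes_iff_mem_closure.mpr hx'cl
    exact hx'ne (hx.2 x' hx'g.1 h1)
  have hsub : (U : Set X) ∩ CohB1.support F ⊆ CohB1.support K' := by
    rintro y ⟨⟨hyV, hyZ⟩, hyF⟩
    obtain ⟨x'', hx''g, hx''y⟩ := exists_genPt_specializes F hF y hyF
    have hx''V : x'' ∈ (V : Set X) := hx''y.mem_open V.isOpen hyV
    by_cases hxx : x'' = x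
    · subst hxx
      exact hx''y.mem_closed hcl hxK'
    · exfalso
      apply hyZ
      simp only [Z, Set.mem_iUnion]
      exact ⟨x'', ⟨⟨hx''g, hx''V⟩, hxx⟩, specializes_iff_mem_closure.mp hx''y⟩
  have h0 := hnd U hsub
  have : x ∈ (U : Set X) ∩ CohB1.support F := ⟨hxU, genPts_subset_support F hx⟩
  rw [h0] at this
  exact this

include hF in
/-- `K` is the largest coherent submodule with nowhere dense support. -/
theorem exists_lift (K' : X.Modules) (k : K' ⟶ F) (hK' : Coh.IsCoh K')
    (hnd : ∀ U : X.Opens, (U : Set X) ∩ CohB1.support F ⊆ CohB1.support K' →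
      (U : Set X) ∩ CohB1.support F = ∅) :
    ∃ l : K' ⟶ K F, l ≫ Kι F = k := by
  have hk0 : k ≫ Gπ F = 0 := by
    apply Scheme.Modules.hom_ext
    intro W
    apply AddCommGrpCat.hom_ext
    apply AddMonoidHom.ext
    intro t
    change (Gπ F).app W (k.app W t) = 0
    rw [quotTπ_app_eq_zero_iff]
    intro x hx hxW
    have hsub := subsingleton_stalk_of_nowhereDense F hF K' hK' hnd x hx
    have h1 := stalkFunctor_map_germ x k W hxW t
    rw [← h1, Subsingleton.elim (K'.presheaf.germ W x hxW t) 0]
    exact map_zero ((stalkFunctor x).map k).hom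
  have : Mono (seqT F (genPts F)).f := inferInstanceAs (Mono (subTι F (genPts F)))
  exact ⟨(seqT_shortExact F (genPts F)).exact.lift k hk0,
    (seqT_shortExact F (genPts F)).exact.lift_f k hk0⟩

include hF in
set_option backward.isDefEq.respectTransparency false in
/-- the associated points of `F / K` are generic points of the support of `F`. -/
theorem ass_G_subset_genPts : AssSch.Ass (G F) ⊆ genPts F := by
  intro y hy
  have hFq : F.IsQuasicoherent := hF.1
  have hG := isCoh_G F hF
  have hGq : (G F).IsQuasicoherent := hG.1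
  have hy' : IsAssPoint (G F) y := hy
  obtain ⟨_, ⟨V, hV, rfl⟩, hyV, -⟩ :=
    X.isBasis_affineOpens.exists_subset_of_mem_open (Set.mem_univ y) isOpen_univ
  have hV : IsAffineOpen V := hV
  have hyV : y ∈ V := hyV
  have hass := hy'
  rw [isAssPoint_iff_isWeakAssPoint,
    Groth.Agent.H13.isWeakAssPoint_iff_mem_associatedPrimes (G F) hV hyV] at hass
  have : IsNoetherianRing Γ(X, V) := IsLocallyNoetherian.component_noetherian ⟨V, hV⟩
  obtain ⟨hprime, sbar, hsbar⟩ := isAssociatedPrime_iff.mp hass
  obtain ⟨s, hs⟩ := Groth.Agent.H12.QCohEpi.app_surjective_of_epi (Gπ F) hV sbar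
  have hne : sbar ≠ 0 := by
    rintro rfl
    apply hprime.ne_top
    rw [hsbar, Ideal.eq_top_iff_one, Submodule.mem_colon_singleton, one_smul]
    exact Submodule.zero_mem _
  have hex : ∃ x ∈ genPts F, ∃ h : x ∈ V, F.presheaf.germ V x h s ≠ 0 := by
    by_contra hcon
    push Not at hcon
    apply hne
    rw [← hs]
    exact (quotTπ_app_eq_zero_iff F (genPts F) s).mpr hcon
  obtain ⟨x, hxg, hxV, hxs⟩ := hex
  have hle : (hV.primeIdealOf ⟨y, hyV⟩).asIdeal ≤ (hV.primeIdealOf ⟨x, hxV⟩).asIdeal := by
    intro r hr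
    rw [hsbar, Submodule.mem_colon_singleton, Submodule.mem_bot] at hr
    have h1 : (Gπ F).app V (r • s) = 0 := by
      rw [Scheme.Modules.Hom.app_smul, hs]
      exact hr
    have h2 := (quotTπ_app_eq_zero_iff F (genPts F) (r • s)).mp h1 x hxg hxV
    rw [Groth.Agent.H5.Stalk.germ_smul] at h2
    rw [mem_primeIdealOf_iff_germ_mem hV r hxV, IsLocalRing.mem_maximalIdeal, mem_nonunits_iff]
    intro hu
    apply hxs
    obtain ⟨u, hu'⟩ := hu
    have h3 : ((u⁻¹ : (X.presheaf.stalk x)ˣ) : X.presheaf.stalk x) •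
        ((X.presheaf.germ V x hxV r) • (F.presheaf.germ V x hxV s)) = 0 := by
      rw [h2, smul_zero]
    rw [← hu', smul_smul, Units.inv_mul, one_smul] at h3
    exact h3
  have hyx : y ⤳ x := by
    have h1 : hV.primeIdealOf ⟨y, hyV⟩ ⤳ hV.primeIdealOf ⟨x, hxV⟩ :=
      (PrimeSpectrum.le_iff_specializes _ _).mp hle
    have h2 := h1.map hV.fromSpec.continuous
    rw [hV.fromSpec_primeIdealOf ⟨y, hyV⟩, hV.fromSpec_primeIdealOf ⟨x, hxV⟩] at h2
    exact h2
  have hyG : Nontrivial ((G F).presheaf.stalk y) :=
    Groth.Agent.H79.SuppGeneric.nontrivial_stalk_of_isAssPoint (G F) y hy'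
  have hyF : y ∈ CohB1.support F := by
    rw [← support_G F hF]
    exact not_subsingleton_iff_nontrivial.mpr hyG
  have hyx' : y = x := hxg.2 y (not_subsingleton_iff_nontrivial.mp hyF) hyx
  rw [hyx']
  exact hxg

include hF in
theorem noEmbedded_G (x : X) (hx : IsAssPoint (G F) x) (y : X) (hy : IsAssPoint (G F) y)
    (hyx : y ⤳ x) : y = x := by
  have hxg := ass_G_subset_genPts F hF hx
  have hyg := ass_G_subset_genPts F hF hy
  exact hxg.2 y hyg.1 hyx

include hF in
/-- `F → F / K` is an isomorphism over the dense open complement of `Supp K`. -/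
theorem exists_dense_open_iso :
    ∃ U : X.Opens, Dense (U : Set X) ∧
      CohB1.support F ⊆ closure ((U : Set X) ∩ CohB1.support F) ∧
      IsIso ((Scheme.Modules.restrictFunctor U.ι).map (Gπ F)) := by
  have hFq : F.IsQuasicoherent := hF.1
  have hK := isCoh_K F hF
  have hKq : (K F).IsQuasicoherent := hK.1
  have hKft : SheafOfModules.IsFiniteType (R := X.ringCatSheaf) (K F) := hK.2
  have hGq : (G F).IsQuasicoherent := (isCoh_G F hF).1
  have hcl : IsClosed (CohB1.support (K F)) := Groth.Agent.H71.QCoh.isClosed_support (K F)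
  let U : X.Opens := ⟨(CohB1.support (K F))ᶜ, hcl.isOpen_compl⟩
  have hKF : CohB1.support (K F) ⊆ CohB1.support F := by
    rw [support_eq_union F]; exact Set.subset_union_left
  refine ⟨U, ?_, ?_, ?_⟩
  · change Dense (CohB1.support (K F))ᶜ
    rw [← interior_eq_empty_iff_dense_compl]
    let W : X.Opens := ⟨interior (CohB1.support (K F)), isOpen_interior⟩
    have h1 : (W : Set X) ∩ CohB1.support F ⊆ CohB1.support (K F) :=
      fun y hy => interior_subset hy.1
    have h2 := nowhereDense_K F hF W h1
    rw [Set.eq_empty_iff_forall_notMem] at h2 ⊢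
    intro y hy
    exact h2 y ⟨hy, hKF (interior_subset hy)⟩
  · intro y hy
    obtain ⟨x, hx, hxy⟩ := exists_genPt_specializes F hF y hy
    have h1 : x ∈ (U : Set X) ∩ CohB1.support F :=
      ⟨genPts_disjoint_support_K F x hx, genPts_subset_support F hx⟩
    exact closure_mono (Set.singleton_subset_iff.mpr h1) (specializes_iff_mem_closure.mp hxy)
  · have h1 : ((Scheme.Modules.restrictFunctor U.ι).obj F).IsQuasicoherent :=
      Scheme.Modules.isQuasicoherent_restrictFunctor U.ι F
    have h2 : ((Scheme.Modules.restrictFunctor U.ι).obj (G F)).IsQuasicoherent :=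
      Scheme.Modules.isQuasicoherent_restrictFunctor U.ι (G F)
    refine Groth.Agent.H12.QCohIso.isIso_of_bijective_on_cover
      ((Scheme.Modules.restrictFunctor U.ι).map (Gπ F))
      (fun V : (U : Scheme.{u}).affineOpens => V.1) ?_ (fun V => V.2) ?_
    · intro x
      obtain ⟨_, ⟨V, hV, rfl⟩, hxV, -⟩ :=
        (U : Scheme.{u}).isBasis_affineOpens.exists_subset_of_mem_open (Set.mem_univ x) isOpen_univ
      exact ⟨⟨V, hV⟩, hxV⟩
    · intro V
      change Function.Bijective ((Gπ F).app (U.ι ''ᵁ V.1))
      have hW : IsAffineOpen (U.ι ''ᵁ V.1) := V.2.image_of_isOpenImmersion U.ι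
      have hWU : ∀ y ∈ U.ι ''ᵁ V.1, y ∉ CohB1.support (K F) := by
        rintro y ⟨v, -, rfl⟩
        exact v.2
      refine ⟨?_, Groth.Agent.H12.QCohEpi.app_surjective_of_epi (Gπ F) hW⟩
      rw [injective_iff_map_eq_zero]
      intro s hs
      obtain ⟨t, ht⟩ := exists_subTι_app_eq F (genPts F) s
        ((quotTπ_app_eq_zero_iff F (genPts F) s).mp hs)
      have ht0 : t = 0 := by
        apply section_eq_zero_of_germ_eq_zero (K F) t
        intro y _ hyW
        have : Subsingleton ((K F).presheaf.stalk y) := not_not.mp (hWU y hyW)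
        exact Subsingleton.elim _ _
      rw [← ht, ht0, map_zero]

end Main

section Iso

theorem support_subset_of_mono {M N : X.Modules} (f : M ⟶ N) [Mono f] :
    CohB1.support M ⊆ CohB1.support N := by
  intro x hx hN
  apply hx
  have hinj := stalkFunctor_map_injective_of_mono x f
  have : Subsingleton ((stalkFunctor x).obj N) := hN
  exact hinj.subsingleton

theorem support_eq_of_iso {M N : X.Modules} (e : M ≅ N) : CohB1.support M = CohB1.support N :=
  Set.Subset.antisymm (support_subset_of_mono e.hom) (support_subset_of_mono e.inv)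

theorem isCoh_of_iso {M N : X.Modules} (e : M ≅ N) (h : Coh.IsCoh M) : Coh.IsCoh N := by
  have : M.IsQuasicoherent := h.1
  have hN : N.IsQuasicoherent := Groth.Agent.H12.QCohAbelian.isQuasicoherent_of_iso e
  have : IsIso e.hom := inferInstance
  exact ⟨hN, Groth.Agent.H12.QCohEpi.isFiniteType_of_epi e.hom h.2⟩

theorem isAssPoint_iff_of_iso {M N : X.Modules} (e : M ≅ N) (x : X) :
    IsAssPoint M x ↔ IsAssPoint N x :=
  LinearEquiv.isAssociatedPrime_iff ((stalkFunctor x).mapIso e).toLinearEquiv

end Iso

/-- **Removing embedded components** (the statement of S8908). -/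
theorem exists_max_nowhereDense_subobject [IsLocallyNoetherian X] (F : X.Modules)
    (hF : Coh.IsCoh F) :
    ∃ K : Subobject F, Coh.IsCoh (K : X.Modules) ∧
      (∀ U : X.Opens, (U : Set ↥X) ∩ CohB1.support F ⊆ CohB1.support (K : X.Modules) →
        (U : Set ↥X) ∩ CohB1.support F = ∅) ∧
      (∀ K' : Subobject F, Coh.IsCoh (K' : X.Modules) →
        (∀ U : X.Opens, (U : Set ↥X) ∩ CohB1.support F ⊆ CohB1.support (K' : X.Modules) →
          (U : Set ↥X) ∩ CohB1.support F = ∅) →
        K' ≤ K) ∧
      CohB1.support (cokernel K.arrow) = CohB1.support F ∧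
      (∀ x : ↥X, Curv2.IsAssPoint (cokernel K.arrow) x →
        ∀ y : ↥X, Curv2.IsAssPoint (cokernel K.arrow) y → y ⤳ x → y = x) ∧
      ∃ U : X.Opens, Dense (U : Set ↥X) ∧
        CohB1.support F ⊆ closure ((U : Set ↥X) ∩ CohB1.support F) ∧
        IsIso ((Scheme.Modules.restrictFunctor U.ι).map (cokernel.π K.arrow)) := by
  let Ks : Subobject F := Subobject.mk (Kι F)
  let e : (Ks : X.Modules) ≅ K F := Subobject.underlyingIso (Kι F)
  have he : e.hom ≫ Kι F = Ks.arrow := Subobject.underlyingIso_hom_comp_eq_mk (Kι F)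
  let c : cokernel Ks.arrow ≅ G F :=
    cokernel.mapIso Ks.arrow (Kι F) e (Iso.refl F) (by rw [Iso.refl_hom, Category.comp_id, he])
  have hc : cokernel.π Ks.arrow ≫ c.hom = Gπ F := by
    have h1 : c.hom = cokernel.map Ks.arrow (Kι F) e.hom (Iso.refl F).hom
        (by rw [Iso.refl_hom, Category.comp_id, he]) := rfl
    rw [h1]
    exact (cokernel.π_desc _ _ _).trans (Category.id_comp _)
  have hc' : cokernel.π Ks.arrow = Gπ F ≫ c.inv := by
    rw [← hc, Category.assoc, Iso.hom_inv_id, Category.comp_id]
  refine ⟨Ks, isCoh_of_iso e.symm (isCoh_K F hF), ?_, ?_, ?_, ?_, ?_⟩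
  · intro U hU
    rw [support_eq_of_iso e] at hU
    exact nowhereDense_K F hF U hU
  · intro K' hK' hnd
    obtain ⟨l, hl⟩ := exists_lift F hF (K' : X.Modules) K'.arrow hK' hnd
    exact Subobject.le_mk_of_comm l hl
  · rw [support_eq_of_iso c]
    exact support_G F hF
  · intro x hx y hy hyx
    exact noEmbedded_G F hF x ((isAssPoint_iff_of_iso c x).mp hx) y
      ((isAssPoint_iff_of_iso c y).mp hy) hyx
  · obtain ⟨U, hU1, hU2, hU3⟩ := exists_dense_open_iso F hF
    refine ⟨U, hU1, hU2, ?_⟩
    rw [hc', Functor.map_comp]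
    infer_instance

end Groth.Agent.H13.RemoveEmb
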