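import Mathlib
import Groth.Agent.H20.EtaleAtStalk

/-!
# Stalk maps to a prescribed point, and elementary étale neighbourhoods on stalks
-/

set_option autoImplicit false
set_option linter.style.haveILetI false
set_option linter.unusedSectionVars false
set_option linter.unusedVariables false
universe u

namespace Groth.Agent.H13.StalkMapTo

open AlgebraicGeometry CategoryTheory IsLocalRing

/-- the stalk map of `g` at `u`, with source the stalk at a prescribed point `y = g u`. -/
noncomputable def stalkMapTo {U Y : Scheme.{u}} (g : U ⟶ Y) (u : U) (y : Y) (h : g u = y) :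
    Y.presheaf.stalk y →+* U.presheaf.stalk u :=
  (g.stalkMap u).hom.comp (Y.presheaf.stalkCongr (Inseparable.of_eq h)).inv.hom

theorem stalkMapTo_apply {U Y : Scheme.{u}} (g : U ⟶ Y) (u : U) (y : Y) (h : g u = y)
    (b : Y.presheaf.stalk y) :
    stalkMapTo g u y h b =
      (g.stalkMap u).hom ((Y.presheaf.stalkCongr (Inseparable.of_eq h)).inv.hom b) := rfl

theorem stalkMapTo_rfl {U Y : Scheme.{u}} (g : U ⟶ Y) (u : U) :
    stalkMapTo g u (g u) rfl = (g.stalkMap u).hom := by
  ext b
  simp [stalkMapTo, TopCat.Presheaf.stalkCongr]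

instance isLocalHom_stalkMapTo {U Y : Scheme.{u}} (g : U ⟶ Y) (u : U) (y : Y) (h : g u = y) :
    IsLocalHom (stalkMapTo g u y h) := by
  subst h
  rw [stalkMapTo_rfl]
  infer_instance

theorem stalkMapTo_comp {U' U Y : Scheme.{u}} (j : U' ⟶ U) (g : U ⟶ Y) (u' : U') (u : U) (y : Y)
    (hj : j u' = u) (hg : g u = y) (h : (j ≫ g) u' = y) :
    stalkMapTo (j ≫ g) u' y h = (stalkMapTo j u' u hj).comp (stalkMapTo g u y hg) := by
  subst hj
  subst hg
  have h1 : stalkMapTo (j ≫ g) u' (g (j u')) h = ((j ≫ g).stalkMap u').hom :=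
    stalkMapTo_rfl (j ≫ g) u'
  rw [h1, stalkMapTo_rfl, stalkMapTo_rfl, Scheme.Hom.stalkMap_comp]
  rfl

/-- residue-surjectivity of a ring map between local rings. -/
def RS {A A' : Type*} [CommRing A] [CommRing A'] [IsLocalRing A'] (ρ : A →+* A') : Prop :=
  ∀ a' : A', ∃ a : A, a' - ρ a ∈ maximalIdeal A'

theorem RS.comp {A A' A'' : Type*} [CommRing A] [CommRing A'] [CommRing A''] [IsLocalRing A']
    [IsLocalRing A''] {ρ : A →+* A'} (h : RS ρ) (σ : A' →+* A'') [IsLocalHom σ]
    (hσ : Function.Surjective σ) : RS (σ.comp ρ) := by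
  intro a''
  obtain ⟨a', rfl⟩ := hσ a''
  obtain ⟨a, ha⟩ := h a'
  refine ⟨a, ?_⟩
  rw [RingHom.comp_apply, ← map_sub]
  exact IsLocalRing.map_maximalIdeal_le σ (Ideal.mem_map_of_mem _ ha)

theorem bijective_residueFieldMap_iff {U Y : Scheme.{u}} (g : U ⟶ Y) (u : U) :
    Function.Bijective (g.residueFieldMap u) ↔ RS (g.stalkMap u).hom := by
  have hinj : Function.Injective (g.residueFieldMap u) :=
    (g.residueFieldMap u).hom.injective
  constructor
  · rintro ⟨-, hs⟩ a'
    obtain ⟨k, hk⟩ := hs (IsLocalRing.residue _ a')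
    obtain ⟨a, rfl⟩ := IsLocalRing.residue_surjective k
    refine ⟨a, ?_⟩
    have h1 : IsLocalRing.residue _ ((g.stalkMap u).hom a) = IsLocalRing.residue _ a' := hk
    rw [← IsLocalRing.residue_eq_zero_iff, map_sub, h1, sub_self]
  · intro h
    refine ⟨hinj, fun k => ?_⟩
    obtain ⟨a', rfl⟩ := IsLocalRing.residue_surjective k
    obtain ⟨a, ha⟩ := h a'
    refine ⟨IsLocalRing.residue _ a, ?_⟩
    change IsLocalRing.residue _ ((g.stalkMap u).hom a) = IsLocalRing.residue _ a'
    rw [← sub_eq_zero, ← map_sub, IsLocalRing.residue_eq_zero_iff, ← neg_sub]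
    exact neg_mem ha

theorem bijective_residueFieldMap_iff' {U Y : Scheme.{u}} (g : U ⟶ Y) (u : U) (y : Y)
    (h : g u = y) : Function.Bijective (g.residueFieldMap u) ↔ RS (stalkMapTo g u y h) := by
  subst h
  rw [stalkMapTo_rfl]
  exact bijective_residueFieldMap_iff g u

/-- the stalk-level properties of an elementary étale neighbourhood. -/
theorem of_etale {U X : Scheme.{u}} [IsLocallyNoetherian X] (e : U ⟶ X) [Etale e] (u : U) (x : X)
    (h : e u = x) (hres : Function.Bijective (e.residueFieldMap u)) :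
    (stalkMapTo e u x h).Flat ∧
      (maximalIdeal (X.presheaf.stalk x)).map (stalkMapTo e u x h) =
        maximalIdeal (U.presheaf.stalk u) ∧ RS (stalkMapTo e u x h) := by
  subst h
  rw [stalkMapTo_rfl]
  have h1 := (Groth.Agent.H20.exists_etale_nhd_iff_stalkMap e u).mp
    ⟨⊤, trivial, inferInstance⟩
  exact ⟨h1.1, h1.2.1, (bijective_residueFieldMap_iff e u).mp hres⟩

/-- conversely: flat + unramified with trivial residue extension gives an étale neighbourhood. -/
theorem exists_etale_nhd {U Y : Scheme.{u}} [IsLocallyNoetherian Y] (f : U ⟶ Y)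
    [LocallyOfFiniteType f] (u : U) (y : Y) (h : f u = y)
    (hfl : (stalkMapTo f u y h).Flat)
    (hm : (maximalIdeal (Y.presheaf.stalk y)).map (stalkMapTo f u y h) =
      maximalIdeal (U.presheaf.stalk u))
    (hrs : RS (stalkMapTo f u y h)) :
    ∃ V : U.Opens, u ∈ V ∧ Etale (V.ι ≫ f) := by
  subst h
  rw [stalkMapTo_rfl] at hfl hm hrs
  refine (Groth.Agent.H20.exists_etale_nhd_iff_stalkMap f u).mpr ⟨hfl, hm, ?_⟩
  have hb := (bijective_residueFieldMap_iff f u).mpr hrs
  letI := (f.residueFieldMap u).hom.toAlgebra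
  have hb' : Function.Bijective (algebraMap (Y.residueField (f u)) (U.residueField u)) := hb
  let E : Y.residueField (f u) ≃ₐ[Y.residueField (f u)] U.residueField u :=
    AlgEquiv.ofBijective (Algebra.ofId _ _) hb'
  exact ⟨Module.Finite.equiv E.toLinearEquiv, Algebra.IsSeparable.of_algHom _ _ E.symm.toAlgHom⟩

end Groth.Agent.H13.StalkMapTo
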