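import Mathlib
import Groth.Agent.H13.ComplIsoEtale3
import Groth.Agent.H13.StalkMapTo

/-!
# S7203 from the output of S7202
-/

set_option autoImplicit false
set_option linter.style.haveILetI false
set_option linter.unusedSectionVars false
set_option linter.unusedVariables false
universe u

namespace Groth.Agent.H13.S7203Main

open AlgebraicGeometry CategoryTheory IsLocalRing Groth.Agent.H13.StalkMapTo

theorem stalkMapTo_bijective_of_isOpenImmersion {U' U : Scheme.{u}} (j : U' ⟶ U)
    [IsOpenImmersion j] (u' : U') (u : U) (h : j u' = u) :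
    Function.Bijective (stalkMapTo j u' u h) := by
  subst h
  rw [stalkMapTo_rfl]
  exact (ConcreteCategory.isIso_iff_bijective (j.stalkMap u')).mp inferInstance

theorem main {X Y S : Scheme.{u}} [IsLocallyNoetherian S] (p : X ⟶ S) (q : Y ⟶ S)
    [LocallyOfFiniteType p] [LocallyOfFiniteType q] (x : X) (y : Y)
    (φ : AdicCompletion (maximalIdeal (Y.presheaf.stalk y)) (Y.presheaf.stalk y) ≃+*
      AdicCompletion (maximalIdeal (X.presheaf.stalk x)) (X.presheaf.stalk x))
    (N : ℕ) (hN : 1 ≤ N)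
    (U : Scheme.{u}) (e : U ⟶ X) (u : U) (heu : e u = x) (f : U ⟶ Y) (hfu : f u = y)
    (hEt : Etale e) (hres : Function.Bijective (e.residueFieldMap u)) (hcomm : f ≫ q = e ≫ p)
    (Hag : ∀ (b : Y.presheaf.stalk y) (c : X.presheaf.stalk x),
      AdicCompletion.evalₐ (maximalIdeal (X.presheaf.stalk x)) (N + 1)
          (φ (algebraMap (Y.presheaf.stalk y)
            (AdicCompletion (maximalIdeal (Y.presheaf.stalk y)) (Y.presheaf.stalk y)) b)) =
        Ideal.Quotient.mk (maximalIdeal (X.presheaf.stalk x) ^ (N + 1)) c →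
      Ideal.Quotient.mk (maximalIdeal (U.presheaf.stalk u) ^ (N + 1)) (stalkMapTo f u y hfu b) =
        Ideal.Quotient.mk (maximalIdeal (U.presheaf.stalk u) ^ (N + 1))
          (stalkMapTo e u x heu c)) :
    ∃ (U' : Scheme.{u}) (u' : U') (e' : U' ⟶ X) (heu' : e' u' = x) (f' : U' ⟶ Y)
      (hfu' : f' u' = y),
      Etale e' ∧ Function.Bijective (e'.residueFieldMap u') ∧ Etale f' ∧
      Function.Bijective (f'.residueFieldMap u') ∧ f' ≫ q = e' ≫ p ∧
      ∀ (b : AdicCompletion (maximalIdeal (Y.presheaf.stalk y)) (Y.presheaf.stalk y))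
        (cY : Y.presheaf.stalk y) (cX : X.presheaf.stalk x),
        AdicCompletion.evalₐ (maximalIdeal (Y.presheaf.stalk y)) N b =
          Ideal.Quotient.mk (maximalIdeal (Y.presheaf.stalk y) ^ N) cY →
        AdicCompletion.evalₐ (maximalIdeal (X.presheaf.stalk x)) N (φ b) =
          Ideal.Quotient.mk (maximalIdeal (X.presheaf.stalk x) ^ N) cX →
        Ideal.Quotient.mk (maximalIdeal (U'.presheaf.stalk u') ^ N) (stalkMapTo f' u' y hfu' cY) =
          Ideal.Quotient.mk (maximalIdeal (U'.presheaf.stalk u') ^ N)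
            (stalkMapTo e' u' x heu' cX) := by
  haveI : IsLocallyNoetherian X := LocallyOfFiniteType.isLocallyNoetherian p
  haveI : IsLocallyNoetherian Y := LocallyOfFiniteType.isLocallyNoetherian q
  haveI := hEt
  haveI : LocallyOfFiniteType e := inferInstance
  haveI : IsLocallyNoetherian U := LocallyOfFiniteType.isLocallyNoetherian e
  obtain ⟨hεfl, hεm, hεrs⟩ := of_etale e u x heu hres
  have hα : (maximalIdeal (Y.presheaf.stalk y)).map (stalkMapTo f u y hfu) ≤
      maximalIdeal (U.presheaf.stalk u) := IsLocalRing.map_maximalIdeal_le _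
  obtain ⟨hαfl, hαm, hαrs⟩ := Groth.Agent.H13.ComplIsoEtale.main (stalkMapTo f u y hfu)
    (stalkMapTo e u x heu) φ hα hεfl hεm hεrs (N + 1) (by omega) Hag
  haveI : LocallyOfFiniteType f := by
    haveI : LocallyOfFiniteType (f ≫ q) := by rw [hcomm]; infer_instance
    exact locallyOfFiniteType_of_comp f q
  obtain ⟨V, huV, hVet⟩ := exists_etale_nhd f u y hfu hαfl hαm hαrs
  have hι : V.ι (⟨u, huV⟩ : V) = u := rfl
  have heu' : (V.ι ≫ e) (⟨u, huV⟩ : V) = x := heu
  have hfu' : (V.ι ≫ f) (⟨u, huV⟩ : V) = y := hfu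
  have hbij := stalkMapTo_bijective_of_isOpenImmersion V.ι (⟨u, huV⟩ : V) u hι
  have hce := stalkMapTo_comp V.ι e (⟨u, huV⟩ : V) u x hι heu heu'
  have hcf := stalkMapTo_comp V.ι f (⟨u, huV⟩ : V) u y hι hfu hfu'
  refine ⟨V, ⟨u, huV⟩, V.ι ≫ e, heu', V.ι ≫ f, hfu', inferInstance, ?_, hVet, ?_, ?_, ?_⟩
  · rw [bijective_residueFieldMap_iff' _ _ x heu', hce]
    exact hεrs.comp _ hbij.2
  · rw [bijective_residueFieldMap_iff' _ _ y hfu', hcf]
    exact RS.comp (ρ := stalkMapTo f u y hfu) hαrs _ hbij.2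
  · rw [Category.assoc, Category.assoc, hcomm]
  · intro b cY cX h1 h2
    have hag := Groth.Agent.H13.ComplIsoEtale.agree (stalkMapTo f u y hfu)
      (stalkMapTo e u x heu) φ hα hεm.le N Hag b cY cX h1 h2
    rw [hce, hcf, RingHom.comp_apply, RingHom.comp_apply, Ideal.Quotient.eq, ← map_sub]
    have h3 : stalkMapTo V.ι (⟨u, huV⟩ : V) u hι
        (stalkMapTo f u y hfu cY - stalkMapTo e u x heu cX) ∈
        (maximalIdeal (U.presheaf.stalk u) ^ N).map (stalkMapTo V.ι (⟨u, huV⟩ : V) u hι) :=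
      Ideal.mem_map_of_mem _ hag
    rw [Ideal.map_pow] at h3
    exact Ideal.pow_right_mono (IsLocalRing.map_maximalIdeal_le _) N h3

end Groth.Agent.H13.S7203Main
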