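import Mathlib
import Groth.Prelude.Def_Found
import Groth.Prelude.Def_Hensel
import Groth.Agent.H13.AdicFSCompl
import Groth.Agent.H13.EtFibreDescent
import Groth.Agent.H14.HensProp.Strict
import Groth.Agent.H72.AndreMain
import Groth.Agent.H72.HensGRing
import Groth.Agent.H72.FormalEquidim
import Groth.Agent.H57.GRingMax
import Groth.Agent.H26.RegHomComp
import Groth.Agent.S2038
import Groth.Agent.S0600

/-!
# The strict henselization of a Noetherian local G-ring is a G-ring
-/

set_option autoImplicit false
set_option linter.style.haveILetI false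
universe u

open IsLocalRing TensorProduct

namespace Groth.Agent.H13.SHGRing

set_option backward.isDefEq.respectTransparency false in
theorem isGRing_strictHenselization {R S : Type u} [CommRing R] [IsLocalRing R]
    [IsNoetherianRing R] (hR : CAlg.IsGRing R) [CommRing S] [IsLocalRing S] [Algebra R S]
    [IsLocalHom (algebraMap R S)] [hS : Hensel.IsStrictHenselization R S] : CAlg.IsGRing S := by
  haveI hNS : IsNoetherianRing S := (Groth.Agent.H14.HensProp.strict_package R S).1
  have hU : ∀ x : S, Groth.Agent.H14.HensProp.InEtImage R S {x} :=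
    Groth.Agent.H14.HensProp.inEtImage_of_isStrictHenselization R S
  haveI hff : Module.FaithfullyFlat R S := Groth.Agent.H3.SH.faithfullyFlat R hS
  have hm : (maximalIdeal R).map (algebraMap R S) = maximalIdeal S :=
    Groth.Agent.H3.SH.map_maximalIdeal_eq_of_isStrictHenselization R hS
  -- `R → S` is regular, hence adically formally smooth
  have hRS : CAlg.IsRegularHom R S := Groth.Agent.H72.HensGRing.isRegularHom_of_inEtImage R S hU
  have hfsRS : CAlgX.IsAdicFormallySmooth R S (maximalIdeal S) :=
    Groth.Agent.S2038.result.mp ⟨inferInstance, (hRS.2 (maximalIdeal R)).2⟩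
  -- the completions
  haveI := Groth.Agent.H72.FormalEquidim.isLocalRing_compl R
  haveI := Groth.Agent.H72.FormalEquidim.isNoetherianRing_compl R
  haveI := Groth.Agent.H72.FormalEquidim.isLocalHom_compl R
  haveI := Groth.Agent.H72.FormalEquidim.isLocalRing_compl S
  haveI := Groth.Agent.H72.FormalEquidim.isNoetherianRing_compl S
  haveI := Groth.Agent.H72.FormalEquidim.isLocalHom_compl S
  haveI : IsAdicComplete (maximalIdeal (AdicCompletion (maximalIdeal R) R))
      (AdicCompletion (maximalIdeal R) R) :=
    AdicCompletion.isAdicComplete_of_fg (maximalIdeal R).fg_of_isNoetherianRing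
  haveI : IsAdicComplete (maximalIdeal (AdicCompletion (maximalIdeal S) S))
      (AdicCompletion (maximalIdeal S) S) :=
    AdicCompletion.isAdicComplete_of_fg (maximalIdeal S).fg_of_isNoetherianRing
  letI algRhSh : Algebra (AdicCompletion (maximalIdeal R) R) (AdicCompletion (maximalIdeal S) S) :=
    (FSch.complMap (maximalIdeal R) (maximalIdeal S) (algebraMap R S) (le_of_eq hm)).toAlgebra
  have hcompat : ∀ a : R, algebraMap (AdicCompletion (maximalIdeal R) R)
      (AdicCompletion (maximalIdeal S) S) (algebraMap R (AdicCompletion (maximalIdeal R) R) a) =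
      algebraMap S (AdicCompletion (maximalIdeal S) S) (algebraMap R S a) := fun a =>
    Groth.Agent.H20.complMap_of (maximalIdeal R) (maximalIdeal S) (algebraMap R S) (le_of_eq hm) a
  have hfs0 := Groth.Agent.H13.AdicFSCompl.isAdicFormallySmooth_compl (maximalIdeal R)
    (maximalIdeal S) (maximalIdeal R).fg_of_isNoetherianRing (maximalIdeal S).fg_of_isNoetherianRing
    (le_of_eq hm) hcompat hfsRS
  have hmS : maximalIdeal (AdicCompletion (maximalIdeal S) S) =
      (maximalIdeal S).map (algebraMap S (AdicCompletion (maximalIdeal S) S)) :=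
    Groth.Agent.Lead.RLR.maximalIdeal_adicCompletion_eq_map S _ (maximalIdeal.isMaximal S).ne_top
  have hmR : maximalIdeal (AdicCompletion (maximalIdeal R) R) =
      (maximalIdeal R).map (algebraMap R (AdicCompletion (maximalIdeal R) R)) :=
    Groth.Agent.Lead.RLR.maximalIdeal_adicCompletion_eq_map R _ (maximalIdeal.isMaximal R).ne_top
  rw [← hmS] at hfs0
  haveI hlocRhSh : IsLocalHom (algebraMap (AdicCompletion (maximalIdeal R) R)
      (AdicCompletion (maximalIdeal S) S)) := by
    have hle : (maximalIdeal (AdicCompletion (maximalIdeal R) R)).map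
        (algebraMap (AdicCompletion (maximalIdeal R) R) (AdicCompletion (maximalIdeal S) S)) ≤
        maximalIdeal (AdicCompletion (maximalIdeal S) S) := by
      rw [hmR, Ideal.map_map, hmS, Ideal.map_le_iff_le_comap]
      intro a ha
      rw [Ideal.mem_comap, RingHom.comp_apply, hcompat]
      apply Ideal.mem_map_of_mem
      have := Ideal.mem_map_of_mem (algebraMap R S) ha
      rwa [hm] at this
    exact ((local_hom_TFAE _).out 0 2).mpr hle
  have hreg1 : CAlg.IsRegularHom (AdicCompletion (maximalIdeal R) R)
      (AdicCompletion (maximalIdeal S) S) :=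
    Groth.Agent.H72.Andre.isRegularHom_of_adic _ _ hfs0
  have hreg0 : CAlg.IsRegularHom R (AdicCompletion (maximalIdeal R) R) :=
    Groth.Agent.S0600.result R hR _
  have htow : ∀ x : R, algebraMap R (AdicCompletion (maximalIdeal S) S) x =
      algebraMap S (AdicCompletion (maximalIdeal S) S) (algebraMap R S x) := by
    intro x
    apply Subtype.ext
    funext n
    rfl
  haveI : IsScalarTower R S (AdicCompletion (maximalIdeal S) S) :=
    IsScalarTower.of_algebraMap_eq htow
  haveI : IsScalarTower R (AdicCompletion (maximalIdeal R) R)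
      (AdicCompletion (maximalIdeal S) S) :=
    IsScalarTower.of_algebraMap_eq (fun x => (htow x).trans (hcompat x).symm)
  have hreg2 : CAlg.IsRegularHom R (AdicCompletion (maximalIdeal S) S) :=
    Groth.Agent.H26.RegHomComp.isRegularHom_comp R (AdicCompletion (maximalIdeal R) R)
      (AdicCompletion (maximalIdeal S) S) hreg0 hreg1
      (fun p _ => Groth.Agent.H26.SkFlat.isNoetherianRing_fiber _ p)
  have hreg3 : CAlg.IsRegularHom S (AdicCompletion (maximalIdeal S) S) := by
    refine ⟨inferInstance, fun q hq => ⟨Groth.Agent.H26.SkFlat.isNoetherianRing_fiber _ q, ?_⟩⟩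
    intro k' _ _ hfin
    exact Groth.Agent.H13.EtFibreDescent.fibre_of_inEtImage
      (fun X _ => IsRegularRing X)
      (fun X Y _ _ e h => @IsRegularRing.of_ringEquiv _ _ _ _ e h)
      (fun X Y _ _ _ M _ h => Groth.Agent.H72.HensGRing.isRegularRing_of_isLocalization X Y M h)
      (AdicCompletion (maximalIdeal S) S) hU (fun p _ k'' _ _ hf => (hreg2.2 p).2 k'' hf) q k'
  exact Groth.Agent.H57.GRingMax.isGRing_of_isRegularHom_cpl S hreg3

end Groth.Agent.H13.SHGRing
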