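import Groth.Agent.H13.HorizEltMain
import Groth.Agent.H17.DimIneq

/-!
# Ring-level input for "locally principal with empty generic fibre is vertical" (helper13, S1387)

`R₀ → P₀` a local homomorphism of local rings, essentially of finite type, `Q` a prime of `P₀`
contained in all primes (so `Spec P₀` is irreducible with generic point `Q`), `t ∈ 𝔪_{P₀}`.  If the
dimension of the closed fibre plus the residue transcendence degree equals the transcendence
degree of `P₀/Q` over `R₀/(Q ∩ R₀)` and `t` lies in no minimal prime of `𝔪_{R₀} P₀`, then `V(t)` has a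
point over the generic point `Q ∩ R₀`.
-/

set_option autoImplicit false
set_option linter.style.haveILetI false
universe u

namespace Groth.Agent.H13.Vert

open IsLocalRing

/-- primes containing `I ⊔ Q` are the primes containing `I` when `Q` is below all primes -/
theorem minimalPrimes_sup_eq {P₀ : Type u} [CommRing P₀] (I Q : Ideal P₀)
    (hQ : ∀ Q' : Ideal P₀, Q'.IsPrime → Q ≤ Q') : (Q ⊔ I).minimalPrimes = I.minimalPrimes := by
  have h : (fun q : Ideal P₀ => q.IsPrime ∧ Q ⊔ I ≤ q) = (fun q : Ideal P₀ => q.IsPrime ∧ I ≤ q) := by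
    funext q
    refine propext ⟨?_, ?_⟩
    · rintro ⟨hq, h⟩; exact ⟨hq, le_sup_right.trans h⟩
    · rintro ⟨hq, h⟩; exact ⟨hq, sup_le (hQ q hq) h⟩
  ext q
  change Minimal (fun q : Ideal P₀ => q.IsPrime ∧ Q ⊔ I ≤ q) q ↔
    Minimal (fun q : Ideal P₀ => q.IsPrime ∧ I ≤ q) q
  rw [h]

theorem ringKrullDim_quotient_sup_eq {P₀ : Type u} [CommRing P₀] (I Q : Ideal P₀)
    (hQ : ∀ Q' : Ideal P₀, Q'.IsPrime → Q ≤ Q') :
    ringKrullDim (P₀ ⧸ (Q ⊔ I)) = ringKrullDim (P₀ ⧸ I) := by
  rw [ringKrullDim_quotient, ringKrullDim_quotient]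
  have : PrimeSpectrum.zeroLocus (R := P₀) ((Q ⊔ I : Ideal P₀) : Set P₀) =
      PrimeSpectrum.zeroLocus (R := P₀) (I : Set P₀) := by
    ext q
    simp only [PrimeSpectrum.mem_zeroLocus, SetLike.coe_subset_coe]
    constructor
    · intro h; exact le_sup_right.trans h
    · intro h; exact sup_le (hQ q.asIdeal q.isPrime) h
  rw [this]

/-- the maximal ideal of a quotient of a local ring is the image of the maximal ideal -/
theorem map_mk_maximalIdeal {R : Type u} [CommRing R] [IsLocalRing R] (I : Ideal R)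
    [IsLocalRing (R ⧸ I)] :
    (maximalIdeal R).map (Ideal.Quotient.mk I) = maximalIdeal (R ⧸ I) := by
  haveI : IsLocalHom (Ideal.Quotient.mk I) := .of_surjective _ Ideal.Quotient.mk_surjective
  have h4 : (maximalIdeal (R ⧸ I)).comap (Ideal.Quotient.mk I) = maximalIdeal R :=
    ((IsLocalRing.local_hom_TFAE (Ideal.Quotient.mk I)).out 0 4).mp
      (inferInstance : IsLocalHom (Ideal.Quotient.mk I))
  rw [← h4, Ideal.map_comap_of_surjective _ Ideal.Quotient.mk_surjective]

/-- residue fields of quotients -/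
theorem bijective_residueField_map_mk {R : Type u} [CommRing R] [IsLocalRing R] (I : Ideal R)
    [IsLocalRing (R ⧸ I)] [IsLocalHom (Ideal.Quotient.mk I)] :
    Function.Bijective (ResidueField.map (Ideal.Quotient.mk I)) := by
  refine ⟨RingHom.injective _, fun y => ?_⟩
  obtain ⟨y, rfl⟩ := residue_surjective y
  obtain ⟨r, rfl⟩ := Ideal.Quotient.mk_surjective y
  exact ⟨residue R r, ResidueField.map_residue _ r⟩

theorem exists_prime_over_generic {R₀ P₀ : Type u} [CommRing R₀] [CommRing P₀] [IsLocalRing R₀]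
    [IsLocalRing P₀] [Algebra R₀ P₀] [IsLocalHom (algebraMap R₀ P₀)] [Algebra.EssFiniteType R₀ P₀]
    (Q : Ideal P₀) [Q.IsPrime] (hQ : ∀ Q' : Ideal P₀, Q'.IsPrime → Q ≤ Q')
    (t : P₀) (ht : t ∈ maximalIdeal P₀)
    (hmin : ∀ q ∈ (Ideal.map (algebraMap R₀ P₀) (maximalIdeal R₀)).minimalPrimes, t ∉ q)
    (d e : ℕ) (hd : ringKrullDim (P₀ ⧸ Ideal.map (algebraMap R₀ P₀) (maximalIdeal R₀)) = d)
    (he : Algebra.trdeg (ResidueField R₀) (ResidueField P₀) = e)
    (hsum : Algebra.trdeg (R₀ ⧸ Q.comap (algebraMap R₀ P₀)) (P₀ ⧸ Q) = (d + e : ℕ)) :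
    ∃ Q' : Ideal P₀, Q'.IsPrime ∧ t ∈ Q' ∧
      Q'.comap (algebraMap R₀ P₀) = Q.comap (algebraMap R₀ P₀) := by
  set p : Ideal R₀ := Q.comap (algebraMap R₀ P₀) with hp
  haveI : p.IsPrime := Ideal.comap_isPrime _ _
  set I : Ideal P₀ := Ideal.map (algebraMap R₀ P₀) (maximalIdeal R₀) with hI
  let A := R₀ ⧸ p
  let B := P₀ ⧸ Q
  haveI : IsLocalRing A :=
    IsLocalRing.of_surjective' (Ideal.Quotient.mk p) Ideal.Quotient.mk_surjective
  haveI : IsLocalRing B :=
    IsLocalRing.of_surjective' (Ideal.Quotient.mk Q) Ideal.Quotient.mk_surjective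
  haveI hlp : IsLocalHom (Ideal.Quotient.mk p) := .of_surjective _ Ideal.Quotient.mk_surjective
  haveI hlQ : IsLocalHom (Ideal.Quotient.mk Q) := .of_surjective _ Ideal.Quotient.mk_surjective
  have hcomp : (algebraMap A B).comp (Ideal.Quotient.mk p) =
      (Ideal.Quotient.mk Q).comp (algebraMap R₀ P₀) := rfl
  haveI : IsLocalHom (algebraMap A B) := by
    constructor
    intro a ha
    obtain ⟨r, rfl⟩ := Ideal.Quotient.mk_surjective a
    have h1 : IsUnit ((Ideal.Quotient.mk Q) (algebraMap R₀ P₀ r)) := ha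
    have h2 : IsUnit (algebraMap R₀ P₀ r) := isUnit_of_map_unit (Ideal.Quotient.mk Q) _ h1
    exact (isUnit_of_map_unit (algebraMap R₀ P₀) _ h2).map _
  haveI : FaithfulSMul A B :=
    (faithfulSMul_iff_algebraMap_injective A B).mpr Ideal.algebraMap_quotient_injective
  haveI : IsScalarTower R₀ A B := IsScalarTower.of_algebraMap_eq (fun r => rfl)
  haveI : Algebra.EssFiniteType R₀ B := Algebra.EssFiniteType.comp R₀ P₀ B
  haveI : Algebra.EssFiniteType A B := Algebra.EssFiniteType.of_comp R₀ A B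
  -- the ideal `𝔪_A B`
  have hIB : Ideal.map (algebraMap A B) (maximalIdeal A) = I.map (Ideal.Quotient.mk Q) := by
    rw [← map_mk_maximalIdeal p, Ideal.map_map, hcomp, ← Ideal.map_map]
  have hcomapIB : (I.map (Ideal.Quotient.mk Q)).comap (Ideal.Quotient.mk Q) = Q ⊔ I := by
    rw [Ideal.comap_map_of_surjective _ Ideal.Quotient.mk_surjective, ← RingHom.ker_eq_comap_bot,
      Ideal.mk_ker, sup_comm]
  have hg : Ideal.Quotient.mk Q t ∈ maximalIdeal B := by
    rw [← map_mk_maximalIdeal Q]; exact Ideal.mem_map_of_mem _ ht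
  have hmin' : ∀ q' ∈ (Ideal.map (algebraMap A B) (maximalIdeal A)).minimalPrimes,
      Ideal.Quotient.mk Q t ∉ q' := by
    intro q' hq' hgq'
    rw [hIB] at hq'
    have h2 := Ideal.comap_minimalPrimes_eq_of_surjective
      (f := Ideal.Quotient.mk Q) Ideal.Quotient.mk_surjective (I.map (Ideal.Quotient.mk Q))
    rw [hcomapIB, minimalPrimes_sup_eq I Q hQ] at h2
    have h3 : q'.comap (Ideal.Quotient.mk Q) ∈ I.minimalPrimes := by
      rw [h2]; exact ⟨q', hq', rfl⟩
    exact hmin _ h3 hgq'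
  have hd' : ringKrullDim (B ⧸ Ideal.map (algebraMap A B) (maximalIdeal A)) = d := by
    rw [← hd, ← ringKrullDim_quotient_sup_eq I Q hQ]
    exact ringKrullDim_eq_of_ringEquiv
      ((Ideal.quotEquivOfEq hIB).trans (DoubleQuot.quotQuotEquivQuotSup Q I))
  have he' : Algebra.trdeg (ResidueField A) (ResidueField B) = e := by
    rw [← he]
    symm
    refine Groth.Agent.H17.DimIneq.trdeg_eq_of_ringEquiv_square
      (RingEquiv.ofBijective _ (bijective_residueField_map_mk p))
      (RingEquiv.ofBijective _ (bijective_residueField_map_mk Q)) ?_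
    intro a
    obtain ⟨r, rfl⟩ := residue_surjective a
    rfl
  have hinj := Groth.Agent.H13.HorizElt.injective_algebraMap_quotient'
    (A := A) (B := B) (Ideal.Quotient.mk Q t) hg hmin' d e hd' he' hsum
  -- a prime of `B ⧸ (t)` over `(0)` of `A`
  have hbot : (⊥ : Ideal A) ∈ minimalPrimes A := by
    rw [minimalPrimes_eq_minimals]
    exact ⟨Ideal.isPrime_bot, fun J _ _ => bot_le⟩
  obtain ⟨Q'', hQ''p, hQ''⟩ := Ideal.exists_comap_eq_of_mem_minimalPrimes_of_injective hinj ⊥ hbot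
  let ψ : P₀ →+* (B ⧸ Ideal.span {Ideal.Quotient.mk Q t}) :=
    (Ideal.Quotient.mk _).comp (Ideal.Quotient.mk Q)
  refine ⟨Q''.comap ψ, Ideal.comap_isPrime _ _, ?_, ?_⟩
  · rw [Ideal.mem_comap]
    have : ψ t = 0 := by
      change Ideal.Quotient.mk _ (Ideal.Quotient.mk Q t) = 0
      rw [Ideal.Quotient.eq_zero_iff_mem]
      exact Ideal.subset_span rfl
    rw [this]; exact Q''.zero_mem
  · have hψ : ψ.comp (algebraMap R₀ P₀) =
        (algebraMap A (B ⧸ Ideal.span {Ideal.Quotient.mk Q t})).comp (Ideal.Quotient.mk p) := rfl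
    rw [Ideal.comap_comap, hψ, ← Ideal.comap_comap, hQ'', ← RingHom.ker_eq_comap_bot, Ideal.mk_ker]

end Groth.Agent.H13.Vert
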