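import Groth.Agent.H13.VertSch
import Groth.Agent.H17.Chev.DimEqScheme
import Groth.Agent.H17.Chev.MaxPt

/-!
# "Locally principal with empty generic fibre is vertical": point-level statement (helper13, S1387)
-/

set_option autoImplicit false
set_option linter.style.haveILetI false
universe u

namespace Groth.Agent.H13.Vert

open AlgebraicGeometry CategoryTheory IsLocalRing

variable {X S : Scheme.{u}}

/-- a prime of `O_{X,x}` is the `specPrime` of its image point -/
theorem specPrime_eq {x : X} (Q' : PrimeSpectrum (X.presheaf.stalk x))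
    (h : X.fromSpecStalk x Q' ⤳ x) : specPrime h = Q'.asIdeal := by
  have h1 := fromSpecStalk_specPrime h
  have h2 := (X.fromSpecStalk x).isEmbedding.injective h1
  exact congrArg PrimeSpectrum.asIdeal h2

theorem fromSpecStalk_specializes {x : X} (Q' : PrimeSpectrum (X.presheaf.stalk x)) :
    X.fromSpecStalk x Q' ⤳ x := by
  have : X.fromSpecStalk x Q' ∈ Set.range (X.fromSpecStalk x) := ⟨Q', rfl⟩
  rw [Scheme.range_fromSpecStalk] at this
  exact this

theorem map_fromSpecStalk (f : X ⟶ S) {x : X} (Q' : PrimeSpectrum (X.presheaf.stalk x)) :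
    f (X.fromSpecStalk x Q') =
      S.fromSpecStalk (f x) ⟨Q'.asIdeal.comap (f.stalkMap x).hom, Ideal.comap_isPrime _ _⟩ := by
  have h1 := Scheme.SpecMap_stalkMap_fromSpecStalk f (x := x)
  have h2 := congrArg (fun φ : Spec (X.presheaf.stalk x) ⟶ S => φ Q') h1
  simp only [Scheme.Hom.comp_apply] at h2
  exact h2.symm

theorem mem_support_iff_germ_mem (Z : X.IdealSheafData) (U : X.Opens) (hU : IsAffineOpen U)
    (g : Γ(X, U)) (hg : Z.ideal ⟨U, hU⟩ = Ideal.span {g}) (y : X) (hy : y ∈ U) :
    y ∈ (Z.support : Set X) ↔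
      (X.presheaf.germ U y hy).hom g ∈ maximalIdeal (X.presheaf.stalk y) := by
  rw [SetLike.mem_coe, Scheme.IdealSheafData.mem_support_iff_of_mem (U := ⟨U, hU⟩) hy, hg,
    Scheme.zeroLocus_span, Scheme.mem_zeroLocus_iff]
  simp only [Set.mem_singleton_iff, forall_eq]
  rw [Scheme.mem_basicOpen _ _ _ hy, mem_maximalIdeal, mem_nonunits_iff]

/-- Key point-level statement: a point `x` of a locally principal `Z` with empty generic fibre, in a
fibre of dimension at most the generic fibre dimension, is a specialization inside its fibre of a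
maximal point `c` of the fibre with `c ∈ Z`. -/
theorem exists_maximal_point_mem_support (f : X ⟶ S) [IrreducibleSpace S] [IrreducibleSpace X]
    [IsDominant f] [LocallyOfFiniteType f] (x : X)
    (hdim : topologicalKrullDim ↥(f.fiber (f x)) ≤ topologicalKrullDim ↥(f.fiber (genericPoint S)))
    (Z : X.IdealSheafData) (U : X.Opens) (hU : IsAffineOpen U) (g : Γ(X, U)) (hxU : x ∈ U)
    (hg : Z.ideal ⟨U, hU⟩ = Ideal.span {g})
    (hη : ∀ y ∈ (Z.support : Set X), f y ≠ genericPoint S) (hxZ : x ∈ (Z.support : Set X)) :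
    ∃ c : X, c ⤳ x ∧ f c = f x ∧ c ∈ (Z.support : Set X) ∧
      ∀ c' : X, c' ⤳ c → f c' = f x → c' = c := by
  set ξ := genericPoint X with hξdef
  have hξ : ∀ y : X, ξ ⤳ y := fun y => genericPoint_specializes y
  have hfξ : f ξ = genericPoint S := Groth.Agent.H17.Chev.map_genericPoint_of_isDominant f
  -- the fibre dimension at `x` is the generic one
  have hdim' : FlatMor.fibreDimAt f x = FlatMor.fibreDimAt f ξ := by
    apply le_antisymm
    · refine (Groth.Agent.H17.Chev.fibreDimAt_le_dim_fiber f x).trans (hdim.trans ?_)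
      exact (Groth.Agent.H17.Chev.dim_genericFiber_eq_fibreDimAt f).le
    · obtain ⟨n, hn⟩ := Groth.Agent.H17.Chev.exists_nat_eq_fibreDimAt f x
      have hopen := Groth.Agent.H17.Chev.isOpen_setOf_fibreDimAt_le f n
      have hx : x ∈ {y : X | FlatMor.fibreDimAt f y ≤ n} := hn.le
      have := (hξ x).mem_open hopen hx
      rw [hn]; exact this
  set t := (X.presheaf.germ U x hxU).hom g with ht
  have htm : t ∈ maximalIdeal (X.presheaf.stalk x) :=
    (mem_support_iff_germ_mem Z U hU g hg x hxU).mp hxZ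
  -- membership in `Z` for generizations of `x`
  have hmemZ : ∀ Q' : PrimeSpectrum (X.presheaf.stalk x), t ∈ Q'.asIdeal →
      X.fromSpecStalk x Q' ∈ (Z.support : Set X) := by
    intro Q' htQ'
    have hsp := fromSpecStalk_specializes Q'
    have hU' : X.fromSpecStalk x Q' ∈ U := hsp.mem_open U.2 hxU
    rw [mem_support_iff_germ_mem Z U hU g hg _ hU']
    rw [← specPrime_eq Q' hsp] at htQ'
    have h1 : (X.presheaf.stalkSpecializes hsp).hom t ∈ maximalIdeal _ := htQ'
    have h2 := TopCat.Presheaf.germ_stalkSpecializes (F := X.presheaf) (U := U) hxU hsp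
    have h3 : (X.presheaf.stalkSpecializes hsp).hom t = (X.presheaf.germ U _ hU').hom g :=
      congr($(h2).hom g)
    rw [← h3]; exact h1
  by_cases hmin : ∀ q ∈ (Groth.Agent.H49.FibreStalk.fibreIdeal f x).minimalPrimes, t ∉ q
  · exfalso
    obtain ⟨Q', hQ'p, htQ', hQ'⟩ := exists_prime_of_fibreDimAt_eq f ξ x hξ hdim' t htm hmin
    let P' : PrimeSpectrum (X.presheaf.stalk x) := ⟨Q', hQ'p⟩
    refine hη _ (hmemZ P' htQ') ?_
    rw [map_fromSpecStalk f P', ← hfξ]
    have : (⟨P'.asIdeal.comap (f.stalkMap x).hom, Ideal.comap_isPrime _ _⟩ :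
        PrimeSpectrum (S.presheaf.stalk (f x))) =
        ⟨specPrime (f.base.hom.map_specializes (hξ x)), inferInstance⟩ :=
      PrimeSpectrum.ext hQ'
    rw [this]
    exact fromSpecStalk_specPrime _
  · push Not at hmin
    obtain ⟨q, hq, htq⟩ := hmin
    haveI hqp : q.IsPrime := hq.1.1
    let P : PrimeSpectrum (X.presheaf.stalk x) := ⟨q, hqp⟩
    have hle : Groth.Agent.H49.FibreStalk.fibreIdeal f x ≤ q := hq.1.2
    -- primes over the fibre ideal map to `f x`
    have hfib : ∀ P' : PrimeSpectrum (X.presheaf.stalk x),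
        Groth.Agent.H49.FibreStalk.fibreIdeal f x ≤ P'.asIdeal → f (X.fromSpecStalk x P') = f x := by
      intro P' hP'
      rw [map_fromSpecStalk f P']
      have h1 : maximalIdeal (S.presheaf.stalk (f x)) ≤ P'.asIdeal.comap (f.stalkMap x).hom :=
        Ideal.map_le_iff_le_comap.mp hP'
      have h2 : P'.asIdeal.comap (f.stalkMap x).hom = maximalIdeal (S.presheaf.stalk (f x)) :=
        ((maximalIdeal.isMaximal _).eq_of_le (Ideal.comap_isPrime _ _).ne_top h1).symm
      have : (⟨P'.asIdeal.comap (f.stalkMap x).hom, Ideal.comap_isPrime _ _⟩ :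
          PrimeSpectrum (S.presheaf.stalk (f x))) = closedPoint _ := PrimeSpectrum.ext h2
      rw [this]
      exact Scheme.fromSpecStalk_closedPoint
    refine ⟨X.fromSpecStalk x P, fromSpecStalk_specializes P, hfib P hle, hmemZ P htq, ?_⟩
    intro c' hc'c hfc'
    have hc'x : c' ⤳ x := hc'c.trans (fromSpecStalk_specializes P)
    let P' : PrimeSpectrum (X.presheaf.stalk x) := ⟨specPrime hc'x, inferInstance⟩
    have hP' : X.fromSpecStalk x P' = c' := fromSpecStalk_specPrime hc'x
    have hP'P : P'.asIdeal ≤ P.asIdeal := by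
      rw [PrimeSpectrum.asIdeal_le_asIdeal, PrimeSpectrum.le_iff_specializes]
      apply (X.fromSpecStalk x).isEmbedding.isInducing.specializes_iff.mp
      rw [hP']; exact hc'c
    have hfibP' : Groth.Agent.H49.FibreStalk.fibreIdeal f x ≤ P'.asIdeal := by
      rw [Groth.Agent.H49.FibreStalk.fibreIdeal, Ideal.map_le_iff_le_comap]
      have h1 : P'.asIdeal.comap (f.stalkMap x).hom =
          specPrime (f.base.hom.map_specializes hc'x) := comap_stalkMap_specPrime f hc'x
      rw [h1]
      have h2 : S.fromSpecStalk (f x) ⟨specPrime (f.base.hom.map_specializes hc'x), inferInstance⟩ =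
          S.fromSpecStalk (f x) (closedPoint _) := by
        rw [fromSpecStalk_specPrime, Scheme.fromSpecStalk_closedPoint]; exact hfc'
      have h3 := (S.fromSpecStalk (f x)).isEmbedding.injective h2
      exact (congrArg PrimeSpectrum.asIdeal h3).ge
    have hqle : q ≤ P'.asIdeal := hq.2 ⟨P'.isPrime, hfibP'⟩ hP'P
    have hPP' : P' = P := PrimeSpectrum.ext (le_antisymm hP'P hqle)
    rw [← hP', hPP']

end Groth.Agent.H13.Vert
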