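import Groth.Agent.H13.VertAlg
import Groth.Agent.H49.FibreStalk
import Groth.Agent.H51.FibreDimTrdeg
import Groth.Agent.H17.Chev.Main
import Groth.Agent.H17.Chev.DimIneqScheme
import Groth.Agent.H17.Chev.FibreLocal
import Groth.Agent.H48.DimIneqSch2

/-!
# Scheme-level input for "locally principal with empty generic fibre is vertical" (helper13, S1387)
-/

set_option autoImplicit false
set_option linter.style.haveILetI false
universe u

namespace Groth.Agent.H13.Vert

open AlgebraicGeometry CategoryTheory IsLocalRing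

variable {X S : Scheme.{u}}

/-- the prime of `O_{X,x}` corresponding to a generization `ξ ⤳ x` -/
noncomputable def specPrime {ξ x : X} (h : ξ ⤳ x) : Ideal (X.presheaf.stalk x) :=
  (maximalIdeal (X.presheaf.stalk ξ)).comap (X.presheaf.stalkSpecializes h).hom

instance {ξ x : X} (h : ξ ⤳ x) : (specPrime h).IsPrime := Ideal.comap_isPrime _ _

theorem fromSpecStalk_specPrime {ξ x : X} (h : ξ ⤳ x) :
    X.fromSpecStalk x ⟨specPrime h, inferInstance⟩ = ξ := by
  have h1 := Scheme.SpecMap_stalkSpecializes_fromSpecStalk h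
  have h2 : (Spec.map (X.presheaf.stalkSpecializes h) ≫ X.fromSpecStalk x)
      (closedPoint (X.presheaf.stalk ξ)) = ξ := by
    rw [h1]; exact Scheme.fromSpecStalk_closedPoint
  rw [Scheme.Hom.comp_apply] at h2
  exact h2

theorem specPrime_le {ξ x : X} (h : ξ ⤳ x) (hξ : ∀ y : X, ξ ⤳ y)
    (Q' : Ideal (X.presheaf.stalk x)) [Q'.IsPrime] : specPrime h ≤ Q' := by
  have h1 : X.fromSpecStalk x ⟨specPrime h, inferInstance⟩ ⤳
      X.fromSpecStalk x ⟨Q', inferInstance⟩ := by
    rw [fromSpecStalk_specPrime]; exact hξ _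
  have h2 := (X.fromSpecStalk x).isEmbedding.isInducing.specializes_iff.mp h1
  exact (PrimeSpectrum.le_iff_specializes _ _).mpr h2

theorem comap_stalkMap_specPrime (f : X ⟶ S) {ξ x : X} (h : ξ ⤳ x) :
    (specPrime h).comap (f.stalkMap x).hom = specPrime (f.base.hom.map_specializes h) := by
  unfold specPrime
  rw [Ideal.comap_comap]
  have h1 := Scheme.Hom.stalkSpecializes_stalkMap f ξ x h
  have h2 : (X.presheaf.stalkSpecializes h).hom.comp (f.stalkMap x).hom =
      (f.stalkMap ξ).hom.comp (S.presheaf.stalkSpecializes (f.base.hom.map_specializes h)).hom := by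
    rw [← CommRingCat.hom_comp, ← CommRingCat.hom_comp, h1]
  rw [h2, ← Ideal.comap_comap]
  congr 1
  exact ((IsLocalRing.local_hom_TFAE (f.stalkMap ξ).hom).out 0 4).mp
    (inferInstance : IsLocalHom (f.stalkMap ξ).hom)

/-- every germ at a generization `ξ` of `x` is a fraction of germs at `x` -/
theorem exists_stalkSpecializes_mul_eq {ξ x : X} (h : ξ ⤳ x) (z : X.presheaf.stalk ξ) :
    ∃ a b : X.presheaf.stalk x, IsUnit ((X.presheaf.stalkSpecializes h).hom b) ∧
      z * (X.presheaf.stalkSpecializes h).hom b = (X.presheaf.stalkSpecializes h).hom a := by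
  obtain ⟨_, ⟨U, hU, rfl⟩, hxU, -⟩ := X.isBasis_affineOpens.exists_subset_of_mem_open
    (Set.mem_univ x) isOpen_univ
  replace hU : IsAffineOpen U := hU
  have hξU : ξ ∈ U := h.mem_open U.2 hxU
  letI : Algebra Γ(X, U) (X.presheaf.stalk ξ) := (X.presheaf.germ U ξ hξU).hom.toAlgebra
  haveI := hU.isLocalization_stalk ⟨ξ, hξU⟩
  obtain ⟨⟨a, b⟩, hab⟩ := IsLocalization.surj (hU.primeIdealOf ⟨ξ, hξU⟩).asIdeal.primeCompl z
  have hgerm : ∀ c : Γ(X, U), algebraMap Γ(X, U) (X.presheaf.stalk ξ) c =
      (X.presheaf.stalkSpecializes h).hom ((X.presheaf.germ U x hxU).hom c) := by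
    intro c
    have := TopCat.Presheaf.germ_stalkSpecializes (F := X.presheaf) (U := U) hxU h
    exact (congr($(this).hom c)).symm
  refine ⟨(X.presheaf.germ U x hxU).hom a, (X.presheaf.germ U x hxU).hom b, ?_, ?_⟩
  · rw [← hgerm]
    exact IsLocalization.map_units (X.presheaf.stalk ξ) b
  · rw [← hgerm, ← hgerm]; exact hab

theorem isAlgebraic_of_fraction {B L : Type u} [CommRing B] [Field L] [Algebra B L]
    (H : ∀ c : L, ∃ a b : B, algebraMap B L b ≠ 0 ∧ c * algebraMap B L b = algebraMap B L a) :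
    Algebra.IsAlgebraic B L := by
  refine ⟨fun c => ?_⟩
  obtain ⟨a, b, hb, hab⟩ := H c
  refine ⟨Polynomial.C b * Polynomial.X - Polynomial.C a, ?_, ?_⟩
  · intro h0
    have := congrArg (fun P => Polynomial.coeff P 1) h0
    simp only [Polynomial.coeff_sub, Polynomial.coeff_C_mul, Polynomial.coeff_X_one, mul_one,
      Polynomial.coeff_C_succ, sub_zero, Polynomial.coeff_zero] at this
    exact hb (by rw [this, map_zero])
  · simp only [map_sub, map_mul, Polynomial.aeval_C, Polynomial.aeval_X]
    rw [mul_comm, hab, sub_self]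

theorem trdeg_quotient_specPrime (f : X ⟶ S) {ξ x : X} (h : ξ ⤳ x) :
    letI := (f.stalkMap x).hom.toAlgebra
    Algebra.trdeg (S.presheaf.stalk (f x) ⧸
        (specPrime h).comap (algebraMap (S.presheaf.stalk (f x)) (X.presheaf.stalk x)))
      (X.presheaf.stalk x ⧸ specPrime h) = Dual3.resTrdeg f ξ := by
  letI := (f.stalkMap x).hom.toAlgebra
  set Q := specPrime h with hQ
  set p := Q.comap (algebraMap (S.presheaf.stalk (f x)) (X.presheaf.stalk x)) with hp
  have hpQ : p = specPrime (f.base.hom.map_specializes h) := comap_stalkMap_specPrime f h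
  let A := S.presheaf.stalk (f x) ⧸ p
  let B := X.presheaf.stalk x ⧸ Q
  let K := S.residueField (f ξ)
  let L := X.residueField ξ
  letI algKL : Algebra K L := (f.residueFieldMap ξ).hom.toAlgebra
  let spX := (X.presheaf.stalkSpecializes h).hom
  let spS := (S.presheaf.stalkSpecializes (f.base.hom.map_specializes h)).hom
  let jB : B →+* L := Ideal.Quotient.lift Q ((X.residue ξ).hom.comp spX) (fun b hb =>
    (IsLocalRing.residue_eq_zero_iff _).mpr hb)
  let jA : A →+* K := Ideal.Quotient.lift p ((S.residue (f ξ)).hom.comp spS) (fun a ha => by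
    rw [hpQ] at ha; exact (IsLocalRing.residue_eq_zero_iff _).mpr ha)
  have hjB : Function.Injective jB := by
    apply RingHom.lift_injective_of_ker_le_ideal
    intro b hb
    exact (IsLocalRing.residue_eq_zero_iff _).mp hb
  have hjA : Function.Injective jA := by
    apply RingHom.lift_injective_of_ker_le_ideal
    intro a ha
    rw [hpQ]
    exact (IsLocalRing.residue_eq_zero_iff _).mp ha
  letI : Algebra B L := jB.toAlgebra
  letI : Algebra A K := jA.toAlgebra
  letI : Algebra A L := (jB.comp (algebraMap A B)).toAlgebra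
  haveI : IsScalarTower A B L := IsScalarTower.of_algebraMap_eq' rfl
  haveI : IsScalarTower A K L := by
    refine IsScalarTower.of_algebraMap_eq (fun a => ?_)
    obtain ⟨r, rfl⟩ := Ideal.Quotient.mk_surjective a
    change (X.residue ξ).hom (spX ((f.stalkMap x).hom r)) =
      (f.residueFieldMap ξ).hom ((S.residue (f ξ)).hom (spS r))
    have h1 := Scheme.Hom.stalkSpecializes_stalkMap_apply f ξ x h r
    have h2 : (f.residueFieldMap ξ).hom ((S.residue (f ξ)).hom (spS r)) =
        (X.residue ξ).hom ((f.stalkMap ξ).hom (spS r)) := rfl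
    rw [h2]
    congr 1
    exact h1.symm
  haveI : FaithfulSMul A B :=
    (faithfulSMul_iff_algebraMap_injective A B).mpr Ideal.algebraMap_quotient_injective
  haveI : FaithfulSMul A K := (faithfulSMul_iff_algebraMap_injective A K).mpr hjA
  haveI : FaithfulSMul B L := (faithfulSMul_iff_algebraMap_injective B L).mpr hjB
  haveI : Algebra.IsAlgebraic A K := by
    refine isAlgebraic_of_fraction (fun c => ?_)
    obtain ⟨z, rfl⟩ := IsLocalRing.residue_surjective (R := S.presheaf.stalk (f ξ)) c
    obtain ⟨a, b, hb, hab⟩ := exists_stalkSpecializes_mul_eq (f.base.hom.map_specializes h) z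
    refine ⟨Ideal.Quotient.mk p a, Ideal.Quotient.mk p b, ?_, ?_⟩
    · change IsLocalRing.residue _ (spS b) ≠ 0
      rw [Ne, IsLocalRing.residue_eq_zero_iff]
      exact fun hmem => (IsLocalRing.mem_maximalIdeal _).mp hmem hb
    · change IsLocalRing.residue _ z * IsLocalRing.residue _ (spS b) = IsLocalRing.residue _ (spS a)
      rw [← map_mul, hab]
  haveI : Algebra.IsAlgebraic B L := by
    refine isAlgebraic_of_fraction (fun c => ?_)
    obtain ⟨z, rfl⟩ := IsLocalRing.residue_surjective (R := X.presheaf.stalk ξ) c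
    obtain ⟨a, b, hb, hab⟩ := exists_stalkSpecializes_mul_eq h z
    refine ⟨Ideal.Quotient.mk Q a, Ideal.Quotient.mk Q b, ?_, ?_⟩
    · change IsLocalRing.residue _ (spX b) ≠ 0
      rw [Ne, IsLocalRing.residue_eq_zero_iff]
      exact fun hmem => (IsLocalRing.mem_maximalIdeal _).mp hmem hb
    · change IsLocalRing.residue _ z * IsLocalRing.residue _ (spX b) = IsLocalRing.residue _ (spX a)
      rw [← map_mul, hab]
  exact (Groth.Agent.H17.DimIneq.trdeg_eq_of_square A B K L).symm

theorem ringKrullDim_stalk_fiber_eq_zero (f : X ⟶ S) (ξ : X) (hξ : ∀ y : X, ξ ⤳ y) :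
    ringKrullDim ((f.fiber (f ξ)).presheaf.stalk (f.asFiber ξ)) = 0 := by
  rw [← ringKrullDim_eq_of_ringEquiv (Groth.Agent.H49.FibreStalk.quotientEquivStalkAsFiber f ξ)]
  apply le_antisymm
  · refine (ringKrullDim_quotient_le _).trans ?_
    have : Ring.KrullDimLE 0 (X.presheaf.stalk ξ) := by
      refine Ring.KrullDimLE.mk₀ (fun Q' hQ' => ?_)
      have h1 := specPrime_le (specializes_refl ξ) hξ Q'
      have h2 : specPrime (specializes_refl ξ) = maximalIdeal (X.presheaf.stalk ξ) := by
        unfold specPrime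
        rw [TopCat.Presheaf.stalkSpecializes_refl]
        rfl
      rw [h2] at h1
      have h3 : Q' = maximalIdeal (X.presheaf.stalk ξ) :=
        ((maximalIdeal.isMaximal _).eq_of_le hQ'.ne_top h1).symm
      rw [h3]; infer_instance
    exact_mod_cast Ring.krullDimLE_iff.mp this
  · exact ringKrullDim_nonneg_of_nontrivial

theorem exists_prime_of_fibreDimAt_eq (f : X ⟶ S) [LocallyOfFiniteType f] (ξ x : X)
    (hξ : ∀ y : X, ξ ⤳ y) (hdim : FlatMor.fibreDimAt f x = FlatMor.fibreDimAt f ξ)
    (t : X.presheaf.stalk x) (ht : t ∈ maximalIdeal (X.presheaf.stalk x))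
    (hmin : ∀ q ∈ (Groth.Agent.H49.FibreStalk.fibreIdeal f x).minimalPrimes, t ∉ q) :
    ∃ Q' : Ideal (X.presheaf.stalk x), Q'.IsPrime ∧ t ∈ Q' ∧
      Q'.comap (f.stalkMap x).hom = specPrime (f.base.hom.map_specializes (hξ x)) := by
  letI := (f.stalkMap x).hom.toAlgebra
  haveI : IsLocalHom (algebraMap (S.presheaf.stalk (f x)) (X.presheaf.stalk x)) :=
    (inferInstance : IsLocalHom (f.stalkMap x).hom)
  haveI : Algebra.EssFiniteType (S.presheaf.stalk (f x)) (X.presheaf.stalk x) :=
    LocallyOfFiniteType.stalkMap f x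
  have hlft : LocallyOfFiniteType (f.fiberToSpecResidueField (f x)) :=
    inferInstanceAs (LocallyOfFiniteType (Limits.pullback.snd f (S.fromSpecResidueField (f x))))
  haveI : IsLocallyNoetherian (f.fiber (f x)) :=
    LocallyOfFiniteType.isLocallyNoetherian (f.fiberToSpecResidueField (f x))
  obtain ⟨d, hd⟩ := Groth.Agent.H17.Chev.exists_nat_eq_ringKrullDim
    ((f.fiber (f x)).presheaf.stalk (f.asFiber x))
  obtain ⟨e, he⟩ := Groth.Agent.H48.DimIneqSch2.exists_trdeg_eq_nat f x
  have h1 := Groth.Agent.H51.fibreDimAt_eq_dim_stalk_add_trdeg f x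
  have h2 := Groth.Agent.H51.fibreDimAt_eq_dim_stalk_add_trdeg f ξ
  rw [ringKrullDim_stalk_fiber_eq_zero f ξ hξ, zero_add] at h2
  have he' : Dual3.resTrdeg f x = e := he
  rw [hd, he', Cardinal.toENat_nat] at h1
  have hsum0 : Dual3.resTrdeg f ξ = ((d + e : ℕ) : Cardinal) := by
    have h3 : ((Cardinal.toENat (Dual3.resTrdeg f ξ) : ℕ∞) : WithBot ℕ∞) =
        ((d + e : ℕ) : WithBot ℕ∞) := by
      rw [← h2, ← hdim, h1]; push_cast; rfl
    have h4 : Cardinal.toENat (Dual3.resTrdeg f ξ) = ((d + e : ℕ) : ℕ∞) := by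
      exact_mod_cast h3
    exact Cardinal.toENat_eq_natCast.mp h4
  have hsum := (trdeg_quotient_specPrime f (hξ x)).trans hsum0
  have hdq : ringKrullDim (X.presheaf.stalk x ⧸ Ideal.map
      (algebraMap (S.presheaf.stalk (f x)) (X.presheaf.stalk x))
      (maximalIdeal (S.presheaf.stalk (f x)))) = d := by
    rw [← hd]
    exact ringKrullDim_eq_of_ringEquiv (Groth.Agent.H49.FibreStalk.quotientEquivStalkAsFiber f x)
  have heq : Algebra.trdeg (ResidueField (S.presheaf.stalk (f x)))
      (ResidueField (X.presheaf.stalk x)) = e := by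
    have hinst : (inferInstance : Algebra (ResidueField (S.presheaf.stalk (f x)))
        (ResidueField (X.presheaf.stalk x))) = (f.residueFieldMap x).hom.toAlgebra := by
      refine Algebra.algebra_ext _ _ (fun a => ?_)
      obtain ⟨r, rfl⟩ := IsLocalRing.residue_surjective a
      rfl
    rw [← he]
    exact congrArg (fun i => @Algebra.trdeg (ResidueField (S.presheaf.stalk (f x)))
        (ResidueField (X.presheaf.stalk x)) _ _ i) hinst
  obtain ⟨Q', hQ'p, htQ', hQ'⟩ := exists_prime_over_generic (specPrime (hξ x))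
    (fun Q' hQ' => specPrime_le (hξ x) hξ Q') t ht hmin d e hdq heq hsum
  exact ⟨Q', hQ'p, htQ', hQ'.trans (comap_stalkMap_specPrime f (hξ x))⟩

end Groth.Agent.H13.Vert
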